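import Cfsg.Agent.H15.IC.He.C0
import Cfsg.Agent.H15.IC.He.C1
import Cfsg.Agent.H15.IC.He.C2

/-! Generated by tools/h15/ic/ic.py (kit tools/h0/tr). -/

set_option maxRecDepth 100000
set_option maxHeartbeats 0

namespace H15.IC.He
open H16 H0.TR
open scoped commutatorElement Pointwise

theorem md {G : Type*} [Group G] (e : gen H16.PHe.g 7 ≃* G) :
    ∃ (_ : MulAction G (Fin 2058)) (g : ℕ → G), Md g (ptF 2058) H16.PHe.P 2058 7 H16.PHe.B 4030387200 ∧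
      ∀ k < 7, (e.symm (g k)).1 = H16.PHe.g k :=
  exists_md H16.PHe.act (ptF_inj 2058) H16.PHe.card H16.PHe.isBase md_b e
theorem p2t_m_0 : ∀ i < 2058, (matEnt (wdsP H16.PHe.P p2t_W) p2t_P (nat_lit 0)) i = 0 := range_glue (allZ_sound0 p2t_m_0_0) p2t_m_0_1
theorem p2t_m_1 : ∀ i < 2058, (matEnt (wdsP H16.PHe.P p2t_W) p2t_P (nat_lit 1)) i = 0 := allZ_sound0 p2t_m_1_0
theorem p2t_m_2 : ∀ i < 2058, (matEnt (wdsP H16.PHe.P p2t_W) p2t_P (nat_lit 2)) i = 0 := allZ_sound0 p2t_m_2_0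
theorem p2t_m_3 : ∀ i < 2058, (matEnt (wdsP H16.PHe.P p2t_W) p2t_P (nat_lit 3)) i = 0 := range_glue (allZ_sound0 p2t_m_3_0) p2t_m_3_1
theorem p2t_m_4 : ∀ i < 2058, (matEnt (wdsP H16.PHe.P p2t_W) p2t_P (nat_lit 4)) i = 0 := range_glue (allZ_sound0 p2t_m_4_0) p2t_m_4_1
theorem p2t_m_5 : ∀ i < 2058, (matEnt (wdsP H16.PHe.P p2t_W) p2t_P (nat_lit 5)) i = 0 := allZ_sound0 p2t_m_5_0
theorem p2t_m_6 : ∀ i < 2058, (matEnt (wdsP H16.PHe.P p2t_W) p2t_P (nat_lit 6)) i = 0 := range_glue (allZ_sound0 p2t_m_6_0) p2t_m_6_1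
theorem p2t_m_7 : ∀ i < 2058, (matEnt (wdsP H16.PHe.P p2t_W) p2t_P (nat_lit 7)) i = 0 := range_glue (allZ_sound0 p2t_m_7_0) p2t_m_7_1
theorem p2t_m_8 : ∀ i < 2058, (matEnt (wdsP H16.PHe.P p2t_W) p2t_P (nat_lit 8)) i = 0 := allZ_sound0 p2t_m_8_0
theorem p2t_m_9 : ∀ i < 2058, (matEnt (wdsP H16.PHe.P p2t_W) p2t_P (nat_lit 9)) i = 0 := range_glue (allZ_sound0 p2t_m_9_0) p2t_m_9_1
theorem p2t_m : ∀ k < 10, ∀ i < 2058, (matEnt (wdsP H16.PHe.P p2t_W) p2t_P) k i = 0 :=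
  letters_glue (letters_glue (letters_glue (letters_glue (letters_glue (letters_glue (letters_glue (letters_glue (letters_glue (letters_glue (letters_nil) p2t_m_0) p2t_m_1) p2t_m_2) p2t_m_3) p2t_m_4) p2t_m_5) p2t_m_6) p2t_m_7) p2t_m_8) p2t_m_9
theorem p2t_act {G Ω : Type*} [Group G] [MulAction G Ω] {g : ℕ → G} {pt : ℕ → Ω}
    (M : Md g pt H16.PHe.P 2058 7 H16.PHe.B 4030387200) : Act (wds g p2t_W) pt p2t_P 2058 10 :=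
  act_mat (M.wact p2t_lt) p2t_m
theorem p2_r : ∀ k < 10, ∀ i < 800, (resEnt p2t_P p2P p2E p2I (nat_lit 2058) (nat_lit 800)) k i = 0 := allZ2_sound p2_r_a
theorem p2_sm {G Ω : Type*} [Group G] [MulAction G Ω] {g : ℕ → G} {pt : ℕ → Ω}
    (M : Md g pt H16.PHe.P 2058 7 H16.PHe.B 4030387200) : Sm (wds g p2t_W) (fun i => pt (p2E i)) p2P 800 10 p2B ∧ ∀ i < 800, p2E i < 2058 :=
  M.res (p2t_act M) (by decide) p2_r p2_b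
theorem p2l0_e : ∀ i < 31, (dent p2l0 (wdsP p2P p2e) (nat_lit 800)) i = 0 := allZ_sound0 p2l0_e_0
theorem p2l0_ok : DOK p2l0 (wdsP p2P p2e) 800 := ⟨p2l0_h, p2l0_e⟩
theorem p2l1_e : ∀ i < 7, (dent p2l1 (wdsP p2P p2e) (nat_lit 800)) i = 0 := allZ_sound0 p2l1_e_0
theorem p2l1_ok : DOK p2l1 (wdsP p2P p2e) 800 := ⟨p2l1_h, p2l1_e⟩
theorem p2l2_e : ∀ i < 3, (dent p2l2 (wdsP p2P p2e) (nat_lit 800)) i = 0 := allZ_sound0 p2l2_e_0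
theorem p2l2_ok : DOK p2l2 (wdsP p2P p2e) 800 := ⟨p2l2_h, p2l2_e⟩
theorem p2_low {G Ω : Type*} [Group G] [MulAction G Ω] {g : ℕ → G} {pt : ℕ → Ω}
    (M : Md g pt H16.PHe.P 2058 7 H16.PHe.B 4030387200) : SLow (gi (wds (wds g p2t_W) p2e)) (fun i => pt (p2E i)) 800 [p2l0, p2l1, p2l2] :=
  (((SLow.nil).cons p2l2_ok ((p2_sm M).1.act.wds p2_e 45) p2_f2).cons p2l1_ok ((p2_sm M).1.act.wds p2_e 45) p2_f1).cons p2l0_ok ((p2_sm M).1.act.wds p2_e 45) p2_f0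
theorem p2_pc {G Ω : Type*} [Group G] [MulAction G Ω] {g : ℕ → G} {pt : ℕ → Ω}
    (M : Md g pt H16.PHe.P 2058 7 H16.PHe.B 4030387200) : PC (wds g p2t_W) 10 2 :=
  have := M.fin
  ((p2_sm M).1.pc0 (by decide) p2_p).pc (p2_low M) (p2_sm M).1.inj
    (fun k => evA_mem_gen _ (nth_lt p2_e k)) M.card ⟨by decide, p2_c⟩
theorem covr_m_0 : ∀ i < 2058, (matEnt (wdsP H16.PHe.P covr_W) covr_P (nat_lit 0)) i = 0 := range_glue (allZ_sound0 covr_m_0_0) covr_m_0_1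
theorem covr_m_1 : ∀ i < 2058, (matEnt (wdsP H16.PHe.P covr_W) covr_P (nat_lit 1)) i = 0 := allZ_sound0 covr_m_1_0
theorem covr_m : ∀ k < 2, ∀ i < 2058, (matEnt (wdsP H16.PHe.P covr_W) covr_P) k i = 0 :=
  letters_glue (letters_glue (letters_nil) covr_m_0) covr_m_1
theorem covr_act {G Ω : Type*} [Group G] [MulAction G Ω] {g : ℕ → G} {pt : ℕ → Ω}
    (M : Md g pt H16.PHe.P 2058 7 H16.PHe.B 4030387200) : Act (wds g covr_W) pt covr_P 2058 2 :=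
  act_mat (M.wact covr_lt) covr_m
theorem cov_0 {G Ω : Type*} [Group G] [MulAction G Ω] {g : ℕ → G} {pt : ℕ → Ω}
    (M : Md g pt H16.PHe.P 2058 7 H16.PHe.B 4030387200) : H0.TR.Cov (wds g p2t_W) (wds g covr_W) 2 2 9 (evA (wds g p2t_W) []) :=
  have := M.fin
  covT0.cov M (p2_sm M).1 (p2_sm M).2 (covr_act M) (p2_pc M) _ _ cov_c0
theorem cov_1 {G Ω : Type*} [Group G] [MulAction G Ω] {g : ℕ → G} {pt : ℕ → Ω}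
    (M : Md g pt H16.PHe.P 2058 7 H16.PHe.B 4030387200) : H0.TR.Cov (wds g p2t_W) (wds g covr_W) 2 2 9 (evA (wds g p2t_W) [nat_lit 9]) :=
  have := M.fin
  covT1.cov M (p2_sm M).1 (p2_sm M).2 (covr_act M) (p2_pc M) _ _ cov_c1
theorem cov {G Ω : Type*} [Group G] [MulAction G Ω] {g : ℕ → G} {pt : ℕ → Ω}
    (M : Md g pt H16.PHe.P 2058 7 H16.PHe.B 4030387200) {y : G} {e : ℕ} (hy : y ^ 2 ^ e = 1) (hq : y ^ 2 = 1) : Good (wds g covr_W) 2 y :=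
  have := M.fin
  H0.TR.Cov.all (p2_pc M) (H0.TR.Cov.split (p2_pc M) (by decide) (fun j hj => match j, hj with | 0, _ => cov_0 M | 1, _ => cov_1 M)) hy hq
theorem c0ax_m_0 : ∀ i < 2058, (matEnt (wdsP H16.PHe.P c0ax_W) c0ax_P (nat_lit 0)) i = 0 := range_glue (allZ_sound0 c0ax_m_0_0) c0ax_m_0_1
theorem c0ax_m : ∀ k < 1, ∀ i < 2058, (matEnt (wdsP H16.PHe.P c0ax_W) c0ax_P) k i = 0 :=
  letters_glue (letters_nil) c0ax_m_0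
theorem c0ax_act {G Ω : Type*} [Group G] [MulAction G Ω] {g : ℕ → G} {pt : ℕ → Ω}
    (M : Md g pt H16.PHe.P 2058 7 H16.PHe.B 4030387200) : Act (wds g c0ax_W) pt c0ax_P 2058 1 :=
  act_mat (M.wact c0ax_lt) c0ax_m
theorem c0ath_m_0 : ∀ i < 2058, (matEnt (wdsP H16.PHe.P c0ath_W) c0ath_P (nat_lit 0)) i = 0 := allZ_sound0 c0ath_m_0_0
theorem c0ath_m_1 : ∀ i < 2058, (matEnt (wdsP H16.PHe.P c0ath_W) c0ath_P (nat_lit 1)) i = 0 := range_glue (allZ_sound0 c0ath_m_1_0) c0ath_m_1_1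
theorem c0ath_m_2 : ∀ i < 2058, (matEnt (wdsP H16.PHe.P c0ath_W) c0ath_P (nat_lit 2)) i = 0 := allZ_sound0 c0ath_m_2_0
theorem c0ath_m_3 : ∀ i < 2058, (matEnt (wdsP H16.PHe.P c0ath_W) c0ath_P (nat_lit 3)) i = 0 := allZ_sound0 c0ath_m_3_0
theorem c0ath_m_4 : ∀ i < 2058, (matEnt (wdsP H16.PHe.P c0ath_W) c0ath_P (nat_lit 4)) i = 0 := allZ_sound0 c0ath_m_4_0
theorem c0ath_m_5 : ∀ i < 2058, (matEnt (wdsP H16.PHe.P c0ath_W) c0ath_P (nat_lit 5)) i = 0 := allZ_sound0 c0ath_m_5_0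
theorem c0ath_m_6 : ∀ i < 2058, (matEnt (wdsP H16.PHe.P c0ath_W) c0ath_P (nat_lit 6)) i = 0 := allZ_sound0 c0ath_m_6_0
theorem c0ath_m_7 : ∀ i < 2058, (matEnt (wdsP H16.PHe.P c0ath_W) c0ath_P (nat_lit 7)) i = 0 := allZ_sound0 c0ath_m_7_0
theorem c0ath_m_8 : ∀ i < 2058, (matEnt (wdsP H16.PHe.P c0ath_W) c0ath_P (nat_lit 8)) i = 0 := allZ_sound0 c0ath_m_8_0
theorem c0ath_m_9 : ∀ i < 2058, (matEnt (wdsP H16.PHe.P c0ath_W) c0ath_P (nat_lit 9)) i = 0 := allZ_sound0 c0ath_m_9_0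
theorem c0ath_m_10 : ∀ i < 2058, (matEnt (wdsP H16.PHe.P c0ath_W) c0ath_P (nat_lit 10)) i = 0 := allZ_sound0 c0ath_m_10_0
theorem c0ath_m_11 : ∀ i < 2058, (matEnt (wdsP H16.PHe.P c0ath_W) c0ath_P (nat_lit 11)) i = 0 := allZ_sound0 c0ath_m_11_0
theorem c0ath_m_12 : ∀ i < 2058, (matEnt (wdsP H16.PHe.P c0ath_W) c0ath_P (nat_lit 12)) i = 0 := allZ_sound0 c0ath_m_12_0
theorem c0ath_m_13 : ∀ i < 2058, (matEnt (wdsP H16.PHe.P c0ath_W) c0ath_P (nat_lit 13)) i = 0 := allZ_sound0 c0ath_m_13_0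
theorem c0ath_m_14 : ∀ i < 2058, (matEnt (wdsP H16.PHe.P c0ath_W) c0ath_P (nat_lit 14)) i = 0 := allZ_sound0 c0ath_m_14_0
theorem c0ath_m_15 : ∀ i < 2058, (matEnt (wdsP H16.PHe.P c0ath_W) c0ath_P (nat_lit 15)) i = 0 := allZ_sound0 c0ath_m_15_0
theorem c0ath_m_16 : ∀ i < 2058, (matEnt (wdsP H16.PHe.P c0ath_W) c0ath_P (nat_lit 16)) i = 0 := allZ_sound0 c0ath_m_16_0
theorem c0ath_m : ∀ k < 17, ∀ i < 2058, (matEnt (wdsP H16.PHe.P c0ath_W) c0ath_P) k i = 0 :=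
  letters_glue (letters_glue (letters_glue (letters_glue (letters_glue (letters_glue (letters_glue (letters_glue (letters_glue (letters_glue (letters_glue (letters_glue (letters_glue (letters_glue (letters_glue (letters_glue (letters_glue (letters_nil) c0ath_m_0) c0ath_m_1) c0ath_m_2) c0ath_m_3) c0ath_m_4) c0ath_m_5) c0ath_m_6) c0ath_m_7) c0ath_m_8) c0ath_m_9) c0ath_m_10) c0ath_m_11) c0ath_m_12) c0ath_m_13) c0ath_m_14) c0ath_m_15) c0ath_m_16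
theorem c0ath_act {G Ω : Type*} [Group G] [MulAction G Ω] {g : ℕ → G} {pt : ℕ → Ω}
    (M : Md g pt H16.PHe.P 2058 7 H16.PHe.B 4030387200) : Act (wds g c0ath_W) pt c0ath_P 2058 17 :=
  act_mat (M.wact c0ath_lt) c0ath_m
theorem c0atl0_e : ∀ i < 2057, (dent c0atl0 c0ath_P (nat_lit 2058)) i = 0 := allZ_sound0 c0atl0_e_0
theorem c0atl0_ok : DOK c0atl0 c0ath_P 2058 := ⟨c0atl0_h, c0atl0_e⟩
theorem c0atl1_e : ∀ i < 135, (dent c0atl1 c0ath_P (nat_lit 2058)) i = 0 := allZ_sound0 c0atl1_e_0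
theorem c0atl1_ok : DOK c0atl1 c0ath_P 2058 := ⟨c0atl1_h, c0atl1_e⟩
theorem c0atl2_e : ∀ i < 49, (dent c0atl2 c0ath_P (nat_lit 2058)) i = 0 := allZ_sound0 c0atl2_e_0
theorem c0atl2_ok : DOK c0atl2 c0ath_P 2058 := ⟨c0atl2_h, c0atl2_e⟩
theorem c0atl3_e : ∀ i < 3, (dent c0atl3 c0ath_P (nat_lit 2058)) i = 0 := allZ_sound0 c0atl3_e_0
theorem c0atl3_ok : DOK c0atl3 c0ath_P 2058 := ⟨c0atl3_h, c0atl3_e⟩
theorem c0atl4_e : ∀ i < 2, (dent c0atl4 c0ath_P (nat_lit 2058)) i = 0 := allZ_sound0 c0atl4_e_0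
theorem c0atl4_ok : DOK c0atl4 c0ath_P 2058 := ⟨c0atl4_h, c0atl4_e⟩
theorem c0atl5_e : ∀ i < 1, (dent c0atl5 c0ath_P (nat_lit 2058)) i = 0 := allZ_sound0 c0atl5_e_0
theorem c0atl5_ok : DOK c0atl5 c0ath_P 2058 := ⟨c0atl5_h, c0atl5_e⟩
theorem c0atl6_e : ∀ i < 2, (dent c0atl6 c0ath_P (nat_lit 2058)) i = 0 := allZ_sound0 c0atl6_e_0
theorem c0atl6_ok : DOK c0atl6 c0ath_P 2058 := ⟨c0atl6_h, c0atl6_e⟩
theorem c0atl7_e : ∀ i < 1, (dent c0atl7 c0ath_P (nat_lit 2058)) i = 0 := allZ_sound0 c0atl7_e_0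
theorem c0atl7_ok : DOK c0atl7 c0ath_P 2058 := ⟨c0atl7_h, c0atl7_e⟩
theorem c0atl8_e : ∀ i < 1, (dent c0atl8 c0ath_P (nat_lit 2058)) i = 0 := allZ_sound0 c0atl8_e_0
theorem c0atl8_ok : DOK c0atl8 c0ath_P 2058 := ⟨c0atl8_h, c0atl8_e⟩
theorem c0at_low {G Ω : Type*} [Group G] [MulAction G Ω] {g : ℕ → G} {pt : ℕ → Ω}
    (M : Md g pt H16.PHe.P 2058 7 H16.PHe.B 4030387200) : SLow (gi (wds g c0ath_W)) pt 2058 [c0atl0, c0atl1, c0atl2, c0atl3, c0atl4, c0atl5, c0atl6, c0atl7, c0atl8] :=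
  (((((((((SLow.nil).cons c0atl8_ok (c0ath_act M) c0at_f8).cons c0atl7_ok (c0ath_act M) c0at_f7).cons c0atl6_ok (c0ath_act M) c0at_f6).cons c0atl5_ok (c0ath_act M) c0at_f5).cons c0atl4_ok (c0ath_act M) c0at_f4).cons c0atl3_ok (c0ath_act M) c0at_f3).cons c0atl2_ok (c0ath_act M) c0at_f2).cons c0atl1_ok (c0ath_act M) c0at_f1).cons c0atl0_ok (c0ath_act M) c0at_f0
theorem c0at_S0 {G Ω : Type*} [Group G] [MulAction G Ω] {g : ℕ → G} {pt : ℕ → Ω}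
    (M : Md g pt H16.PHe.P 2058 7 H16.PHe.B 4030387200) : Stage ⊤ (wds g c0ath_W) pt 2058 [c0atl0, c0atl1, c0atl2, c0atl3, c0atl4, c0atl5, c0atl6, c0atl7, c0atl8] [] :=
  M.stage (c0at_low M) c0at_c
theorem c0at_S1 {G Ω : Type*} [Group G] [MulAction G Ω] {g : ℕ → G} {pt : ℕ → Ω}
    (M : Md g pt H16.PHe.P 2058 7 H16.PHe.B 4030387200) : Stage ⊤ (wds g c0ath_W) pt 2058 [c0atl1, c0atl2, c0atl3, c0atl4, c0atl5, c0atl6, c0atl7, c0atl8] [c0atl0.Pt 0] :=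
  (c0at_S0 M).next
theorem c0at_S2 {G Ω : Type*} [Group G] [MulAction G Ω] {g : ℕ → G} {pt : ℕ → Ω}
    (M : Md g pt H16.PHe.P 2058 7 H16.PHe.B 4030387200) : Stage ⊤ (wds g c0ath_W) pt 2058 [c0atl2, c0atl3, c0atl4, c0atl5, c0atl6, c0atl7, c0atl8] [c0atl1.Pt 0, c0atl0.Pt 0] :=
  (c0at_S1 M).next
theorem c0at_S3 {G Ω : Type*} [Group G] [MulAction G Ω] {g : ℕ → G} {pt : ℕ → Ω}
    (M : Md g pt H16.PHe.P 2058 7 H16.PHe.B 4030387200) : Stage ⊤ (wds g c0ath_W) pt 2058 [c0atl3, c0atl4, c0atl5, c0atl6, c0atl7, c0atl8] [c0atl2.Pt 0, c0atl1.Pt 0, c0atl0.Pt 0] :=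
  (c0at_S2 M).next
theorem c0at_S4 {G Ω : Type*} [Group G] [MulAction G Ω] {g : ℕ → G} {pt : ℕ → Ω}
    (M : Md g pt H16.PHe.P 2058 7 H16.PHe.B 4030387200) : Stage ⊤ (wds g c0ath_W) pt 2058 [c0atl4, c0atl5, c0atl6, c0atl7, c0atl8] [c0atl3.Pt 0, c0atl2.Pt 0, c0atl1.Pt 0, c0atl0.Pt 0] :=
  (c0at_S3 M).next
theorem c0at_S5 {G Ω : Type*} [Group G] [MulAction G Ω] {g : ℕ → G} {pt : ℕ → Ω}
    (M : Md g pt H16.PHe.P 2058 7 H16.PHe.B 4030387200) : Stage ⊤ (wds g c0ath_W) pt 2058 [c0atl5, c0atl6, c0atl7, c0atl8] [c0atl4.Pt 0, c0atl3.Pt 0, c0atl2.Pt 0, c0atl1.Pt 0, c0atl0.Pt 0] :=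
  (c0at_S4 M).next
theorem c0at_S6 {G Ω : Type*} [Group G] [MulAction G Ω] {g : ℕ → G} {pt : ℕ → Ω}
    (M : Md g pt H16.PHe.P 2058 7 H16.PHe.B 4030387200) : Stage ⊤ (wds g c0ath_W) pt 2058 [c0atl6, c0atl7, c0atl8] [c0atl5.Pt 0, c0atl4.Pt 0, c0atl3.Pt 0, c0atl2.Pt 0, c0atl1.Pt 0, c0atl0.Pt 0] :=
  (c0at_S5 M).next
theorem c0at_S7 {G Ω : Type*} [Group G] [MulAction G Ω] {g : ℕ → G} {pt : ℕ → Ω}
    (M : Md g pt H16.PHe.P 2058 7 H16.PHe.B 4030387200) : Stage ⊤ (wds g c0ath_W) pt 2058 [c0atl7, c0atl8] [c0atl6.Pt 0, c0atl5.Pt 0, c0atl4.Pt 0, c0atl3.Pt 0, c0atl2.Pt 0, c0atl1.Pt 0, c0atl0.Pt 0] :=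
  (c0at_S6 M).next
theorem c0at_S8 {G Ω : Type*} [Group G] [MulAction G Ω] {g : ℕ → G} {pt : ℕ → Ω}
    (M : Md g pt H16.PHe.P 2058 7 H16.PHe.B 4030387200) : Stage ⊤ (wds g c0ath_W) pt 2058 [c0atl8] [c0atl7.Pt 0, c0atl6.Pt 0, c0atl5.Pt 0, c0atl4.Pt 0, c0atl3.Pt 0, c0atl2.Pt 0, c0atl1.Pt 0, c0atl0.Pt 0] :=
  (c0at_S7 M).next
theorem c0at_S9 {G Ω : Type*} [Group G] [MulAction G Ω] {g : ℕ → G} {pt : ℕ → Ω}
    (M : Md g pt H16.PHe.P 2058 7 H16.PHe.B 4030387200) : Stage ⊤ (wds g c0ath_W) pt 2058 [] [c0atl8.Pt 0, c0atl7.Pt 0, c0atl6.Pt 0, c0atl5.Pt 0, c0atl4.Pt 0, c0atl3.Pt 0, c0atl2.Pt 0, c0atl1.Pt 0, c0atl0.Pt 0] :=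
  (c0at_S8 M).next
theorem c0ace_m_0 : ∀ i < 2058, (matEnt (wdsP H16.PHe.P c0ace_W) c0ace_P (nat_lit 0)) i = 0 := allZ_sound0 c0ace_m_0_0
theorem c0ace_m_1 : ∀ i < 2058, (matEnt (wdsP H16.PHe.P c0ace_W) c0ace_P (nat_lit 1)) i = 0 := allZ_sound0 c0ace_m_1_0
theorem c0ace_m_2 : ∀ i < 2058, (matEnt (wdsP H16.PHe.P c0ace_W) c0ace_P (nat_lit 2)) i = 0 := allZ_sound0 c0ace_m_2_0
theorem c0ace_m_3 : ∀ i < 2058, (matEnt (wdsP H16.PHe.P c0ace_W) c0ace_P (nat_lit 3)) i = 0 := allZ_sound0 c0ace_m_3_0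
theorem c0ace_m_4 : ∀ i < 2058, (matEnt (wdsP H16.PHe.P c0ace_W) c0ace_P (nat_lit 4)) i = 0 := allZ_sound0 c0ace_m_4_0
theorem c0ace_m_5 : ∀ i < 2058, (matEnt (wdsP H16.PHe.P c0ace_W) c0ace_P (nat_lit 5)) i = 0 := allZ_sound0 c0ace_m_5_0
theorem c0ace_m_6 : ∀ i < 2058, (matEnt (wdsP H16.PHe.P c0ace_W) c0ace_P (nat_lit 6)) i = 0 := allZ_sound0 c0ace_m_6_0
theorem c0ace_m_7 : ∀ i < 2058, (matEnt (wdsP H16.PHe.P c0ace_W) c0ace_P (nat_lit 7)) i = 0 := allZ_sound0 c0ace_m_7_0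
theorem c0ace_m_8 : ∀ i < 2058, (matEnt (wdsP H16.PHe.P c0ace_W) c0ace_P (nat_lit 8)) i = 0 := allZ_sound0 c0ace_m_8_0
theorem c0ace_m_9 : ∀ i < 2058, (matEnt (wdsP H16.PHe.P c0ace_W) c0ace_P (nat_lit 9)) i = 0 := allZ_sound0 c0ace_m_9_0
theorem c0ace_m : ∀ k < 10, ∀ i < 2058, (matEnt (wdsP H16.PHe.P c0ace_W) c0ace_P) k i = 0 :=
  letters_glue (letters_glue (letters_glue (letters_glue (letters_glue (letters_glue (letters_glue (letters_glue (letters_glue (letters_glue (letters_nil) c0ace_m_0) c0ace_m_1) c0ace_m_2) c0ace_m_3) c0ace_m_4) c0ace_m_5) c0ace_m_6) c0ace_m_7) c0ace_m_8) c0ace_m_9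
theorem c0ace_act {G Ω : Type*} [Group G] [MulAction G Ω] {g : ℕ → G} {pt : ℕ → Ω}
    (M : Md g pt H16.PHe.P 2058 7 H16.PHe.B 4030387200) : Act (wds g c0ace_W) pt c0ace_P 2058 10 :=
  act_mat (M.wact c0ace_lt) c0ace_m
theorem c0acc8_e : ∀ i < 1, (dent c0acc8 c0ace_P (nat_lit 2058)) i = 0 := allZ_sound0 c0acc8_e_0
theorem c0acc8_ok : DOK c0acc8 c0ace_P 2058 := ⟨c0acc8_h, c0acc8_e⟩
theorem c0atn0_1 : ∀ i < 2, (c0atn0.ent H16.PHe.P c0ath_P c0ax_P c0ax_P c0ace_P (nat_lit 7) (nat_lit 1) H16.PHe.B c0atl8 [] (memO c0acc8)) i = 0 := allZ_sound0 c0atn0_1_0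
theorem c0atn0_t {G Ω : Type*} [Group G] [MulAction G Ω] {g : ℕ → G} {pt : ℕ → Ω}
    (M : Md g pt H16.PHe.P 2058 7 H16.PHe.B 4030387200) : TrO (gen (wds g c0ath_W) c0atl8.K) (wds g c0ax_W) (wds g c0ax_W) 1 pt 2058 (c0atl8.Pt 0) (memO c0acc8) :=
  node M (c0at_S8 M) (c0ath_act M) (c0ax_act M) (c0ax_act M) c0atn0 ((c0ace_act M).mono (by decide)) (fun _ _ => trivial) c0atn0_0 c0atn0_1 (List.forall_mem_nil _)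
theorem c0acc7_e : ∀ i < 1, (dent c0acc7 c0ace_P (nat_lit 2058)) i = 0 := allZ_sound0 c0acc7_e_0
theorem c0acc7_ok : DOK c0acc7 c0ace_P 2058 := ⟨c0acc7_h, c0acc7_e⟩
theorem c0atn1_1 : ∀ i < 2, (c0atn1.ent H16.PHe.P c0ath_P c0ax_P c0ax_P c0ace_P (nat_lit 7) (nat_lit 1) H16.PHe.B c0atl7 [c0atl8] (memO c0acc7)) i = 0 := allZ_sound0 c0atn1_1_0
theorem c0atn1_t {G Ω : Type*} [Group G] [MulAction G Ω] {g : ℕ → G} {pt : ℕ → Ω}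
    (M : Md g pt H16.PHe.P 2058 7 H16.PHe.B 4030387200) : TrO (gen (wds g c0ath_W) c0atl7.K) (wds g c0ax_W) (wds g c0ax_W) 1 pt 2058 (c0atl7.Pt 0) (memO c0acc7) :=
  node M (c0at_S7 M) (c0ath_act M) (c0ax_act M) (c0ax_act M) c0atn1 ((c0ace_act M).mono (by decide)) (fun _ _ => trivial) c0atn1_0 c0atn1_1 (List.forall_mem_nil _)
theorem c0atn2y91_act {G Ω : Type*} [Group G] [MulAction G Ω] {g : ℕ → G} {pt : ℕ → Ω}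
    (M : Md g pt H16.PHe.P 2058 7 H16.PHe.B 4030387200) : Act (wds g c0atn2y91_W) pt c0atn2y91_P 2058 1 :=
  M.wact c0atn2y91_lt
theorem c0atr3k_act {G Ω : Type*} [Group G] [MulAction G Ω] {g : ℕ → G} {pt : ℕ → Ω}
    (M : Md g pt H16.PHe.P 2058 7 H16.PHe.B 4030387200) : Act (wds g c0atr3k_W) pt c0atr3k_P 2058 2 :=
  M.wact c0atr3k_lt
theorem c0atn3_1 : ∀ i < 2, (c0atn3.ent H16.PHe.P c0ath_P c0ax_P c0atn2y91_P c0atr3k_P (nat_lit 7) (nat_lit 1) H16.PHe.B c0atl7 [c0atl8] (fun _ => nat_lit 1)) i = 0 := allZ_sound0 c0atn3_1_0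
theorem c0atn3_t {G Ω : Type*} [Group G] [MulAction G Ω] {g : ℕ → G} {pt : ℕ → Ω}
    (M : Md g pt H16.PHe.P 2058 7 H16.PHe.B 4030387200) : TrO (gen (wds g c0ath_W) c0atl7.K) (wds g c0ax_W) (wds g c0atn2y91_W) 1 pt 2058 (c0atl7.Pt 0) (fun _ => nat_lit 1) :=
  node M (c0at_S7 M) (c0ath_act M) (c0ax_act M) (c0atn2y91_act M) c0atn3 ((c0atr3k_act M).mono (by decide)) (fun _ _ => trivial) c0atn3_0 c0atn3_1 (List.forall_mem_nil _)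
theorem c0atr3 {G Ω : Type*} [Group G] [MulAction G Ω] {g : ℕ → G} {pt : ℕ → Ω}
    (M : Md g pt H16.PHe.P 2058 7 H16.PHe.B 4030387200) : Ref (gen (wds g c0ath_W) (topK [c0atl7, c0atl8])) (wds g c0ax_W) (wds g c0atn2y91_W) 1 :=
  (c0atn3_t M).ref
theorem c0atn2y89_act {G Ω : Type*} [Group G] [MulAction G Ω] {g : ℕ → G} {pt : ℕ → Ω}
    (M : Md g pt H16.PHe.P 2058 7 H16.PHe.B 4030387200) : Act (wds g c0atn2y89_W) pt c0atn2y89_P 2058 1 :=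
  M.wact c0atn2y89_lt
theorem c0atr4k_act {G Ω : Type*} [Group G] [MulAction G Ω] {g : ℕ → G} {pt : ℕ → Ω}
    (M : Md g pt H16.PHe.P 2058 7 H16.PHe.B 4030387200) : Act (wds g c0atr4k_W) pt c0atr4k_P 2058 2 :=
  M.wact c0atr4k_lt
theorem c0atn4y18_act {G Ω : Type*} [Group G] [MulAction G Ω] {g : ℕ → G} {pt : ℕ → Ω}
    (M : Md g pt H16.PHe.P 2058 7 H16.PHe.B 4030387200) : Act (wds g c0atn4y18_W) pt c0atn4y18_P 2058 1 :=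
  M.wact c0atn4y18_lt
theorem c0atr5k_act {G Ω : Type*} [Group G] [MulAction G Ω] {g : ℕ → G} {pt : ℕ → Ω}
    (M : Md g pt H16.PHe.P 2058 7 H16.PHe.B 4030387200) : Act (wds g c0atr5k_W) pt c0atr5k_P 2058 2 :=
  M.wact c0atr5k_lt
theorem c0atn5_1 : ∀ i < 2, (c0atn5.ent H16.PHe.P c0ath_P c0ax_P c0atn4y18_P c0atr5k_P (nat_lit 7) (nat_lit 1) H16.PHe.B c0atl8 [] (fun _ => nat_lit 1)) i = 0 := allZ_sound0 c0atn5_1_0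
theorem c0atn5_t {G Ω : Type*} [Group G] [MulAction G Ω] {g : ℕ → G} {pt : ℕ → Ω}
    (M : Md g pt H16.PHe.P 2058 7 H16.PHe.B 4030387200) : TrO (gen (wds g c0ath_W) c0atl8.K) (wds g c0ax_W) (wds g c0atn4y18_W) 1 pt 2058 (c0atl8.Pt 0) (fun _ => nat_lit 1) :=
  node M (c0at_S8 M) (c0ath_act M) (c0ax_act M) (c0atn4y18_act M) c0atn5 ((c0atr5k_act M).mono (by decide)) (fun _ _ => trivial) c0atn5_0 c0atn5_1 (List.forall_mem_nil _)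
theorem c0atr5 {G Ω : Type*} [Group G] [MulAction G Ω] {g : ℕ → G} {pt : ℕ → Ω}
    (M : Md g pt H16.PHe.P 2058 7 H16.PHe.B 4030387200) : Ref (gen (wds g c0ath_W) (topK [c0atl8])) (wds g c0ax_W) (wds g c0atn4y18_W) 1 :=
  (c0atn5_t M).ref
theorem c0atn4_1 : ∀ i < 2, (c0atn4.ent H16.PHe.P c0ath_P c0ax_P c0atn2y89_P c0atr4k_P (nat_lit 7) (nat_lit 1) H16.PHe.B c0atl7 [c0atl8] (fun _ => nat_lit 1)) i = 0 := allZ_sound0 c0atn4_1_0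
theorem c0atn4_t {G Ω : Type*} [Group G] [MulAction G Ω] {g : ℕ → G} {pt : ℕ → Ω}
    (M : Md g pt H16.PHe.P 2058 7 H16.PHe.B 4030387200) : TrO (gen (wds g c0ath_W) c0atl7.K) (wds g c0ax_W) (wds g c0atn2y89_W) 1 pt 2058 (c0atl7.Pt 0) (fun _ => nat_lit 1) :=
  node M (c0at_S7 M) (c0ath_act M) (c0ax_act M) (c0atn2y89_act M) c0atn4 ((c0atr4k_act M).mono (by decide)) (fun _ _ => trivial) c0atn4_0 c0atn4_1 (List.forall_mem_cons.2 ⟨c0atr5 M, List.forall_mem_nil _⟩)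
theorem c0atr4 {G Ω : Type*} [Group G] [MulAction G Ω] {g : ℕ → G} {pt : ℕ → Ω}
    (M : Md g pt H16.PHe.P 2058 7 H16.PHe.B 4030387200) : Ref (gen (wds g c0ath_W) (topK [c0atl7, c0atl8])) (wds g c0ax_W) (wds g c0atn2y89_W) 1 :=
  (c0atn4_t M).ref
theorem c0atn2_1 : ∀ i < 3, (c0atn2.ent H16.PHe.P c0ath_P c0ax_P c0ax_P c0ace_P (nat_lit 7) (nat_lit 1) H16.PHe.B c0atl6 [c0atl7, c0atl8] (fun w => Nat.xor w (c0atl6.Pt (nat_lit 0)))) i = 0 := allZ_sound0 c0atn2_1_0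
theorem c0atn2_t {G Ω : Type*} [Group G] [MulAction G Ω] {g : ℕ → G} {pt : ℕ → Ω}
    (M : Md g pt H16.PHe.P 2058 7 H16.PHe.B 4030387200) : TrO (gen (wds g c0ath_W) c0atl6.K) (wds g c0ax_W) (wds g c0ax_W) 1 pt 2058 (c0atl6.Pt 0) (fun w => Nat.xor w (c0atl6.Pt (nat_lit 0))) :=
  node M (c0at_S6 M) (c0ath_act M) (c0ax_act M) (c0ax_act M) c0atn2 ((c0ace_act M).mono (by decide)) (fun _ _ => trivial) c0atn2_0 c0atn2_1 (List.forall_mem_cons.2 ⟨c0atr3 M, List.forall_mem_cons.2 ⟨c0atr4 M, List.forall_mem_nil _⟩⟩)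
theorem c0acc5_e : ∀ i < 1, (dent c0acc5 c0ace_P (nat_lit 2058)) i = 0 := allZ_sound0 c0acc5_e_0
theorem c0acc5_ok : DOK c0acc5 c0ace_P 2058 := ⟨c0acc5_h, c0acc5_e⟩
theorem c0atn6_1 : ∀ i < 2, (c0atn6.ent H16.PHe.P c0ath_P c0ax_P c0ax_P c0ace_P (nat_lit 7) (nat_lit 1) H16.PHe.B c0atl5 [c0atl6, c0atl7, c0atl8] (memO c0acc5)) i = 0 := allZ_sound0 c0atn6_1_0
theorem c0atn6_t {G Ω : Type*} [Group G] [MulAction G Ω] {g : ℕ → G} {pt : ℕ → Ω}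
    (M : Md g pt H16.PHe.P 2058 7 H16.PHe.B 4030387200) : TrO (gen (wds g c0ath_W) c0atl5.K) (wds g c0ax_W) (wds g c0ax_W) 1 pt 2058 (c0atl5.Pt 0) (memO c0acc5) :=
  node M (c0at_S5 M) (c0ath_act M) (c0ax_act M) (c0ax_act M) c0atn6 ((c0ace_act M).mono (by decide)) (fun _ _ => trivial) c0atn6_0 c0atn6_1 (List.forall_mem_nil _)
theorem c0acc3_e : ∀ i < 3, (dent c0acc3 c0ace_P (nat_lit 2058)) i = 0 := allZ_sound0 c0acc3_e_0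
theorem c0acc3_ok : DOK c0acc3 c0ace_P 2058 := ⟨c0acc3_h, c0acc3_e⟩
theorem c0atn7_1 : ∀ i < 4, (c0atn7.ent H16.PHe.P c0ath_P c0ax_P c0ax_P c0ace_P (nat_lit 7) (nat_lit 1) H16.PHe.B c0atl3 [c0atl4, c0atl5, c0atl6, c0atl7, c0atl8] (memO c0acc3)) i = 0 := allZ_sound0 c0atn7_1_0
theorem c0atn7_t {G Ω : Type*} [Group G] [MulAction G Ω] {g : ℕ → G} {pt : ℕ → Ω}
    (M : Md g pt H16.PHe.P 2058 7 H16.PHe.B 4030387200) : TrO (gen (wds g c0ath_W) c0atl3.K) (wds g c0ax_W) (wds g c0ax_W) 1 pt 2058 (c0atl3.Pt 0) (memO c0acc3) :=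
  node M (c0at_S3 M) (c0ath_act M) (c0ax_act M) (c0ax_act M) c0atn7 ((c0ace_act M).mono (by decide)) (fun _ _ => trivial) c0atn7_0 c0atn7_1 (List.forall_mem_nil _)
theorem c0acc2_e : ∀ i < 1, (dent c0acc2 c0ace_P (nat_lit 2058)) i = 0 := allZ_sound0 c0acc2_e_0
theorem c0acc2_ok : DOK c0acc2 c0ace_P 2058 := ⟨c0acc2_h, c0acc2_e⟩
theorem c0atn8_1 : ∀ i < 50, (c0atn8.ent H16.PHe.P c0ath_P c0ax_P c0ax_P c0ace_P (nat_lit 7) (nat_lit 1) H16.PHe.B c0atl2 [c0atl3, c0atl4, c0atl5, c0atl6, c0atl7, c0atl8] (memO c0acc2)) i = 0 := allZ_sound0 c0atn8_1_0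
theorem c0atn8_t {G Ω : Type*} [Group G] [MulAction G Ω] {g : ℕ → G} {pt : ℕ → Ω}
    (M : Md g pt H16.PHe.P 2058 7 H16.PHe.B 4030387200) : TrO (gen (wds g c0ath_W) c0atl2.K) (wds g c0ax_W) (wds g c0ax_W) 1 pt 2058 (c0atl2.Pt 0) (memO c0acc2) :=
  node M (c0at_S2 M) (c0ath_act M) (c0ax_act M) (c0ax_act M) c0atn8 ((c0ace_act M).mono (by decide)) (fun _ _ => trivial) c0atn8_0 c0atn8_1 (List.forall_mem_nil _)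
theorem c0acc1_e : ∀ i < 7, (dent c0acc1 c0ace_P (nat_lit 2058)) i = 0 := allZ_sound0 c0acc1_e_0
theorem c0acc1_ok : DOK c0acc1 c0ace_P 2058 := ⟨c0acc1_h, c0acc1_e⟩
theorem c0atn9_1 : ∀ i < 136, (c0atn9.ent H16.PHe.P c0ath_P c0ax_P c0ax_P c0ace_P (nat_lit 7) (nat_lit 1) H16.PHe.B c0atl1 [c0atl2, c0atl3, c0atl4, c0atl5, c0atl6, c0atl7, c0atl8] (memO c0acc1)) i = 0 := allZ_sound0 c0atn9_1_0
theorem c0atn9_t {G Ω : Type*} [Group G] [MulAction G Ω] {g : ℕ → G} {pt : ℕ → Ω}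
    (M : Md g pt H16.PHe.P 2058 7 H16.PHe.B 4030387200) : TrO (gen (wds g c0ath_W) c0atl1.K) (wds g c0ax_W) (wds g c0ax_W) 1 pt 2058 (c0atl1.Pt 0) (memO c0acc1) :=
  node M (c0at_S1 M) (c0ath_act M) (c0ax_act M) (c0ax_act M) c0atn9 ((c0ace_act M).mono (by decide)) (fun _ _ => trivial) c0atn9_0 c0atn9_1 (List.forall_mem_nil _)
theorem c0acc0_e : ∀ i < 41, (dent c0acc0 c0ace_P (nat_lit 2058)) i = 0 := allZ_sound0 c0acc0_e_0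
theorem c0acc0_ok : DOK c0acc0 c0ace_P 2058 := ⟨c0acc0_h, c0acc0_e⟩
theorem c0atn10_1 : ∀ i < 2058, (c0atn10.ent H16.PHe.P c0ath_P c0ax_P c0ax_P c0ace_P (nat_lit 7) (nat_lit 1) H16.PHe.B c0atl0 [c0atl1, c0atl2, c0atl3, c0atl4, c0atl5, c0atl6, c0atl7, c0atl8] (memO c0acc0)) i = 0 := allZ_sound0 c0atn10_1_0
theorem c0atn10_t {G Ω : Type*} [Group G] [MulAction G Ω] {g : ℕ → G} {pt : ℕ → Ω}
    (M : Md g pt H16.PHe.P 2058 7 H16.PHe.B 4030387200) : TrO (gen (wds g c0ath_W) c0atl0.K) (wds g c0ax_W) (wds g c0ax_W) 1 pt 2058 (c0atl0.Pt 0) (memO c0acc0) :=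
  node M (c0at_S0 M) (c0ath_act M) (c0ax_act M) (c0ax_act M) c0atn10 ((c0ace_act M).mono (by decide)) (fun _ _ => trivial) c0atn10_0 c0atn10_1 (List.forall_mem_nil _)
theorem c0ac {G Ω : Type*} [Group G] [MulAction G Ω] {g : ℕ → G} {pt : ℕ → Ω}
    (M : Md g pt H16.PHe.P 2058 7 H16.PHe.B 4030387200) : Cen ⊤ (wds g c0ax_W) 1 (wds g c0ace_W) pt 2058 [c0acc0, c0acc1, c0acc2, c0acc3, c0acc5, c0acc7, c0acc8] :=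
  (c0at_S0 M).top ▸ Cen.lev M (c0at_S0 M) (Cen.lev M (c0at_S1 M) (Cen.lev M (c0at_S2 M) (Cen.lev M (c0at_S3 M) (Cen.triv (c0at_S4 M) (Cen.lev M (c0at_S5 M) (Cen.triv (c0at_S6 M) (Cen.lev M (c0at_S7 M) (Cen.lev M (c0at_S8 M) (Cen.bot) (c0atn0_t M) (c0ax_act M) (c0ace_act M) (fun _ _ => trivial) c0acc8_ok c0ac_f8) (c0atn1_t M) (c0ax_act M) (c0ace_act M) (fun _ _ => trivial) c0acc7_ok c0ac_f7) (c0atn2_t M)) (c0atn6_t M) (c0ax_act M) (c0ace_act M) (fun _ _ => trivial) c0acc5_ok c0ac_f5) (forced (c0at_S4 M) (c0ath_act M) (c0ax_act M) _ _ c0ac_f4)) (c0atn7_t M) (c0ax_act M) (c0ace_act M) (fun _ _ => trivial) c0acc3_ok c0ac_f3) (c0atn8_t M) (c0ax_act M) (c0ace_act M) (fun _ _ => trivial) c0acc2_ok c0ac_f2) (c0atn9_t M) (c0ax_act M) (c0ace_act M) (fun _ _ => trivial) c0acc1_ok c0ac_f1) (c0atn10_t M) (c0ax_act M) (c0ace_act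 M) (fun _ _ => trivial) c0acc0_ok c0ac_f0
theorem c0ac_card {G Ω : Type*} [Group G] [MulAction G Ω] {g : ℕ → G} {pt : ℕ → Ω}
    (M : Md g pt H16.PHe.P 2058 7 H16.PHe.B 4030387200) : Nat.card (Subgroup.centralizer {(wds g c0ax_W) 0}) = 21504 :=
  (c0ac M).card_cent1 M.inj c0ac_c.1
theorem c0ac_eq {G Ω : Type*} [Group G] [MulAction G Ω] {g : ℕ → G} {pt : ℕ → Ω}
    (M : Md g pt H16.PHe.P 2058 7 H16.PHe.B 4030387200) : Subgroup.centralizer (gen (wds g c0ax_W) 1) = gen (wds g c0ace_W) 10 ∧ Nat.card (gen (wds g c0ace_W) 10) = 21504 :=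
  c0ac_c.1 ▸ c0ac_c.2 ▸ ⟨(c0ac M).cent, (c0ac M).card M.inj⟩
theorem c0w0_act {G Ω : Type*} [Group G] [MulAction G Ω] {g : ℕ → G} {pt : ℕ → Ω}
    (M : Md g pt H16.PHe.P 2058 7 H16.PHe.B 4030387200) : Act (wds g c0w0_W) pt c0w0_P 2058 2 :=
  M.wact c0w0_lt
theorem c0y0x_m : ∀ k < 1, ∀ i < 2058, (matEnt (wdsP H16.PHe.P c0y0x_W) c0y0x_P) k i = 0 := allZ2_sound c0y0x_m_a
theorem c0y0x_act {G Ω : Type*} [Group G] [MulAction G Ω] {g : ℕ → G} {pt : ℕ → Ω}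
    (M : Md g pt H16.PHe.P 2058 7 H16.PHe.B 4030387200) : Act (wds g c0y0x_W) pt c0y0x_P 2058 1 :=
  act_mat (M.wact c0y0x_lt) c0y0x_m
theorem c0y0th_m_0 : ∀ i < 2058, (matEnt (wdsP H16.PHe.P c0y0th_W) c0y0th_P (nat_lit 0)) i = 0 := range_glue (allZ_sound0 c0y0th_m_0_0) c0y0th_m_0_1
theorem c0y0th_m_1 : ∀ i < 2058, (matEnt (wdsP H16.PHe.P c0y0th_W) c0y0th_P (nat_lit 1)) i = 0 := allZ_sound0 c0y0th_m_1_0
theorem c0y0th_m_2 : ∀ i < 2058, (matEnt (wdsP H16.PHe.P c0y0th_W) c0y0th_P (nat_lit 2)) i = 0 := allZ_sound0 c0y0th_m_2_0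
theorem c0y0th_m_3 : ∀ i < 2058, (matEnt (wdsP H16.PHe.P c0y0th_W) c0y0th_P (nat_lit 3)) i = 0 := allZ_sound0 c0y0th_m_3_0
theorem c0y0th_m_4 : ∀ i < 2058, (matEnt (wdsP H16.PHe.P c0y0th_W) c0y0th_P (nat_lit 4)) i = 0 := allZ_sound0 c0y0th_m_4_0
theorem c0y0th_m_5 : ∀ i < 2058, (matEnt (wdsP H16.PHe.P c0y0th_W) c0y0th_P (nat_lit 5)) i = 0 := allZ_sound0 c0y0th_m_5_0
theorem c0y0th_m_6 : ∀ i < 2058, (matEnt (wdsP H16.PHe.P c0y0th_W) c0y0th_P (nat_lit 6)) i = 0 := allZ_sound0 c0y0th_m_6_0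
theorem c0y0th_m_7 : ∀ i < 2058, (matEnt (wdsP H16.PHe.P c0y0th_W) c0y0th_P (nat_lit 7)) i = 0 := allZ_sound0 c0y0th_m_7_0
theorem c0y0th_m_8 : ∀ i < 2058, (matEnt (wdsP H16.PHe.P c0y0th_W) c0y0th_P (nat_lit 8)) i = 0 := allZ_sound0 c0y0th_m_8_0
theorem c0y0th_m_9 : ∀ i < 2058, (matEnt (wdsP H16.PHe.P c0y0th_W) c0y0th_P (nat_lit 9)) i = 0 := allZ_sound0 c0y0th_m_9_0
theorem c0y0th_m_10 : ∀ i < 2058, (matEnt (wdsP H16.PHe.P c0y0th_W) c0y0th_P (nat_lit 10)) i = 0 := allZ_sound0 c0y0th_m_10_0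
theorem c0y0th_m_11 : ∀ i < 2058, (matEnt (wdsP H16.PHe.P c0y0th_W) c0y0th_P (nat_lit 11)) i = 0 := allZ_sound0 c0y0th_m_11_0
theorem c0y0th_m_12 : ∀ i < 2058, (matEnt (wdsP H16.PHe.P c0y0th_W) c0y0th_P (nat_lit 12)) i = 0 := allZ_sound0 c0y0th_m_12_0
theorem c0y0th_m_13 : ∀ i < 2058, (matEnt (wdsP H16.PHe.P c0y0th_W) c0y0th_P (nat_lit 13)) i = 0 := allZ_sound0 c0y0th_m_13_0
theorem c0y0th_m_14 : ∀ i < 2058, (matEnt (wdsP H16.PHe.P c0y0th_W) c0y0th_P (nat_lit 14)) i = 0 := allZ_sound0 c0y0th_m_14_0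
theorem c0y0th_m_15 : ∀ i < 2058, (matEnt (wdsP H16.PHe.P c0y0th_W) c0y0th_P (nat_lit 15)) i = 0 := allZ_sound0 c0y0th_m_15_0
theorem c0y0th_m : ∀ k < 16, ∀ i < 2058, (matEnt (wdsP H16.PHe.P c0y0th_W) c0y0th_P) k i = 0 :=
  letters_glue (letters_glue (letters_glue (letters_glue (letters_glue (letters_glue (letters_glue (letters_glue (letters_glue (letters_glue (letters_glue (letters_glue (letters_glue (letters_glue (letters_glue (letters_glue (letters_nil) c0y0th_m_0) c0y0th_m_1) c0y0th_m_2) c0y0th_m_3) c0y0th_m_4) c0y0th_m_5) c0y0th_m_6) c0y0th_m_7) c0y0th_m_8) c0y0th_m_9) c0y0th_m_10) c0y0th_m_11) c0y0th_m_12) c0y0th_m_13) c0y0th_m_14) c0y0th_m_15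
theorem c0y0th_act {G Ω : Type*} [Group G] [MulAction G Ω] {g : ℕ → G} {pt : ℕ → Ω}
    (M : Md g pt H16.PHe.P 2058 7 H16.PHe.B 4030387200) : Act (wds g c0y0th_W) pt c0y0th_P 2058 16 :=
  act_mat (M.wact c0y0th_lt) c0y0th_m
theorem c0y0tl0_e : ∀ i < 2057, (dent c0y0tl0 c0y0th_P (nat_lit 2058)) i = 0 := allZ_sound0 c0y0tl0_e_0
theorem c0y0tl0_ok : DOK c0y0tl0 c0y0th_P 2058 := ⟨c0y0tl0_h, c0y0tl0_e⟩
theorem c0y0tl1_e : ∀ i < 135, (dent c0y0tl1 c0y0th_P (nat_lit 2058)) i = 0 := allZ_sound0 c0y0tl1_e_0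
theorem c0y0tl1_ok : DOK c0y0tl1 c0y0th_P 2058 := ⟨c0y0tl1_h, c0y0tl1_e⟩
theorem c0y0tl2_e : ∀ i < 99, (dent c0y0tl2 c0y0th_P (nat_lit 2058)) i = 0 := allZ_sound0 c0y0tl2_e_0
theorem c0y0tl2_ok : DOK c0y0tl2 c0y0th_P 2058 := ⟨c0y0tl2_h, c0y0tl2_e⟩
theorem c0y0tl3_e : ∀ i < 5, (dent c0y0tl3 c0y0th_P (nat_lit 2058)) i = 0 := allZ_sound0 c0y0tl3_e_0
theorem c0y0tl3_ok : DOK c0y0tl3 c0y0th_P 2058 := ⟨c0y0tl3_h, c0y0tl3_e⟩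
theorem c0y0tl4_e : ∀ i < 5, (dent c0y0tl4 c0y0th_P (nat_lit 2058)) i = 0 := allZ_sound0 c0y0tl4_e_0
theorem c0y0tl4_ok : DOK c0y0tl4 c0y0th_P 2058 := ⟨c0y0tl4_h, c0y0tl4_e⟩
theorem c0y0tl5_e : ∀ i < 1, (dent c0y0tl5 c0y0th_P (nat_lit 2058)) i = 0 := allZ_sound0 c0y0tl5_e_0
theorem c0y0tl5_ok : DOK c0y0tl5 c0y0th_P 2058 := ⟨c0y0tl5_h, c0y0tl5_e⟩
theorem c0y0tl6_e : ∀ i < 1, (dent c0y0tl6 c0y0th_P (nat_lit 2058)) i = 0 := allZ_sound0 c0y0tl6_e_0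
theorem c0y0tl6_ok : DOK c0y0tl6 c0y0th_P 2058 := ⟨c0y0tl6_h, c0y0tl6_e⟩
theorem c0y0t_low {G Ω : Type*} [Group G] [MulAction G Ω] {g : ℕ → G} {pt : ℕ → Ω}
    (M : Md g pt H16.PHe.P 2058 7 H16.PHe.B 4030387200) : SLow (gi (wds g c0y0th_W)) pt 2058 [c0y0tl0, c0y0tl1, c0y0tl2, c0y0tl3, c0y0tl4, c0y0tl5, c0y0tl6] :=
  (((((((SLow.nil).cons c0y0tl6_ok (c0y0th_act M) c0y0t_f6).cons c0y0tl5_ok (c0y0th_act M) c0y0t_f5).cons c0y0tl4_ok (c0y0th_act M) c0y0t_f4).cons c0y0tl3_ok (c0y0th_act M) c0y0t_f3).cons c0y0tl2_ok (c0y0th_act M) c0y0t_f2).cons c0y0tl1_ok (c0y0th_act M) c0y0t_f1).cons c0y0tl0_ok (c0y0th_act M) c0y0t_f0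
theorem c0y0t_S0 {G Ω : Type*} [Group G] [MulAction G Ω] {g : ℕ → G} {pt : ℕ → Ω}
    (M : Md g pt H16.PHe.P 2058 7 H16.PHe.B 4030387200) : Stage ⊤ (wds g c0y0th_W) pt 2058 [c0y0tl0, c0y0tl1, c0y0tl2, c0y0tl3, c0y0tl4, c0y0tl5, c0y0tl6] [] :=
  M.stage (c0y0t_low M) c0y0t_c
theorem c0y0t_S1 {G Ω : Type*} [Group G] [MulAction G Ω] {g : ℕ → G} {pt : ℕ → Ω}
    (M : Md g pt H16.PHe.P 2058 7 H16.PHe.B 4030387200) : Stage ⊤ (wds g c0y0th_W) pt 2058 [c0y0tl1, c0y0tl2, c0y0tl3, c0y0tl4, c0y0tl5, c0y0tl6] [c0y0tl0.Pt 0] :=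
  (c0y0t_S0 M).next
theorem c0y0t_S2 {G Ω : Type*} [Group G] [MulAction G Ω] {g : ℕ → G} {pt : ℕ → Ω}
    (M : Md g pt H16.PHe.P 2058 7 H16.PHe.B 4030387200) : Stage ⊤ (wds g c0y0th_W) pt 2058 [c0y0tl2, c0y0tl3, c0y0tl4, c0y0tl5, c0y0tl6] [c0y0tl1.Pt 0, c0y0tl0.Pt 0] :=
  (c0y0t_S1 M).next
theorem c0y0t_S3 {G Ω : Type*} [Group G] [MulAction G Ω] {g : ℕ → G} {pt : ℕ → Ω}
    (M : Md g pt H16.PHe.P 2058 7 H16.PHe.B 4030387200) : Stage ⊤ (wds g c0y0th_W) pt 2058 [c0y0tl3, c0y0tl4, c0y0tl5, c0y0tl6] [c0y0tl2.Pt 0, c0y0tl1.Pt 0, c0y0tl0.Pt 0] :=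
  (c0y0t_S2 M).next
theorem c0y0t_S4 {G Ω : Type*} [Group G] [MulAction G Ω] {g : ℕ → G} {pt : ℕ → Ω}
    (M : Md g pt H16.PHe.P 2058 7 H16.PHe.B 4030387200) : Stage ⊤ (wds g c0y0th_W) pt 2058 [c0y0tl4, c0y0tl5, c0y0tl6] [c0y0tl3.Pt 0, c0y0tl2.Pt 0, c0y0tl1.Pt 0, c0y0tl0.Pt 0] :=
  (c0y0t_S3 M).next
theorem c0y0t_S5 {G Ω : Type*} [Group G] [MulAction G Ω] {g : ℕ → G} {pt : ℕ → Ω}
    (M : Md g pt H16.PHe.P 2058 7 H16.PHe.B 4030387200) : Stage ⊤ (wds g c0y0th_W) pt 2058 [c0y0tl5, c0y0tl6] [c0y0tl4.Pt 0, c0y0tl3.Pt 0, c0y0tl2.Pt 0, c0y0tl1.Pt 0, c0y0tl0.Pt 0] :=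
  (c0y0t_S4 M).next
theorem c0y0t_S6 {G Ω : Type*} [Group G] [MulAction G Ω] {g : ℕ → G} {pt : ℕ → Ω}
    (M : Md g pt H16.PHe.P 2058 7 H16.PHe.B 4030387200) : Stage ⊤ (wds g c0y0th_W) pt 2058 [c0y0tl6] [c0y0tl5.Pt 0, c0y0tl4.Pt 0, c0y0tl3.Pt 0, c0y0tl2.Pt 0, c0y0tl1.Pt 0, c0y0tl0.Pt 0] :=
  (c0y0t_S5 M).next
theorem c0y0t_S7 {G Ω : Type*} [Group G] [MulAction G Ω] {g : ℕ → G} {pt : ℕ → Ω}
    (M : Md g pt H16.PHe.P 2058 7 H16.PHe.B 4030387200) : Stage ⊤ (wds g c0y0th_W) pt 2058 [] [c0y0tl6.Pt 0, c0y0tl5.Pt 0, c0y0tl4.Pt 0, c0y0tl3.Pt 0, c0y0tl2.Pt 0, c0y0tl1.Pt 0, c0y0tl0.Pt 0] :=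
  (c0y0t_S6 M).next
theorem c0y0ce_m_0 : ∀ i < 2058, (matEnt (wdsP H16.PHe.P c0y0ce_W) c0y0ce_P (nat_lit 0)) i = 0 := allZ_sound0 c0y0ce_m_0_0
theorem c0y0ce_m_1 : ∀ i < 2058, (matEnt (wdsP H16.PHe.P c0y0ce_W) c0y0ce_P (nat_lit 1)) i = 0 := allZ_sound0 c0y0ce_m_1_0
theorem c0y0ce_m : ∀ k < 2, ∀ i < 2058, (matEnt (wdsP H16.PHe.P c0y0ce_W) c0y0ce_P) k i = 0 :=
  letters_glue (letters_glue (letters_nil) c0y0ce_m_0) c0y0ce_m_1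
theorem c0y0ce_act {G Ω : Type*} [Group G] [MulAction G Ω] {g : ℕ → G} {pt : ℕ → Ω}
    (M : Md g pt H16.PHe.P 2058 7 H16.PHe.B 4030387200) : Act (wds g c0y0ce_W) pt c0y0ce_P 2058 2 :=
  act_mat (M.wact c0y0ce_lt) c0y0ce_m
theorem c0y0cc6_e : ∀ i < 1, (dent c0y0cc6 c0y0ce_P (nat_lit 2058)) i = 0 := allZ_sound0 c0y0cc6_e_0
theorem c0y0cc6_ok : DOK c0y0cc6 c0y0ce_P 2058 := ⟨c0y0cc6_h, c0y0cc6_e⟩
theorem c0y0tn0_1 : ∀ i < 2, (c0y0tn0.ent H16.PHe.P c0y0th_P c0y0x_P c0y0x_P c0y0ce_P (nat_lit 7) (nat_lit 1) H16.PHe.B c0y0tl6 [] (memO c0y0cc6)) i = 0 := allZ_sound0 c0y0tn0_1_0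
theorem c0y0tn0_t {G Ω : Type*} [Group G] [MulAction G Ω] {g : ℕ → G} {pt : ℕ → Ω}
    (M : Md g pt H16.PHe.P 2058 7 H16.PHe.B 4030387200) : TrO (gen (wds g c0y0th_W) c0y0tl6.K) (wds g c0y0x_W) (wds g c0y0x_W) 1 pt 2058 (c0y0tl6.Pt 0) (memO c0y0cc6) :=
  node M (c0y0t_S6 M) (c0y0th_act M) (c0y0x_act M) (c0y0x_act M) c0y0tn0 ((c0y0ce_act M).mono (by decide)) (fun _ _ => trivial) c0y0tn0_0 c0y0tn0_1 (List.forall_mem_nil _)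
theorem c0y0cc0_e : ∀ i < 6, (dent c0y0cc0 c0y0ce_P (nat_lit 2058)) i = 0 := allZ_sound0 c0y0cc0_e_0
theorem c0y0cc0_ok : DOK c0y0cc0 c0y0ce_P 2058 := ⟨c0y0cc0_h, c0y0cc0_e⟩
theorem c0y0tn1_1 : ∀ i < 2058, (c0y0tn1.ent H16.PHe.P c0y0th_P c0y0x_P c0y0x_P c0y0ce_P (nat_lit 7) (nat_lit 1) H16.PHe.B c0y0tl0 [c0y0tl1, c0y0tl2, c0y0tl3, c0y0tl4, c0y0tl5, c0y0tl6] (memO c0y0cc0)) i = 0 := allZ_sound0 c0y0tn1_1_0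
theorem c0y0tn1_t {G Ω : Type*} [Group G] [MulAction G Ω] {g : ℕ → G} {pt : ℕ → Ω}
    (M : Md g pt H16.PHe.P 2058 7 H16.PHe.B 4030387200) : TrO (gen (wds g c0y0th_W) c0y0tl0.K) (wds g c0y0x_W) (wds g c0y0x_W) 1 pt 2058 (c0y0tl0.Pt 0) (memO c0y0cc0) :=
  node M (c0y0t_S0 M) (c0y0th_act M) (c0y0x_act M) (c0y0x_act M) c0y0tn1 ((c0y0ce_act M).mono (by decide)) (fun _ _ => trivial) c0y0tn1_0 c0y0tn1_1 (List.forall_mem_nil _)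
theorem c0y0c {G Ω : Type*} [Group G] [MulAction G Ω] {g : ℕ → G} {pt : ℕ → Ω}
    (M : Md g pt H16.PHe.P 2058 7 H16.PHe.B 4030387200) : Cen ⊤ (wds g c0y0x_W) 1 (wds g c0y0ce_W) pt 2058 [c0y0cc0, c0y0cc6] :=
  (c0y0t_S0 M).top ▸ Cen.lev M (c0y0t_S0 M) (Cen.triv (c0y0t_S1 M) (Cen.triv (c0y0t_S2 M) (Cen.triv (c0y0t_S3 M) (Cen.triv (c0y0t_S4 M) (Cen.triv (c0y0t_S5 M) (Cen.lev M (c0y0t_S6 M) (Cen.bot) (c0y0tn0_t M) (c0y0x_act M) (c0y0ce_act M) (fun _ _ => trivial) c0y0cc6_ok c0y0c_f6) (forced (c0y0t_S5 M) (c0y0th_act M) (c0y0x_act M) _ _ c0y0c_f5)) (forced (c0y0t_S4 M) (c0y0th_act M) (c0y0x_act M) _ _ c0y0c_f4)) (forced (c0y0t_S3 M) (c0y0th_act M) (c0y0x_act M) _ _ c0y0c_f3)) (forced (c0y0t_S2 M) (c0y0th_act M) (c0y0x_act M) _ _ c0y0c_f2)) (forced (c0y0t_S1 M) (c0y0th_act M) (c0y0x_act M) _ _ c0y0c_f1)) (c0y0tn1_t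 M) (c0y0x_act M) (c0y0ce_act M) (fun _ _ => trivial) c0y0cc0_ok c0y0c_f0
theorem c0y0c_card {G Ω : Type*} [Group G] [MulAction G Ω] {g : ℕ → G} {pt : ℕ → Ω}
    (M : Md g pt H16.PHe.P 2058 7 H16.PHe.B 4030387200) : Nat.card (Subgroup.centralizer {(wds g c0y0x_W) 0}) = 14 :=
  (c0y0c M).card_cent1 M.inj c0y0c_c.1
theorem c0y0c_eq {G Ω : Type*} [Group G] [MulAction G Ω] {g : ℕ → G} {pt : ℕ → Ω}
    (M : Md g pt H16.PHe.P 2058 7 H16.PHe.B 4030387200) : Subgroup.centralizer (gen (wds g c0y0x_W) 1) = gen (wds g c0y0ce_W) 2 ∧ Nat.card (gen (wds g c0y0ce_W) 2) = 14 :=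
  c0y0c_c.1 ▸ c0y0c_c.2 ▸ ⟨(c0y0c M).cent, (c0y0c M).card M.inj⟩
theorem c0w0p {G Ω : Type*} [Group G] [MulAction G Ω] {g : ℕ → G} {pt : ℕ → Ω}
    (M : Md g pt H16.PHe.P 2058 7 H16.PHe.B 4030387200) : (wds g c0w0_W) 0 ^ 2 = 1 :=
  M.pw (c0w0_act M) c0w0p_k
theorem c0w0n {G Ω : Type*} [Group G] [MulAction G Ω] {g : ℕ → G} {pt : ℕ → Ω}
    (M : Md g pt H16.PHe.P 2058 7 H16.PHe.B 4030387200) : (wds g c0w0_W) 1 ^ 2 ≠ 1 :=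
  M.npw (c0w0_act M) _ c0w0n_k
theorem c0W0 {G Ω : Type*} [Group G] [MulAction G Ω] {g : ℕ → G} {pt : ℕ → Ω}
    (M : Md g pt H16.PHe.P 2058 7 H16.PHe.B 4030387200) : Wit (H27.IC.Ce ((wds g covr_W) 0)) 7 14 :=
  have := M.fin
  wit_w (x := (wds g c0w0_W)) (k := 3) (by norm_num) (M.eq_of (c0w0_act M) c0w0_k) (c0w0p M) (c0w0n M) (c0ac_card M) (by decide +kernel) (c0y0c_card M)
theorem c0 {G Ω : Type*} [Group G] [MulAction G Ω] {g : ℕ → G} {pt : ℕ → Ω}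
    (M : Md g pt H16.PHe.P 2058 7 H16.PHe.B 4030387200) : OK (H27.IC.Ce ((wds g covr_W) 0)) :=
  have := M.fin
  ok_num (n := 21504) (ws := []) 10 (c0ac_card M) (c0W0 M) (List.forall_mem_nil _) (by decide +kernel)
theorem c1ax_m : ∀ k < 1, ∀ i < 2058, (matEnt (wdsP H16.PHe.P c1ax_W) c1ax_P) k i = 0 := allZ2_sound c1ax_m_a
theorem c1ax_act {G Ω : Type*} [Group G] [MulAction G Ω] {g : ℕ → G} {pt : ℕ → Ω}
    (M : Md g pt H16.PHe.P 2058 7 H16.PHe.B 4030387200) : Act (wds g c1ax_W) pt c1ax_P 2058 1 :=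
  act_mat (M.wact c1ax_lt) c1ax_m
theorem c1ath_m_0 : ∀ i < 2058, (matEnt (wdsP H16.PHe.P c1ath_W) c1ath_P (nat_lit 0)) i = 0 := allZ_sound0 c1ath_m_0_0
theorem c1ath_m_1 : ∀ i < 2058, (matEnt (wdsP H16.PHe.P c1ath_W) c1ath_P (nat_lit 1)) i = 0 := allZ_sound0 c1ath_m_1_0
theorem c1ath_m_2 : ∀ i < 2058, (matEnt (wdsP H16.PHe.P c1ath_W) c1ath_P (nat_lit 2)) i = 0 := allZ_sound0 c1ath_m_2_0
theorem c1ath_m_3 : ∀ i < 2058, (matEnt (wdsP H16.PHe.P c1ath_W) c1ath_P (nat_lit 3)) i = 0 := allZ_sound0 c1ath_m_3_0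
theorem c1ath_m_4 : ∀ i < 2058, (matEnt (wdsP H16.PHe.P c1ath_W) c1ath_P (nat_lit 4)) i = 0 := allZ_sound0 c1ath_m_4_0
theorem c1ath_m_5 : ∀ i < 2058, (matEnt (wdsP H16.PHe.P c1ath_W) c1ath_P (nat_lit 5)) i = 0 := allZ_sound0 c1ath_m_5_0
theorem c1ath_m_6 : ∀ i < 2058, (matEnt (wdsP H16.PHe.P c1ath_W) c1ath_P (nat_lit 6)) i = 0 := allZ_sound0 c1ath_m_6_0
theorem c1ath_m_7 : ∀ i < 2058, (matEnt (wdsP H16.PHe.P c1ath_W) c1ath_P (nat_lit 7)) i = 0 := allZ_sound0 c1ath_m_7_0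
theorem c1ath_m_8 : ∀ i < 2058, (matEnt (wdsP H16.PHe.P c1ath_W) c1ath_P (nat_lit 8)) i = 0 := allZ_sound0 c1ath_m_8_0
theorem c1ath_m_9 : ∀ i < 2058, (matEnt (wdsP H16.PHe.P c1ath_W) c1ath_P (nat_lit 9)) i = 0 := allZ_sound0 c1ath_m_9_0
theorem c1ath_m_10 : ∀ i < 2058, (matEnt (wdsP H16.PHe.P c1ath_W) c1ath_P (nat_lit 10)) i = 0 := allZ_sound0 c1ath_m_10_0
theorem c1ath_m_11 : ∀ i < 2058, (matEnt (wdsP H16.PHe.P c1ath_W) c1ath_P (nat_lit 11)) i = 0 := allZ_sound0 c1ath_m_11_0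
theorem c1ath_m_12 : ∀ i < 2058, (matEnt (wdsP H16.PHe.P c1ath_W) c1ath_P (nat_lit 12)) i = 0 := allZ_sound0 c1ath_m_12_0
theorem c1ath_m_13 : ∀ i < 2058, (matEnt (wdsP H16.PHe.P c1ath_W) c1ath_P (nat_lit 13)) i = 0 := allZ_sound0 c1ath_m_13_0
theorem c1ath_m_14 : ∀ i < 2058, (matEnt (wdsP H16.PHe.P c1ath_W) c1ath_P (nat_lit 14)) i = 0 := allZ_sound0 c1ath_m_14_0
theorem c1ath_m : ∀ k < 15, ∀ i < 2058, (matEnt (wdsP H16.PHe.P c1ath_W) c1ath_P) k i = 0 :=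
  letters_glue (letters_glue (letters_glue (letters_glue (letters_glue (letters_glue (letters_glue (letters_glue (letters_glue (letters_glue (letters_glue (letters_glue (letters_glue (letters_glue (letters_glue (letters_nil) c1ath_m_0) c1ath_m_1) c1ath_m_2) c1ath_m_3) c1ath_m_4) c1ath_m_5) c1ath_m_6) c1ath_m_7) c1ath_m_8) c1ath_m_9) c1ath_m_10) c1ath_m_11) c1ath_m_12) c1ath_m_13) c1ath_m_14
theorem c1ath_act {G Ω : Type*} [Group G] [MulAction G Ω] {g : ℕ → G} {pt : ℕ → Ω}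
    (M : Md g pt H16.PHe.P 2058 7 H16.PHe.B 4030387200) : Act (wds g c1ath_W) pt c1ath_P 2058 15 :=
  act_mat (M.wact c1ath_lt) c1ath_m
theorem c1atl0_e : ∀ i < 2057, (dent c1atl0 c1ath_P (nat_lit 2058)) i = 0 := allZ_sound0 c1atl0_e_0
theorem c1atl0_ok : DOK c1atl0 c1ath_P 2058 := ⟨c1atl0_h, c1atl0_e⟩
theorem c1atl1_e : ∀ i < 135, (dent c1atl1 c1ath_P (nat_lit 2058)) i = 0 := allZ_sound0 c1atl1_e_0
theorem c1atl1_ok : DOK c1atl1 c1ath_P 2058 := ⟨c1atl1_h, c1atl1_e⟩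
theorem c1atl2_e : ∀ i < 35, (dent c1atl2 c1ath_P (nat_lit 2058)) i = 0 := allZ_sound0 c1atl2_e_0
theorem c1atl2_ok : DOK c1atl2 c1ath_P 2058 := ⟨c1atl2_h, c1atl2_e⟩
theorem c1atl3_e : ∀ i < 9, (dent c1atl3 c1ath_P (nat_lit 2058)) i = 0 := allZ_sound0 c1atl3_e_0
theorem c1atl3_ok : DOK c1atl3 c1ath_P 2058 := ⟨c1atl3_h, c1atl3_e⟩
theorem c1atl4_e : ∀ i < 3, (dent c1atl4 c1ath_P (nat_lit 2058)) i = 0 := allZ_sound0 c1atl4_e_0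
theorem c1atl4_ok : DOK c1atl4 c1ath_P 2058 := ⟨c1atl4_h, c1atl4_e⟩
theorem c1atl5_e : ∀ i < 4, (dent c1atl5 c1ath_P (nat_lit 2058)) i = 0 := allZ_sound0 c1atl5_e_0
theorem c1atl5_ok : DOK c1atl5 c1ath_P 2058 := ⟨c1atl5_h, c1atl5_e⟩
theorem c1atl6_e : ∀ i < 1, (dent c1atl6 c1ath_P (nat_lit 2058)) i = 0 := allZ_sound0 c1atl6_e_0
theorem c1atl6_ok : DOK c1atl6 c1ath_P 2058 := ⟨c1atl6_h, c1atl6_e⟩
theorem c1at_low {G Ω : Type*} [Group G] [MulAction G Ω] {g : ℕ → G} {pt : ℕ → Ω}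
    (M : Md g pt H16.PHe.P 2058 7 H16.PHe.B 4030387200) : SLow (gi (wds g c1ath_W)) pt 2058 [c1atl0, c1atl1, c1atl2, c1atl3, c1atl4, c1atl5, c1atl6] :=
  (((((((SLow.nil).cons c1atl6_ok (c1ath_act M) c1at_f6).cons c1atl5_ok (c1ath_act M) c1at_f5).cons c1atl4_ok (c1ath_act M) c1at_f4).cons c1atl3_ok (c1ath_act M) c1at_f3).cons c1atl2_ok (c1ath_act M) c1at_f2).cons c1atl1_ok (c1ath_act M) c1at_f1).cons c1atl0_ok (c1ath_act M) c1at_f0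
theorem c1at_S0 {G Ω : Type*} [Group G] [MulAction G Ω] {g : ℕ → G} {pt : ℕ → Ω}
    (M : Md g pt H16.PHe.P 2058 7 H16.PHe.B 4030387200) : Stage ⊤ (wds g c1ath_W) pt 2058 [c1atl0, c1atl1, c1atl2, c1atl3, c1atl4, c1atl5, c1atl6] [] :=
  M.stage (c1at_low M) c1at_c
theorem c1at_S1 {G Ω : Type*} [Group G] [MulAction G Ω] {g : ℕ → G} {pt : ℕ → Ω}
    (M : Md g pt H16.PHe.P 2058 7 H16.PHe.B 4030387200) : Stage ⊤ (wds g c1ath_W) pt 2058 [c1atl1, c1atl2, c1atl3, c1atl4, c1atl5, c1atl6] [c1atl0.Pt 0] :=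
  (c1at_S0 M).next
theorem c1at_S2 {G Ω : Type*} [Group G] [MulAction G Ω] {g : ℕ → G} {pt : ℕ → Ω}
    (M : Md g pt H16.PHe.P 2058 7 H16.PHe.B 4030387200) : Stage ⊤ (wds g c1ath_W) pt 2058 [c1atl2, c1atl3, c1atl4, c1atl5, c1atl6] [c1atl1.Pt 0, c1atl0.Pt 0] :=
  (c1at_S1 M).next
theorem c1at_S3 {G Ω : Type*} [Group G] [MulAction G Ω] {g : ℕ → G} {pt : ℕ → Ω}
    (M : Md g pt H16.PHe.P 2058 7 H16.PHe.B 4030387200) : Stage ⊤ (wds g c1ath_W) pt 2058 [c1atl3, c1atl4, c1atl5, c1atl6] [c1atl2.Pt 0, c1atl1.Pt 0, c1atl0.Pt 0] :=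
  (c1at_S2 M).next
theorem c1at_S4 {G Ω : Type*} [Group G] [MulAction G Ω] {g : ℕ → G} {pt : ℕ → Ω}
    (M : Md g pt H16.PHe.P 2058 7 H16.PHe.B 4030387200) : Stage ⊤ (wds g c1ath_W) pt 2058 [c1atl4, c1atl5, c1atl6] [c1atl3.Pt 0, c1atl2.Pt 0, c1atl1.Pt 0, c1atl0.Pt 0] :=
  (c1at_S3 M).next
theorem c1at_S5 {G Ω : Type*} [Group G] [MulAction G Ω] {g : ℕ → G} {pt : ℕ → Ω}
    (M : Md g pt H16.PHe.P 2058 7 H16.PHe.B 4030387200) : Stage ⊤ (wds g c1ath_W) pt 2058 [c1atl5, c1atl6] [c1atl4.Pt 0, c1atl3.Pt 0, c1atl2.Pt 0, c1atl1.Pt 0, c1atl0.Pt 0] :=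
  (c1at_S4 M).next
theorem c1at_S6 {G Ω : Type*} [Group G] [MulAction G Ω] {g : ℕ → G} {pt : ℕ → Ω}
    (M : Md g pt H16.PHe.P 2058 7 H16.PHe.B 4030387200) : Stage ⊤ (wds g c1ath_W) pt 2058 [c1atl6] [c1atl5.Pt 0, c1atl4.Pt 0, c1atl3.Pt 0, c1atl2.Pt 0, c1atl1.Pt 0, c1atl0.Pt 0] :=
  (c1at_S5 M).next
theorem c1at_S7 {G Ω : Type*} [Group G] [MulAction G Ω] {g : ℕ → G} {pt : ℕ → Ω}
    (M : Md g pt H16.PHe.P 2058 7 H16.PHe.B 4030387200) : Stage ⊤ (wds g c1ath_W) pt 2058 [] [c1atl6.Pt 0, c1atl5.Pt 0, c1atl4.Pt 0, c1atl3.Pt 0, c1atl2.Pt 0, c1atl1.Pt 0, c1atl0.Pt 0] :=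
  (c1at_S6 M).next
theorem c1ace_m_0 : ∀ i < 2058, (matEnt (wdsP H16.PHe.P c1ace_W) c1ace_P (nat_lit 0)) i = 0 := allZ_sound0 c1ace_m_0_0
theorem c1ace_m_1 : ∀ i < 2058, (matEnt (wdsP H16.PHe.P c1ace_W) c1ace_P (nat_lit 1)) i = 0 := allZ_sound0 c1ace_m_1_0
theorem c1ace_m_2 : ∀ i < 2058, (matEnt (wdsP H16.PHe.P c1ace_W) c1ace_P (nat_lit 2)) i = 0 := allZ_sound0 c1ace_m_2_0
theorem c1ace_m_3 : ∀ i < 2058, (matEnt (wdsP H16.PHe.P c1ace_W) c1ace_P (nat_lit 3)) i = 0 := allZ_sound0 c1ace_m_3_0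
theorem c1ace_m_4 : ∀ i < 2058, (matEnt (wdsP H16.PHe.P c1ace_W) c1ace_P (nat_lit 4)) i = 0 := allZ_sound0 c1ace_m_4_0
theorem c1ace_m_5 : ∀ i < 2058, (matEnt (wdsP H16.PHe.P c1ace_W) c1ace_P (nat_lit 5)) i = 0 := allZ_sound0 c1ace_m_5_0
theorem c1ace_m_6 : ∀ i < 2058, (matEnt (wdsP H16.PHe.P c1ace_W) c1ace_P (nat_lit 6)) i = 0 := allZ_sound0 c1ace_m_6_0
theorem c1ace_m : ∀ k < 7, ∀ i < 2058, (matEnt (wdsP H16.PHe.P c1ace_W) c1ace_P) k i = 0 :=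
  letters_glue (letters_glue (letters_glue (letters_glue (letters_glue (letters_glue (letters_glue (letters_nil) c1ace_m_0) c1ace_m_1) c1ace_m_2) c1ace_m_3) c1ace_m_4) c1ace_m_5) c1ace_m_6
theorem c1ace_act {G Ω : Type*} [Group G] [MulAction G Ω] {g : ℕ → G} {pt : ℕ → Ω}
    (M : Md g pt H16.PHe.P 2058 7 H16.PHe.B 4030387200) : Act (wds g c1ace_W) pt c1ace_P 2058 7 :=
  act_mat (M.wact c1ace_lt) c1ace_m
theorem c1acc6_e : ∀ i < 1, (dent c1acc6 c1ace_P (nat_lit 2058)) i = 0 := allZ_sound0 c1acc6_e_0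
theorem c1acc6_ok : DOK c1acc6 c1ace_P 2058 := ⟨c1acc6_h, c1acc6_e⟩
theorem c1atn0_1 : ∀ i < 2, (c1atn0.ent H16.PHe.P c1ath_P c1ax_P c1ax_P c1ace_P (nat_lit 7) (nat_lit 1) H16.PHe.B c1atl6 [] (memO c1acc6)) i = 0 := allZ_sound0 c1atn0_1_0
theorem c1atn0_t {G Ω : Type*} [Group G] [MulAction G Ω] {g : ℕ → G} {pt : ℕ → Ω}
    (M : Md g pt H16.PHe.P 2058 7 H16.PHe.B 4030387200) : TrO (gen (wds g c1ath_W) c1atl6.K) (wds g c1ax_W) (wds g c1ax_W) 1 pt 2058 (c1atl6.Pt 0) (memO c1acc6) :=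
  node M (c1at_S6 M) (c1ath_act M) (c1ax_act M) (c1ax_act M) c1atn0 ((c1ace_act M).mono (by decide)) (fun _ _ => trivial) c1atn0_0 c1atn0_1 (List.forall_mem_nil _)
theorem c1acc5_e : ∀ i < 4, (dent c1acc5 c1ace_P (nat_lit 2058)) i = 0 := allZ_sound0 c1acc5_e_0
theorem c1acc5_ok : DOK c1acc5 c1ace_P 2058 := ⟨c1acc5_h, c1acc5_e⟩
theorem c1atn1_1 : ∀ i < 5, (c1atn1.ent H16.PHe.P c1ath_P c1ax_P c1ax_P c1ace_P (nat_lit 7) (nat_lit 1) H16.PHe.B c1atl5 [c1atl6] (memO c1acc5)) i = 0 := allZ_sound0 c1atn1_1_0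
theorem c1atn1_t {G Ω : Type*} [Group G] [MulAction G Ω] {g : ℕ → G} {pt : ℕ → Ω}
    (M : Md g pt H16.PHe.P 2058 7 H16.PHe.B 4030387200) : TrO (gen (wds g c1ath_W) c1atl5.K) (wds g c1ax_W) (wds g c1ax_W) 1 pt 2058 (c1atl5.Pt 0) (memO c1acc5) :=
  node M (c1at_S5 M) (c1ath_act M) (c1ax_act M) (c1ax_act M) c1atn1 ((c1ace_act M).mono (by decide)) (fun _ _ => trivial) c1atn1_0 c1atn1_1 (List.forall_mem_nil _)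
theorem c1acc4_e : ∀ i < 1, (dent c1acc4 c1ace_P (nat_lit 2058)) i = 0 := allZ_sound0 c1acc4_e_0
theorem c1acc4_ok : DOK c1acc4 c1ace_P 2058 := ⟨c1acc4_h, c1acc4_e⟩
theorem c1atn2_1 : ∀ i < 4, (c1atn2.ent H16.PHe.P c1ath_P c1ax_P c1ax_P c1ace_P (nat_lit 7) (nat_lit 1) H16.PHe.B c1atl4 [c1atl5, c1atl6] (memO c1acc4)) i = 0 := allZ_sound0 c1atn2_1_0
theorem c1atn2_t {G Ω : Type*} [Group G] [MulAction G Ω] {g : ℕ → G} {pt : ℕ → Ω}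
    (M : Md g pt H16.PHe.P 2058 7 H16.PHe.B 4030387200) : TrO (gen (wds g c1ath_W) c1atl4.K) (wds g c1ax_W) (wds g c1ax_W) 1 pt 2058 (c1atl4.Pt 0) (memO c1acc4) :=
  node M (c1at_S4 M) (c1ath_act M) (c1ax_act M) (c1ax_act M) c1atn2 ((c1ace_act M).mono (by decide)) (fun _ _ => trivial) c1atn2_0 c1atn2_1 (List.forall_mem_nil _)
theorem c1acc2_e : ∀ i < 23, (dent c1acc2 c1ace_P (nat_lit 2058)) i = 0 := allZ_sound0 c1acc2_e_0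
theorem c1acc2_ok : DOK c1acc2 c1ace_P 2058 := ⟨c1acc2_h, c1acc2_e⟩
theorem c1atn3_1 : ∀ i < 36, (c1atn3.ent H16.PHe.P c1ath_P c1ax_P c1ax_P c1ace_P (nat_lit 7) (nat_lit 1) H16.PHe.B c1atl2 [c1atl3, c1atl4, c1atl5, c1atl6] (memO c1acc2)) i = 0 := allZ_sound0 c1atn3_1_0
theorem c1atn3_t {G Ω : Type*} [Group G] [MulAction G Ω] {g : ℕ → G} {pt : ℕ → Ω}
    (M : Md g pt H16.PHe.P 2058 7 H16.PHe.B 4030387200) : TrO (gen (wds g c1ath_W) c1atl2.K) (wds g c1ax_W) (wds g c1ax_W) 1 pt 2058 (c1atl2.Pt 0) (memO c1acc2) :=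
  node M (c1at_S2 M) (c1ath_act M) (c1ax_act M) (c1ax_act M) c1atn3 ((c1ace_act M).mono (by decide)) (fun _ _ => trivial) c1atn3_0 c1atn3_1 (List.forall_mem_nil _)
theorem c1acc1_e : ∀ i < 15, (dent c1acc1 c1ace_P (nat_lit 2058)) i = 0 := allZ_sound0 c1acc1_e_0
theorem c1acc1_ok : DOK c1acc1 c1ace_P 2058 := ⟨c1acc1_h, c1acc1_e⟩
theorem c1atn4_1 : ∀ i < 136, (c1atn4.ent H16.PHe.P c1ath_P c1ax_P c1ax_P c1ace_P (nat_lit 7) (nat_lit 1) H16.PHe.B c1atl1 [c1atl2, c1atl3, c1atl4, c1atl5, c1atl6] (memO c1acc1)) i = 0 := allZ_sound0 c1atn4_1_0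
theorem c1atn4_t {G Ω : Type*} [Group G] [MulAction G Ω] {g : ℕ → G} {pt : ℕ → Ω}
    (M : Md g pt H16.PHe.P 2058 7 H16.PHe.B 4030387200) : TrO (gen (wds g c1ath_W) c1atl1.K) (wds g c1ax_W) (wds g c1ax_W) 1 pt 2058 (c1atl1.Pt 0) (memO c1acc1) :=
  node M (c1at_S1 M) (c1ath_act M) (c1ax_act M) (c1ax_act M) c1atn4 ((c1ace_act M).mono (by decide)) (fun _ _ => trivial) c1atn4_0 c1atn4_1 (List.forall_mem_nil _)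
theorem c1acc0_e : ∀ i < 20, (dent c1acc0 c1ace_P (nat_lit 2058)) i = 0 := allZ_sound0 c1acc0_e_0
theorem c1acc0_ok : DOK c1acc0 c1ace_P 2058 := ⟨c1acc0_h, c1acc0_e⟩
theorem c1atn5y671_act {G Ω : Type*} [Group G] [MulAction G Ω] {g : ℕ → G} {pt : ℕ → Ω}
    (M : Md g pt H16.PHe.P 2058 7 H16.PHe.B 4030387200) : Act (wds g c1atn5y671_W) pt c1atn5y671_P 2058 1 :=
  M.wact c1atn5y671_lt
theorem c1atr6k_act {G Ω : Type*} [Group G] [MulAction G Ω] {g : ℕ → G} {pt : ℕ → Ω}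
    (M : Md g pt H16.PHe.P 2058 7 H16.PHe.B 4030387200) : Act (wds g c1atr6k_W) pt c1atr6k_P 2058 3 :=
  M.wact c1atr6k_lt
theorem c1atn6y552_act {G Ω : Type*} [Group G] [MulAction G Ω] {g : ℕ → G} {pt : ℕ → Ω}
    (M : Md g pt H16.PHe.P 2058 7 H16.PHe.B 4030387200) : Act (wds g c1atn6y552_W) pt c1atn6y552_P 2058 1 :=
  M.wact c1atn6y552_lt
theorem c1atr7k_act {G Ω : Type*} [Group G] [MulAction G Ω] {g : ℕ → G} {pt : ℕ → Ω}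
    (M : Md g pt H16.PHe.P 2058 7 H16.PHe.B 4030387200) : Act (wds g c1atr7k_W) pt c1atr7k_P 2058 3 :=
  M.wact c1atr7k_lt
theorem c1atn7_1 : ∀ i < 36, (c1atn7.ent H16.PHe.P c1ath_P c1ax_P c1atn6y552_P c1atr7k_P (nat_lit 7) (nat_lit 1) H16.PHe.B c1atl2 [c1atl3, c1atl4, c1atl5, c1atl6] (fun _ => nat_lit 1)) i = 0 := allZ_sound0 c1atn7_1_0
theorem c1atn7_t {G Ω : Type*} [Group G] [MulAction G Ω] {g : ℕ → G} {pt : ℕ → Ω}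
    (M : Md g pt H16.PHe.P 2058 7 H16.PHe.B 4030387200) : TrO (gen (wds g c1ath_W) c1atl2.K) (wds g c1ax_W) (wds g c1atn6y552_W) 1 pt 2058 (c1atl2.Pt 0) (fun _ => nat_lit 1) :=
  node M (c1at_S2 M) (c1ath_act M) (c1ax_act M) (c1atn6y552_act M) c1atn7 ((c1atr7k_act M).mono (by decide)) (fun _ _ => trivial) c1atn7_0 c1atn7_1 (List.forall_mem_nil _)
theorem c1atr7 {G Ω : Type*} [Group G] [MulAction G Ω] {g : ℕ → G} {pt : ℕ → Ω}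
    (M : Md g pt H16.PHe.P 2058 7 H16.PHe.B 4030387200) : Ref (gen (wds g c1ath_W) (topK [c1atl2, c1atl3, c1atl4, c1atl5, c1atl6])) (wds g c1ax_W) (wds g c1atn6y552_W) 1 :=
  (c1atn7_t M).ref
theorem c1atn6_1 : ∀ i < 136, (c1atn6.ent H16.PHe.P c1ath_P c1ax_P c1atn5y671_P c1atr6k_P (nat_lit 7) (nat_lit 1) H16.PHe.B c1atl1 [c1atl2, c1atl3, c1atl4, c1atl5, c1atl6] (fun _ => nat_lit 1)) i = 0 := allZ_sound0 c1atn6_1_0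
theorem c1atn6_t {G Ω : Type*} [Group G] [MulAction G Ω] {g : ℕ → G} {pt : ℕ → Ω}
    (M : Md g pt H16.PHe.P 2058 7 H16.PHe.B 4030387200) : TrO (gen (wds g c1ath_W) c1atl1.K) (wds g c1ax_W) (wds g c1atn5y671_W) 1 pt 2058 (c1atl1.Pt 0) (fun _ => nat_lit 1) :=
  node M (c1at_S1 M) (c1ath_act M) (c1ax_act M) (c1atn5y671_act M) c1atn6 ((c1atr6k_act M).mono (by decide)) (fun _ _ => trivial) c1atn6_0 c1atn6_1 (List.forall_mem_cons.2 ⟨c1atr7 M, List.forall_mem_nil _⟩)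
theorem c1atr6 {G Ω : Type*} [Group G] [MulAction G Ω] {g : ℕ → G} {pt : ℕ → Ω}
    (M : Md g pt H16.PHe.P 2058 7 H16.PHe.B 4030387200) : Ref (gen (wds g c1ath_W) (topK [c1atl1, c1atl2, c1atl3, c1atl4, c1atl5, c1atl6])) (wds g c1ax_W) (wds g c1atn5y671_W) 1 :=
  (c1atn6_t M).ref
theorem c1atn5y258_act {G Ω : Type*} [Group G] [MulAction G Ω] {g : ℕ → G} {pt : ℕ → Ω}
    (M : Md g pt H16.PHe.P 2058 7 H16.PHe.B 4030387200) : Act (wds g c1atn5y258_W) pt c1atn5y258_P 2058 1 :=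
  M.wact c1atn5y258_lt
theorem c1atr8k_act {G Ω : Type*} [Group G] [MulAction G Ω] {g : ℕ → G} {pt : ℕ → Ω}
    (M : Md g pt H16.PHe.P 2058 7 H16.PHe.B 4030387200) : Act (wds g c1atr8k_W) pt c1atr8k_P 2058 3 :=
  M.wact c1atr8k_lt
theorem c1atn8y882_act {G Ω : Type*} [Group G] [MulAction G Ω] {g : ℕ → G} {pt : ℕ → Ω}
    (M : Md g pt H16.PHe.P 2058 7 H16.PHe.B 4030387200) : Act (wds g c1atn8y882_W) pt c1atn8y882_P 2058 1 :=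
  M.wact c1atn8y882_lt
theorem c1atr9k_act {G Ω : Type*} [Group G] [MulAction G Ω] {g : ℕ → G} {pt : ℕ → Ω}
    (M : Md g pt H16.PHe.P 2058 7 H16.PHe.B 4030387200) : Act (wds g c1atr9k_W) pt c1atr9k_P 2058 4 :=
  M.wact c1atr9k_lt
theorem c1atn9_1 : ∀ i < 36, (c1atn9.ent H16.PHe.P c1ath_P c1ax_P c1atn8y882_P c1atr9k_P (nat_lit 7) (nat_lit 1) H16.PHe.B c1atl2 [c1atl3, c1atl4, c1atl5, c1atl6] (fun _ => nat_lit 1)) i = 0 := allZ_sound0 c1atn9_1_0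
theorem c1atn9_t {G Ω : Type*} [Group G] [MulAction G Ω] {g : ℕ → G} {pt : ℕ → Ω}
    (M : Md g pt H16.PHe.P 2058 7 H16.PHe.B 4030387200) : TrO (gen (wds g c1ath_W) c1atl2.K) (wds g c1ax_W) (wds g c1atn8y882_W) 1 pt 2058 (c1atl2.Pt 0) (fun _ => nat_lit 1) :=
  node M (c1at_S2 M) (c1ath_act M) (c1ax_act M) (c1atn8y882_act M) c1atn9 ((c1atr9k_act M).mono (by decide)) (fun _ _ => trivial) c1atn9_0 c1atn9_1 (List.forall_mem_nil _)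
theorem c1atr9 {G Ω : Type*} [Group G] [MulAction G Ω] {g : ℕ → G} {pt : ℕ → Ω}
    (M : Md g pt H16.PHe.P 2058 7 H16.PHe.B 4030387200) : Ref (gen (wds g c1ath_W) (topK [c1atl2, c1atl3, c1atl4, c1atl5, c1atl6])) (wds g c1ax_W) (wds g c1atn8y882_W) 1 :=
  (c1atn9_t M).ref
theorem c1atn8y991_act {G Ω : Type*} [Group G] [MulAction G Ω] {g : ℕ → G} {pt : ℕ → Ω}
    (M : Md g pt H16.PHe.P 2058 7 H16.PHe.B 4030387200) : Act (wds g c1atn8y991_W) pt c1atn8y991_P 2058 1 :=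
  M.wact c1atn8y991_lt
theorem c1atr10k_act {G Ω : Type*} [Group G] [MulAction G Ω] {g : ℕ → G} {pt : ℕ → Ω}
    (M : Md g pt H16.PHe.P 2058 7 H16.PHe.B 4030387200) : Act (wds g c1atr10k_W) pt c1atr10k_P 2058 3 :=
  M.wact c1atr10k_lt
theorem c1atn10_1 : ∀ i < 36, (c1atn10.ent H16.PHe.P c1ath_P c1ax_P c1atn8y991_P c1atr10k_P (nat_lit 7) (nat_lit 1) H16.PHe.B c1atl2 [c1atl3, c1atl4, c1atl5, c1atl6] (fun _ => nat_lit 1)) i = 0 := allZ_sound0 c1atn10_1_0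
theorem c1atn10_t {G Ω : Type*} [Group G] [MulAction G Ω] {g : ℕ → G} {pt : ℕ → Ω}
    (M : Md g pt H16.PHe.P 2058 7 H16.PHe.B 4030387200) : TrO (gen (wds g c1ath_W) c1atl2.K) (wds g c1ax_W) (wds g c1atn8y991_W) 1 pt 2058 (c1atl2.Pt 0) (fun _ => nat_lit 1) :=
  node M (c1at_S2 M) (c1ath_act M) (c1ax_act M) (c1atn8y991_act M) c1atn10 ((c1atr10k_act M).mono (by decide)) (fun _ _ => trivial) c1atn10_0 c1atn10_1 (List.forall_mem_nil _)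
theorem c1atr10 {G Ω : Type*} [Group G] [MulAction G Ω] {g : ℕ → G} {pt : ℕ → Ω}
    (M : Md g pt H16.PHe.P 2058 7 H16.PHe.B 4030387200) : Ref (gen (wds g c1ath_W) (topK [c1atl2, c1atl3, c1atl4, c1atl5, c1atl6])) (wds g c1ax_W) (wds g c1atn8y991_W) 1 :=
  (c1atn10_t M).ref
theorem c1atn8_1 : ∀ i < 136, (c1atn8.ent H16.PHe.P c1ath_P c1ax_P c1atn5y258_P c1atr8k_P (nat_lit 7) (nat_lit 1) H16.PHe.B c1atl1 [c1atl2, c1atl3, c1atl4, c1atl5, c1atl6] (fun _ => nat_lit 1)) i = 0 := allZ_sound0 c1atn8_1_0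
theorem c1atn8_t {G Ω : Type*} [Group G] [MulAction G Ω] {g : ℕ → G} {pt : ℕ → Ω}
    (M : Md g pt H16.PHe.P 2058 7 H16.PHe.B 4030387200) : TrO (gen (wds g c1ath_W) c1atl1.K) (wds g c1ax_W) (wds g c1atn5y258_W) 1 pt 2058 (c1atl1.Pt 0) (fun _ => nat_lit 1) :=
  node M (c1at_S1 M) (c1ath_act M) (c1ax_act M) (c1atn5y258_act M) c1atn8 ((c1atr8k_act M).mono (by decide)) (fun _ _ => trivial) c1atn8_0 c1atn8_1 (List.forall_mem_cons.2 ⟨c1atr9 M, List.forall_mem_cons.2 ⟨c1atr10 M, List.forall_mem_nil _⟩⟩)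
theorem c1atr8 {G Ω : Type*} [Group G] [MulAction G Ω] {g : ℕ → G} {pt : ℕ → Ω}
    (M : Md g pt H16.PHe.P 2058 7 H16.PHe.B 4030387200) : Ref (gen (wds g c1ath_W) (topK [c1atl1, c1atl2, c1atl3, c1atl4, c1atl5, c1atl6])) (wds g c1ax_W) (wds g c1atn5y258_W) 1 :=
  (c1atn8_t M).ref
theorem c1atn5_1 : ∀ i < 2058, (c1atn5.ent H16.PHe.P c1ath_P c1ax_P c1ax_P c1ace_P (nat_lit 7) (nat_lit 1) H16.PHe.B c1atl0 [c1atl1, c1atl2, c1atl3, c1atl4, c1atl5, c1atl6] (memO c1acc0)) i = 0 := allZ_sound0 c1atn5_1_0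
theorem c1atn5_t {G Ω : Type*} [Group G] [MulAction G Ω] {g : ℕ → G} {pt : ℕ → Ω}
    (M : Md g pt H16.PHe.P 2058 7 H16.PHe.B 4030387200) : TrO (gen (wds g c1ath_W) c1atl0.K) (wds g c1ax_W) (wds g c1ax_W) 1 pt 2058 (c1atl0.Pt 0) (memO c1acc0) :=
  node M (c1at_S0 M) (c1ath_act M) (c1ax_act M) (c1ax_act M) c1atn5 ((c1ace_act M).mono (by decide)) (fun _ _ => trivial) c1atn5_0 c1atn5_1 (List.forall_mem_cons.2 ⟨c1atr6 M, List.forall_mem_cons.2 ⟨c1atr8 M, List.forall_mem_nil _⟩⟩)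
theorem c1ac {G Ω : Type*} [Group G] [MulAction G Ω] {g : ℕ → G} {pt : ℕ → Ω}
    (M : Md g pt H16.PHe.P 2058 7 H16.PHe.B 4030387200) : Cen ⊤ (wds g c1ax_W) 1 (wds g c1ace_W) pt 2058 [c1acc0, c1acc1, c1acc2, c1acc4, c1acc5, c1acc6] :=
  (c1at_S0 M).top ▸ Cen.lev M (c1at_S0 M) (Cen.lev M (c1at_S1 M) (Cen.lev M (c1at_S2 M) (Cen.triv (c1at_S3 M) (Cen.lev M (c1at_S4 M) (Cen.lev M (c1at_S5 M) (Cen.lev M (c1at_S6 M) (Cen.bot) (c1atn0_t M) (c1ax_act M) (c1ace_act M) (fun _ _ => trivial) c1acc6_ok c1ac_f6) (c1atn1_t M) (c1ax_act M) (c1ace_act M) (fun _ _ => trivial) c1acc5_ok c1ac_f5) (c1atn2_t M) (c1ax_act M) (c1ace_act M) (fun _ _ => trivial) c1acc4_ok c1ac_f4) (forced (c1at_S3 M) (c1ath_act M) (c1ax_act M) _ _ c1ac_f3)) (c1atn3_t M) (c1ax_act M) (c1ace_act M) (fun _ _ => trivial) c1acc2_ok c1ac_f2) (c1atn4_t M)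 (c1ax_act M) (c1ace_act M) (fun _ _ => trivial) c1acc1_ok c1ac_f1) (c1atn5_t M) (c1ax_act M) (c1ace_act M) (fun _ _ => trivial) c1acc0_ok c1ac_f0
theorem c1ac_card {G Ω : Type*} [Group G] [MulAction G Ω] {g : ℕ → G} {pt : ℕ → Ω}
    (M : Md g pt H16.PHe.P 2058 7 H16.PHe.B 4030387200) : Nat.card (Subgroup.centralizer {(wds g c1ax_W) 0}) = 161280 :=
  (c1ac M).card_cent1 M.inj c1ac_c.1
theorem c1ac_eq {G Ω : Type*} [Group G] [MulAction G Ω] {g : ℕ → G} {pt : ℕ → Ω}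
    (M : Md g pt H16.PHe.P 2058 7 H16.PHe.B 4030387200) : Subgroup.centralizer (gen (wds g c1ax_W) 1) = gen (wds g c1ace_W) 7 ∧ Nat.card (gen (wds g c1ace_W) 7) = 161280 :=
  c1ac_c.1 ▸ c1ac_c.2 ▸ ⟨(c1ac M).cent, (c1ac M).card M.inj⟩
theorem c1w0_act {G Ω : Type*} [Group G] [MulAction G Ω] {g : ℕ → G} {pt : ℕ → Ω}
    (M : Md g pt H16.PHe.P 2058 7 H16.PHe.B 4030387200) : Act (wds g c1w0_W) pt c1w0_P 2058 2 :=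
  M.wact c1w0_lt
theorem c1y0x_m : ∀ k < 1, ∀ i < 2058, (matEnt (wdsP H16.PHe.P c1y0x_W) c1y0x_P) k i = 0 := allZ2_sound c1y0x_m_a
theorem c1y0x_act {G Ω : Type*} [Group G] [MulAction G Ω] {g : ℕ → G} {pt : ℕ → Ω}
    (M : Md g pt H16.PHe.P 2058 7 H16.PHe.B 4030387200) : Act (wds g c1y0x_W) pt c1y0x_P 2058 1 :=
  act_mat (M.wact c1y0x_lt) c1y0x_m
theorem c1y0th_m_0 : ∀ i < 2058, (matEnt (wdsP H16.PHe.P c1y0th_W) c1y0th_P (nat_lit 0)) i = 0 := allZ_sound0 c1y0th_m_0_0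
theorem c1y0th_m_1 : ∀ i < 2058, (matEnt (wdsP H16.PHe.P c1y0th_W) c1y0th_P (nat_lit 1)) i = 0 := range_glue (allZ_sound0 c1y0th_m_1_0) c1y0th_m_1_1
theorem c1y0th_m_2 : ∀ i < 2058, (matEnt (wdsP H16.PHe.P c1y0th_W) c1y0th_P (nat_lit 2)) i = 0 := allZ_sound0 c1y0th_m_2_0
theorem c1y0th_m_3 : ∀ i < 2058, (matEnt (wdsP H16.PHe.P c1y0th_W) c1y0th_P (nat_lit 3)) i = 0 := allZ_sound0 c1y0th_m_3_0
theorem c1y0th_m_4 : ∀ i < 2058, (matEnt (wdsP H16.PHe.P c1y0th_W) c1y0th_P (nat_lit 4)) i = 0 := allZ_sound0 c1y0th_m_4_0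
theorem c1y0th_m_5 : ∀ i < 2058, (matEnt (wdsP H16.PHe.P c1y0th_W) c1y0th_P (nat_lit 5)) i = 0 := allZ_sound0 c1y0th_m_5_0
theorem c1y0th_m_6 : ∀ i < 2058, (matEnt (wdsP H16.PHe.P c1y0th_W) c1y0th_P (nat_lit 6)) i = 0 := allZ_sound0 c1y0th_m_6_0
theorem c1y0th_m_7 : ∀ i < 2058, (matEnt (wdsP H16.PHe.P c1y0th_W) c1y0th_P (nat_lit 7)) i = 0 := allZ_sound0 c1y0th_m_7_0
theorem c1y0th_m_8 : ∀ i < 2058, (matEnt (wdsP H16.PHe.P c1y0th_W) c1y0th_P (nat_lit 8)) i = 0 := allZ_sound0 c1y0th_m_8_0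
theorem c1y0th_m_9 : ∀ i < 2058, (matEnt (wdsP H16.PHe.P c1y0th_W) c1y0th_P (nat_lit 9)) i = 0 := allZ_sound0 c1y0th_m_9_0
theorem c1y0th_m_10 : ∀ i < 2058, (matEnt (wdsP H16.PHe.P c1y0th_W) c1y0th_P (nat_lit 10)) i = 0 := allZ_sound0 c1y0th_m_10_0
theorem c1y0th_m_11 : ∀ i < 2058, (matEnt (wdsP H16.PHe.P c1y0th_W) c1y0th_P (nat_lit 11)) i = 0 := allZ_sound0 c1y0th_m_11_0
theorem c1y0th_m_12 : ∀ i < 2058, (matEnt (wdsP H16.PHe.P c1y0th_W) c1y0th_P (nat_lit 12)) i = 0 := allZ_sound0 c1y0th_m_12_0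
theorem c1y0th_m_13 : ∀ i < 2058, (matEnt (wdsP H16.PHe.P c1y0th_W) c1y0th_P (nat_lit 13)) i = 0 := allZ_sound0 c1y0th_m_13_0
theorem c1y0th_m_14 : ∀ i < 2058, (matEnt (wdsP H16.PHe.P c1y0th_W) c1y0th_P (nat_lit 14)) i = 0 := allZ_sound0 c1y0th_m_14_0
theorem c1y0th_m_15 : ∀ i < 2058, (matEnt (wdsP H16.PHe.P c1y0th_W) c1y0th_P (nat_lit 15)) i = 0 := allZ_sound0 c1y0th_m_15_0
theorem c1y0th_m : ∀ k < 16, ∀ i < 2058, (matEnt (wdsP H16.PHe.P c1y0th_W) c1y0th_P) k i = 0 :=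
  letters_glue (letters_glue (letters_glue (letters_glue (letters_glue (letters_glue (letters_glue (letters_glue (letters_glue (letters_glue (letters_glue (letters_glue (letters_glue (letters_glue (letters_glue (letters_glue (letters_nil) c1y0th_m_0) c1y0th_m_1) c1y0th_m_2) c1y0th_m_3) c1y0th_m_4) c1y0th_m_5) c1y0th_m_6) c1y0th_m_7) c1y0th_m_8) c1y0th_m_9) c1y0th_m_10) c1y0th_m_11) c1y0th_m_12) c1y0th_m_13) c1y0th_m_14) c1y0th_m_15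
theorem c1y0th_act {G Ω : Type*} [Group G] [MulAction G Ω] {g : ℕ → G} {pt : ℕ → Ω}
    (M : Md g pt H16.PHe.P 2058 7 H16.PHe.B 4030387200) : Act (wds g c1y0th_W) pt c1y0th_P 2058 16 :=
  act_mat (M.wact c1y0th_lt) c1y0th_m
theorem c1y0tl0_e : ∀ i < 2057, (dent c1y0tl0 c1y0th_P (nat_lit 2058)) i = 0 := allZ_sound0 c1y0tl0_e_0
theorem c1y0tl0_ok : DOK c1y0tl0 c1y0th_P 2058 := ⟨c1y0tl0_h, c1y0tl0_e⟩
theorem c1y0tl1_e : ∀ i < 424, (dent c1y0tl1 c1y0th_P (nat_lit 2058)) i = 0 := allZ_sound0 c1y0tl1_e_0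
theorem c1y0tl1_ok : DOK c1y0tl1 c1y0th_P 2058 := ⟨c1y0tl1_h, c1y0tl1_e⟩
theorem c1y0tl2_e : ∀ i < 63, (dent c1y0tl2 c1y0th_P (nat_lit 2058)) i = 0 := allZ_sound0 c1y0tl2_e_0
theorem c1y0tl2_ok : DOK c1y0tl2 c1y0th_P 2058 := ⟨c1y0tl2_h, c1y0tl2_e⟩
theorem c1y0tl3_e : ∀ i < 2, (dent c1y0tl3 c1y0th_P (nat_lit 2058)) i = 0 := allZ_sound0 c1y0tl3_e_0
theorem c1y0tl3_ok : DOK c1y0tl3 c1y0th_P 2058 := ⟨c1y0tl3_h, c1y0tl3_e⟩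
theorem c1y0tl4_e : ∀ i < 2, (dent c1y0tl4 c1y0th_P (nat_lit 2058)) i = 0 := allZ_sound0 c1y0tl4_e_0
theorem c1y0tl4_ok : DOK c1y0tl4 c1y0th_P 2058 := ⟨c1y0tl4_h, c1y0tl4_e⟩
theorem c1y0tl5_e : ∀ i < 1, (dent c1y0tl5 c1y0th_P (nat_lit 2058)) i = 0 := allZ_sound0 c1y0tl5_e_0
theorem c1y0tl5_ok : DOK c1y0tl5 c1y0th_P 2058 := ⟨c1y0tl5_h, c1y0tl5_e⟩
theorem c1y0tl6_e : ∀ i < 1, (dent c1y0tl6 c1y0th_P (nat_lit 2058)) i = 0 := allZ_sound0 c1y0tl6_e_0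
theorem c1y0tl6_ok : DOK c1y0tl6 c1y0th_P 2058 := ⟨c1y0tl6_h, c1y0tl6_e⟩
theorem c1y0tl7_e : ∀ i < 1, (dent c1y0tl7 c1y0th_P (nat_lit 2058)) i = 0 := allZ_sound0 c1y0tl7_e_0
theorem c1y0tl7_ok : DOK c1y0tl7 c1y0th_P 2058 := ⟨c1y0tl7_h, c1y0tl7_e⟩
theorem c1y0t_low {G Ω : Type*} [Group G] [MulAction G Ω] {g : ℕ → G} {pt : ℕ → Ω}
    (M : Md g pt H16.PHe.P 2058 7 H16.PHe.B 4030387200) : SLow (gi (wds g c1y0th_W)) pt 2058 [c1y0tl0, c1y0tl1, c1y0tl2, c1y0tl3, c1y0tl4, c1y0tl5, c1y0tl6, c1y0tl7] :=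
  ((((((((SLow.nil).cons c1y0tl7_ok (c1y0th_act M) c1y0t_f7).cons c1y0tl6_ok (c1y0th_act M) c1y0t_f6).cons c1y0tl5_ok (c1y0th_act M) c1y0t_f5).cons c1y0tl4_ok (c1y0th_act M) c1y0t_f4).cons c1y0tl3_ok (c1y0th_act M) c1y0t_f3).cons c1y0tl2_ok (c1y0th_act M) c1y0t_f2).cons c1y0tl1_ok (c1y0th_act M) c1y0t_f1).cons c1y0tl0_ok (c1y0th_act M) c1y0t_f0
theorem c1y0t_S0 {G Ω : Type*} [Group G] [MulAction G Ω] {g : ℕ → G} {pt : ℕ → Ω}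
    (M : Md g pt H16.PHe.P 2058 7 H16.PHe.B 4030387200) : Stage ⊤ (wds g c1y0th_W) pt 2058 [c1y0tl0, c1y0tl1, c1y0tl2, c1y0tl3, c1y0tl4, c1y0tl5, c1y0tl6, c1y0tl7] [] :=
  M.stage (c1y0t_low M) c1y0t_c
theorem c1y0t_S1 {G Ω : Type*} [Group G] [MulAction G Ω] {g : ℕ → G} {pt : ℕ → Ω}
    (M : Md g pt H16.PHe.P 2058 7 H16.PHe.B 4030387200) : Stage ⊤ (wds g c1y0th_W) pt 2058 [c1y0tl1, c1y0tl2, c1y0tl3, c1y0tl4, c1y0tl5, c1y0tl6, c1y0tl7] [c1y0tl0.Pt 0] :=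
  (c1y0t_S0 M).next
theorem c1y0t_S2 {G Ω : Type*} [Group G] [MulAction G Ω] {g : ℕ → G} {pt : ℕ → Ω}
    (M : Md g pt H16.PHe.P 2058 7 H16.PHe.B 4030387200) : Stage ⊤ (wds g c1y0th_W) pt 2058 [c1y0tl2, c1y0tl3, c1y0tl4, c1y0tl5, c1y0tl6, c1y0tl7] [c1y0tl1.Pt 0, c1y0tl0.Pt 0] :=
  (c1y0t_S1 M).next
theorem c1y0t_S3 {G Ω : Type*} [Group G] [MulAction G Ω] {g : ℕ → G} {pt : ℕ → Ω}
    (M : Md g pt H16.PHe.P 2058 7 H16.PHe.B 4030387200) : Stage ⊤ (wds g c1y0th_W) pt 2058 [c1y0tl3, c1y0tl4, c1y0tl5, c1y0tl6, c1y0tl7] [c1y0tl2.Pt 0, c1y0tl1.Pt 0, c1y0tl0.Pt 0] :=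
  (c1y0t_S2 M).next
theorem c1y0t_S4 {G Ω : Type*} [Group G] [MulAction G Ω] {g : ℕ → G} {pt : ℕ → Ω}
    (M : Md g pt H16.PHe.P 2058 7 H16.PHe.B 4030387200) : Stage ⊤ (wds g c1y0th_W) pt 2058 [c1y0tl4, c1y0tl5, c1y0tl6, c1y0tl7] [c1y0tl3.Pt 0, c1y0tl2.Pt 0, c1y0tl1.Pt 0, c1y0tl0.Pt 0] :=
  (c1y0t_S3 M).next
theorem c1y0t_S5 {G Ω : Type*} [Group G] [MulAction G Ω] {g : ℕ → G} {pt : ℕ → Ω}
    (M : Md g pt H16.PHe.P 2058 7 H16.PHe.B 4030387200) : Stage ⊤ (wds g c1y0th_W) pt 2058 [c1y0tl5, c1y0tl6, c1y0tl7] [c1y0tl4.Pt 0, c1y0tl3.Pt 0, c1y0tl2.Pt 0, c1y0tl1.Pt 0, c1y0tl0.Pt 0] :=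
  (c1y0t_S4 M).next
theorem c1y0t_S6 {G Ω : Type*} [Group G] [MulAction G Ω] {g : ℕ → G} {pt : ℕ → Ω}
    (M : Md g pt H16.PHe.P 2058 7 H16.PHe.B 4030387200) : Stage ⊤ (wds g c1y0th_W) pt 2058 [c1y0tl6, c1y0tl7] [c1y0tl5.Pt 0, c1y0tl4.Pt 0, c1y0tl3.Pt 0, c1y0tl2.Pt 0, c1y0tl1.Pt 0, c1y0tl0.Pt 0] :=
  (c1y0t_S5 M).next
theorem c1y0t_S7 {G Ω : Type*} [Group G] [MulAction G Ω] {g : ℕ → G} {pt : ℕ → Ω}
    (M : Md g pt H16.PHe.P 2058 7 H16.PHe.B 4030387200) : Stage ⊤ (wds g c1y0th_W) pt 2058 [c1y0tl7] [c1y0tl6.Pt 0, c1y0tl5.Pt 0, c1y0tl4.Pt 0, c1y0tl3.Pt 0, c1y0tl2.Pt 0, c1y0tl1.Pt 0, c1y0tl0.Pt 0] :=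
  (c1y0t_S6 M).next
theorem c1y0t_S8 {G Ω : Type*} [Group G] [MulAction G Ω] {g : ℕ → G} {pt : ℕ → Ω}
    (M : Md g pt H16.PHe.P 2058 7 H16.PHe.B 4030387200) : Stage ⊤ (wds g c1y0th_W) pt 2058 [] [c1y0tl7.Pt 0, c1y0tl6.Pt 0, c1y0tl5.Pt 0, c1y0tl4.Pt 0, c1y0tl3.Pt 0, c1y0tl2.Pt 0, c1y0tl1.Pt 0, c1y0tl0.Pt 0] :=
  (c1y0t_S7 M).next
theorem c1y0ce_m_0 : ∀ i < 2058, (matEnt (wdsP H16.PHe.P c1y0ce_W) c1y0ce_P (nat_lit 0)) i = 0 := allZ_sound0 c1y0ce_m_0_0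
theorem c1y0ce_m_1 : ∀ i < 2058, (matEnt (wdsP H16.PHe.P c1y0ce_W) c1y0ce_P (nat_lit 1)) i = 0 := allZ_sound0 c1y0ce_m_1_0
theorem c1y0ce_m_2 : ∀ i < 2058, (matEnt (wdsP H16.PHe.P c1y0ce_W) c1y0ce_P (nat_lit 2)) i = 0 := allZ_sound0 c1y0ce_m_2_0
theorem c1y0ce_m : ∀ k < 3, ∀ i < 2058, (matEnt (wdsP H16.PHe.P c1y0ce_W) c1y0ce_P) k i = 0 :=
  letters_glue (letters_glue (letters_glue (letters_nil) c1y0ce_m_0) c1y0ce_m_1) c1y0ce_m_2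
theorem c1y0ce_act {G Ω : Type*} [Group G] [MulAction G Ω] {g : ℕ → G} {pt : ℕ → Ω}
    (M : Md g pt H16.PHe.P 2058 7 H16.PHe.B 4030387200) : Act (wds g c1y0ce_W) pt c1y0ce_P 2058 3 :=
  act_mat (M.wact c1y0ce_lt) c1y0ce_m
theorem c1y0cc7_e : ∀ i < 1, (dent c1y0cc7 c1y0ce_P (nat_lit 2058)) i = 0 := allZ_sound0 c1y0cc7_e_0
theorem c1y0cc7_ok : DOK c1y0cc7 c1y0ce_P 2058 := ⟨c1y0cc7_h, c1y0cc7_e⟩
theorem c1y0tn0_1 : ∀ i < 2, (c1y0tn0.ent H16.PHe.P c1y0th_P c1y0x_P c1y0x_P c1y0ce_P (nat_lit 7) (nat_lit 1) H16.PHe.B c1y0tl7 [] (memO c1y0cc7)) i = 0 := allZ_sound0 c1y0tn0_1_0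
theorem c1y0tn0_t {G Ω : Type*} [Group G] [MulAction G Ω] {g : ℕ → G} {pt : ℕ → Ω}
    (M : Md g pt H16.PHe.P 2058 7 H16.PHe.B 4030387200) : TrO (gen (wds g c1y0th_W) c1y0tl7.K) (wds g c1y0x_W) (wds g c1y0x_W) 1 pt 2058 (c1y0tl7.Pt 0) (memO c1y0cc7) :=
  node M (c1y0t_S7 M) (c1y0th_act M) (c1y0x_act M) (c1y0x_act M) c1y0tn0 ((c1y0ce_act M).mono (by decide)) (fun _ _ => trivial) c1y0tn0_0 c1y0tn0_1 (List.forall_mem_nil _)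
theorem c1y0tn1y489_act {G Ω : Type*} [Group G] [MulAction G Ω] {g : ℕ → G} {pt : ℕ → Ω}
    (M : Md g pt H16.PHe.P 2058 7 H16.PHe.B 4030387200) : Act (wds g c1y0tn1y489_W) pt c1y0tn1y489_P 2058 1 :=
  M.wact c1y0tn1y489_lt
theorem c1y0tr2k_act {G Ω : Type*} [Group G] [MulAction G Ω] {g : ℕ → G} {pt : ℕ → Ω}
    (M : Md g pt H16.PHe.P 2058 7 H16.PHe.B 4030387200) : Act (wds g c1y0tr2k_W) pt c1y0tr2k_P 2058 2 :=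
  M.wact c1y0tr2k_lt
theorem c1y0tn2_1 : ∀ i < 2, (c1y0tn2.ent H16.PHe.P c1y0th_P c1y0x_P c1y0tn1y489_P c1y0tr2k_P (nat_lit 7) (nat_lit 1) H16.PHe.B c1y0tl7 [] (fun _ => nat_lit 1)) i = 0 := allZ_sound0 c1y0tn2_1_0
theorem c1y0tn2_t {G Ω : Type*} [Group G] [MulAction G Ω] {g : ℕ → G} {pt : ℕ → Ω}
    (M : Md g pt H16.PHe.P 2058 7 H16.PHe.B 4030387200) : TrO (gen (wds g c1y0th_W) c1y0tl7.K) (wds g c1y0x_W) (wds g c1y0tn1y489_W) 1 pt 2058 (c1y0tl7.Pt 0) (fun _ => nat_lit 1) :=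
  node M (c1y0t_S7 M) (c1y0th_act M) (c1y0x_act M) (c1y0tn1y489_act M) c1y0tn2 ((c1y0tr2k_act M).mono (by decide)) (fun _ _ => trivial) c1y0tn2_0 c1y0tn2_1 (List.forall_mem_nil _)
theorem c1y0tr2 {G Ω : Type*} [Group G] [MulAction G Ω] {g : ℕ → G} {pt : ℕ → Ω}
    (M : Md g pt H16.PHe.P 2058 7 H16.PHe.B 4030387200) : Ref (gen (wds g c1y0th_W) (topK [c1y0tl7])) (wds g c1y0x_W) (wds g c1y0tn1y489_W) 1 :=
  (c1y0tn2_t M).ref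
theorem c1y0tn1_1 : ∀ i < 2, (c1y0tn1.ent H16.PHe.P c1y0th_P c1y0x_P c1y0x_P c1y0ce_P (nat_lit 7) (nat_lit 1) H16.PHe.B c1y0tl6 [c1y0tl7] (fun w => Nat.xor w (c1y0tl6.Pt (nat_lit 0)))) i = 0 := allZ_sound0 c1y0tn1_1_0
theorem c1y0tn1_t {G Ω : Type*} [Group G] [MulAction G Ω] {g : ℕ → G} {pt : ℕ → Ω}
    (M : Md g pt H16.PHe.P 2058 7 H16.PHe.B 4030387200) : TrO (gen (wds g c1y0th_W) c1y0tl6.K) (wds g c1y0x_W) (wds g c1y0x_W) 1 pt 2058 (c1y0tl6.Pt 0) (fun w => Nat.xor w (c1y0tl6.Pt (nat_lit 0))) :=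
  node M (c1y0t_S6 M) (c1y0th_act M) (c1y0x_act M) (c1y0x_act M) c1y0tn1 ((c1y0ce_act M).mono (by decide)) (fun _ _ => trivial) c1y0tn1_0 c1y0tn1_1 (List.forall_mem_cons.2 ⟨c1y0tr2 M, List.forall_mem_nil _⟩)
theorem c1y0cc5_e : ∀ i < 1, (dent c1y0cc5 c1y0ce_P (nat_lit 2058)) i = 0 := allZ_sound0 c1y0cc5_e_0
theorem c1y0cc5_ok : DOK c1y0cc5 c1y0ce_P 2058 := ⟨c1y0cc5_h, c1y0cc5_e⟩
theorem c1y0tn3_1 : ∀ i < 2, (c1y0tn3.ent H16.PHe.P c1y0th_P c1y0x_P c1y0x_P c1y0ce_P (nat_lit 7) (nat_lit 1) H16.PHe.B c1y0tl5 [c1y0tl6, c1y0tl7] (memO c1y0cc5)) i = 0 := allZ_sound0 c1y0tn3_1_0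
theorem c1y0tn3_t {G Ω : Type*} [Group G] [MulAction G Ω] {g : ℕ → G} {pt : ℕ → Ω}
    (M : Md g pt H16.PHe.P 2058 7 H16.PHe.B 4030387200) : TrO (gen (wds g c1y0th_W) c1y0tl5.K) (wds g c1y0x_W) (wds g c1y0x_W) 1 pt 2058 (c1y0tl5.Pt 0) (memO c1y0cc5) :=
  node M (c1y0t_S5 M) (c1y0th_act M) (c1y0x_act M) (c1y0x_act M) c1y0tn3 ((c1y0ce_act M).mono (by decide)) (fun _ _ => trivial) c1y0tn3_0 c1y0tn3_1 (List.forall_mem_nil _)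
theorem c1y0cc0_e : ∀ i < 13, (dent c1y0cc0 c1y0ce_P (nat_lit 2058)) i = 0 := allZ_sound0 c1y0cc0_e_0
theorem c1y0cc0_ok : DOK c1y0cc0 c1y0ce_P 2058 := ⟨c1y0cc0_h, c1y0cc0_e⟩
theorem c1y0tn4y402_act {G Ω : Type*} [Group G] [MulAction G Ω] {g : ℕ → G} {pt : ℕ → Ω}
    (M : Md g pt H16.PHe.P 2058 7 H16.PHe.B 4030387200) : Act (wds g c1y0tn4y402_W) pt c1y0tn4y402_P 2058 1 :=
  M.wact c1y0tn4y402_lt
theorem c1y0tr5k_act {G Ω : Type*} [Group G] [MulAction G Ω] {g : ℕ → G} {pt : ℕ → Ω}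
    (M : Md g pt H16.PHe.P 2058 7 H16.PHe.B 4030387200) : Act (wds g c1y0tr5k_W) pt c1y0tr5k_P 2058 2 :=
  M.wact c1y0tr5k_lt
theorem c1y0tn5_1 : ∀ i < 2, (c1y0tn5.ent H16.PHe.P c1y0th_P c1y0x_P c1y0tn4y402_P c1y0tr5k_P (nat_lit 7) (nat_lit 1) H16.PHe.B c1y0tl5 [c1y0tl6, c1y0tl7] (fun _ => nat_lit 1)) i = 0 := allZ_sound0 c1y0tn5_1_0
theorem c1y0tn5_t {G Ω : Type*} [Group G] [MulAction G Ω] {g : ℕ → G} {pt : ℕ → Ω}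
    (M : Md g pt H16.PHe.P 2058 7 H16.PHe.B 4030387200) : TrO (gen (wds g c1y0th_W) c1y0tl5.K) (wds g c1y0x_W) (wds g c1y0tn4y402_W) 1 pt 2058 (c1y0tl5.Pt 0) (fun _ => nat_lit 1) :=
  node M (c1y0t_S5 M) (c1y0th_act M) (c1y0x_act M) (c1y0tn4y402_act M) c1y0tn5 ((c1y0tr5k_act M).mono (by decide)) (fun _ _ => trivial) c1y0tn5_0 c1y0tn5_1 (List.forall_mem_nil _)
theorem c1y0tr5 {G Ω : Type*} [Group G] [MulAction G Ω] {g : ℕ → G} {pt : ℕ → Ω}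
    (M : Md g pt H16.PHe.P 2058 7 H16.PHe.B 4030387200) : Ref (gen (wds g c1y0th_W) (topK [c1y0tl5, c1y0tl6, c1y0tl7])) (wds g c1y0x_W) (wds g c1y0tn4y402_W) 1 :=
  (c1y0tn5_t M).ref
theorem c1y0tn4y1936_act {G Ω : Type*} [Group G] [MulAction G Ω] {g : ℕ → G} {pt : ℕ → Ω}
    (M : Md g pt H16.PHe.P 2058 7 H16.PHe.B 4030387200) : Act (wds g c1y0tn4y1936_W) pt c1y0tn4y1936_P 2058 1 :=
  M.wact c1y0tn4y1936_lt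
theorem c1y0tr6k_act {G Ω : Type*} [Group G] [MulAction G Ω] {g : ℕ → G} {pt : ℕ → Ω}
    (M : Md g pt H16.PHe.P 2058 7 H16.PHe.B 4030387200) : Act (wds g c1y0tr6k_W) pt c1y0tr6k_P 2058 2 :=
  M.wact c1y0tr6k_lt
theorem c1y0tn6_1 : ∀ i < 2, (c1y0tn6.ent H16.PHe.P c1y0th_P c1y0x_P c1y0tn4y1936_P c1y0tr6k_P (nat_lit 7) (nat_lit 1) H16.PHe.B c1y0tl5 [c1y0tl6, c1y0tl7] (fun _ => nat_lit 1)) i = 0 := allZ_sound0 c1y0tn6_1_0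
theorem c1y0tn6_t {G Ω : Type*} [Group G] [MulAction G Ω] {g : ℕ → G} {pt : ℕ → Ω}
    (M : Md g pt H16.PHe.P 2058 7 H16.PHe.B 4030387200) : TrO (gen (wds g c1y0th_W) c1y0tl5.K) (wds g c1y0x_W) (wds g c1y0tn4y1936_W) 1 pt 2058 (c1y0tl5.Pt 0) (fun _ => nat_lit 1) :=
  node M (c1y0t_S5 M) (c1y0th_act M) (c1y0x_act M) (c1y0tn4y1936_act M) c1y0tn6 ((c1y0tr6k_act M).mono (by decide)) (fun _ _ => trivial) c1y0tn6_0 c1y0tn6_1 (List.forall_mem_nil _)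
theorem c1y0tr6 {G Ω : Type*} [Group G] [MulAction G Ω] {g : ℕ → G} {pt : ℕ → Ω}
    (M : Md g pt H16.PHe.P 2058 7 H16.PHe.B 4030387200) : Ref (gen (wds g c1y0th_W) (topK [c1y0tl5, c1y0tl6, c1y0tl7])) (wds g c1y0x_W) (wds g c1y0tn4y1936_W) 1 :=
  (c1y0tn6_t M).ref
theorem c1y0tn4_1 : ∀ i < 2058, (c1y0tn4.ent H16.PHe.P c1y0th_P c1y0x_P c1y0x_P c1y0ce_P (nat_lit 7) (nat_lit 1) H16.PHe.B c1y0tl0 [c1y0tl1, c1y0tl2, c1y0tl3, c1y0tl4, c1y0tl5, c1y0tl6, c1y0tl7] (memO c1y0cc0)) i = 0 := allZ_sound0 c1y0tn4_1_0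
theorem c1y0tn4_t {G Ω : Type*} [Group G] [MulAction G Ω] {g : ℕ → G} {pt : ℕ → Ω}
    (M : Md g pt H16.PHe.P 2058 7 H16.PHe.B 4030387200) : TrO (gen (wds g c1y0th_W) c1y0tl0.K) (wds g c1y0x_W) (wds g c1y0x_W) 1 pt 2058 (c1y0tl0.Pt 0) (memO c1y0cc0) :=
  node M (c1y0t_S0 M) (c1y0th_act M) (c1y0x_act M) (c1y0x_act M) c1y0tn4 ((c1y0ce_act M).mono (by decide)) (fun _ _ => trivial) c1y0tn4_0 c1y0tn4_1 (List.forall_mem_cons.2 ⟨c1y0tr5 M, List.forall_mem_cons.2 ⟨c1y0tr6 M, List.forall_mem_nil _⟩⟩)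
theorem c1y0c {G Ω : Type*} [Group G] [MulAction G Ω] {g : ℕ → G} {pt : ℕ → Ω}
    (M : Md g pt H16.PHe.P 2058 7 H16.PHe.B 4030387200) : Cen ⊤ (wds g c1y0x_W) 1 (wds g c1y0ce_W) pt 2058 [c1y0cc0, c1y0cc5, c1y0cc7] :=
  (c1y0t_S0 M).top ▸ Cen.lev M (c1y0t_S0 M) (Cen.triv (c1y0t_S1 M) (Cen.triv (c1y0t_S2 M) (Cen.triv (c1y0t_S3 M) (Cen.triv (c1y0t_S4 M) (Cen.lev M (c1y0t_S5 M) (Cen.triv (c1y0t_S6 M) (Cen.lev M (c1y0t_S7 M) (Cen.bot) (c1y0tn0_t M) (c1y0x_act M) (c1y0ce_act M) (fun _ _ => trivial) c1y0cc7_ok c1y0c_f7) (c1y0tn1_t M)) (c1y0tn3_t M) (c1y0x_act M) (c1y0ce_act M) (fun _ _ => trivial) c1y0cc5_ok c1y0c_f5) (forced (c1y0t_S4 M) (c1y0th_act M) (c1y0x_act M) _ _ c1y0c_f4)) (forced (c1y0t_S3 M) (c1y0th_act M) (c1y0x_act M) _ _ c1y0c_f3)) (forced (c1y0t_S2 M) (c1y0th_act M) (c1y0x_act M) _ _ c1y0c_f2)) (forced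 (c1y0t_S1 M) (c1y0th_act M) (c1y0x_act M) _ _ c1y0c_f1)) (c1y0tn4_t M) (c1y0x_act M) (c1y0ce_act M) (fun _ _ => trivial) c1y0cc0_ok c1y0c_f0
theorem c1y0c_card {G Ω : Type*} [Group G] [MulAction G Ω] {g : ℕ → G} {pt : ℕ → Ω}
    (M : Md g pt H16.PHe.P 2058 7 H16.PHe.B 4030387200) : Nat.card (Subgroup.centralizer {(wds g c1y0x_W) 0}) = 56 :=
  (c1y0c M).card_cent1 M.inj c1y0c_c.1
theorem c1y0c_eq {G Ω : Type*} [Group G] [MulAction G Ω] {g : ℕ → G} {pt : ℕ → Ω}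
    (M : Md g pt H16.PHe.P 2058 7 H16.PHe.B 4030387200) : Subgroup.centralizer (gen (wds g c1y0x_W) 1) = gen (wds g c1y0ce_W) 3 ∧ Nat.card (gen (wds g c1y0ce_W) 3) = 56 :=
  c1y0c_c.1 ▸ c1y0c_c.2 ▸ ⟨(c1y0c M).cent, (c1y0c M).card M.inj⟩
theorem c1w0p {G Ω : Type*} [Group G] [MulAction G Ω] {g : ℕ → G} {pt : ℕ → Ω}
    (M : Md g pt H16.PHe.P 2058 7 H16.PHe.B 4030387200) : (wds g c1w0_W) 0 ^ 2 = 1 :=
  M.pw (c1w0_act M) c1w0p_k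
theorem c1w0n {G Ω : Type*} [Group G] [MulAction G Ω] {g : ℕ → G} {pt : ℕ → Ω}
    (M : Md g pt H16.PHe.P 2058 7 H16.PHe.B 4030387200) : (wds g c1w0_W) 1 ^ 2 ≠ 1 :=
  M.npw (c1w0_act M) _ c1w0n_k
theorem c1W0 {G Ω : Type*} [Group G] [MulAction G Ω] {g : ℕ → G} {pt : ℕ → Ω}
    (M : Md g pt H16.PHe.P 2058 7 H16.PHe.B 4030387200) : Wit (H27.IC.Ce ((wds g covr_W) 1)) 7 56 :=
  have := M.fin
  wit_w (x := (wds g c1w0_W)) (k := 3) (by norm_num) (M.eq_of (c1w0_act M) c1w0_k) (c1w0p M) (c1w0n M) (c1ac_card M) (by decide +kernel) (c1y0c_card M)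
theorem c1 {G Ω : Type*} [Group G] [MulAction G Ω] {g : ℕ → G} {pt : ℕ → Ω}
    (M : Md g pt H16.PHe.P 2058 7 H16.PHe.B 4030387200) : OK (H27.IC.Ce ((wds g covr_W) 1)) :=
  have := M.fin
  ok_num (n := 161280) (ws := []) 9 (c1ac_card M) (c1W0 M) (List.forall_mem_nil _) (by decide +kernel)
theorem both {G Ω : Type*} [Group G] [MulAction G Ω] {g : ℕ → G} {pt : ℕ → Ω}
    (M : Md g pt H16.PHe.P 2058 7 H16.PHe.B 4030387200) : Both G :=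
  have := M.fin
  both_reps (wds g covr_W) 2 (fun _ hy => cov M (e := 1) hy hy) fun i hi => match i, hi with
    | 0, _ => c0 M
    | 1, _ => c1 M

theorem spor : Both Cfsg.Spor.He := by
  obtain ⟨_, g, M, -⟩ := md H16.PHe.equiv.symm
  exact both M

end H15.IC.He
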