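import Cfsg.Agent.H15.IC.P
import Cfsg.Agent.H15.M.M22

/-! Generated by tools/h0/tr.py. -/

set_option maxRecDepth 100000
set_option maxHeartbeats 0

namespace H15.IC.M22
open H16 H0.TR
open scoped commutatorElement

noncomputable def p2t_W : List (List ℕ) := [[nat_lit 6, nat_lit 3, nat_lit 6, nat_lit 5, nat_lit 7, nat_lit 6, nat_lit 3, nat_lit 6, nat_lit 7],
  [nat_lit 6, nat_lit 1, nat_lit 4, nat_lit 7, nat_lit 6],
  [nat_lit 4, nat_lit 6, nat_lit 3, nat_lit 6, nat_lit 5, nat_lit 8, nat_lit 7, nat_lit 6, nat_lit 3, nat_lit 6, nat_lit 8],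
  [nat_lit 7, nat_lit 8, nat_lit 2, nat_lit 6, nat_lit 3, nat_lit 6, nat_lit 7, nat_lit 6, nat_lit 0, nat_lit 1, nat_lit 2, nat_lit 8, nat_lit 7, nat_lit 6],
  [nat_lit 1, nat_lit 5, nat_lit 6, nat_lit 1, nat_lit 7, nat_lit 6, nat_lit 1, nat_lit 4, nat_lit 8, nat_lit 7, nat_lit 6, nat_lit 1, nat_lit 2],
  [nat_lit 7, nat_lit 8, nat_lit 4, nat_lit 6, nat_lit 1, nat_lit 4, nat_lit 7, nat_lit 6, nat_lit 5, nat_lit 8, nat_lit 7],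
  [nat_lit 1, nat_lit 8, nat_lit 6, nat_lit 4, nat_lit 2, nat_lit 7, nat_lit 6, nat_lit 3, nat_lit 6, nat_lit 8, nat_lit 7, nat_lit 6, nat_lit 0]]
noncomputable def p2t_P : ℕ → ℕ → ℕ := wdsP H15.MM22.P p2t_W
noncomputable def p2Pd : List ℕ := [nat_lit 0x534c542e4974d8f2460718820,
  nat_lit 0x71d0934c8552e1193d8d18820,
  nat_lit 0x749e58cda952d863a20408062,
  nat_lit 0x8955272204798eb64da908062,
  nat_lit 0x8c9cc9bda541a0a22d2700c41,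
  nat_lit 0x51df08ac8c74d26920ad10c01,
  nat_lit 0x3a99184a6f691055a4ce10c01]
noncomputable def p2P (k u : ℕ) : ℕ := Nat.land (Nat.shiftRight (nth (nat_lit 0) p2Pd k) (Nat.mul u (nat_lit 5))) (nat_lit 31)
noncomputable def p2Ed : ℕ := nat_lit 0xad25183dac5a8e629062b3921
noncomputable def p2E (u : ℕ) : ℕ := Nat.land (Nat.shiftRight p2Ed (Nat.mul u (nat_lit 5))) (nat_lit 31)
noncomputable def p2Id : ℕ := nat_lit 0xe720460f709ac5a8204a0e629000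
noncomputable def p2I (u : ℕ) : ℕ := Nat.land (Nat.shiftRight p2Id (Nat.mul u (nat_lit 5))) (nat_lit 31)
noncomputable def p2B : List ℕ := [nat_lit 0, nat_lit 4, nat_lit 5, nat_lit 7, nat_lit 6]
noncomputable def p2C : List (List (List ℕ)) := [[[],
  [],
  [],
  [],
  [],
  [],
  []], [[],
  [],
  [],
  [],
  [nat_lit 0],
  [],
  []], [[],
  [],
  [],
  [nat_lit 0],
  [],
  [],
  [nat_lit 1]], [[],
  [],
  [],
  [nat_lit 0],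
  [nat_lit 0, nat_lit 1],
  [nat_lit 1],
  []], [[],
  [],
  [],
  [],
  [nat_lit 2],
  [nat_lit 0, nat_lit 2],
  [nat_lit 0, nat_lit 3]], [[],
  [],
  [],
  [],
  [],
  [],
  [nat_lit 0, nat_lit 1]], [[],
  [],
  [],
  [],
  [],
  [],
  [nat_lit 0, nat_lit 1]]]
noncomputable def p2e : List (List ℕ) := [[nat_lit 0, nat_lit 1],
  [nat_lit 5, nat_lit 6],
  [nat_lit 1],
  [nat_lit 0],
  [nat_lit 0, nat_lit 1],
  [nat_lit 1],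
  [nat_lit 2, nat_lit 3],
  [nat_lit 0, nat_lit 2, nat_lit 3],
  [nat_lit 0, nat_lit 4, nat_lit 5],
  [nat_lit 2, nat_lit 6]]
noncomputable def p2l0Dd : ℕ := nat_lit 0xec920
noncomputable def p2l0D (u : ℕ) : ℕ := Nat.land (Nat.shiftRight p2l0Dd (Nat.mul u (nat_lit 5))) (nat_lit 31)
noncomputable def p2l0Pd : ℕ := nat_lit 0x9c
noncomputable def p2l0P (u : ℕ) : ℕ := Nat.land (Nat.shiftRight p2l0Pd (Nat.mul u (nat_lit 2))) (nat_lit 3)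
noncomputable def p2l0Qd : ℕ := nat_lit 0x78
noncomputable def p2l0Q (u : ℕ) : ℕ := Nat.land (Nat.shiftRight p2l0Qd (Nat.mul u (nat_lit 2))) (nat_lit 3)
noncomputable def p2l0 : H16.Lev := ⟨4, 10, p2l0D, p2l0P, p2l0Q⟩
noncomputable def p2l1Dd : ℕ := nat_lit 0x80
noncomputable def p2l1D (u : ℕ) : ℕ := Nat.land (Nat.shiftRight p2l1Dd (Nat.mul u (nat_lit 4))) (nat_lit 15)
noncomputable def p2l1Pd : ℕ := nat_lit 0xd
noncomputable def p2l1P (u : ℕ) : ℕ := Nat.land (Nat.shiftRight p2l1Pd (Nat.mul u (nat_lit 2))) (nat_lit 3)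
noncomputable def p2l1Qd : ℕ := nat_lit 8
noncomputable def p2l1Q (u : ℕ) : ℕ := Nat.land (Nat.shiftRight p2l1Qd (Nat.mul u (nat_lit 1))) (nat_lit 1)
noncomputable def p2l1 : H16.Lev := ⟨2, 9, p2l1D, p2l1P, p2l1Q⟩
noncomputable def p2l2Dd : ℕ := nat_lit 0x98f98223658a0f1a20301000c100
noncomputable def p2l2D (u : ℕ) : ℕ := Nat.land (Nat.shiftRight p2l2Dd (Nat.mul u (nat_lit 7))) (nat_lit 127)
noncomputable def p2l2Pd : ℕ := nat_lit 0x33e282ad8a8393391da4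
noncomputable def p2l2P (u : ℕ) : ℕ := Nat.land (Nat.shiftRight p2l2Pd (Nat.mul u (nat_lit 5))) (nat_lit 31)
noncomputable def p2l2Qd : ℕ := nat_lit 0x43d7e619a85c2fb00000
noncomputable def p2l2Q (u : ℕ) : ℕ := Nat.land (Nat.shiftRight p2l2Qd (Nat.mul u (nat_lit 4))) (nat_lit 15)
noncomputable def p2l2 : H16.Lev := ⟨16, 7, p2l2D, p2l2P, p2l2Q⟩
noncomputable def covr_W : List (List ℕ) := [[nat_lit 6, nat_lit 2, nat_lit 4, nat_lit 6, nat_lit 7, nat_lit 6, nat_lit 1, nat_lit 5, nat_lit 6]]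
noncomputable def covr_P : ℕ → ℕ → ℕ := wdsP H15.MM22.P covr_W
noncomputable def covT0 : H0.TR.CT := (.split (.more (.split (.more (.split (.more (.split (.more (.split (.more (.split (.more (.split (.more .one (.more (.leaf (nat_lit 0) []) .one))) (.more (.fuse [nat_lit 4] [] (.leaf (nat_lit 0) [nat_lit 3, nat_lit 5, nat_lit 6, nat_lit 7, nat_lit 8, nat_lit 7, nat_lit 6, nat_lit 2, nat_lit 3])) .one))) (.more (.fuse [nat_lit 6] [] (.fuse [nat_lit 3] [] (.leaf (nat_lit 0) [nat_lit 5, nat_lit 8]))) .one))) (.more (.split (.more (.fuse [nat_lit 4] [nat_lit 0] (.fuse [nat_lit 2] [] (.prune (nat_lit 0) (nat_lit 1) []))) (.more (.fuse [nat_lit 4] [nat_lit 0] (.fuse [nat_lit 2] [] (.leaf (nat_lit 0) [nat_lit 8, nat_lit 3, nat_lit 5, nat_lit 6, nat_lit 3, nat_lit 7, nat_lit 6, nat_lit 3, nat_lit 6, nat_lit 8]))) .one))) .one))) (.more (.fuse [nat_lit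 6] [nat_lit 0, nat_lit 1] (.fuse [nat_lit 5] [nat_lit 0] (.prune (nat_lit 2) (nat_lit 1) []))) .one))) (.more (.split (.more (.split (.more (.fuse [nat_lit 4] [nat_lit 0] (.fuse [nat_lit 3] [] (.fuse [nat_lit 3, nat_lit 6] [] (.leaf (nat_lit 0) [nat_lit 2, nat_lit 5, nat_lit 7, nat_lit 6, nat_lit 3, nat_lit 8])))) (.more (.fuse [nat_lit 4] [nat_lit 0, nat_lit 1] (.fuse [nat_lit 3] [] (.prune (nat_lit 1) (nat_lit 1) [nat_lit 0]))) .one))) (.more (.fuse [nat_lit 6] [nat_lit 0] (.fuse [nat_lit 4] [nat_lit 0] (.split (.more (.fuse [nat_lit 1] [] (.prune (nat_lit 0) (nat_lit 1) [])) (.more (.fuse [nat_lit 1] [] (.leaf (nat_lit 0) [nat_lit 0, nat_lit 2, nat_lit 6, nat_lit 1, nat_lit 4, nat_lit 7, nat_lit 6, nat_lit 3])) .one))))) .one))) .one))) (.more (.split (.more (.split (.more (.fuse [nat_lit 4] [] (.split (.more (.fuse [nat_lit 2] [] (.prune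 (nat_lit 1) (nat_lit 1) [nat_lit 0])) (.more (.fuse [nat_lit 2] [] (.fuse [nat_lit 3] [] (.prune (nat_lit 0) (nat_lit 1) []))) .one)))) (.more (.fuse [nat_lit 4] [nat_lit 1] (.prune (nat_lit 3) (nat_lit 1) [nat_lit 0, nat_lit 1, nat_lit 2])) .one))) (.more (.split (.more (.fuse [nat_lit 4] [nat_lit 0, nat_lit 1, nat_lit 2] (.split (.more (.fuse [nat_lit 2] [] (.fuse [nat_lit 2, nat_lit 5] [] (.leaf (nat_lit 0) [nat_lit 4, nat_lit 6, nat_lit 1, nat_lit 2, nat_lit 7, nat_lit 6, nat_lit 2]))) (.more (.fuse [nat_lit 2] [] (.prune (nat_lit 1) (nat_lit 1) [])) .one)))) (.more (.fuse [nat_lit 4] [nat_lit 2] (.prune (nat_lit 3) (nat_lit 1) [nat_lit 0, nat_lit 1])) .one))) .one))) .one)))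
noncomputable def c0ax_W : List (List ℕ) := [[nat_lit 6, nat_lit 2, nat_lit 4, nat_lit 6, nat_lit 7, nat_lit 6, nat_lit 1, nat_lit 5, nat_lit 6]]
noncomputable def c0ax_P : ℕ → ℕ → ℕ := wdsP H15.MM22.P c0ax_W
noncomputable def c0ath_W : List (List ℕ) := [[nat_lit 0],
  [nat_lit 1],
  [nat_lit 2],
  [nat_lit 3],
  [nat_lit 3, nat_lit 4, nat_lit 6, nat_lit 3, nat_lit 6, nat_lit 7, nat_lit 8, nat_lit 7, nat_lit 6, nat_lit 3, nat_lit 6],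
  [nat_lit 8, nat_lit 3, nat_lit 6, nat_lit 7, nat_lit 6, nat_lit 2, nat_lit 8],
  [nat_lit 4],
  [nat_lit 5],
  [nat_lit 6],
  [nat_lit 7],
  [nat_lit 8]]
noncomputable def c0ath_P : ℕ → ℕ → ℕ := wdsP H15.MM22.P c0ath_W
noncomputable def c0atl0Dd : ℕ := nat_lit 0xc1559c481a5b4528392f2e1b2d1024232221130a0900
noncomputable def c0atl0D (u : ℕ) : ℕ := Nat.land (Nat.shiftRight c0atl0Dd (Nat.mul u (nat_lit 8))) (nat_lit 255)
noncomputable def c0atl0Pd : ℕ := nat_lit 0xb1a55d041d2a32e44b326f68462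
noncomputable def c0atl0P (u : ℕ) : ℕ := Nat.land (Nat.shiftRight c0atl0Pd (Nat.mul u (nat_lit 5))) (nat_lit 31)
noncomputable def c0atl0Qd : ℕ := nat_lit 0x1e532a69024466531af72ea808040
noncomputable def c0atl0Q (u : ℕ) : ℕ := Nat.land (Nat.shiftRight c0atl0Qd (Nat.mul u (nat_lit 5))) (nat_lit 31)
noncomputable def c0atl0 : H16.Lev := ⟨22, 11, c0atl0D, c0atl0P, c0atl0Q⟩
noncomputable def c0atl1Dd : ℕ := nat_lit 0x4d1bbfb4b72c112f4e453253c74e1b101c300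
noncomputable def c0atl1D (u : ℕ) : ℕ := Nat.land (Nat.shiftRight c0atl1Dd (Nat.mul u (nat_lit 7))) (nat_lit 127)
noncomputable def c0atl1Pd : ℕ := nat_lit 0x30bdac91a6a4d8e822eb483a25
noncomputable def c0atl1P (u : ℕ) : ℕ := Nat.land (Nat.shiftRight c0atl1Pd (Nat.mul u (nat_lit 5))) (nat_lit 31)
noncomputable def c0atl1Qd : ℕ := nat_lit 0x28a46bc2390a30331684b807a0260
noncomputable def c0atl1Q (u : ℕ) : ℕ := Nat.land (Nat.shiftRight c0atl1Qd (Nat.mul u (nat_lit 5))) (nat_lit 31)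
noncomputable def c0atl1 : H16.Lev := ⟨21, 9, c0atl1D, c0atl1P, c0atl1Q⟩
noncomputable def c0atl2Dd : ℕ := nat_lit 0x9ad57cb72b53a63654a0f1c344880e18280
noncomputable def c0atl2D (u : ℕ) : ℕ := Nat.land (Nat.shiftRight c0atl2Dd (Nat.mul u (nat_lit 7))) (nat_lit 127)
noncomputable def c0atl2Pd : ℕ := nat_lit 0xc5d651d0d5d5f49b21232483
noncomputable def c0atl2P (u : ℕ) : ℕ := Nat.land (Nat.shiftRight c0atl2Pd (Nat.mul u (nat_lit 5))) (nat_lit 31)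
noncomputable def c0atl2Qd : ℕ := nat_lit 0x4148392454c5865bc4d70c0100260
noncomputable def c0atl2Q (u : ℕ) : ℕ := Nat.land (Nat.shiftRight c0atl2Qd (Nat.mul u (nat_lit 5))) (nat_lit 31)
noncomputable def c0atl2 : H16.Lev := ⟨20, 6, c0atl2D, c0atl2P, c0atl2Q⟩
noncomputable def c0atl3Dd : ℕ := nat_lit 0x940
noncomputable def c0atl3D (u : ℕ) : ℕ := Nat.land (Nat.shiftRight c0atl3Dd (Nat.mul u (nat_lit 4))) (nat_lit 15)
noncomputable def c0atl3Pd : ℕ := nat_lit 0x3831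
noncomputable def c0atl3P (u : ℕ) : ℕ := Nat.land (Nat.shiftRight c0atl3Pd (Nat.mul u (nat_lit 5))) (nat_lit 31)
noncomputable def c0atl3Qd : ℕ := nat_lit 0x20000004
noncomputable def c0atl3Q (u : ℕ) : ℕ := Nat.land (Nat.shiftRight c0atl3Qd (Nat.mul u (nat_lit 2))) (nat_lit 3)
noncomputable def c0atl3 : H16.Lev := ⟨3, 5, c0atl3D, c0atl3P, c0atl3Q⟩
noncomputable def c0atl4Dd : ℕ := nat_lit 0xbe36d758f2ca1c6143081000
noncomputable def c0atl4D (u : ℕ) : ℕ := Nat.land (Nat.shiftRight c0atl4Dd (Nat.mul u (nat_lit 6))) (nat_lit 63)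
noncomputable def c0atl4Pd : ℕ := nat_lit 0xb28e86aeafa4d9091924
noncomputable def c0atl4P (u : ℕ) : ℕ := Nat.land (Nat.shiftRight c0atl4Pd (Nat.mul u (nat_lit 5))) (nat_lit 31)
noncomputable def c0atl4Qd : ℕ := nat_lit 0xf97630480b5ae1cd2000000
noncomputable def c0atl4Q (u : ℕ) : ℕ := Nat.land (Nat.shiftRight c0atl4Qd (Nat.mul u (nat_lit 4))) (nat_lit 15)
noncomputable def c0atl4 : H16.Lev := ⟨16, 4, c0atl4D, c0atl4P, c0atl4Q⟩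
noncomputable def c0ace_W : List (List ℕ) := [[nat_lit 2],
  [nat_lit 1, nat_lit 3],
  [nat_lit 1, nat_lit 5, nat_lit 6, nat_lit 2, nat_lit 5, nat_lit 7, nat_lit 8, nat_lit 7, nat_lit 6, nat_lit 1],
  [nat_lit 1, nat_lit 2, nat_lit 6, nat_lit 1, nat_lit 2, nat_lit 7, nat_lit 6, nat_lit 0, nat_lit 8, nat_lit 7, nat_lit 6, nat_lit 3]]
noncomputable def c0ace_P : ℕ → ℕ → ℕ := wdsP H15.MM22.P c0ace_W
noncomputable def c0acc4Dd : ℕ := nat_lit 0xd0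
noncomputable def c0acc4D (u : ℕ) : ℕ := Nat.land (Nat.shiftRight c0acc4Dd (Nat.mul u (nat_lit 2))) (nat_lit 3)
noncomputable def c0acc4Pd : ℕ := nat_lit 0x55644
noncomputable def c0acc4P (u : ℕ) : ℕ := Nat.land (Nat.shiftRight c0acc4Pd (Nat.mul u (nat_lit 5))) (nat_lit 31)
noncomputable def c0acc4Qd : ℕ := nat_lit 0x81000300000
noncomputable def c0acc4Q (u : ℕ) : ℕ := Nat.land (Nat.shiftRight c0acc4Qd (Nat.mul u (nat_lit 2))) (nat_lit 3)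
noncomputable def c0acc4 : H16.Lev := ⟨4, 2, c0acc4D, c0acc4P, c0acc4Q⟩
noncomputable def c0atn0Fd : ℕ := nat_lit 0xa2b54268b048
noncomputable def c0atn0F (u : ℕ) : ℕ := Nat.land (Nat.shiftRight c0atn0Fd (Nat.mul u (nat_lit 3))) (nat_lit 7)
noncomputable def c0atn0 : Nd := ⟨c0atn0F, (nat_lit 2), (nat_lit 2), [[nat_lit 0]], [((nat_lit 0), []), ((nat_lit 1), [nat_lit 0])], []⟩
noncomputable def c0acc2Dd : ℕ := nat_lit 0x874320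
noncomputable def c0acc2D (u : ℕ) : ℕ := Nat.land (Nat.shiftRight c0acc2Dd (Nat.mul u (nat_lit 4))) (nat_lit 15)
noncomputable def c0acc2Pd : ℕ := nat_lit 0x22c6d0e3
noncomputable def c0acc2P (u : ℕ) : ℕ := Nat.land (Nat.shiftRight c0acc2Pd (Nat.mul u (nat_lit 5))) (nat_lit 31)
noncomputable def c0acc2Qd : ℕ := nat_lit 0x202801c000200000
noncomputable def c0acc2Q (u : ℕ) : ℕ := Nat.land (Nat.shiftRight c0acc2Qd (Nat.mul u (nat_lit 3))) (nat_lit 7)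
noncomputable def c0acc2 : H16.Lev := ⟨6, 3, c0acc2D, c0acc2P, c0acc2Q⟩
noncomputable def c0atn1Fd : ℕ := nat_lit 0x8087704094c03083b110
noncomputable def c0atn1F (u : ℕ) : ℕ := Nat.land (Nat.shiftRight c0atn1Fd (Nat.mul u (nat_lit 4))) (nat_lit 15)
noncomputable def c0atn1 : Nd := ⟨c0atn1F, (nat_lit 3), (nat_lit 3), [[nat_lit 0]], [((nat_lit 0), []), ((nat_lit 0), [nat_lit 0])], []⟩
noncomputable def c0acc0Dd : ℕ := nat_lit 0x6e24e45584942ce1c91440c0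
noncomputable def c0acc0D (u : ℕ) : ℕ := Nat.land (Nat.shiftRight c0acc0Dd (Nat.mul u (nat_lit 6))) (nat_lit 63)
noncomputable def c0acc0Pd : ℕ := nat_lit 0x88caba3e0d3999551242
noncomputable def c0acc0P (u : ℕ) : ℕ := Nat.land (Nat.shiftRight c0acc0Pd (Nat.mul u (nat_lit 5))) (nat_lit 31)
noncomputable def c0acc0Qd : ℕ := nat_lit 0x4b01f9a085c30076d2e000
noncomputable def c0acc0Q (u : ℕ) : ℕ := Nat.land (Nat.shiftRight c0acc0Qd (Nat.mul u (nat_lit 4))) (nat_lit 15)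
noncomputable def c0acc0 : H16.Lev := ⟨16, 4, c0acc0D, c0acc0P, c0acc0Q⟩
noncomputable def c0atn2Fd : ℕ := nat_lit 0xe08070000060900100
noncomputable def c0atn2F (u : ℕ) : ℕ := Nat.land (Nat.shiftRight c0atn2Fd (Nat.mul u (nat_lit 4))) (nat_lit 15)
noncomputable def c0atn2 : Nd := ⟨c0atn2F, (nat_lit 4), (nat_lit 4), [[nat_lit 0]], [((nat_lit 0), [])], []⟩
noncomputable def c0w0_W : List (List ℕ) := [[nat_lit 6, nat_lit 2, nat_lit 4, nat_lit 6, nat_lit 7, nat_lit 6, nat_lit 1, nat_lit 5, nat_lit 6],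
  [nat_lit 1, nat_lit 7, nat_lit 6, nat_lit 5, nat_lit 8, nat_lit 7, nat_lit 6, nat_lit 0, nat_lit 1, nat_lit 0, nat_lit 8]]
noncomputable def c0w0_P : ℕ → ℕ → ℕ := wdsP H15.MM22.P c0w0_W
noncomputable def c0y0x_W : List (List ℕ) := [[nat_lit 1, nat_lit 7, nat_lit 6, nat_lit 5, nat_lit 8, nat_lit 7, nat_lit 6, nat_lit 0, nat_lit 1, nat_lit 0, nat_lit 8]]
noncomputable def c0y0x_P : ℕ → ℕ → ℕ := wdsP H15.MM22.P c0y0x_W
noncomputable def c0y0th_W : List (List ℕ) := [[nat_lit 4, nat_lit 3, nat_lit 6, nat_lit 1, nat_lit 5, nat_lit 6, nat_lit 7, nat_lit 8, nat_lit 7],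
  [nat_lit 2, nat_lit 4, nat_lit 6, nat_lit 5, nat_lit 8, nat_lit 7, nat_lit 6, nat_lit 1, nat_lit 4, nat_lit 8],
  [nat_lit 0, nat_lit 2, nat_lit 6, nat_lit 7, nat_lit 8, nat_lit 7, nat_lit 6, nat_lit 0, nat_lit 2],
  [nat_lit 1, nat_lit 2, nat_lit 5, nat_lit 7, nat_lit 8, nat_lit 7],
  [nat_lit 0],
  [nat_lit 1],
  [nat_lit 2],
  [nat_lit 3],
  [nat_lit 4],
  [nat_lit 5],
  [nat_lit 6],
  [nat_lit 7],
  [nat_lit 8]]
noncomputable def c0y0th_P : ℕ → ℕ → ℕ := wdsP H15.MM22.P c0y0th_W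
noncomputable def c0y0tl0Dd : ℕ := nat_lit 0x883d7a3c60534630452e2d2c2b1b1c0e0f1a170c0b00
noncomputable def c0y0tl0D (u : ℕ) : ℕ := Nat.land (Nat.shiftRight c0y0tl0Dd (Nat.mul u (nat_lit 8))) (nat_lit 255)
noncomputable def c0y0tl0Pd : ℕ := nat_lit 0x1319148aa1eb664df032d0e68462
noncomputable def c0y0tl0P (u : ℕ) : ℕ := Nat.land (Nat.shiftRight c0y0tl0Pd (Nat.mul u (nat_lit 5))) (nat_lit 31)
noncomputable def c0y0tl0Qd : ℕ := nat_lit 0x31af54e884906b342a571e5108040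
noncomputable def c0y0tl0Q (u : ℕ) : ℕ := Nat.land (Nat.shiftRight c0y0tl0Qd (Nat.mul u (nat_lit 5))) (nat_lit 31)
noncomputable def c0y0tl0 : H16.Lev := ⟨22, 13, c0y0tl0D, c0y0tl0P, c0y0tl0Q⟩
noncomputable def c0y0tl1Dd : ℕ := nat_lit 0x2ea035b481ca541e384889014244070c14200
noncomputable def c0y0tl1D (u : ℕ) : ℕ := Nat.land (Nat.shiftRight c0y0tl1Dd (Nat.mul u (nat_lit 7))) (nat_lit 127)
noncomputable def c0y0tl1Pd : ℕ := nat_lit 0xe09634255104a8d219d7664ded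
noncomputable def c0y0tl1P (u : ℕ) : ℕ := Nat.land (Nat.shiftRight c0y0tl1Pd (Nat.mul u (nat_lit 5))) (nat_lit 31)
noncomputable def c0y0tl1Qd : ℕ := nat_lit 0x11d01222c0d0032a96d3264f38260
noncomputable def c0y0tl1Q (u : ℕ) : ℕ := Nat.land (Nat.shiftRight c0y0tl1Qd (Nat.mul u (nat_lit 5))) (nat_lit 31)
noncomputable def c0y0tl1 : H16.Lev := ⟨21, 11, c0y0tl1D, c0y0tl1P, c0y0tl1Q⟩
noncomputable def c0y0tl2Dd : ℕ := nat_lit 0xef4c21cda7d161b51024c3cb1460c0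
noncomputable def c0y0tl2D (u : ℕ) : ℕ := Nat.land (Nat.shiftRight c0y0tl2Dd (Nat.mul u (nat_lit 6))) (nat_lit 63)
noncomputable def c0y0tl2Pd : ℕ := nat_lit 0x9a4e58e16a2aa93a1849bcb1
noncomputable def c0y0tl2P (u : ℕ) : ℕ := Nat.land (Nat.shiftRight c0y0tl2Pd (Nat.mul u (nat_lit 5))) (nat_lit 31)
noncomputable def c0y0tl2Qd : ℕ := nat_lit 0x312b1c40d140057a9063c82470260
noncomputable def c0y0tl2Q (u : ℕ) : ℕ := Nat.land (Nat.shiftRight c0y0tl2Qd (Nat.mul u (nat_lit 5))) (nat_lit 31)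
noncomputable def c0y0tl2 : H16.Lev := ⟨20, 4, c0y0tl2D, c0y0tl2P, c0y0tl2Q⟩
noncomputable def c0y0tl3Dd : ℕ := nat_lit 0xf6f179bdca6248618440
noncomputable def c0y0tl3D (u : ℕ) : ℕ := Nat.land (Nat.shiftRight c0y0tl3Dd (Nat.mul u (nat_lit 5))) (nat_lit 31)
noncomputable def c0y0tl3Pd : ℕ := nat_lit 0x3064b74076a24e824de5
noncomputable def c0y0tl3P (u : ℕ) : ℕ := Nat.land (Nat.shiftRight c0y0tl3Pd (Nat.mul u (nat_lit 5))) (nat_lit 31)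
noncomputable def c0y0tl3Qd : ℕ := nat_lit 0x8072d0a1b00c0645f0390e0
noncomputable def c0y0tl3Q (u : ℕ) : ℕ := Nat.land (Nat.shiftRight c0y0tl3Qd (Nat.mul u (nat_lit 4))) (nat_lit 15)
noncomputable def c0y0tl3 : H16.Lev := ⟨16, 3, c0y0tl3D, c0y0tl3P, c0y0tl3Q⟩
noncomputable def c0y0tl4Dd : ℕ := nat_lit 4
noncomputable def c0y0tl4D (u : ℕ) : ℕ := Nat.land (Nat.shiftRight c0y0tl4Dd (Nat.mul u (nat_lit 1))) (nat_lit 1)
noncomputable def c0y0tl4Pd : ℕ := nat_lit 0x2274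
noncomputable def c0y0tl4P (u : ℕ) : ℕ := Nat.land (Nat.shiftRight c0y0tl4Pd (Nat.mul u (nat_lit 5))) (nat_lit 31)
noncomputable def c0y0tl4Qd : ℕ := nat_lit 0x4000020000
noncomputable def c0y0tl4Q (u : ℕ) : ℕ := Nat.land (Nat.shiftRight c0y0tl4Qd (Nat.mul u (nat_lit 2))) (nat_lit 3)
noncomputable def c0y0tl4 : H16.Lev := ⟨3, 1, c0y0tl4D, c0y0tl4P, c0y0tl4Q⟩
noncomputable def c0y0ce_W : List (List ℕ) := [[nat_lit 0, nat_lit 5, nat_lit 6, nat_lit 0, nat_lit 3, nat_lit 7, nat_lit 6, nat_lit 5],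
  [nat_lit 7, nat_lit 6, nat_lit 3, nat_lit 6, nat_lit 5, nat_lit 7, nat_lit 6, nat_lit 3, nat_lit 6],
  [nat_lit 0, nat_lit 1, nat_lit 4, nat_lit 6, nat_lit 2, nat_lit 7, nat_lit 6, nat_lit 2, nat_lit 8, nat_lit 7, nat_lit 6, nat_lit 1]]
noncomputable def c0y0ce_P : ℕ → ℕ → ℕ := wdsP H15.MM22.P c0y0ce_W
noncomputable def c0y0cc0Dd : ℕ := nat_lit 0xd522e5a0a410400
noncomputable def c0y0cc0D (u : ℕ) : ℕ := Nat.land (Nat.shiftRight c0y0cc0Dd (Nat.mul u (nat_lit 5))) (nat_lit 31)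
noncomputable def c0y0cc0Pd : ℕ := nat_lit 0x536b1a406f31562
noncomputable def c0y0cc0P (u : ℕ) : ℕ := Nat.land (Nat.shiftRight c0y0cc0Pd (Nat.mul u (nat_lit 5))) (nat_lit 31)
noncomputable def c0y0cc0Qd : ℕ := nat_lit 0x97008640a01b0003205000
noncomputable def c0y0cc0Q (u : ℕ) : ℕ := Nat.land (Nat.shiftRight c0y0cc0Qd (Nat.mul u (nat_lit 4))) (nat_lit 15)
noncomputable def c0y0cc0 : H16.Lev := ⟨12, 3, c0y0cc0D, c0y0cc0P, c0y0cc0Q⟩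
noncomputable def c0y0tn0Fd : ℕ := nat_lit 0x5030500405180000810100
noncomputable def c0y0tn0F (u : ℕ) : ℕ := Nat.land (Nat.shiftRight c0y0tn0Fd (Nat.mul u (nat_lit 4))) (nat_lit 15)
noncomputable def c0y0tn0 : Nd := ⟨c0y0tn0F, (nat_lit 3), (nat_lit 3), [[nat_lit 0, nat_lit 0, nat_lit 0],
  [nat_lit 0, nat_lit 0]], [((nat_lit 0), [])], []⟩

theorem md_b : ltAll 24 H15.MM22.B = 0 ∧ 443520 ≠ 0 := by decide +kernel
theorem p2t_lt : H16.allL (ltAll 9) p2t_W = true := by decide +kernel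
theorem p2_r_a : allZ2 (resEnt p2t_P p2P p2E p2I (nat_lit 24) (nat_lit 20)) (nat_lit 7) (nat_lit 20) = true := by decide +kernel
theorem p2_b : neL H15.MM22.B (p2B.map p2E) = 0 ∧ ltAll 20 p2B = 0 := by decide +kernel
theorem p2_p : allZ2 (pcEnt p2P (nat_lit 2) p2B p2C) 7 7 = true := by decide +kernel
theorem p2_e : H16.allL (ltAll 7) p2e = true := by decide +kernel
theorem p2l0_e_0 : allZ (dent p2l0 (wdsP p2P p2e) (nat_lit 20)) (nat_lit 0) (nat_lit 3) = true := by decide +kernel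
theorem p2l0_h : 0 < p2l0.n ∧ 0 < p2l0.K ∧ p2l0.Pt 0 < 20 ∧ p2l0.Q (p2l0.Pt 0) = 0 := by decide +kernel
theorem p2l1_e_0 : allZ (dent p2l1 (wdsP p2P p2e) (nat_lit 20)) (nat_lit 0) (nat_lit 1) = true := by decide +kernel
theorem p2l1_h : 0 < p2l1.n ∧ 0 < p2l1.K ∧ p2l1.Pt 0 < 20 ∧ p2l1.Q (p2l1.Pt 0) = 0 := by decide +kernel
theorem p2l2_e_0 : allZ (dent p2l2 (wdsP p2P p2e) (nat_lit 20)) (nat_lit 0) (nat_lit 15) = true := by decide +kernel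
theorem p2l2_h : 0 < p2l2.n ∧ 0 < p2l2.K ∧ p2l2.Pt 0 < 20 ∧ p2l2.Q (p2l2.Pt 0) = 0 := by decide +kernel
theorem p2_f2 : (Nat.ble p2l2.K 10 && Nat.ble (topK []) p2l2.K && fixLetters (wdsP p2P p2e) (topK []) (p2l2.Pt 0)) = true := by decide +kernel
theorem p2_f1 : (Nat.ble p2l1.K 10 && Nat.ble (topK [p2l2]) p2l1.K && fixLetters (wdsP p2P p2e) (topK [p2l2]) (p2l1.Pt 0)) = true := by decide +kernel
theorem p2_f0 : (Nat.ble p2l0.K 10 && Nat.ble (topK [p2l1, p2l2]) p2l0.K && fixLetters (wdsP p2P p2e) (topK [p2l1, p2l2]) (p2l0.Pt 0)) = true := by decide +kernel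
theorem p2_c : chainCard [p2l0, p2l1, p2l2] = 2 ^ 7 ∧ ¬ 2 ^ (7 + 1) ∣ 443520 := by decide +kernel
theorem covr_lt : H16.allL (ltAll 9) covr_W = true := by decide +kernel
theorem cov_c0 : (Nat.ble 7 7 && Nat.beq (ltAll 7 []) 0 && Nat.beq (covT0.chk H15.MM22.P p2P covr_P p2E 9 7 2 2 1 p2B 7 [] 0) 0) = true := by decide +kernel
theorem c0ax_lt : H16.allL (ltAll 9) c0ax_W = true := by decide +kernel
theorem c0ath_lt : H16.allL (ltAll 9) c0ath_W = true := by decide +kernel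
theorem c0atl0_e_0 : allZ (dent c0atl0 c0ath_P (nat_lit 24)) (nat_lit 0) (nat_lit 21) = true := by decide +kernel
theorem c0atl0_h : 0 < c0atl0.n ∧ 0 < c0atl0.K ∧ c0atl0.Pt 0 < 24 ∧ c0atl0.Q (c0atl0.Pt 0) = 0 := by decide +kernel
theorem c0atl1_e_0 : allZ (dent c0atl1 c0ath_P (nat_lit 24)) (nat_lit 0) (nat_lit 20) = true := by decide +kernel
theorem c0atl1_h : 0 < c0atl1.n ∧ 0 < c0atl1.K ∧ c0atl1.Pt 0 < 24 ∧ c0atl1.Q (c0atl1.Pt 0) = 0 := by decide +kernel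
theorem c0atl2_e_0 : allZ (dent c0atl2 c0ath_P (nat_lit 24)) (nat_lit 0) (nat_lit 19) = true := by decide +kernel
theorem c0atl2_h : 0 < c0atl2.n ∧ 0 < c0atl2.K ∧ c0atl2.Pt 0 < 24 ∧ c0atl2.Q (c0atl2.Pt 0) = 0 := by decide +kernel
theorem c0atl3_e_0 : allZ (dent c0atl3 c0ath_P (nat_lit 24)) (nat_lit 0) (nat_lit 2) = true := by decide +kernel
theorem c0atl3_h : 0 < c0atl3.n ∧ 0 < c0atl3.K ∧ c0atl3.Pt 0 < 24 ∧ c0atl3.Q (c0atl3.Pt 0) = 0 := by decide +kernel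
theorem c0atl4_e_0 : allZ (dent c0atl4 c0ath_P (nat_lit 24)) (nat_lit 0) (nat_lit 15) = true := by decide +kernel
theorem c0atl4_h : 0 < c0atl4.n ∧ 0 < c0atl4.K ∧ c0atl4.Pt 0 < 24 ∧ c0atl4.Q (c0atl4.Pt 0) = 0 := by decide +kernel
theorem c0at_f4 : (Nat.ble c0atl4.K 11 && Nat.ble (topK []) c0atl4.K && fixLetters c0ath_P (topK []) (c0atl4.Pt 0)) = true := by decide +kernel
theorem c0at_f3 : (Nat.ble c0atl3.K 11 && Nat.ble (topK [c0atl4]) c0atl3.K && fixLetters c0ath_P (topK [c0atl4]) (c0atl3.Pt 0)) = true := by decide +kernel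
theorem c0at_f2 : (Nat.ble c0atl2.K 11 && Nat.ble (topK [c0atl3, c0atl4]) c0atl2.K && fixLetters c0ath_P (topK [c0atl3, c0atl4]) (c0atl2.Pt 0)) = true := by decide +kernel
theorem c0at_f1 : (Nat.ble c0atl1.K 11 && Nat.ble (topK [c0atl2, c0atl3, c0atl4]) c0atl1.K && fixLetters c0ath_P (topK [c0atl2, c0atl3, c0atl4]) (c0atl1.Pt 0)) = true := by decide +kernel
theorem c0at_f0 : (Nat.ble c0atl0.K 11 && Nat.ble (topK [c0atl1, c0atl2, c0atl3, c0atl4]) c0atl0.K && fixLetters c0ath_P (topK [c0atl1, c0atl2, c0atl3, c0atl4]) (c0atl0.Pt 0)) = true := by decide +kernel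
theorem c0at_c : chainCard [c0atl0, c0atl1, c0atl2, c0atl3, c0atl4] = 443520 := by decide +kernel
theorem c0ace_lt : H16.allL (ltAll 9) c0ace_W = true := by decide +kernel
theorem c0acc4_e_0 : allZ (dent c0acc4 c0ace_P (nat_lit 24)) (nat_lit 0) (nat_lit 3) = true := by decide +kernel
theorem c0acc4_h : 0 < c0acc4.n ∧ 0 < c0acc4.K ∧ c0acc4.Pt 0 < 24 ∧ c0acc4.Q (c0acc4.Pt 0) = 0 := by decide +kernel
theorem c0atn0_0 : (Nat.ble c0atl4.K 11 && Nat.beq (ltAll 24 [c0atl3.Pt 0, c0atl2.Pt 0, c0atl1.Pt 0, c0atl0.Pt 0]) 0 && kChk c0ace_P c0ax_P c0atn0.Kn 1 H15.MM22.B [c0atl3.Pt 0, c0atl2.Pt 0, c0atl1.Pt 0, c0atl0.Pt 0] && H16.allL (ltAll 1) c0atn0.pre && planOK c0ath_P c0ax_P 1 (c0atl4.Pt 0) c0atn0.plan [c0atl4]) = true := by decide +kernel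
theorem c0atn0_1_0 : allZ (c0atn0.ent H15.MM22.P c0ath_P c0ax_P c0ax_P c0ace_P (nat_lit 9) (nat_lit 1) H15.MM22.B c0atl4 [] (memO c0acc4)) (nat_lit 0) (nat_lit 16) = true := by decide +kernel
theorem c0ac_f4 : (Nat.ble c0acc4.K 4 && Nat.ble (topK []) c0acc4.K && Nat.beq (c0acc4.Pt 0) (c0atl4.Pt 0) && Nat.beq (ltAll 24 [c0atl3.Pt 0, c0atl2.Pt 0, c0atl1.Pt 0, c0atl0.Pt 0]) 0 && kChk c0ace_P c0ax_P c0acc4.K 1 H15.MM22.B [c0atl3.Pt 0, c0atl2.Pt 0, c0atl1.Pt 0, c0atl0.Pt 0]) = true := by decide +kernel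
theorem c0ac_f3 : (Nat.ble c0atl3.K 11 && Nat.blt (nat_lit 3) 24 && fixLetters c0ath_P c0atl3.K (nat_lit 3) && Nat.beq (ltAll 1 [nat_lit 0]) 0 && Nat.beq (apW c0ax_P [nat_lit 0] (nat_lit 3)) (c0atl3.Pt 0)) = true := by decide +kernel
theorem c0acc2_e_0 : allZ (dent c0acc2 c0ace_P (nat_lit 24)) (nat_lit 0) (nat_lit 5) = true := by decide +kernel
theorem c0acc2_h : 0 < c0acc2.n ∧ 0 < c0acc2.K ∧ c0acc2.Pt 0 < 24 ∧ c0acc2.Q (c0acc2.Pt 0) = 0 := by decide +kernel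
theorem c0atn1_0 : (Nat.ble c0atl2.K 11 && Nat.beq (ltAll 24 [c0atl1.Pt 0, c0atl0.Pt 0]) 0 && kChk c0ace_P c0ax_P c0atn1.Kn 1 H15.MM22.B [c0atl1.Pt 0, c0atl0.Pt 0] && H16.allL (ltAll 1) c0atn1.pre && planOK c0ath_P c0ax_P 1 (c0atl2.Pt 0) c0atn1.plan [c0atl2, c0atl3, c0atl4]) = true := by decide +kernel
theorem c0atn1_1_0 : allZ (c0atn1.ent H15.MM22.P c0ath_P c0ax_P c0ax_P c0ace_P (nat_lit 9) (nat_lit 1) H15.MM22.B c0atl2 [c0atl3, c0atl4] (memO c0acc2)) (nat_lit 0) (nat_lit 20) = true := by decide +kernel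
theorem c0ac_f2 : (Nat.ble c0acc2.K 4 && Nat.ble (topK [c0acc4]) c0acc2.K && Nat.beq (c0acc2.Pt 0) (c0atl2.Pt 0) && Nat.beq (ltAll 24 [c0atl1.Pt 0, c0atl0.Pt 0]) 0 && kChk c0ace_P c0ax_P c0acc2.K 1 H15.MM22.B [c0atl1.Pt 0, c0atl0.Pt 0]) = true := by decide +kernel
theorem c0ac_f1 : (Nat.ble c0atl1.K 11 && Nat.blt (nat_lit 2) 24 && fixLetters c0ath_P c0atl1.K (nat_lit 2) && Nat.beq (ltAll 1 [nat_lit 0]) 0 && Nat.beq (apW c0ax_P [nat_lit 0] (nat_lit 2)) (c0atl1.Pt 0)) = true := by decide +kernel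
theorem c0acc0_e_0 : allZ (dent c0acc0 c0ace_P (nat_lit 24)) (nat_lit 0) (nat_lit 15) = true := by decide +kernel
theorem c0acc0_h : 0 < c0acc0.n ∧ 0 < c0acc0.K ∧ c0acc0.Pt 0 < 24 ∧ c0acc0.Q (c0acc0.Pt 0) = 0 := by decide +kernel
theorem c0atn2_0 : (Nat.ble c0atl0.K 11 && Nat.beq (ltAll 24 []) 0 && kChk c0ace_P c0ax_P c0atn2.Kn 1 H15.MM22.B [] && H16.allL (ltAll 1) c0atn2.pre && planOK c0ath_P c0ax_P 1 (c0atl0.Pt 0) c0atn2.plan [c0atl0, c0atl1, c0atl2, c0atl3, c0atl4]) = true := by decide +kernel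
theorem c0atn2_1_0 : allZ (c0atn2.ent H15.MM22.P c0ath_P c0ax_P c0ax_P c0ace_P (nat_lit 9) (nat_lit 1) H15.MM22.B c0atl0 [c0atl1, c0atl2, c0atl3, c0atl4] (memO c0acc0)) (nat_lit 0) (nat_lit 22) = true := by decide +kernel
theorem c0ac_f0 : (Nat.ble c0acc0.K 4 && Nat.ble (topK [c0acc2, c0acc4]) c0acc0.K && Nat.beq (c0acc0.Pt 0) (c0atl0.Pt 0) && Nat.beq (ltAll 24 []) 0 && kChk c0ace_P c0ax_P c0acc0.K 1 H15.MM22.B []) = true := by decide +kernel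
theorem c0ac_c : chainCard [c0acc0, c0acc2, c0acc4] = 384 ∧ topK [c0acc0, c0acc2, c0acc4] = 4 := by decide +kernel
theorem c0w0_lt : H16.allL (ltAll 9) c0w0_W = true := by decide +kernel
theorem c0y0x_lt : H16.allL (ltAll 9) c0y0x_W = true := by decide +kernel
theorem c0y0th_lt : H16.allL (ltAll 9) c0y0th_W = true := by decide +kernel
theorem c0y0tl0_e_0 : allZ (dent c0y0tl0 c0y0th_P (nat_lit 24)) (nat_lit 0) (nat_lit 21) = true := by decide +kernel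
theorem c0y0tl0_h : 0 < c0y0tl0.n ∧ 0 < c0y0tl0.K ∧ c0y0tl0.Pt 0 < 24 ∧ c0y0tl0.Q (c0y0tl0.Pt 0) = 0 := by decide +kernel
theorem c0y0tl1_e_0 : allZ (dent c0y0tl1 c0y0th_P (nat_lit 24)) (nat_lit 0) (nat_lit 20) = true := by decide +kernel
theorem c0y0tl1_h : 0 < c0y0tl1.n ∧ 0 < c0y0tl1.K ∧ c0y0tl1.Pt 0 < 24 ∧ c0y0tl1.Q (c0y0tl1.Pt 0) = 0 := by decide +kernel
theorem c0y0tl2_e_0 : allZ (dent c0y0tl2 c0y0th_P (nat_lit 24)) (nat_lit 0) (nat_lit 19) = true := by decide +kernel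
theorem c0y0tl2_h : 0 < c0y0tl2.n ∧ 0 < c0y0tl2.K ∧ c0y0tl2.Pt 0 < 24 ∧ c0y0tl2.Q (c0y0tl2.Pt 0) = 0 := by decide +kernel
theorem c0y0tl3_e_0 : allZ (dent c0y0tl3 c0y0th_P (nat_lit 24)) (nat_lit 0) (nat_lit 15) = true := by decide +kernel
theorem c0y0tl3_h : 0 < c0y0tl3.n ∧ 0 < c0y0tl3.K ∧ c0y0tl3.Pt 0 < 24 ∧ c0y0tl3.Q (c0y0tl3.Pt 0) = 0 := by decide +kernel
theorem c0y0tl4_e_0 : allZ (dent c0y0tl4 c0y0th_P (nat_lit 24)) (nat_lit 0) (nat_lit 2) = true := by decide +kernel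
theorem c0y0tl4_h : 0 < c0y0tl4.n ∧ 0 < c0y0tl4.K ∧ c0y0tl4.Pt 0 < 24 ∧ c0y0tl4.Q (c0y0tl4.Pt 0) = 0 := by decide +kernel
theorem c0y0t_f4 : (Nat.ble c0y0tl4.K 13 && Nat.ble (topK []) c0y0tl4.K && fixLetters c0y0th_P (topK []) (c0y0tl4.Pt 0)) = true := by decide +kernel
theorem c0y0t_f3 : (Nat.ble c0y0tl3.K 13 && Nat.ble (topK [c0y0tl4]) c0y0tl3.K && fixLetters c0y0th_P (topK [c0y0tl4]) (c0y0tl3.Pt 0)) = true := by decide +kernel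
theorem c0y0t_f2 : (Nat.ble c0y0tl2.K 13 && Nat.ble (topK [c0y0tl3, c0y0tl4]) c0y0tl2.K && fixLetters c0y0th_P (topK [c0y0tl3, c0y0tl4]) (c0y0tl2.Pt 0)) = true := by decide +kernel
theorem c0y0t_f1 : (Nat.ble c0y0tl1.K 13 && Nat.ble (topK [c0y0tl2, c0y0tl3, c0y0tl4]) c0y0tl1.K && fixLetters c0y0th_P (topK [c0y0tl2, c0y0tl3, c0y0tl4]) (c0y0tl1.Pt 0)) = true := by decide +kernel
theorem c0y0t_f0 : (Nat.ble c0y0tl0.K 13 && Nat.ble (topK [c0y0tl1, c0y0tl2, c0y0tl3, c0y0tl4]) c0y0tl0.K && fixLetters c0y0th_P (topK [c0y0tl1, c0y0tl2, c0y0tl3, c0y0tl4]) (c0y0tl0.Pt 0)) = true := by decide +kernel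
theorem c0y0t_c : chainCard [c0y0tl0, c0y0tl1, c0y0tl2, c0y0tl3, c0y0tl4] = 443520 := by decide +kernel
theorem c0y0ce_lt : H16.allL (ltAll 9) c0y0ce_W = true := by decide +kernel
theorem c0y0c_f4 : (Nat.ble c0y0tl4.K 13 && Nat.blt (nat_lit 2) 24 && fixLetters c0y0th_P c0y0tl4.K (nat_lit 2) && Nat.beq (ltAll 1 [nat_lit 0, nat_lit 0, nat_lit 0, nat_lit 0]) 0 && Nat.beq (apW c0y0x_P [nat_lit 0, nat_lit 0, nat_lit 0, nat_lit 0] (nat_lit 2)) (c0y0tl4.Pt 0)) = true := by decide +kernel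
theorem c0y0c_f3 : (Nat.ble c0y0tl3.K 13 && Nat.blt (nat_lit 2) 24 && fixLetters c0y0th_P c0y0tl3.K (nat_lit 2) && Nat.beq (ltAll 1 [nat_lit 0, nat_lit 0, nat_lit 0]) 0 && Nat.beq (apW c0y0x_P [nat_lit 0, nat_lit 0, nat_lit 0] (nat_lit 2)) (c0y0tl3.Pt 0)) = true := by decide +kernel
theorem c0y0c_f2 : (Nat.ble c0y0tl2.K 13 && Nat.blt (nat_lit 2) 24 && fixLetters c0y0th_P c0y0tl2.K (nat_lit 2) && Nat.beq (ltAll 1 [nat_lit 0, nat_lit 0]) 0 && Nat.beq (apW c0y0x_P [nat_lit 0, nat_lit 0] (nat_lit 2)) (c0y0tl2.Pt 0)) = true := by decide +kernel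
theorem c0y0c_f1 : (Nat.ble c0y0tl1.K 13 && Nat.blt (nat_lit 2) 24 && fixLetters c0y0th_P c0y0tl1.K (nat_lit 2) && Nat.beq (ltAll 1 [nat_lit 0]) 0 && Nat.beq (apW c0y0x_P [nat_lit 0] (nat_lit 2)) (c0y0tl1.Pt 0)) = true := by decide +kernel
theorem c0y0cc0_e_0 : allZ (dent c0y0cc0 c0y0ce_P (nat_lit 24)) (nat_lit 0) (nat_lit 11) = true := by decide +kernel
theorem c0y0cc0_h : 0 < c0y0cc0.n ∧ 0 < c0y0cc0.K ∧ c0y0cc0.Pt 0 < 24 ∧ c0y0cc0.Q (c0y0cc0.Pt 0) = 0 := by decide +kernel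
theorem c0y0tn0_0 : (Nat.ble c0y0tl0.K 13 && Nat.beq (ltAll 24 []) 0 && kChk c0y0ce_P c0y0x_P c0y0tn0.Kn 1 H15.MM22.B [] && H16.allL (ltAll 1) c0y0tn0.pre && planOK c0y0th_P c0y0x_P 1 (c0y0tl0.Pt 0) c0y0tn0.plan [c0y0tl0, c0y0tl1, c0y0tl2, c0y0tl3, c0y0tl4]) = true := by decide +kernel
theorem c0y0tn0_1_0 : allZ (c0y0tn0.ent H15.MM22.P c0y0th_P c0y0x_P c0y0x_P c0y0ce_P (nat_lit 9) (nat_lit 1) H15.MM22.B c0y0tl0 [c0y0tl1, c0y0tl2, c0y0tl3, c0y0tl4] (memO c0y0cc0)) (nat_lit 0) (nat_lit 22) = true := by decide +kernel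
theorem c0y0c_f0 : (Nat.ble c0y0cc0.K 3 && Nat.ble (topK []) c0y0cc0.K && Nat.beq (c0y0cc0.Pt 0) (c0y0tl0.Pt 0) && Nat.beq (ltAll 24 []) 0 && kChk c0y0ce_P c0y0x_P c0y0cc0.K 1 H15.MM22.B []) = true := by decide +kernel
theorem c0y0c_c : chainCard [c0y0cc0] = 12 ∧ topK [c0y0cc0] = 3 := by decide +kernel
theorem c0w0_k : eqL c0w0_P 2 H15.MM22.B (List.replicate 3 1) [0] = 0 := by decide +kernel
theorem c0w0p_k : fixL c0w0_P 2 H15.MM22.B (List.replicate 2 0) = 0 := by decide +kernel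
theorem c0w0n_k : 1 < 24 ∧ ltAll 2 (List.replicate 2 1) = 0 ∧ ltAll 2 [] = 0 ∧ apW c0w0_P (List.replicate 2 1) 1 ≠ apW c0w0_P [] 1 := by decide +kernel

theorem md {G : Type*} [Group G] (e : gen H15.MM22.g 9 ≃* G) :
    ∃ (_ : MulAction G (Cfsg.GolayPt)) (g : ℕ → G), Md g H15.pt H15.MM22.P 24 9 H15.MM22.B 443520 ∧
      ∀ k < 9, (e.symm (g k)).1 = H15.MM22.g k :=
  exists_md H15.MM22.act H15.MM22.inj H15.MM22.card H15.MM22.isBase md_b e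
theorem p2t_act {G Ω : Type*} [Group G] [MulAction G Ω] {g : ℕ → G} {pt : ℕ → Ω}
    (M : Md g pt H15.MM22.P 24 9 H15.MM22.B 443520) : Act (wds g p2t_W) pt p2t_P 24 7 :=
  M.wact p2t_lt
theorem p2_r : ∀ k < 7, ∀ i < 20, (resEnt p2t_P p2P p2E p2I (nat_lit 24) (nat_lit 20)) k i = 0 := allZ2_sound p2_r_a
theorem p2_sm {G Ω : Type*} [Group G] [MulAction G Ω] {g : ℕ → G} {pt : ℕ → Ω}
    (M : Md g pt H15.MM22.P 24 9 H15.MM22.B 443520) : Sm (wds g p2t_W) (fun i => pt (p2E i)) p2P 20 7 p2B ∧ ∀ i < 20, p2E i < 24 :=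
  M.res (p2t_act M) (by decide) p2_r p2_b
theorem p2l0_e : ∀ i < 3, (dent p2l0 (wdsP p2P p2e) (nat_lit 20)) i = 0 := allZ_sound0 p2l0_e_0
theorem p2l0_ok : DOK p2l0 (wdsP p2P p2e) 20 := ⟨p2l0_h, p2l0_e⟩
theorem p2l1_e : ∀ i < 1, (dent p2l1 (wdsP p2P p2e) (nat_lit 20)) i = 0 := allZ_sound0 p2l1_e_0
theorem p2l1_ok : DOK p2l1 (wdsP p2P p2e) 20 := ⟨p2l1_h, p2l1_e⟩
theorem p2l2_e : ∀ i < 15, (dent p2l2 (wdsP p2P p2e) (nat_lit 20)) i = 0 := allZ_sound0 p2l2_e_0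
theorem p2l2_ok : DOK p2l2 (wdsP p2P p2e) 20 := ⟨p2l2_h, p2l2_e⟩
theorem p2_low {G Ω : Type*} [Group G] [MulAction G Ω] {g : ℕ → G} {pt : ℕ → Ω}
    (M : Md g pt H15.MM22.P 24 9 H15.MM22.B 443520) : SLow (gi (wds (wds g p2t_W) p2e)) (fun i => pt (p2E i)) 20 [p2l0, p2l1, p2l2] :=
  (((SLow.nil).cons p2l2_ok ((p2_sm M).1.act.wds p2_e 10) p2_f2).cons p2l1_ok ((p2_sm M).1.act.wds p2_e 10) p2_f1).cons p2l0_ok ((p2_sm M).1.act.wds p2_e 10) p2_f0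
theorem p2_pc {G Ω : Type*} [Group G] [MulAction G Ω] {g : ℕ → G} {pt : ℕ → Ω}
    (M : Md g pt H15.MM22.P 24 9 H15.MM22.B 443520) : PC (wds g p2t_W) 7 2 :=
  have := M.fin
  ((p2_sm M).1.pc0 (by decide) p2_p).pc (p2_low M) (p2_sm M).1.inj
    (fun k => evA_mem_gen _ (nth_lt p2_e k)) M.card ⟨by decide, p2_c⟩
theorem covr_act {G Ω : Type*} [Group G] [MulAction G Ω] {g : ℕ → G} {pt : ℕ → Ω}
    (M : Md g pt H15.MM22.P 24 9 H15.MM22.B 443520) : Act (wds g covr_W) pt covr_P 24 1 :=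
  M.wact covr_lt
theorem cov_0 {G Ω : Type*} [Group G] [MulAction G Ω] {g : ℕ → G} {pt : ℕ → Ω}
    (M : Md g pt H15.MM22.P 24 9 H15.MM22.B 443520) : H0.TR.Cov (wds g p2t_W) (wds g covr_W) 2 1 7 (evA (wds g p2t_W) []) :=
  have := M.fin
  covT0.cov M (p2_sm M).1 (p2_sm M).2 (covr_act M) (p2_pc M) _ _ cov_c0
theorem cov {G Ω : Type*} [Group G] [MulAction G Ω] {g : ℕ → G} {pt : ℕ → Ω}
    (M : Md g pt H15.MM22.P 24 9 H15.MM22.B 443520) {y : G} {e : ℕ} (hy : y ^ 2 ^ e = 1) (hq : y ^ 2 = 1) : Good (wds g covr_W) 1 y :=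
  have := M.fin
  H0.TR.Cov.all (p2_pc M) (cov_0 M) hy hq
theorem c0ax_act {G Ω : Type*} [Group G] [MulAction G Ω] {g : ℕ → G} {pt : ℕ → Ω}
    (M : Md g pt H15.MM22.P 24 9 H15.MM22.B 443520) : Act (wds g c0ax_W) pt c0ax_P 24 1 :=
  M.wact c0ax_lt
theorem c0ath_act {G Ω : Type*} [Group G] [MulAction G Ω] {g : ℕ → G} {pt : ℕ → Ω}
    (M : Md g pt H15.MM22.P 24 9 H15.MM22.B 443520) : Act (wds g c0ath_W) pt c0ath_P 24 11 :=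
  M.wact c0ath_lt
theorem c0atl0_e : ∀ i < 21, (dent c0atl0 c0ath_P (nat_lit 24)) i = 0 := allZ_sound0 c0atl0_e_0
theorem c0atl0_ok : DOK c0atl0 c0ath_P 24 := ⟨c0atl0_h, c0atl0_e⟩
theorem c0atl1_e : ∀ i < 20, (dent c0atl1 c0ath_P (nat_lit 24)) i = 0 := allZ_sound0 c0atl1_e_0
theorem c0atl1_ok : DOK c0atl1 c0ath_P 24 := ⟨c0atl1_h, c0atl1_e⟩
theorem c0atl2_e : ∀ i < 19, (dent c0atl2 c0ath_P (nat_lit 24)) i = 0 := allZ_sound0 c0atl2_e_0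
theorem c0atl2_ok : DOK c0atl2 c0ath_P 24 := ⟨c0atl2_h, c0atl2_e⟩
theorem c0atl3_e : ∀ i < 2, (dent c0atl3 c0ath_P (nat_lit 24)) i = 0 := allZ_sound0 c0atl3_e_0
theorem c0atl3_ok : DOK c0atl3 c0ath_P 24 := ⟨c0atl3_h, c0atl3_e⟩
theorem c0atl4_e : ∀ i < 15, (dent c0atl4 c0ath_P (nat_lit 24)) i = 0 := allZ_sound0 c0atl4_e_0
theorem c0atl4_ok : DOK c0atl4 c0ath_P 24 := ⟨c0atl4_h, c0atl4_e⟩
theorem c0at_low {G Ω : Type*} [Group G] [MulAction G Ω] {g : ℕ → G} {pt : ℕ → Ω}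
    (M : Md g pt H15.MM22.P 24 9 H15.MM22.B 443520) : SLow (gi (wds g c0ath_W)) pt 24 [c0atl0, c0atl1, c0atl2, c0atl3, c0atl4] :=
  (((((SLow.nil).cons c0atl4_ok (c0ath_act M) c0at_f4).cons c0atl3_ok (c0ath_act M) c0at_f3).cons c0atl2_ok (c0ath_act M) c0at_f2).cons c0atl1_ok (c0ath_act M) c0at_f1).cons c0atl0_ok (c0ath_act M) c0at_f0
theorem c0at_S0 {G Ω : Type*} [Group G] [MulAction G Ω] {g : ℕ → G} {pt : ℕ → Ω}
    (M : Md g pt H15.MM22.P 24 9 H15.MM22.B 443520) : Stage ⊤ (wds g c0ath_W) pt 24 [c0atl0, c0atl1, c0atl2, c0atl3, c0atl4] [] :=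
  M.stage (c0at_low M) c0at_c
theorem c0at_S1 {G Ω : Type*} [Group G] [MulAction G Ω] {g : ℕ → G} {pt : ℕ → Ω}
    (M : Md g pt H15.MM22.P 24 9 H15.MM22.B 443520) : Stage ⊤ (wds g c0ath_W) pt 24 [c0atl1, c0atl2, c0atl3, c0atl4] [c0atl0.Pt 0] :=
  (c0at_S0 M).next
theorem c0at_S2 {G Ω : Type*} [Group G] [MulAction G Ω] {g : ℕ → G} {pt : ℕ → Ω}
    (M : Md g pt H15.MM22.P 24 9 H15.MM22.B 443520) : Stage ⊤ (wds g c0ath_W) pt 24 [c0atl2, c0atl3, c0atl4] [c0atl1.Pt 0, c0atl0.Pt 0] :=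
  (c0at_S1 M).next
theorem c0at_S3 {G Ω : Type*} [Group G] [MulAction G Ω] {g : ℕ → G} {pt : ℕ → Ω}
    (M : Md g pt H15.MM22.P 24 9 H15.MM22.B 443520) : Stage ⊤ (wds g c0ath_W) pt 24 [c0atl3, c0atl4] [c0atl2.Pt 0, c0atl1.Pt 0, c0atl0.Pt 0] :=
  (c0at_S2 M).next
theorem c0at_S4 {G Ω : Type*} [Group G] [MulAction G Ω] {g : ℕ → G} {pt : ℕ → Ω}
    (M : Md g pt H15.MM22.P 24 9 H15.MM22.B 443520) : Stage ⊤ (wds g c0ath_W) pt 24 [c0atl4] [c0atl3.Pt 0, c0atl2.Pt 0, c0atl1.Pt 0, c0atl0.Pt 0] :=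
  (c0at_S3 M).next
theorem c0at_S5 {G Ω : Type*} [Group G] [MulAction G Ω] {g : ℕ → G} {pt : ℕ → Ω}
    (M : Md g pt H15.MM22.P 24 9 H15.MM22.B 443520) : Stage ⊤ (wds g c0ath_W) pt 24 [] [c0atl4.Pt 0, c0atl3.Pt 0, c0atl2.Pt 0, c0atl1.Pt 0, c0atl0.Pt 0] :=
  (c0at_S4 M).next
theorem c0ace_act {G Ω : Type*} [Group G] [MulAction G Ω] {g : ℕ → G} {pt : ℕ → Ω}
    (M : Md g pt H15.MM22.P 24 9 H15.MM22.B 443520) : Act (wds g c0ace_W) pt c0ace_P 24 4 :=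
  M.wact c0ace_lt
theorem c0acc4_e : ∀ i < 3, (dent c0acc4 c0ace_P (nat_lit 24)) i = 0 := allZ_sound0 c0acc4_e_0
theorem c0acc4_ok : DOK c0acc4 c0ace_P 24 := ⟨c0acc4_h, c0acc4_e⟩
theorem c0atn0_1 : ∀ i < 16, (c0atn0.ent H15.MM22.P c0ath_P c0ax_P c0ax_P c0ace_P (nat_lit 9) (nat_lit 1) H15.MM22.B c0atl4 [] (memO c0acc4)) i = 0 := allZ_sound0 c0atn0_1_0
theorem c0atn0_t {G Ω : Type*} [Group G] [MulAction G Ω] {g : ℕ → G} {pt : ℕ → Ω}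
    (M : Md g pt H15.MM22.P 24 9 H15.MM22.B 443520) : TrO (gen (wds g c0ath_W) c0atl4.K) (wds g c0ax_W) (wds g c0ax_W) 1 pt 24 (c0atl4.Pt 0) (memO c0acc4) :=
  node M (c0at_S4 M) (c0ath_act M) (c0ax_act M) (c0ax_act M) c0atn0 ((c0ace_act M).mono (by decide)) (fun _ _ => trivial) c0atn0_0 c0atn0_1 (List.forall_mem_nil _)
theorem c0acc2_e : ∀ i < 5, (dent c0acc2 c0ace_P (nat_lit 24)) i = 0 := allZ_sound0 c0acc2_e_0
theorem c0acc2_ok : DOK c0acc2 c0ace_P 24 := ⟨c0acc2_h, c0acc2_e⟩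
theorem c0atn1_1 : ∀ i < 20, (c0atn1.ent H15.MM22.P c0ath_P c0ax_P c0ax_P c0ace_P (nat_lit 9) (nat_lit 1) H15.MM22.B c0atl2 [c0atl3, c0atl4] (memO c0acc2)) i = 0 := allZ_sound0 c0atn1_1_0
theorem c0atn1_t {G Ω : Type*} [Group G] [MulAction G Ω] {g : ℕ → G} {pt : ℕ → Ω}
    (M : Md g pt H15.MM22.P 24 9 H15.MM22.B 443520) : TrO (gen (wds g c0ath_W) c0atl2.K) (wds g c0ax_W) (wds g c0ax_W) 1 pt 24 (c0atl2.Pt 0) (memO c0acc2) :=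
  node M (c0at_S2 M) (c0ath_act M) (c0ax_act M) (c0ax_act M) c0atn1 ((c0ace_act M).mono (by decide)) (fun _ _ => trivial) c0atn1_0 c0atn1_1 (List.forall_mem_nil _)
theorem c0acc0_e : ∀ i < 15, (dent c0acc0 c0ace_P (nat_lit 24)) i = 0 := allZ_sound0 c0acc0_e_0
theorem c0acc0_ok : DOK c0acc0 c0ace_P 24 := ⟨c0acc0_h, c0acc0_e⟩
theorem c0atn2_1 : ∀ i < 22, (c0atn2.ent H15.MM22.P c0ath_P c0ax_P c0ax_P c0ace_P (nat_lit 9) (nat_lit 1) H15.MM22.B c0atl0 [c0atl1, c0atl2, c0atl3, c0atl4] (memO c0acc0)) i = 0 := allZ_sound0 c0atn2_1_0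
theorem c0atn2_t {G Ω : Type*} [Group G] [MulAction G Ω] {g : ℕ → G} {pt : ℕ → Ω}
    (M : Md g pt H15.MM22.P 24 9 H15.MM22.B 443520) : TrO (gen (wds g c0ath_W) c0atl0.K) (wds g c0ax_W) (wds g c0ax_W) 1 pt 24 (c0atl0.Pt 0) (memO c0acc0) :=
  node M (c0at_S0 M) (c0ath_act M) (c0ax_act M) (c0ax_act M) c0atn2 ((c0ace_act M).mono (by decide)) (fun _ _ => trivial) c0atn2_0 c0atn2_1 (List.forall_mem_nil _)
theorem c0ac {G Ω : Type*} [Group G] [MulAction G Ω] {g : ℕ → G} {pt : ℕ → Ω}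
    (M : Md g pt H15.MM22.P 24 9 H15.MM22.B 443520) : Cen ⊤ (wds g c0ax_W) 1 (wds g c0ace_W) pt 24 [c0acc0, c0acc2, c0acc4] :=
  (c0at_S0 M).top ▸ Cen.lev M (c0at_S0 M) (Cen.triv (c0at_S1 M) (Cen.lev M (c0at_S2 M) (Cen.triv (c0at_S3 M) (Cen.lev M (c0at_S4 M) (Cen.bot) (c0atn0_t M) (c0ax_act M) (c0ace_act M) (fun _ _ => trivial) c0acc4_ok c0ac_f4) (forced (c0at_S3 M) (c0ath_act M) (c0ax_act M) _ _ c0ac_f3)) (c0atn1_t M) (c0ax_act M) (c0ace_act M) (fun _ _ => trivial) c0acc2_ok c0ac_f2) (forced (c0at_S1 M) (c0ath_act M) (c0ax_act M) _ _ c0ac_f1)) (c0atn2_t M) (c0ax_act M) (c0ace_act M) (fun _ _ => trivial) c0acc0_ok c0ac_f0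
theorem c0ac_card {G Ω : Type*} [Group G] [MulAction G Ω] {g : ℕ → G} {pt : ℕ → Ω}
    (M : Md g pt H15.MM22.P 24 9 H15.MM22.B 443520) : Nat.card (Subgroup.centralizer {(wds g c0ax_W) 0}) = 384 :=
  (c0ac M).card_cent1 M.inj c0ac_c.1
theorem c0ac_eq {G Ω : Type*} [Group G] [MulAction G Ω] {g : ℕ → G} {pt : ℕ → Ω}
    (M : Md g pt H15.MM22.P 24 9 H15.MM22.B 443520) : Subgroup.centralizer (gen (wds g c0ax_W) 1) = gen (wds g c0ace_W) 4 ∧ Nat.card (gen (wds g c0ace_W) 4) = 384 :=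
  c0ac_c.1 ▸ c0ac_c.2 ▸ ⟨(c0ac M).cent, (c0ac M).card M.inj⟩
theorem c0w0_act {G Ω : Type*} [Group G] [MulAction G Ω] {g : ℕ → G} {pt : ℕ → Ω}
    (M : Md g pt H15.MM22.P 24 9 H15.MM22.B 443520) : Act (wds g c0w0_W) pt c0w0_P 24 2 :=
  M.wact c0w0_lt
theorem c0y0x_act {G Ω : Type*} [Group G] [MulAction G Ω] {g : ℕ → G} {pt : ℕ → Ω}
    (M : Md g pt H15.MM22.P 24 9 H15.MM22.B 443520) : Act (wds g c0y0x_W) pt c0y0x_P 24 1 :=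
  M.wact c0y0x_lt
theorem c0y0th_act {G Ω : Type*} [Group G] [MulAction G Ω] {g : ℕ → G} {pt : ℕ → Ω}
    (M : Md g pt H15.MM22.P 24 9 H15.MM22.B 443520) : Act (wds g c0y0th_W) pt c0y0th_P 24 13 :=
  M.wact c0y0th_lt
theorem c0y0tl0_e : ∀ i < 21, (dent c0y0tl0 c0y0th_P (nat_lit 24)) i = 0 := allZ_sound0 c0y0tl0_e_0
theorem c0y0tl0_ok : DOK c0y0tl0 c0y0th_P 24 := ⟨c0y0tl0_h, c0y0tl0_e⟩
theorem c0y0tl1_e : ∀ i < 20, (dent c0y0tl1 c0y0th_P (nat_lit 24)) i = 0 := allZ_sound0 c0y0tl1_e_0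
theorem c0y0tl1_ok : DOK c0y0tl1 c0y0th_P 24 := ⟨c0y0tl1_h, c0y0tl1_e⟩
theorem c0y0tl2_e : ∀ i < 19, (dent c0y0tl2 c0y0th_P (nat_lit 24)) i = 0 := allZ_sound0 c0y0tl2_e_0
theorem c0y0tl2_ok : DOK c0y0tl2 c0y0th_P 24 := ⟨c0y0tl2_h, c0y0tl2_e⟩
theorem c0y0tl3_e : ∀ i < 15, (dent c0y0tl3 c0y0th_P (nat_lit 24)) i = 0 := allZ_sound0 c0y0tl3_e_0
theorem c0y0tl3_ok : DOK c0y0tl3 c0y0th_P 24 := ⟨c0y0tl3_h, c0y0tl3_e⟩
theorem c0y0tl4_e : ∀ i < 2, (dent c0y0tl4 c0y0th_P (nat_lit 24)) i = 0 := allZ_sound0 c0y0tl4_e_0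
theorem c0y0tl4_ok : DOK c0y0tl4 c0y0th_P 24 := ⟨c0y0tl4_h, c0y0tl4_e⟩
theorem c0y0t_low {G Ω : Type*} [Group G] [MulAction G Ω] {g : ℕ → G} {pt : ℕ → Ω}
    (M : Md g pt H15.MM22.P 24 9 H15.MM22.B 443520) : SLow (gi (wds g c0y0th_W)) pt 24 [c0y0tl0, c0y0tl1, c0y0tl2, c0y0tl3, c0y0tl4] :=
  (((((SLow.nil).cons c0y0tl4_ok (c0y0th_act M) c0y0t_f4).cons c0y0tl3_ok (c0y0th_act M) c0y0t_f3).cons c0y0tl2_ok (c0y0th_act M) c0y0t_f2).cons c0y0tl1_ok (c0y0th_act M) c0y0t_f1).cons c0y0tl0_ok (c0y0th_act M) c0y0t_f0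
theorem c0y0t_S0 {G Ω : Type*} [Group G] [MulAction G Ω] {g : ℕ → G} {pt : ℕ → Ω}
    (M : Md g pt H15.MM22.P 24 9 H15.MM22.B 443520) : Stage ⊤ (wds g c0y0th_W) pt 24 [c0y0tl0, c0y0tl1, c0y0tl2, c0y0tl3, c0y0tl4] [] :=
  M.stage (c0y0t_low M) c0y0t_c
theorem c0y0t_S1 {G Ω : Type*} [Group G] [MulAction G Ω] {g : ℕ → G} {pt : ℕ → Ω}
    (M : Md g pt H15.MM22.P 24 9 H15.MM22.B 443520) : Stage ⊤ (wds g c0y0th_W) pt 24 [c0y0tl1, c0y0tl2, c0y0tl3, c0y0tl4] [c0y0tl0.Pt 0] :=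
  (c0y0t_S0 M).next
theorem c0y0t_S2 {G Ω : Type*} [Group G] [MulAction G Ω] {g : ℕ → G} {pt : ℕ → Ω}
    (M : Md g pt H15.MM22.P 24 9 H15.MM22.B 443520) : Stage ⊤ (wds g c0y0th_W) pt 24 [c0y0tl2, c0y0tl3, c0y0tl4] [c0y0tl1.Pt 0, c0y0tl0.Pt 0] :=
  (c0y0t_S1 M).next
theorem c0y0t_S3 {G Ω : Type*} [Group G] [MulAction G Ω] {g : ℕ → G} {pt : ℕ → Ω}
    (M : Md g pt H15.MM22.P 24 9 H15.MM22.B 443520) : Stage ⊤ (wds g c0y0th_W) pt 24 [c0y0tl3, c0y0tl4] [c0y0tl2.Pt 0, c0y0tl1.Pt 0, c0y0tl0.Pt 0] :=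
  (c0y0t_S2 M).next
theorem c0y0t_S4 {G Ω : Type*} [Group G] [MulAction G Ω] {g : ℕ → G} {pt : ℕ → Ω}
    (M : Md g pt H15.MM22.P 24 9 H15.MM22.B 443520) : Stage ⊤ (wds g c0y0th_W) pt 24 [c0y0tl4] [c0y0tl3.Pt 0, c0y0tl2.Pt 0, c0y0tl1.Pt 0, c0y0tl0.Pt 0] :=
  (c0y0t_S3 M).next
theorem c0y0t_S5 {G Ω : Type*} [Group G] [MulAction G Ω] {g : ℕ → G} {pt : ℕ → Ω}
    (M : Md g pt H15.MM22.P 24 9 H15.MM22.B 443520) : Stage ⊤ (wds g c0y0th_W) pt 24 [] [c0y0tl4.Pt 0, c0y0tl3.Pt 0, c0y0tl2.Pt 0, c0y0tl1.Pt 0, c0y0tl0.Pt 0] :=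
  (c0y0t_S4 M).next
theorem c0y0ce_act {G Ω : Type*} [Group G] [MulAction G Ω] {g : ℕ → G} {pt : ℕ → Ω}
    (M : Md g pt H15.MM22.P 24 9 H15.MM22.B 443520) : Act (wds g c0y0ce_W) pt c0y0ce_P 24 3 :=
  M.wact c0y0ce_lt
theorem c0y0cc0_e : ∀ i < 11, (dent c0y0cc0 c0y0ce_P (nat_lit 24)) i = 0 := allZ_sound0 c0y0cc0_e_0
theorem c0y0cc0_ok : DOK c0y0cc0 c0y0ce_P 24 := ⟨c0y0cc0_h, c0y0cc0_e⟩
theorem c0y0tn0_1 : ∀ i < 22, (c0y0tn0.ent H15.MM22.P c0y0th_P c0y0x_P c0y0x_P c0y0ce_P (nat_lit 9) (nat_lit 1) H15.MM22.B c0y0tl0 [c0y0tl1, c0y0tl2, c0y0tl3, c0y0tl4] (memO c0y0cc0)) i = 0 := allZ_sound0 c0y0tn0_1_0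
theorem c0y0tn0_t {G Ω : Type*} [Group G] [MulAction G Ω] {g : ℕ → G} {pt : ℕ → Ω}
    (M : Md g pt H15.MM22.P 24 9 H15.MM22.B 443520) : TrO (gen (wds g c0y0th_W) c0y0tl0.K) (wds g c0y0x_W) (wds g c0y0x_W) 1 pt 24 (c0y0tl0.Pt 0) (memO c0y0cc0) :=
  node M (c0y0t_S0 M) (c0y0th_act M) (c0y0x_act M) (c0y0x_act M) c0y0tn0 ((c0y0ce_act M).mono (by decide)) (fun _ _ => trivial) c0y0tn0_0 c0y0tn0_1 (List.forall_mem_nil _)
theorem c0y0c {G Ω : Type*} [Group G] [MulAction G Ω] {g : ℕ → G} {pt : ℕ → Ω}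
    (M : Md g pt H15.MM22.P 24 9 H15.MM22.B 443520) : Cen ⊤ (wds g c0y0x_W) 1 (wds g c0y0ce_W) pt 24 [c0y0cc0] :=
  (c0y0t_S0 M).top ▸ Cen.lev M (c0y0t_S0 M) (Cen.triv (c0y0t_S1 M) (Cen.triv (c0y0t_S2 M) (Cen.triv (c0y0t_S3 M) (Cen.triv (c0y0t_S4 M) (Cen.bot) (forced (c0y0t_S4 M) (c0y0th_act M) (c0y0x_act M) _ _ c0y0c_f4)) (forced (c0y0t_S3 M) (c0y0th_act M) (c0y0x_act M) _ _ c0y0c_f3)) (forced (c0y0t_S2 M) (c0y0th_act M) (c0y0x_act M) _ _ c0y0c_f2)) (forced (c0y0t_S1 M) (c0y0th_act M) (c0y0x_act M) _ _ c0y0c_f1)) (c0y0tn0_t M) (c0y0x_act M) (c0y0ce_act M) (fun _ _ => trivial) c0y0cc0_ok c0y0c_f0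
theorem c0y0c_card {G Ω : Type*} [Group G] [MulAction G Ω] {g : ℕ → G} {pt : ℕ → Ω}
    (M : Md g pt H15.MM22.P 24 9 H15.MM22.B 443520) : Nat.card (Subgroup.centralizer {(wds g c0y0x_W) 0}) = 12 :=
  (c0y0c M).card_cent1 M.inj c0y0c_c.1
theorem c0y0c_eq {G Ω : Type*} [Group G] [MulAction G Ω] {g : ℕ → G} {pt : ℕ → Ω}
    (M : Md g pt H15.MM22.P 24 9 H15.MM22.B 443520) : Subgroup.centralizer (gen (wds g c0y0x_W) 1) = gen (wds g c0y0ce_W) 3 ∧ Nat.card (gen (wds g c0y0ce_W) 3) = 12 :=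
  c0y0c_c.1 ▸ c0y0c_c.2 ▸ ⟨(c0y0c M).cent, (c0y0c M).card M.inj⟩
theorem c0w0p {G Ω : Type*} [Group G] [MulAction G Ω] {g : ℕ → G} {pt : ℕ → Ω}
    (M : Md g pt H15.MM22.P 24 9 H15.MM22.B 443520) : (wds g c0w0_W) 0 ^ 2 = 1 :=
  M.pw (c0w0_act M) c0w0p_k
theorem c0w0n {G Ω : Type*} [Group G] [MulAction G Ω] {g : ℕ → G} {pt : ℕ → Ω}
    (M : Md g pt H15.MM22.P 24 9 H15.MM22.B 443520) : (wds g c0w0_W) 1 ^ 2 ≠ 1 :=
  M.npw (c0w0_act M) _ c0w0n_k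
theorem c0W0 {G Ω : Type*} [Group G] [MulAction G Ω] {g : ℕ → G} {pt : ℕ → Ω}
    (M : Md g pt H15.MM22.P 24 9 H15.MM22.B 443520) : Wit (H27.IC.Ce ((wds g covr_W) 0)) 3 12 :=
  have := M.fin
  wit_w (x := (wds g c0w0_W)) (k := 1) (by norm_num) (M.eq_of (c0w0_act M) c0w0_k) (c0w0p M) (c0w0n M) (c0ac_card M) (by decide +kernel) (c0y0c_card M)
theorem c0 {G Ω : Type*} [Group G] [MulAction G Ω] {g : ℕ → G} {pt : ℕ → Ω}
    (M : Md g pt H15.MM22.P 24 9 H15.MM22.B 443520) : OK (H27.IC.Ce ((wds g covr_W) 0)) :=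
  have := M.fin
  ok_num (n := 384) (ws := []) 7 (c0ac_card M) (c0W0 M) (List.forall_mem_nil _) (by decide +kernel)
theorem both {G Ω : Type*} [Group G] [MulAction G Ω] {g : ℕ → G} {pt : ℕ → Ω}
    (M : Md g pt H15.MM22.P 24 9 H15.MM22.B 443520) : Both G :=
  have := M.fin
  both_reps (wds g covr_W) 1 (fun _ hy => cov M (e := 1) hy hy) fun i hi => match i, hi with
    | 0, _ => c0 M

theorem spor : Both Cfsg.Spor.M22 := by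
  obtain ⟨_, g, M, -⟩ := md (MulEquiv.subgroupCongr H15.MM22.gen_eq)
  exact both M

end H15.IC.M22
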