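import Cfsg.Agent.H15.IC.P
import Cfsg.Agent.H15.Conway2

/-! Generated by tools/h15/ic/ic.py (kit tools/h0/tr). -/

set_option maxRecDepth 100000
set_option maxHeartbeats 0

namespace H15.IC.Co3
open H16 H0.TR
open scoped commutatorElement Pointwise

noncomputable def p2t_W : List (List ℕ) := [[nat_lit 6, nat_lit 4, nat_lit 1, nat_lit 2, nat_lit 0, nat_lit 1, nat_lit 3, nat_lit 2, nat_lit 1, nat_lit 2, nat_lit 0, nat_lit 1, nat_lit 3, nat_lit 5, nat_lit 4, nat_lit 3, nat_lit 2, nat_lit 0, nat_lit 2, nat_lit 3, nat_lit 5, nat_lit 4, nat_lit 2, nat_lit 6],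
  [nat_lit 5, nat_lit 0, nat_lit 3, nat_lit 2, nat_lit 1, nat_lit 2, nat_lit 3, nat_lit 2, nat_lit 0, nat_lit 4, nat_lit 3, nat_lit 2, nat_lit 3, nat_lit 5, nat_lit 4, nat_lit 3, nat_lit 2, nat_lit 0, nat_lit 2, nat_lit 3, nat_lit 4, nat_lit 5, nat_lit 4, nat_lit 2, nat_lit 3, nat_lit 4, nat_lit 6, nat_lit 5, nat_lit 4, nat_lit 3, nat_lit 2, nat_lit 3, nat_lit 2, nat_lit 3, nat_lit 4, nat_lit 5, nat_lit 6, nat_lit 1, nat_lit 0, nat_lit 3],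
  [nat_lit 1, nat_lit 3, nat_lit 0, nat_lit 2, nat_lit 1, nat_lit 3, nat_lit 2, nat_lit 0, nat_lit 2, nat_lit 0, nat_lit 2, nat_lit 0, nat_lit 2, nat_lit 4, nat_lit 3, nat_lit 2, nat_lit 1, nat_lit 5, nat_lit 4, nat_lit 3, nat_lit 2, nat_lit 0, nat_lit 2, nat_lit 1, nat_lit 3, nat_lit 2, nat_lit 1, nat_lit 6, nat_lit 5, nat_lit 4, nat_lit 3, nat_lit 2, nat_lit 1, nat_lit 2, nat_lit 0, nat_lit 2, nat_lit 6, nat_lit 5, nat_lit 4],
  [nat_lit 1, nat_lit 0, nat_lit 2, nat_lit 0, nat_lit 2, nat_lit 1, nat_lit 2, nat_lit 3, nat_lit 4, nat_lit 3, nat_lit 2, nat_lit 0, nat_lit 2, nat_lit 4, nat_lit 2, nat_lit 0, nat_lit 5, nat_lit 4, nat_lit 3, nat_lit 2, nat_lit 1, nat_lit 2, nat_lit 3, nat_lit 6, nat_lit 5, nat_lit 4, nat_lit 3, nat_lit 2, nat_lit 3, nat_lit 6, nat_lit 2, nat_lit 1, nat_lit 5, nat_lit 4],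
  [nat_lit 2, nat_lit 3, nat_lit 0, nat_lit 1, nat_lit 2, nat_lit 0, nat_lit 2, nat_lit 1, nat_lit 2, nat_lit 1, nat_lit 3, nat_lit 2, nat_lit 1, nat_lit 4, nat_lit 3, nat_lit 2, nat_lit 0, nat_lit 1, nat_lit 5, nat_lit 4, nat_lit 3, nat_lit 2, nat_lit 3, nat_lit 2, nat_lit 0, nat_lit 3, nat_lit 2, nat_lit 4, nat_lit 6, nat_lit 5, nat_lit 4, nat_lit 3, nat_lit 2, nat_lit 1, nat_lit 2, nat_lit 3, nat_lit 4, nat_lit 2, nat_lit 5, nat_lit 2],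
  [nat_lit 0, nat_lit 4, nat_lit 1, nat_lit 2, nat_lit 3, nat_lit 2, nat_lit 0, nat_lit 2, nat_lit 0, nat_lit 2, nat_lit 0, nat_lit 2, nat_lit 4, nat_lit 3, nat_lit 2, nat_lit 1, nat_lit 3, nat_lit 4],
  [nat_lit 4, nat_lit 2, nat_lit 1, nat_lit 2, nat_lit 1, nat_lit 0, nat_lit 2, nat_lit 3, nat_lit 4, nat_lit 5, nat_lit 4, nat_lit 3, nat_lit 2, nat_lit 3, nat_lit 6, nat_lit 5, nat_lit 4, nat_lit 3, nat_lit 2, nat_lit 1, nat_lit 2, nat_lit 3, nat_lit 4, nat_lit 2, nat_lit 3, nat_lit 2, nat_lit 4, nat_lit 5, nat_lit 4, nat_lit 1],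
  [nat_lit 2, nat_lit 3, nat_lit 2, nat_lit 1, nat_lit 2, nat_lit 1, nat_lit 2, nat_lit 3, nat_lit 2, nat_lit 4, nat_lit 3, nat_lit 2, nat_lit 0, nat_lit 2, nat_lit 4, nat_lit 3, nat_lit 2, nat_lit 4, nat_lit 2, nat_lit 5, nat_lit 4, nat_lit 3, nat_lit 2, nat_lit 0, nat_lit 2, nat_lit 3, nat_lit 4, nat_lit 2, nat_lit 6, nat_lit 5, nat_lit 4, nat_lit 3, nat_lit 2, nat_lit 0, nat_lit 6, nat_lit 2, nat_lit 3, nat_lit 2],
  [nat_lit 2, nat_lit 1, nat_lit 2, nat_lit 1, nat_lit 0, nat_lit 3, nat_lit 2, nat_lit 4, nat_lit 3, nat_lit 2, nat_lit 1, nat_lit 2, nat_lit 1, nat_lit 3, nat_lit 4, nat_lit 5, nat_lit 4, nat_lit 3, nat_lit 2, nat_lit 1, nat_lit 2, nat_lit 0, nat_lit 3, nat_lit 6, nat_lit 5, nat_lit 4, nat_lit 3, nat_lit 2, nat_lit 0, nat_lit 2, nat_lit 3, nat_lit 2, nat_lit 4, nat_lit 5, nat_lit 6, nat_lit 0, nat_lit 5],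
  [nat_lit 0, nat_lit 2, nat_lit 0, nat_lit 1, nat_lit 0, nat_lit 2, nat_lit 1, nat_lit 2, nat_lit 1, nat_lit 2, nat_lit 3, nat_lit 2, nat_lit 0, nat_lit 4, nat_lit 5, nat_lit 4, nat_lit 3, nat_lit 2, nat_lit 1, nat_lit 2, nat_lit 3, nat_lit 4, nat_lit 2, nat_lit 3, nat_lit 2, nat_lit 1, nat_lit 5, nat_lit 6, nat_lit 5, nat_lit 4, nat_lit 3, nat_lit 2, nat_lit 3, nat_lit 2, nat_lit 0, nat_lit 3, nat_lit 2, nat_lit 4, nat_lit 5, nat_lit 1]]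
noncomputable def p2t_P : ℕ → ℕ → ℕ := wdsP H15.Co3.P p2t_W
noncomputable def p2Pd : List ℕ := [nat_lit 0x8be6da89e97f7ee2b8becfd3c384f3a9a7f6c0d99ff0b37bd07dd1c590f5e4ba8cadd282ecd5dddfed9eb194789d939a87aadc97ebbcace5abeeb6c295d88fefb0bd9b92e1a5cdb78391d6c1bfc6e88ae799b279818e7c9ce3cecaa0b5c8a67ac488bbccc9b4aedbb9a286d7f7a8f496c78d80eaafd4a385f2f1dea1e098a4cb77767574737271706f6e6d6c6b6a69684c4a6465534d5e595861545a4b5c605f52504e5d63574956485562675b66514f47464544434241402b0039082e273d1732111c292d370f04253b33233f0e34243a032f282c1e011502220a3512130916381820071a1b360b312a0605101d193c140d0c30261f213e,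
  nat_lit 0xa8c0b2c7dccea3a9c2b6b7d8d2b9c5e2c6e5e6cdc8e8adccaba0acf3caa5b1ecb5b3c3bbbaebc1bfb0f2e4e0afdba6e3f4e7e9b4d5efd1f6d0bdbeb8d4d3eabcedeed7c4d6f5d9cfcba4e1dddfa7f0f7aac9daaef1a1a2de9a7f907d8c9f9388927a827b9997799d847c809b8a8b87988985868f78957e8d9e819c8e949691836e75767072736c746d776f7168696a6b6766646563625e595861545a5b5c605f5756555d53524950484e4d4c4b4a514f464744454140434232311c213a3b352a2b183922253f3e1f2d272f2837381e2c2e20332324343c2630291a3d191d1b360e11030d0a0916050017140b0c131201060710021504080f,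
  nat_lit 0x8dc8a3c5c7c6a5cc9190b9a19cb0877b9e9a9fcbe59482e893d2b5f4ee8178a2c1bbdee17c7d9bc98fe7afe2d9b6dfe6e97f8996a0798ce3a6dbcaa4ad8ecfaeea9dd17ad4f18384b1ef95d799f2e080ceab7ec2dabad3ebc0a7bdc3ddf6bfb48897d6f0d098b8beedd88bac8685dcc4f3f7a8b7cdb3f58aaab2d5eca992bce4706f6d6e716c73777674757269686b6a535b495167565f5a5e5848604a595c614e4d574f4c5565625d525063664b645447464445434041420b0127311c3d3a1a051f3b251e0c08163435220d101d2f143912290706333e09112d0e2e26172030130419243803023f3c0a23372b2a150f282c32181b360021,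
  nat_lit 0xd6c4d3d0a6caa2ebb1e7b5f5e2ac99d5be9792c298c3a8def47b8fc99eecbcb2b08ba980dae8b9899bdbefa0a47fc588bfbd93e6f0d9eab487a7aae48da5ddcdd7c6cfe58abab88cae83f784c7b6d2b3eee9d878a17e81947a90f2cced96f39ff6c8869cdcc0afced1f195b7ade1df9aabbbd4c191857c829d8ee0a37de3cb79746f6d7772736c6e767075716b6a69684e62484f524a59615a60515f50585e5c635b67495753544b654c6655564d5d6441434042464447451935313a01080f2f1206001a2a1b392417210e1f092d13303c0c3804021d3b0b230a1e3e37292b072514101834320d203d33360315223f2716112628052c2e1c,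
  nat_lit 0xbb98ec99dfdba2d5d9e7d1b2e28cd0ebb67a96bcc4d28da0dce0b0abced3c2f58f85a9f7a5e8b7c5ddcab8dea4f289b493eebfc8f0b1ed88e9a7aacda8da9be4c1c684e386d8efacaecb80cff3bec3d4bd87baafa1a3f1cc979d7f94ea92c7c09ae68a7df49f789eb581adb99582a6f6c9d6b3d7918b7ce1908e7b7e9ce583796f747075686b6a766e6d7769736c7172524d484f4e4a5a5f595c4961505e58604c4b535155675d5b656366575662546441434240474446451c093f2605102b04391a3706283d120e230c243335020d250b212c2f2d07203c1714363200180f1d300a0829163e133b1b1f1e272e11310334223a2a01381519,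
  nat_lit 0xb4b3bdd7dda1dbb8e2a5bfaab1c9d1c2bae1add5bbefe6a4b0cbf3acf1b6d2a7f4c0e4c8c6d9e9b7aba2c3aedea3ead4b5d3c1a8cde8c5d6edb2f5a9e3e7a6f0d0dac7f7f6beebdfa0cce5dccfecbcc4d8b9eee0cacef2af958e818387828f868a809f91848b947e999e7a8992978c859b9888939c9a9d967c90787f798d7b7d706f6d6e716c73777674757269686b6a5762545d5566595e5c60645f5658615a675b63654e4c484b49534a52504d4f5146474544414243402b3e393c2e273d2a32181c1e2f37311f333b25243f3822233a262d2c2829212030341a351b1d19360e1115060a12160b0f170705101309080d140c0203040100,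
  nat_lit 0xd8eea8d27d9a8587d7c4bce1ab79de89e6beb6cfdbc7f5e9a99983a0988aedd6b1b2df7eb3d0afe8c2e3b7dc8496949dc3c09ce7bf9b78bdf097b4b5a3adae8cef92e4aada8bb0b8b9dda5cbe2e5f4d3f6e0f7c18dd495c9909f8893d9ca7b9ea77f81c5ccc6d17a9182a1cdbaecd5f2eb7ca2a48ff1868ec880a6bbf3ceacea6d6e7775716c7276706f74736b696a684960575264614a624b664c505c564d5b48585467654f555f535d5e515a594e634445434140474246241a1e172d252227230b293e212c0a3f3c33011b283b00092f160819120f2a3637313d341f3504053a0c11031c02100d1d2e2014063930382615072b18320e13,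
  nat_lit 0xf1aad679c2c4bbb7abe5c385dda0bccf96c6e7e9f2b0baeab19be2efc8adf38694ecc1a180acf0cdebb4c5b989e3cbce917ab8dbd1dfa9a7e4c0f6d0a28ddebfd5e67bcad8b3dcd287c9d3e8d998eda388afe1a6d4a8f78c7f929fd7e09e83be90b68e8f789d939a7d8adacc7e81a4bdaef5b29cc77c82a59795b58b84ee99f473696a716f6d756c68726b767770746e4d675f5856575465485d5c495351644f4a4e5b5a50665e55604b5262634c6159404246474443454133362c02060723212f09243b1c251815390d353f2d3c2e3214383d372b3a042a03273e280a311312011b0e0b0f1d193416080c1e29001a1f1005222017263011,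
  nat_lit 0xcde2eae77fc7edc882a6b2dd7a81f2e3dcf0e880e09ab8c0bd977ccebf8485c1babc9691d188a1b6a58986e68adf9d94aae99ed298bb8ea9be99c995a4acf1d4da93ecc3ef8f8df5f7e1c2a2eef39fd9c5dbb9d6b08cb5b47bf4d092d3cc909cd57d79f6caebb3ab7ed7afd8b1e4a7dec683cba38baeb77887cfc49be5a0ada86f776e756b686976706d746a7172736c495c4c67655f4d665062574b605b4a564f5e545264485361555d5851595a634e47464240414443452e1b32200b053723272d3f161f3a09293010021a3b28180a0c3e041d1336030f2211142b210608252c2f312a0d01331c1924173d35073c150e383934001e2612,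
  nat_lit 0xc9aceb82d6a4debaa7e496e8f5b4adecb8c1d1ee9bd8c5a186f1c0b3cbc3bee29af3a589a9b2e58d88aeb6a2dbaff78c95bce1b9daaae6dd80d9b1c687f0c4e77acd9feadcd2bd98cacee9f685c2d3a6efa8d5f2a0cce0a3b5918381e3d78ab08fedc78e8b849e789794d0c89399d4cfbbdfab929df49cbf797d7e7b7cb77f9076776e6d6b68696f7075746a736c71724e5b5d5452565e595f61655c665a605853624c645763484d496750554a4b4f5146474544434041423a15101b323f0b112e170c240d3b031d0737061e271628292b0f1434222319001a2c30053c1f210e362a3e250208383d26183335390401122f2d1c0a31130920]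
noncomputable def p2P (k u : ℕ) : ℕ := Nat.land (Nat.shiftRight (nth (nat_lit 0) p2Pd k) (Nat.mul u (nat_lit 8))) (nat_lit 255)
noncomputable def p2Ed : ℕ := nat_lit 0x89c3e150983c1a0702803fdfafb7d3d5deee76badd4e773391c6e270b81badc6db69b2d76b355a6cf6632d90c761b057ab75b2d566ae56ab154a75329548a350a7d3c9d4e269309649a45208e43a0d047d3e1ecf4793c1dcec74391c4e06e3519cca6431984c05f2f174b6582b958aa52251188a44210f87a3a1b8d05e2d160a450251006c2c140903c1c0b048200e0488c35ecf262b1176a24a2350c6d1f87c26038943211047cbe1eef16c33970a04da49148942200e66b311509c4d208ec7033158782e0282ba5bcb01188422018843a02fe7e3d1e6ec72b7da8d268b419ac9633017ebe5e2e564b155aa550994ba3d188842a04fe75379b0d2662e164a64b249208e431e0e46a32188b854240e8703410068180a00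
noncomputable def p2E (u : ℕ) : ℕ := Nat.land (Nat.shiftRight p2Ed (Nat.mul u (nat_lit 9))) (nat_lit 511)
noncomputable def p2Id : ℕ := nat_lit 0xf767773ff63e766600f5f465f3f24764f1f03defee3ced3beceb63626175ea3a39746000e9e8e738e6e54600e4e337e2e1e0dfde3645dddcdbdad95fd8d7d635d5343332d45e31d3d20030d1d02f7372cf00ce2e2d2ccd2b71002a5dcccbca00c929284400c8c7c627c52625c4c3c2c1c070bf5cbebdbcbb5bba24b923b8006fb75ab6b522b46e2100595820b36d1f57b2b11e561d00b0afaeadacabaaa91ca855a7a6a51ba46c1a54a31900a218a1a09f539e9d9c9b9a17990016989796955215940000005150001493131211929190108f4f006b8e8d0f4e8c0e4d8b000d8a4c0c0b00890a88874b09868500008408430042836a4a07068205000049810080697f41047e7d03007c007b7a7902017868484000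
noncomputable def p2I (u : ℕ) : ℕ := Nat.land (Nat.shiftRight p2Id (Nat.mul u (nat_lit 8))) (nat_lit 255)
noncomputable def p2B : List ℕ := [nat_lit 0, nat_lit 64, nat_lit 72, nat_lit 104, nat_lit 120, nat_lit 84]
noncomputable def p2C : List (List (List ℕ)) := [[[],
  [],
  [],
  [],
  [],
  [],
  [],
  [],
  [],
  []], [[],
  [],
  [],
  [],
  [],
  [],
  [nat_lit 0],
  [],
  [nat_lit 0],
  []], [[],
  [],
  [nat_lit 0],
  [nat_lit 0],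
  [],
  [],
  [nat_lit 1],
  [nat_lit 1],
  [],
  [nat_lit 0]], [[],
  [],
  [],
  [nat_lit 0],
  [nat_lit 0, nat_lit 1],
  [nat_lit 0],
  [],
  [nat_lit 0, nat_lit 1, nat_lit 2],
  [nat_lit 0, nat_lit 1],
  [nat_lit 0, nat_lit 1]], [[],
  [],
  [],
  [],
  [nat_lit 1],
  [],
  [nat_lit 2],
  [],
  [nat_lit 1, nat_lit 2],
  [nat_lit 1]], [[],
  [],
  [],
  [],
  [],
  [],
  [nat_lit 1],
  [nat_lit 1],
  [],
  []], [[],
  [],
  [],
  [],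
  [],
  [],
  [nat_lit 3],
  [nat_lit 2, nat_lit 3, nat_lit 4],
  [nat_lit 0, nat_lit 2, nat_lit 3],
  [nat_lit 0, nat_lit 2]], [[],
  [],
  [],
  [],
  [],
  [],
  [],
  [nat_lit 4],
  [nat_lit 0, nat_lit 1, nat_lit 2, nat_lit 3, nat_lit 5],
  [nat_lit 5]], [[],
  [],
  [],
  [],
  [],
  [],
  [],
  [],
  [nat_lit 0, nat_lit 2],
  [nat_lit 0, nat_lit 2]], [[],
  [],
  [],
  [],
  [],
  [],
  [],
  [],
  [],
  []]]
noncomputable def p2e : List (List ℕ) := [[nat_lit 1, nat_lit 2, nat_lit 8, nat_lit 9],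
  [nat_lit 0, nat_lit 1, nat_lit 6, nat_lit 7],
  [nat_lit 5],
  [nat_lit 2, nat_lit 4, nat_lit 9],
  [nat_lit 3, nat_lit 6, nat_lit 9]]
noncomputable def p2l0Dd : ℕ := nat_lit 0x90c35d4db61b1d68af5529538b859ab952915da55047d37ac50c813e24cd08431964a84c2593c9442209148038198c86c29188b0481f1a0543a101004c160a088380c050481c0800
noncomputable def p2l0D (u : ℕ) : ℕ := Nat.land (Nat.shiftRight p2l0Dd (Nat.mul u (nat_lit 9))) (nat_lit 511)
noncomputable def p2l0Pd : ℕ := nat_lit 0x8090d2c01b737c4d05308850caf9427972fc36bdea38719a631fd59b8539776f9364fd7d8ca6dcee8a6c9ee8a4e96440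
noncomputable def p2l0P (u : ℕ) : ℕ := Nat.land (Nat.shiftRight p2l0Pd (Nat.mul u (nat_lit 6))) (nat_lit 63)
noncomputable def p2l0Qd : ℕ := nat_lit 0x7554282c361a956475e2f7bbb86e489a424a1dbb443c5c7fdeb5cc3604dfa8271953c0704a39f3a4efb28a1d36f6ce80
noncomputable def p2l0Q (u : ℕ) : ℕ := Nat.land (Nat.shiftRight p2l0Qd (Nat.mul u (nat_lit 6))) (nat_lit 63)
noncomputable def p2l0 : H16.Lev := ⟨64, 5, p2l0D, p2l0P, p2l0Q⟩
noncomputable def p2l1Dd : ℕ := nat_lit 0xa216543532481441c1003080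
noncomputable def p2l1D (u : ℕ) : ℕ := Nat.land (Nat.shiftRight p2l1Dd (Nat.mul u (nat_lit 6))) (nat_lit 63)
noncomputable def p2l1Pd : ℕ := nat_lit 0xe2a5cd3a5b47bc6c3351f102
noncomputable def p2l1P (u : ℕ) : ℕ := Nat.land (Nat.shiftRight p2l1Pd (Nat.mul u (nat_lit 6))) (nat_lit 63)
noncomputable def p2l1Qd : ℕ := nat_lit 0xf0000400570900e0000a0000020000000d00300000bc0000086010000
noncomputable def p2l1Q (u : ℕ) : ℕ := Nat.land (Nat.shiftRight p2l1Qd (Nat.mul u (nat_lit 4))) (nat_lit 15)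
noncomputable def p2l1 : H16.Lev := ⟨16, 4, p2l1D, p2l1P, p2l1Q⟩
noncomputable def covr_W : List (List ℕ) := [[nat_lit 1, nat_lit 2, nat_lit 1, nat_lit 0, nat_lit 3, nat_lit 4, nat_lit 3, nat_lit 2, nat_lit 0, nat_lit 2, nat_lit 4, nat_lit 3, nat_lit 2, nat_lit 4, nat_lit 2, nat_lit 5, nat_lit 4, nat_lit 6, nat_lit 5, nat_lit 4, nat_lit 3, nat_lit 2, nat_lit 3, nat_lit 2, nat_lit 0, nat_lit 3, nat_lit 5, nat_lit 4],
  [nat_lit 0, nat_lit 2, nat_lit 1, nat_lit 3, nat_lit 2, nat_lit 1, nat_lit 2, nat_lit 0, nat_lit 2, nat_lit 3, nat_lit 4, nat_lit 3, nat_lit 2, nat_lit 1, nat_lit 5, nat_lit 4, nat_lit 3, nat_lit 2, nat_lit 1, nat_lit 2, nat_lit 3, nat_lit 4, nat_lit 2, nat_lit 5, nat_lit 6, nat_lit 5, nat_lit 4, nat_lit 3, nat_lit 2, nat_lit 0, nat_lit 2, nat_lit 4, nat_lit 2, nat_lit 1, nat_lit 6]]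
noncomputable def covr_P : ℕ → ℕ → ℕ := wdsP H15.Co3.P covr_W
noncomputable def covT0 : H0.TR.CT := (.split (.more (.split (.more (.split (.more (.split (.more (.split (.more (.split (.more (.split (.more (.split (.more (.split (.more (.split (.more .one (.more (.leaf (nat_lit 0) []) .one))) (.more (.fuse [nat_lit 6] [] (.leaf (nat_lit 0) [nat_lit 0, nat_lit 2, nat_lit 0, nat_lit 1, nat_lit 0, nat_lit 3, nat_lit 2, nat_lit 0, nat_lit 2, nat_lit 3, nat_lit 2, nat_lit 1, nat_lit 4, nat_lit 5, nat_lit 4, nat_lit 3, nat_lit 2, nat_lit 0, nat_lit 2, nat_lit 3, nat_lit 4, nat_lit 2, nat_lit 0, nat_lit 3, nat_lit 2, nat_lit 0, nat_lit 6, nat_lit 5, nat_lit 4, nat_lit 3, nat_lit 2, nat_lit 3, nat_lit 6, nat_lit 2, nat_lit 1, nat_lit 6, nat_lit 4])) .one))) (.more (.fuse [nat_lit 6] [] (.fuse [nat_lit 3] [] (.prune (nat_lit 0) (nat_lit 1) []))) .one))) (.more (.fuse [nat_lit 7]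 [nat_lit 1] (.fuse [nat_lit 4] [nat_lit 0] (.fuse [nat_lit 2] [] (.prune (nat_lit 0) (nat_lit 1) [])))) .one))) (.more (.split (.more (.fuse [nat_lit 6] [] (.fuse [nat_lit 3] [nat_lit 0] (.prune (nat_lit 1) (nat_lit 1) []))) (.more (.fuse [nat_lit 6] [nat_lit 0] (.fuse [nat_lit 3] [nat_lit 0] (.fuse [nat_lit 2] [] (.leaf (nat_lit 0) [nat_lit 0, nat_lit 2, nat_lit 1, nat_lit 2, nat_lit 0, nat_lit 1, nat_lit 3, nat_lit 2, nat_lit 3, nat_lit 2, nat_lit 0, nat_lit 3, nat_lit 4, nat_lit 3, nat_lit 2, nat_lit 1, nat_lit 2, nat_lit 3, nat_lit 4, nat_lit 5, nat_lit 4, nat_lit 3, nat_lit 2, nat_lit 3, nat_lit 2, nat_lit 0, nat_lit 3, nat_lit 2, nat_lit 4, nat_lit 3, nat_lit 6, nat_lit 5, nat_lit 4, nat_lit 3, nat_lit 2, nat_lit 1])))) .one))) .one))) (.more (.split (.more (.split (.more (.split (.more (.fuse [nat_lit 6] [] (.fuse [nat_lit 3] [] (.leaf (nat_lit 0) [nat_lit 4, nat_lit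 2, nat_lit 0, nat_lit 2, nat_lit 0, nat_lit 2, nat_lit 0, nat_lit 1, nat_lit 2, nat_lit 1, nat_lit 2, nat_lit 1, nat_lit 3, nat_lit 2, nat_lit 1, nat_lit 4, nat_lit 3, nat_lit 2, nat_lit 1, nat_lit 2, nat_lit 1, nat_lit 2, nat_lit 3, nat_lit 5, nat_lit 4, nat_lit 6]))) (.more (.split (.more (.fuse [nat_lit 9] [] (.prune (nat_lit 0) (nat_lit 1) [])) (.more (.fuse [nat_lit 6] [] (.prune (nat_lit 0) (nat_lit 1) [])) .one))) .one))) (.more (.fuse [nat_lit 7] [] (.fuse [nat_lit 4] [nat_lit 0] (.fuse [nat_lit 2] [] (.leaf (nat_lit 1) [])))) .one))) (.more (.split (.more (.fuse [nat_lit 6] [nat_lit 1] (.fuse [nat_lit 3] [] (.prune (nat_lit 1) (nat_lit 1) []))) (.more (.fuse [nat_lit 6] [nat_lit 0, nat_lit 1] (.fuse [nat_lit 3] [] (.fuse [nat_lit 2] [] (.prune (nat_lit 0) (nat_lit 1) [])))) .one))) .one))) .one))) (.more (.split (.more (.fuse [nat_lit 7] [nat_lit 0, nat_lit 3]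 (.fuse [nat_lit 8] [nat_lit 1, nat_lit 2] (.prune (nat_lit 3) (nat_lit 1) []))) (.more (.fuse [nat_lit 7] [nat_lit 1, nat_lit 3] (.fuse [nat_lit 8] [nat_lit 0, nat_lit 1, nat_lit 2] (.prune (nat_lit 3) (nat_lit 1) [nat_lit 0, nat_lit 1]))) .one))) .one))) (.more (.split (.more (.fuse [nat_lit 8] [nat_lit 0, nat_lit 1, nat_lit 3] (.fuse [nat_lit 6] [nat_lit 1, nat_lit 3] (.prune (nat_lit 4) (nat_lit 1) []))) (.more (.fuse [nat_lit 8] [nat_lit 1, nat_lit 2] (.fuse [nat_lit 6] [nat_lit 2, nat_lit 3] (.split (.more (.fuse [nat_lit 3] [nat_lit 0, nat_lit 1] (.split (.more (.fuse [nat_lit 1] [] (.prune (nat_lit 0) (nat_lit 1) [])) (.more (.fuse [nat_lit 1] [] (.leaf (nat_lit 0) [nat_lit 2, nat_lit 1, nat_lit 2, nat_lit 1, nat_lit 2, nat_lit 3, nat_lit 2, nat_lit 3, nat_lit 2, nat_lit 1, nat_lit 2, nat_lit 1, nat_lit 4, nat_lit 3, nat_lit 2, nat_lit 0, nat_lit 2, nat_lit 4,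 nat_lit 5, nat_lit 4, nat_lit 6, nat_lit 5, nat_lit 4, nat_lit 3, nat_lit 2, nat_lit 6, nat_lit 5, nat_lit 4])) .one)))) (.more (.fuse [nat_lit 3] [nat_lit 1] (.prune (nat_lit 2) (nat_lit 1) [nat_lit 0, nat_lit 1])) .one))))) .one))) .one))) (.more (.split (.more (.split (.more (.fuse [nat_lit 7] [nat_lit 2, nat_lit 3] (.split (.more (.fuse [nat_lit 6] [nat_lit 1, nat_lit 2] (.fuse [nat_lit 4] [nat_lit 1] (.prune (nat_lit 2) (nat_lit 1) [nat_lit 0]))) (.more (.fuse [nat_lit 6] [] (.fuse [nat_lit 4] [nat_lit 1] (.split (.more (.fuse [nat_lit 1] [] (.leaf (nat_lit 1) [nat_lit 5, nat_lit 0, nat_lit 2, nat_lit 1, nat_lit 2, nat_lit 0, nat_lit 3, nat_lit 4, nat_lit 3, nat_lit 2, nat_lit 3, nat_lit 2, nat_lit 3, nat_lit 2, nat_lit 5, nat_lit 4, nat_lit 3, nat_lit 2, nat_lit 0, nat_lit 2, nat_lit 1, nat_lit 2, nat_lit 4, nat_lit 6, nat_lit 5, nat_lit 4, nat_lit 3, nat_lit 2,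 nat_lit 3, nat_lit 2, nat_lit 0, nat_lit 3, nat_lit 2, nat_lit 4, nat_lit 5])) (.more (.fuse [nat_lit 1] [] (.prune (nat_lit 0) (nat_lit 1) [])) .one))))) .one)))) (.more (.fuse [nat_lit 7] [nat_lit 1, nat_lit 2, nat_lit 4] (.split (.more (.fuse [nat_lit 6] [nat_lit 2] (.split (.more (.fuse [nat_lit 2] [nat_lit 0] (.prune (nat_lit 1) (nat_lit 1) [])) (.more (.fuse [nat_lit 2] [nat_lit 0] (.fuse [nat_lit 2, nat_lit 3] [] (.leaf (nat_lit 1) [nat_lit 5, nat_lit 6, nat_lit 0, nat_lit 1, nat_lit 0, nat_lit 2, nat_lit 1, nat_lit 2, nat_lit 1, nat_lit 3, nat_lit 2, nat_lit 1, nat_lit 4, nat_lit 3, nat_lit 2, nat_lit 0, nat_lit 5, nat_lit 4, nat_lit 3, nat_lit 2, nat_lit 3, nat_lit 2, nat_lit 6, nat_lit 5, nat_lit 4, nat_lit 3, nat_lit 2, nat_lit 1]))) .one)))) (.more (.fuse [nat_lit 6] [nat_lit 1] (.split (.more (.fuse [nat_lit 2] [nat_lit 0] (.prune (nat_lit 1) (nat_lit 1)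 [nat_lit 0])) (.more (.fuse [nat_lit 2] [nat_lit 0] (.fuse [nat_lit 3] [] (.prune (nat_lit 0) (nat_lit 1) []))) .one)))) .one)))) .one))) (.more (.split (.more (.fuse [nat_lit 7] [nat_lit 3] (.prune (nat_lit 5) (nat_lit 1) [nat_lit 1, nat_lit 3, nat_lit 4])) (.more (.fuse [nat_lit 7] [nat_lit 4] (.prune (nat_lit 5) (nat_lit 1) [nat_lit 1])) .one))) .one))) .one))) (.more (.split (.more (.split (.more (.split (.more (.fuse [nat_lit 7] [] (.split (.more (.split (.more (.fuse [nat_lit 6] [nat_lit 0] (.fuse [nat_lit 3] [nat_lit 0] (.fuse [nat_lit 2] [] (.leaf (nat_lit 1) [nat_lit 4, nat_lit 1, nat_lit 2, nat_lit 0, nat_lit 2, nat_lit 0, nat_lit 1, nat_lit 0, nat_lit 3, nat_lit 2, nat_lit 0, nat_lit 2, nat_lit 1, nat_lit 2, nat_lit 1, nat_lit 4, nat_lit 3, nat_lit 2, nat_lit 1, nat_lit 2, nat_lit 1, nat_lit 3, nat_lit 5, nat_lit 4, nat_lit 3, nat_lit 2, nat_lit 1, nat_lit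 6, nat_lit 5, nat_lit 4, nat_lit 3, nat_lit 2, nat_lit 0, nat_lit 2, nat_lit 4])))) (.more (.fuse [nat_lit 6] [] (.fuse [nat_lit 3] [nat_lit 0] (.prune (nat_lit 1) (nat_lit 1) []))) .one))) (.more (.split (.more (.split (.more (.fuse [nat_lit 4] [] (.fuse [nat_lit 2] [] (.leaf (nat_lit 1) [nat_lit 0, nat_lit 2, nat_lit 1, nat_lit 2, nat_lit 1, nat_lit 3, nat_lit 2, nat_lit 3, nat_lit 2, nat_lit 1, nat_lit 0, nat_lit 4, nat_lit 3, nat_lit 2, nat_lit 0, nat_lit 2, nat_lit 4, nat_lit 3, nat_lit 2, nat_lit 4, nat_lit 5, nat_lit 4, nat_lit 3, nat_lit 2, nat_lit 1, nat_lit 2, nat_lit 5, nat_lit 2, nat_lit 1, nat_lit 6, nat_lit 5, nat_lit 4, nat_lit 3, nat_lit 2, nat_lit 1, nat_lit 2, nat_lit 3, nat_lit 4, nat_lit 5]))) (.more (.fuse [nat_lit 4] [] (.fuse [nat_lit 2] [] (.leaf (nat_lit 0) [nat_lit 2, nat_lit 0, nat_lit 2, nat_lit 3, nat_lit 2, nat_lit 1, nat_lit 2, nat_lit 3,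 nat_lit 4, nat_lit 3, nat_lit 5, nat_lit 4, nat_lit 3, nat_lit 2, nat_lit 0, nat_lit 2, nat_lit 0, nat_lit 6]))) .one))) (.more (.split (.more (.split (.more (.fuse [nat_lit 4] [] (.prune (nat_lit 0) (nat_lit 1) [])) (.more (.fuse [nat_lit 4] [] (.prune (nat_lit 0) (nat_lit 1) [])) .one))) (.more (.fuse [nat_lit 6] [] (.fuse [nat_lit 3] [] (.leaf (nat_lit 1) [nat_lit 5, nat_lit 2, nat_lit 1, nat_lit 2, nat_lit 1, nat_lit 3, nat_lit 2, nat_lit 3, nat_lit 2, nat_lit 4, nat_lit 3, nat_lit 2, nat_lit 0, nat_lit 2, nat_lit 0, nat_lit 3, nat_lit 2, nat_lit 5, nat_lit 4, nat_lit 3, nat_lit 2, nat_lit 3, nat_lit 2, nat_lit 3, nat_lit 2, nat_lit 3, nat_lit 6, nat_lit 5, nat_lit 4, nat_lit 3, nat_lit 2, nat_lit 0, nat_lit 2, nat_lit 3, nat_lit 4, nat_lit 2, nat_lit 3, nat_lit 4]))) .one))) .one))) .one)))) (.more (.fuse [nat_lit 7] [nat_lit 1, nat_lit 3, nat_lit 4] (.split (.more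 (.fuse [nat_lit 8] [] (.prune (nat_lit 3) (nat_lit 1) [nat_lit 2])) (.more (.fuse [nat_lit 8] [nat_lit 0, nat_lit 2] (.prune (nat_lit 3) (nat_lit 1) [nat_lit 1])) .one)))) .one))) (.more (.split (.more (.fuse [nat_lit 7] [nat_lit 1] (.prune (nat_lit 5) (nat_lit 1) [nat_lit 4])) (.more (.fuse [nat_lit 7] [nat_lit 0, nat_lit 3, nat_lit 4] (.prune (nat_lit 5) (nat_lit 1) [nat_lit 1, nat_lit 2])) .one))) .one))) (.more (.split (.more (.split (.more (.split (.more (.split (.more (.fuse [nat_lit 6] [nat_lit 0, nat_lit 1] (.fuse [nat_lit 4] [nat_lit 0] (.split (.more (.fuse [nat_lit 1] [] (.prune (nat_lit 0) (nat_lit 1) [])) (.more (.fuse [nat_lit 1] [] (.leaf (nat_lit 1) [nat_lit 3, nat_lit 5, nat_lit 2, nat_lit 0, nat_lit 3, nat_lit 2, nat_lit 3, nat_lit 2, nat_lit 1, nat_lit 2, nat_lit 1, nat_lit 2, nat_lit 3, nat_lit 4, nat_lit 3, nat_lit 2, nat_lit 3, nat_lit 2, nat_lit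 0, nat_lit 1, nat_lit 3, nat_lit 4, nat_lit 5, nat_lit 4, nat_lit 3, nat_lit 2, nat_lit 0, nat_lit 2, nat_lit 3, nat_lit 4, nat_lit 2, nat_lit 6, nat_lit 5, nat_lit 4, nat_lit 3, nat_lit 6, nat_lit 1, nat_lit 4])) .one))))) (.more (.fuse [nat_lit 6] [nat_lit 2] (.fuse [nat_lit 4] [nat_lit 0] (.prune (nat_lit 2) (nat_lit 1) [nat_lit 1]))) .one))) (.more (.split (.more (.fuse [nat_lit 6] [] (.fuse [nat_lit 4] [nat_lit 0] (.split (.more (.fuse [nat_lit 1] [] (.prune (nat_lit 0) (nat_lit 1) [])) (.more (.fuse [nat_lit 1] [] (.leaf (nat_lit 1) [nat_lit 2, nat_lit 1, nat_lit 2, nat_lit 0, nat_lit 1, nat_lit 0, nat_lit 3, nat_lit 2, nat_lit 3, nat_lit 2, nat_lit 3, nat_lit 4, nat_lit 3, nat_lit 2, nat_lit 0, nat_lit 2, nat_lit 0, nat_lit 2, nat_lit 5, nat_lit 4, nat_lit 3, nat_lit 2, nat_lit 3, nat_lit 6, nat_lit 5, nat_lit 4, nat_lit 3, nat_lit 2, nat_lit 0, nat_lit 6])) .one)))))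 (.more (.fuse [nat_lit 6] [nat_lit 0, nat_lit 1, nat_lit 2] (.fuse [nat_lit 4] [nat_lit 0] (.prune (nat_lit 2) (nat_lit 1) [nat_lit 1]))) .one))) .one))) (.more (.split (.more (.fuse [nat_lit 7] [nat_lit 0, nat_lit 2] (.fuse [nat_lit 6] [nat_lit 1] (.split (.more (.fuse [nat_lit 2] [] (.prune (nat_lit 1) (nat_lit 1) [nat_lit 0])) (.more (.fuse [nat_lit 2] [] (.fuse [nat_lit 3] [] (.leaf (nat_lit 1) [nat_lit 3, nat_lit 2, nat_lit 0, nat_lit 2, nat_lit 1, nat_lit 2, nat_lit 4, nat_lit 3, nat_lit 2, nat_lit 0, nat_lit 2, nat_lit 1, nat_lit 3, nat_lit 5, nat_lit 4, nat_lit 3, nat_lit 2, nat_lit 1, nat_lit 2, nat_lit 3, nat_lit 2, nat_lit 4, nat_lit 2, nat_lit 6, nat_lit 5, nat_lit 4, nat_lit 3, nat_lit 2, nat_lit 1, nat_lit 2, nat_lit 3, nat_lit 4, nat_lit 2, nat_lit 5, nat_lit 6]))) .one))))) (.more (.fuse [nat_lit 7] [nat_lit 0, nat_lit 1, nat_lit 2] (.fuse [nat_lit 6]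 [nat_lit 0] (.split (.more (.fuse [nat_lit 2] [] (.fuse [nat_lit 3] [] (.leaf (nat_lit 0) [nat_lit 2, nat_lit 3, nat_lit 2, nat_lit 3, nat_lit 2, nat_lit 1, nat_lit 2, nat_lit 4, nat_lit 3, nat_lit 2, nat_lit 3, nat_lit 2, nat_lit 5, nat_lit 4, nat_lit 3, nat_lit 2, nat_lit 0, nat_lit 2, nat_lit 1, nat_lit 2, nat_lit 5, nat_lit 6, nat_lit 5, nat_lit 4, nat_lit 3, nat_lit 2, nat_lit 3, nat_lit 6, nat_lit 2, nat_lit 5, nat_lit 1]))) (.more (.fuse [nat_lit 2] [] (.prune (nat_lit 1) (nat_lit 1) [nat_lit 0])) .one))))) .one))) .one))) (.more (.split (.more (.fuse [nat_lit 8] [nat_lit 0, nat_lit 2, nat_lit 3] (.fuse [nat_lit 6] [nat_lit 0, nat_lit 1, nat_lit 2] (.prune (nat_lit 4) (nat_lit 1) [nat_lit 1, nat_lit 2, nat_lit 3]))) (.more (.fuse [nat_lit 8] [nat_lit 1] (.fuse [nat_lit 6] [nat_lit 1] (.split (.more (.fuse [nat_lit 3] [nat_lit 0, nat_lit 1] (.fuse [nat_lit 4] []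 (.fuse [nat_lit 2] [] (.leaf (nat_lit 1) [nat_lit 1, nat_lit 2, nat_lit 0, nat_lit 1, nat_lit 3, nat_lit 2, nat_lit 3, nat_lit 2, nat_lit 0, nat_lit 1, nat_lit 3, nat_lit 4, nat_lit 3, nat_lit 2, nat_lit 3, nat_lit 2, nat_lit 3, nat_lit 4, nat_lit 5, nat_lit 4, nat_lit 3, nat_lit 2, nat_lit 1, nat_lit 2, nat_lit 0, nat_lit 2, nat_lit 6, nat_lit 5, nat_lit 4, nat_lit 3, nat_lit 2, nat_lit 0, nat_lit 2, nat_lit 0, nat_lit 3, nat_lit 4, nat_lit 5])))) (.more (.fuse [nat_lit 3] [nat_lit 1] (.prune (nat_lit 2) (nat_lit 1) [nat_lit 1])) .one))))) .one))) .one))) .one))) .one)))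
noncomputable def c0ax_W : List (List ℕ) := [[nat_lit 1, nat_lit 2, nat_lit 1, nat_lit 0, nat_lit 3, nat_lit 4, nat_lit 3, nat_lit 2, nat_lit 0, nat_lit 2, nat_lit 4, nat_lit 3, nat_lit 2, nat_lit 4, nat_lit 2, nat_lit 5, nat_lit 4, nat_lit 6, nat_lit 5, nat_lit 4, nat_lit 3, nat_lit 2, nat_lit 3, nat_lit 2, nat_lit 0, nat_lit 3, nat_lit 5, nat_lit 4]]
noncomputable def c0ax_P : ℕ → ℕ → ℕ := wdsP H15.Co3.P c0ax_W
noncomputable def c0ath_W : List (List ℕ) := [[nat_lit 4, nat_lit 0, nat_lit 2, nat_lit 1, nat_lit 2, nat_lit 1, nat_lit 3, nat_lit 2, nat_lit 3, nat_lit 2, nat_lit 0, nat_lit 2, nat_lit 0, nat_lit 2, nat_lit 4, nat_lit 3, nat_lit 5, nat_lit 6, nat_lit 5, nat_lit 4, nat_lit 3, nat_lit 2, nat_lit 0, nat_lit 2],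
  [nat_lit 1, nat_lit 2, nat_lit 1, nat_lit 2, nat_lit 0, nat_lit 2, nat_lit 3, nat_lit 4, nat_lit 3, nat_lit 2, nat_lit 0, nat_lit 2, nat_lit 1, nat_lit 0, nat_lit 3, nat_lit 6, nat_lit 5, nat_lit 4, nat_lit 3, nat_lit 2, nat_lit 0, nat_lit 1, nat_lit 6],
  [nat_lit 1, nat_lit 2, nat_lit 0, nat_lit 1, nat_lit 0, nat_lit 2, nat_lit 0, nat_lit 2, nat_lit 1, nat_lit 3, nat_lit 4, nat_lit 3, nat_lit 2, nat_lit 1, nat_lit 2, nat_lit 0],
  [nat_lit 1, nat_lit 2, nat_lit 0, nat_lit 2, nat_lit 1, nat_lit 4, nat_lit 3, nat_lit 2, nat_lit 0, nat_lit 2, nat_lit 4, nat_lit 5, nat_lit 6, nat_lit 5, nat_lit 4, nat_lit 3, nat_lit 2, nat_lit 0, nat_lit 2, nat_lit 3, nat_lit 4, nat_lit 2, nat_lit 0, nat_lit 1],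
  [nat_lit 4, nat_lit 0, nat_lit 1, nat_lit 2, nat_lit 3, nat_lit 2, nat_lit 1, nat_lit 2, nat_lit 0, nat_lit 3, nat_lit 2, nat_lit 4, nat_lit 6, nat_lit 5, nat_lit 4, nat_lit 3, nat_lit 2, nat_lit 1, nat_lit 2, nat_lit 3, nat_lit 6, nat_lit 4],
  [nat_lit 0],
  [nat_lit 1],
  [nat_lit 2],
  [nat_lit 0, nat_lit 1, nat_lit 2, nat_lit 1, nat_lit 2, nat_lit 3, nat_lit 4, nat_lit 3, nat_lit 2, nat_lit 1, nat_lit 2, nat_lit 0, nat_lit 2, nat_lit 0, nat_lit 2, nat_lit 5, nat_lit 6, nat_lit 5],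
  [nat_lit 3],
  [nat_lit 4],
  [nat_lit 2, nat_lit 3, nat_lit 1, nat_lit 2, nat_lit 1, nat_lit 2, nat_lit 1, nat_lit 2, nat_lit 3, nat_lit 2, nat_lit 0, nat_lit 2, nat_lit 0, nat_lit 2, nat_lit 0, nat_lit 4, nat_lit 3, nat_lit 2, nat_lit 0, nat_lit 2, nat_lit 3, nat_lit 2, nat_lit 1, nat_lit 6, nat_lit 5, nat_lit 4, nat_lit 3, nat_lit 2, nat_lit 0, nat_lit 2, nat_lit 4, nat_lit 2, nat_lit 6],
  [nat_lit 5],
  [nat_lit 6],
  [nat_lit 2, nat_lit 1, nat_lit 2, nat_lit 1, nat_lit 2, nat_lit 1, nat_lit 0, nat_lit 3, nat_lit 2, nat_lit 3, nat_lit 2, nat_lit 3, nat_lit 4, nat_lit 3, nat_lit 2, nat_lit 3, nat_lit 2, nat_lit 3, nat_lit 2, nat_lit 5, nat_lit 4, nat_lit 3, nat_lit 2, nat_lit 1, nat_lit 6, nat_lit 5, nat_lit 4, nat_lit 3, nat_lit 2, nat_lit 0, nat_lit 2, nat_lit 3, nat_lit 4, nat_lit 3, nat_lit 2, nat_lit 3, nat_lit 0]]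
noncomputable def c0ath_P : ℕ → ℕ → ℕ := wdsP H15.Co3.P c0ath_W
noncomputable def c0atl0Dd : ℕ := nat_lit 0xd93c4ce53c76c2be33d09d53c39bfedacc1bd521e4beebdf1f0c0aba3c36bbfc44c354fdc2697b42b0d5b9fa0f3feb54acfac0ab187d3c23b3099a0e0f49ff3599d29c3ab086da66a4899696995a94b93c91eaaf8f2840a6508b7c87aa742a0b8c491c1f190d08f9bf84c8109479388d07b65f882c6065cb7ff5d97a556258e06266c60480c70f6b56035f411f58c5d667947272b59a58b6e057c54004f0c56686005f15b65224175984f55d304c5f056b55c34603f5d207a3272bf2b058753d4d54c65012af0402a046c3251fc47a43038d36f23735141240332448829e1dd1842ca2bb2ac35e25323519234033127f2701f92432341db2163211661e91cb33e27d1bc32025f30200e1f612a2992311d826c1f512919c18d1b914510b0df1e518c17d1441270c117c16f0941260c01601090930eb1080dc0cd0841411240ea15e1321150af0a00911401230bd1060670f70ae09f0820e81050d90ca0810e70bb0d80c909d08e0720e60ba0d709c08d07f0b906309b08c07005806005702105f01205502205401e01301f00f05202601005105004301103601900d00c000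
noncomputable def c0atl0D (u : ℕ) : ℕ := Nat.land (Nat.shiftRight c0atl0Dd (Nat.mul u (nat_lit 12))) (nat_lit 4095)
noncomputable def c0atl0Pd : ℕ := nat_lit 0x280847eb33b9e5bc5d4d284303917954503722bc0c88a5c059c86b44ba8a42c4ec317a6815078da7c1495047042791098665498c7c782c9c11cd02e1248c3b41adc66425a3d5f6720d1e9b832061a494cd0e18998111a16910818934827137b091c697650809705158893701362f98e8261034a6964f995d2732d850fc8b2faedb641138b8acec1aa1cfaa6873120f0003a80ec2555b2d0cf1843cdfad147abd2a3a7c295f8f7560c1f4dd1c11cea674917814ae70984e8d3744359c3d522fc78150727973104210d32da6403ce2482c02544056ab7daef94a40e124d082b49cd62024560b172a41382d64bd1ce577743cf6e27f9aa05060bc2980c5042d586985d234c0266a3b4365149a15d6ef3fb983ac13729db012633f816cf032a1641f1b38178806c8c6221937bc96d0b51aa91804018000401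
noncomputable def c0atl0P (u : ℕ) : ℕ := Nat.land (Nat.shiftRight c0atl0Pd (Nat.mul u (nat_lit 9))) (nat_lit 511)
noncomputable def c0atl0Qd : ℕ := nat_lit 0x6030c1a641f25cdcf6040d8a28b4a8e170ec290e568941d86912816a9f4a883402fdac42450291902120fc549c12be9526f208888efd5e8f0e6122b434f8d1509801e1d2a930ae2b3830910e00c1b598c9472ec865f5886c689618abc4035352c9ea11510bccaff6d02464d7880549049431d09c7f47819ce160f261046b03966149255999ee455ac2cc2305e2b10a53139dc944643b845c0552401f6c54d2344c636dac1881011a9532f01eb4a1ce487a44f27154350bae20587de2b37e0e99cf43c3a1550173328e42d519da18df53b19c65b202760cee56be4511375934a0e95cb35bc5c3d37606ea31361404b88b94d8696e212107b8204d36c76cb401c7e83a7888f85bbcddf054f8b120be76ada24ba0a3c842cb14b4c19091bbf8d0a660871904f2f19d5ccf0c9d4b4334985cb004018040002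
noncomputable def c0atl0Q (u : ℕ) : ℕ := Nat.land (Nat.shiftRight c0atl0Qd (Nat.mul u (nat_lit 9))) (nat_lit 511)
noncomputable def c0atl0 : H16.Lev := ⟨276, 15, c0atl0D, c0atl0P, c0atl0Q⟩
noncomputable def c0atl1Dd : ℕ := nat_lit 0xc1fbbfbf9b75b5ea96450b0baffa95a894089d6a05b09a939eda572eca92a3f3619b19f798ea919dfa259bb99798b92e18f92d8c29898c113b97119885691f92a8558497ea88380d19415d1189118017f57e98ed8e18bd86b8538238177d18527c50c07a27ad7e682177102f6ee79f76373f1ca6816756eb60919a7556ea6a368b5e55d90947315a96e958507c0915315190856066595fa0640585d660555f0800b650b5815754c341d4ab3b248746f3d54573bd3b141b38d37535130a2b604948547929244943d2b52a929d4193d240d36735b27921a2492023c53132ef2252a729b39531e28f3711f51de26b25f03128e2f91d22c92b12522461d12451ae2212151b91fd1cf18915a14e1ce1b71420271711ab19f1361061b61931871351290ee1b517b1570280be17a13f02416e0d50c90b213310302517913e1550f70b114911a1020eb0df03e02c13d0d30c71251191010bb0320f50d20af0dd0ba0c50ae0a501b09a00f09908208d0760180a107501009700c09607f02602000d08a09507e08907207d07104f01a04300e03704103602d02a02901300a009000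
noncomputable def c0atl1D (u : ℕ) : ℕ := Nat.land (Nat.shiftRight c0atl1Dd (Nat.mul u (nat_lit 12))) (nat_lit 4095)
noncomputable def c0atl1Pd : ℕ := nat_lit 0x2d199083e265d83e409ad24ca72accb4fb57a74d2c46ba2916147820d582a4d0c9711350b7dfb0c4441058505f0843cf51a198ee3942390ecea0c340b8f617975a45431914c84a14c14e45543aa42c1153239bc79718886e28668ac98b75e9647e706da7c4aae36a9484410d439125b789e1b83b8089c5c0c672193c3d39924d8332f3e0a51209910b0383a3b9c29b278f046618831d84823418838bf4ba81e8fc4b290e2b9102ecbee90801486ed4ab7580cb131218a4d0ac1c9d002023550c181919e6578694dfe173d0b522d10411d30ad2b3e992d469b3c961b3e99586e6302710a8f84b654e756d360a23a0499e22077b82c1ec812075de935e03614a25abc9f2306b2520cba3f0d9c03540409d07f0cb8962ab378c616eb050001cc6519b8d4b27f241aa8c582d9cf0f3d8480c1f550080803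
noncomputable def c0atl1P (u : ℕ) : ℕ := Nat.land (Nat.shiftRight c0atl1Pd (Nat.mul u (nat_lit 9))) (nat_lit 511)
noncomputable def c0atl1Qd : ℕ := nat_lit 0x7a2707a8f042c8c6f00c8c48f10370a5a4ee33889566c3083de284821585a9e1db71d085328b95efb1aa58f10d0c380f821049320ee2638792a2579324ecad5d90c8c427f8ac1a5429b64b8de2929d87113a420aa3847050e30026a34d075443ad7e333f0a100f5600285f12830403a0b81ae0b0f90e00d9c6922b2d6c82098c1e6865d296044a4a3de1c5943a0cee2a1a424ba0e24328d40c7ebf962ef67a9892e37d23216231009c9f0f0397d90ae72b84889751b4502bc0d8496ea185046028b1f3989cd56ba29204b3ea7db4dd584157c993215da0d83127482ec499b4e0c128b5144722d199ac9a3cad5686b5ec31489256101c8986289848e7503d8342c6daa4bced613e1a6c4551cd723748b19d47f023a46c89282cc3edf30334defc4d819987b1c85464a81d05c7e5b1e014f401000080016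
noncomputable def c0atl1Q (u : ℕ) : ℕ := Nat.land (Nat.shiftRight c0atl1Qd (Nat.mul u (nat_lit 9))) (nat_lit 511)
noncomputable def c0atl1 : H16.Lev := ⟨275, 12, c0atl1D, c0atl1P, c0atl1Q⟩
noncomputable def c0atl2Dd : ℕ := nat_lit 0xde79bd732719ecda5e869624f8d6089ca4e9162b7b1e47246283e067adc8165bf6d9ad121b5628490d831625805754b101915fd53529414c11e430255d95b549495012f42d030d42c4951c44d0a0301f06c0d3c0e808c13024ef39cde3101a028e6374c30bc26044c229c1d050082588e02c611a06016046134450f0340ac3b0a4210801005c0f01c0601400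
noncomputable def c0atl2D (u : ℕ) : ℕ := Nat.land (Nat.shiftRight c0atl2Dd (Nat.mul u (nat_lit 10))) (nat_lit 1023)
noncomputable def c0atl2Pd : ℕ := nat_lit 0x19bc58e783627548a05625cb2ee422dd685a239d8a6bb09ab8410d6dc22042f70a3d345d1a3e87ebf2a0a9868884bd90e8a71b96243e76308d2a5721a0e8d733a6d5eca821f924e8262c516a60c25598fb408682905191f088df7ea0da2c4292fa26703b88532de3c918505035c30b8f00f125a0a1598dc942b5c238cc11
noncomputable def c0atl2P (u : ℕ) : ℕ := Nat.land (Nat.shiftRight c0atl2Pd (Nat.mul u (nat_lit 9))) (nat_lit 511)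
noncomputable def c0atl2Qd : ℕ := nat_lit 0x33040000002c0e00023d6000123301540000000f8051380000118000000370c019003f0000030000213b86029804050000ae0000070000000000e89000002900d0000da0001c92f80009868000b800003c4000610e017006b68067000000000b1e69000046800035006d44a80cc0150000c4000a4080005b100488a000633c0138000c802200009ec2f780390000018000006b1e01eba6e040000000000000280d0183280000004bba6c010000002f0014500be4802100000009b0000000000000c0004fde8c000a800000092801100000000000b59002c000009802b0000025b6000000000000000000000000000000000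
noncomputable def c0atl2Q (u : ℕ) : ℕ := Nat.land (Nat.shiftRight c0atl2Qd (Nat.mul u (nat_lit 7))) (nat_lit 127)
noncomputable def c0atl2 : H16.Lev := ⟨112, 9, c0atl2D, c0atl2P, c0atl2Q⟩
noncomputable def c0atl3Dd : ℕ := nat_lit 0x2a3c6d2172348f9a25385c91a265478d363851116204850c1c200
noncomputable def c0atl3D (u : ℕ) : ℕ := Nat.land (Nat.shiftRight c0atl3Dd (Nat.mul u (nat_lit 7))) (nat_lit 127)
noncomputable def c0atl3Pd : ℕ := nat_lit 0x1767c5a33108f14c8c8cc3f4537841122c9d8d21a153ed250519a8088b16d951dc18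
noncomputable def c0atl3P (u : ℕ) : ℕ := Nat.land (Nat.shiftRight c0atl3Pd (Nat.mul u (nat_lit 9))) (nat_lit 511)
noncomputable def c0atl3Qd : ℕ := nat_lit 0x4000000000000000100000000000050000000000030000400000000000000000048001800000000000000001a00000000000000000000e80000001b000800000000000000000000600000002e000000024000000004c0000019000000001c00000038000000000000001a0054000000000000001e0000020000000000000000000500000a000000000000003d8000000002c0000000000110000003000000000000000000000000000000000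
noncomputable def c0atl3Q (u : ℕ) : ℕ := Nat.land (Nat.shiftRight c0atl3Qd (Nat.mul u (nat_lit 5))) (nat_lit 31)
noncomputable def c0atl3 : H16.Lev := ⟨30, 5, c0atl3D, c0atl3P, c0atl3Q⟩
noncomputable def c0atl4Dd : ℕ := nat_lit 0xc
noncomputable def c0atl4D (u : ℕ) : ℕ := Nat.land (Nat.shiftRight c0atl4Dd (Nat.mul u (nat_lit 2))) (nat_lit 3)
noncomputable def c0atl4Pd : ℕ := nat_lit 0xbbb4
noncomputable def c0atl4P (u : ℕ) : ℕ := Nat.land (Nat.shiftRight c0atl4Pd (Nat.mul u (nat_lit 8))) (nat_lit 255)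
noncomputable def c0atl4Qd : ℕ := nat_lit 0x80000000000000000000000000000000000000000000000
noncomputable def c0atl4Q (u : ℕ) : ℕ := Nat.land (Nat.shiftRight c0atl4Qd (Nat.mul u (nat_lit 1))) (nat_lit 1)
noncomputable def c0atl4 : H16.Lev := ⟨2, 4, c0atl4D, c0atl4P, c0atl4Q⟩
noncomputable def c0atl5Dd : ℕ := nat_lit 0x3ad2fa668df61c4964da5d44093862c7203105080
noncomputable def c0atl5D (u : ℕ) : ℕ := Nat.land (Nat.shiftRight c0atl5Dd (Nat.mul u (nat_lit 6))) (nat_lit 63)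
noncomputable def c0atl5Pd : ℕ := nat_lit 0x2453cfc601fdd6a922834bc864807614e26d0b8aa4b46c3d54dc049ed380a
noncomputable def c0atl5P (u : ℕ) : ℕ := Nat.land (Nat.shiftRight c0atl5Pd (Nat.mul u (nat_lit 9))) (nat_lit 511)
noncomputable def c0atl5Qd : ℕ := nat_lit 0x300000340000000000000001800000000000000000000a800000000030000000402c0000000000000000000000000000001700000000000000000000000000168000000000000640100000000000034f000e0000000400000000b00001000000000000000000000000000000000004400000000012000000000004000000260000000000000000000000000002800000000000000000001c000000000000000000240000600000000000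
noncomputable def c0atl5Q (u : ℕ) : ℕ := Nat.land (Nat.shiftRight c0atl5Qd (Nat.mul u (nat_lit 5))) (nat_lit 31)
noncomputable def c0atl5 : H16.Lev := ⟨27, 3, c0atl5D, c0atl5P, c0atl5Q⟩
noncomputable def c0atl6Dd : ℕ := nat_lit 0xab7452310
noncomputable def c0atl6D (u : ℕ) : ℕ := Nat.land (Nat.shiftRight c0atl6Dd (Nat.mul u (nat_lit 4))) (nat_lit 15)
noncomputable def c0atl6Pd : ℕ := nat_lit 0xbe7229604ec2e25d3a21
noncomputable def c0atl6P (u : ℕ) : ℕ := Nat.land (Nat.shiftRight c0atl6Pd (Nat.mul u (nat_lit 9))) (nat_lit 511)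
noncomputable def c0atl6Qd : ℕ := nat_lit 0x5000000000000000000000400000007000000000000000000000000000000000000080000000000000000000000006000000010000020000000000000000000000000000000000000000000000000000000000300000000000000000000000000000000000000000000000000000000000000000000000000000000000000000000
noncomputable def c0atl6Q (u : ℕ) : ℕ := Nat.land (Nat.shiftRight c0atl6Qd (Nat.mul u (nat_lit 4))) (nat_lit 15)
noncomputable def c0atl6 : H16.Lev := ⟨9, 2, c0atl6D, c0atl6P, c0atl6Q⟩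
noncomputable def c0atl7Dd : ℕ := nat_lit 0x90
noncomputable def c0atl7D (u : ℕ) : ℕ := Nat.land (Nat.shiftRight c0atl7Dd (Nat.mul u (nat_lit 2))) (nat_lit 3)
noncomputable def c0atl7Pd : ℕ := nat_lit 0x73c39b200
noncomputable def c0atl7P (u : ℕ) : ℕ := Nat.land (Nat.shiftRight c0atl7Pd (Nat.mul u (nat_lit 9))) (nat_lit 511)
noncomputable def c0atl7Qd : ℕ := nat_lit 0x20000000000000000000c0000004000000000000000000000000000000000000000000000000000000000000000000000000000000000000000000000000000000000000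
noncomputable def c0atl7Q (u : ℕ) : ℕ := Nat.land (Nat.shiftRight c0atl7Qd (Nat.mul u (nat_lit 2))) (nat_lit 3)
noncomputable def c0atl7 : H16.Lev := ⟨4, 1, c0atl7D, c0atl7P, c0atl7Q⟩
noncomputable def c0ace_W : List (List ℕ) := [[nat_lit 2, nat_lit 0, nat_lit 2, nat_lit 1, nat_lit 4, nat_lit 3, nat_lit 2, nat_lit 0, nat_lit 4, nat_lit 5, nat_lit 6, nat_lit 5, nat_lit 4, nat_lit 3, nat_lit 2, nat_lit 0, nat_lit 2, nat_lit 0, nat_lit 4],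
  [nat_lit 6, nat_lit 1, nat_lit 4, nat_lit 1, nat_lit 0, nat_lit 3, nat_lit 2, nat_lit 0, nat_lit 2, nat_lit 1, nat_lit 2, nat_lit 1, nat_lit 0, nat_lit 4, nat_lit 3, nat_lit 5, nat_lit 4, nat_lit 3, nat_lit 2, nat_lit 0, nat_lit 2, nat_lit 0, nat_lit 5, nat_lit 6, nat_lit 0],
  [nat_lit 0, nat_lit 1, nat_lit 0, nat_lit 2, nat_lit 0, nat_lit 1, nat_lit 4, nat_lit 3, nat_lit 2, nat_lit 3, nat_lit 2, nat_lit 3, nat_lit 2, nat_lit 4, nat_lit 5, nat_lit 4, nat_lit 6, nat_lit 5, nat_lit 4, nat_lit 3, nat_lit 2, nat_lit 1, nat_lit 2, nat_lit 3, nat_lit 5, nat_lit 4, nat_lit 2],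
  [nat_lit 4, nat_lit 1, nat_lit 0, nat_lit 2, nat_lit 3, nat_lit 2, nat_lit 3, nat_lit 2, nat_lit 0, nat_lit 1, nat_lit 4],
  [nat_lit 1, nat_lit 4, nat_lit 2, nat_lit 0, nat_lit 2, nat_lit 0, nat_lit 2, nat_lit 3, nat_lit 2, nat_lit 1, nat_lit 2, nat_lit 3, nat_lit 4, nat_lit 5, nat_lit 6, nat_lit 5, nat_lit 4, nat_lit 3, nat_lit 4],
  [nat_lit 3, nat_lit 0, nat_lit 1, nat_lit 2, nat_lit 1, nat_lit 2, nat_lit 3, nat_lit 2, nat_lit 4, nat_lit 3, nat_lit 2, nat_lit 1, nat_lit 2, nat_lit 0, nat_lit 1, nat_lit 3, nat_lit 5, nat_lit 6, nat_lit 5, nat_lit 4, nat_lit 3, nat_lit 2, nat_lit 1, nat_lit 2, nat_lit 3, nat_lit 4, nat_lit 2, nat_lit 3, nat_lit 2, nat_lit 0, nat_lit 4],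
  [nat_lit 1, nat_lit 2, nat_lit 0, nat_lit 1, nat_lit 3, nat_lit 2, nat_lit 0, nat_lit 1, nat_lit 4, nat_lit 3, nat_lit 2, nat_lit 0, nat_lit 2, nat_lit 1, nat_lit 3, nat_lit 2, nat_lit 4, nat_lit 5, nat_lit 4, nat_lit 3, nat_lit 2, nat_lit 0, nat_lit 2, nat_lit 0, nat_lit 3, nat_lit 4, nat_lit 3, nat_lit 6, nat_lit 5, nat_lit 4, nat_lit 3, nat_lit 2, nat_lit 1, nat_lit 2, nat_lit 0, nat_lit 3, nat_lit 4]]
noncomputable def c0ace_P : ℕ → ℕ → ℕ := wdsP H15.Co3.P c0ace_W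
noncomputable def c0acc7Dd : ℕ := nat_lit 0x90
noncomputable def c0acc7D (u : ℕ) : ℕ := Nat.land (Nat.shiftRight c0acc7Dd (Nat.mul u (nat_lit 2))) (nat_lit 3)
noncomputable def c0acc7Pd : ℕ := nat_lit 0x6cc39ce00
noncomputable def c0acc7P (u : ℕ) : ℕ := Nat.land (Nat.shiftRight c0acc7Pd (Nat.mul u (nat_lit 9))) (nat_lit 511)
noncomputable def c0acc7Qd : ℕ := nat_lit 0x200000000000000000004000000c000000000000000000000000000000000000000000000000000000000000000000000000000000000000000000000000000000000000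
noncomputable def c0acc7Q (u : ℕ) : ℕ := Nat.land (Nat.shiftRight c0acc7Qd (Nat.mul u (nat_lit 2))) (nat_lit 3)
noncomputable def c0acc7 : H16.Lev := ⟨4, 1, c0acc7D, c0acc7P, c0acc7Q⟩
noncomputable def c0atn0Fd : ℕ := nat_lit 0
noncomputable def c0atn0F (u : ℕ) : ℕ := Nat.land (Nat.shiftRight c0atn0Fd (Nat.mul u (nat_lit 1))) (nat_lit 1)
noncomputable def c0atn0 : Nd := ⟨c0atn0F, (nat_lit 2), (nat_lit 1), [], [((nat_lit 0), [])], []⟩
noncomputable def c0atn1Fd : ℕ := nat_lit 0x4532c48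
noncomputable def c0atn1F (u : ℕ) : ℕ := Nat.land (Nat.shiftRight c0atn1Fd (Nat.mul u (nat_lit 3))) (nat_lit 7)
noncomputable def c0atn1 : Nd := ⟨c0atn1F, (nat_lit 2), (nat_lit 1), [[nat_lit 0]], [((nat_lit 0), [])], []⟩
noncomputable def c0acc5Dd : ℕ := nat_lit 0x24
noncomputable def c0acc5D (u : ℕ) : ℕ := Nat.land (Nat.shiftRight c0acc5Dd (Nat.mul u (nat_lit 2))) (nat_lit 3)
noncomputable def c0acc5Pd : ℕ := nat_lit 0x868d0a
noncomputable def c0acc5P (u : ℕ) : ℕ := Nat.land (Nat.shiftRight c0acc5Pd (Nat.mul u (nat_lit 8))) (nat_lit 255)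
noncomputable def c0acc5Qd : ℕ := nat_lit 0x40020000000000000000000000000000000000000000000000000000000000000000000
noncomputable def c0acc5Q (u : ℕ) : ℕ := Nat.land (Nat.shiftRight c0acc5Qd (Nat.mul u (nat_lit 2))) (nat_lit 3)
noncomputable def c0acc5 : H16.Lev := ⟨3, 2, c0acc5D, c0acc5P, c0acc5Q⟩
noncomputable def c0atn2Fd : ℕ := nat_lit 0x473735645509254974606267110
noncomputable def c0atn2F (u : ℕ) : ℕ := Nat.land (Nat.shiftRight c0atn2Fd (Nat.mul u (nat_lit 4))) (nat_lit 15)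
noncomputable def c0atn2 : Nd := ⟨c0atn2F, (nat_lit 2), (nat_lit 2), [[nat_lit 0]], [((nat_lit 0), [])], []⟩
noncomputable def c0acc4Dd : ℕ := nat_lit 8
noncomputable def c0acc4D (u : ℕ) : ℕ := Nat.land (Nat.shiftRight c0acc4Dd (Nat.mul u (nat_lit 2))) (nat_lit 3)
noncomputable def c0acc4Pd : ℕ := nat_lit 0xbbb4
noncomputable def c0acc4P (u : ℕ) : ℕ := Nat.land (Nat.shiftRight c0acc4Pd (Nat.mul u (nat_lit 8))) (nat_lit 255)
noncomputable def c0acc4Qd : ℕ := nat_lit 0x80000000000000000000000000000000000000000000000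
noncomputable def c0acc4Q (u : ℕ) : ℕ := Nat.land (Nat.shiftRight c0acc4Qd (Nat.mul u (nat_lit 1))) (nat_lit 1)
noncomputable def c0acc4 : H16.Lev := ⟨2, 3, c0acc4D, c0acc4P, c0acc4Q⟩
noncomputable def c0atn3Fd : ℕ := nat_lit 0
noncomputable def c0atn3F (u : ℕ) : ℕ := Nat.land (Nat.shiftRight c0atn3Fd (Nat.mul u (nat_lit 1))) (nat_lit 1)
noncomputable def c0atn3 : Nd := ⟨c0atn3F, (nat_lit 3), (nat_lit 3), [], [((nat_lit 0), [])], []⟩
noncomputable def c0acc3Dd : ℕ := nat_lit 0xfb5430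
noncomputable def c0acc3D (u : ℕ) : ℕ := Nat.land (Nat.shiftRight c0acc3Dd (Nat.mul u (nat_lit 4))) (nat_lit 15)
noncomputable def c0acc3Pd : ℕ := nat_lit 0x176b41fb7a0a18
noncomputable def c0acc3P (u : ℕ) : ℕ := Nat.land (Nat.shiftRight c0acc3Pd (Nat.mul u (nat_lit 9))) (nat_lit 511)
noncomputable def c0acc3Qd : ℕ := nat_lit 0x8000000000000000000000000000080000000000000000000000000a00004000000000000000000000000000000000000000000000000000000000000000000000000000000000000000600000000000000000000000000000000000000000000000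
noncomputable def c0acc3Q (u : ℕ) : ℕ := Nat.land (Nat.shiftRight c0acc3Qd (Nat.mul u (nat_lit 3))) (nat_lit 7)
noncomputable def c0acc3 : H16.Lev := ⟨6, 4, c0acc3D, c0acc3P, c0acc3Q⟩
noncomputable def c0atn4Fd : ℕ := nat_lit 0x9085a4ac0b0fb78fc9f806eacdf10
noncomputable def c0atn4F (u : ℕ) : ℕ := Nat.land (Nat.shiftRight c0atn4Fd (Nat.mul u (nat_lit 4))) (nat_lit 15)
noncomputable def c0atn4 : Nd := ⟨c0atn4F, (nat_lit 4), (nat_lit 4), [[nat_lit 0]], [((nat_lit 0), [])], []⟩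
noncomputable def c0acc2Dd : ℕ := nat_lit 0xff19e275885348a1c6248100
noncomputable def c0acc2D (u : ℕ) : ℕ := Nat.land (Nat.shiftRight c0acc2Dd (Nat.mul u (nat_lit 6))) (nat_lit 63)
noncomputable def c0acc2Pd : ℕ := nat_lit 0x5a2547ede282edecf082b1042680c04e1a11
noncomputable def c0acc2P (u : ℕ) : ℕ := Nat.land (Nat.shiftRight c0acc2Pd (Nat.mul u (nat_lit 9))) (nat_lit 511)
noncomputable def c0acc2Qd : ℕ := nat_lit 0x10000000700000000000000900000800000000000000000c0000000000000000000000000600000000a000000f000000000000000000000000000000e00000000000000000000000000000000000000000000400000000000000000000000b0000000000000000d000000000000000000000000000005000000003000020000000000000000000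
noncomputable def c0acc2Q (u : ℕ) : ℕ := Nat.land (Nat.shiftRight c0acc2Qd (Nat.mul u (nat_lit 4))) (nat_lit 15)
noncomputable def c0acc2 : H16.Lev := ⟨16, 5, c0acc2D, c0acc2P, c0acc2Q⟩
noncomputable def c0atn5Fd : ℕ := nat_lit 0x5caf7861efac54f94818722200494054edccce769d0195ca17c01cbc4993be4d7a012fbb6739bdcfbaa6f001a5c1e608b657cf6809d556c02008cf00aba009d577bcaf4bc020
noncomputable def c0atn5F (u : ℕ) : ℕ := Nat.land (Nat.shiftRight c0atn5Fd (Nat.mul u (nat_lit 5))) (nat_lit 31)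
noncomputable def c0atn5 : Nd := ⟨c0atn5F, (nat_lit 5), (nat_lit 5), [[nat_lit 0]], [((nat_lit 0), [])], []⟩
noncomputable def c0acc1Dd : ℕ := nat_lit 0xb7a5907c7059726c6f60524e3e352f51293a1d392817221a1c161b0b0c080a06090500
noncomputable def c0acc1D (u : ℕ) : ℕ := Nat.land (Nat.shiftRight c0acc1Dd (Nat.mul u (nat_lit 8))) (nat_lit 255)
noncomputable def c0acc1Pd : ℕ := nat_lit 0x2ed6813868fc42686f0610cc44aae9ec1178415d28d58444a094119b414c55142c3ef21b09c4403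
noncomputable def c0acc1P (u : ℕ) : ℕ := Nat.land (Nat.shiftRight c0acc1Pd (Nat.mul u (nat_lit 9))) (nat_lit 511)
noncomputable def c0acc1Qd : ℕ := nat_lit 0x3800007c018000000048000000000000000000001500000401300000000044000000000000001b00000000000000000000000000000000000021800000000000089600000002100000f0000000000000000000070000000000000000005cc00000000040000000001900000000000000000000000000000000000028000001c00000000000000000000000000000000000d0000000000000000000000007800000000000030000000000000000000000800002c174014000000001a000000800500000000009000000000000000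
noncomputable def c0acc1Q (u : ℕ) : ℕ := Nat.land (Nat.shiftRight c0acc1Qd (Nat.mul u (nat_lit 6))) (nat_lit 63)
noncomputable def c0acc1 : H16.Lev := ⟨35, 6, c0acc1D, c0acc1P, c0acc1Q⟩
noncomputable def c0atn6Fd : ℕ := nat_lit 0x8db72254b6d461a6d25235578403db6e101461c6224df41275849d58070080d75f7525db7dc0163806dc66362161c6006da75e1c061c0197408573d855f4a70118585960144cd8966127126e274071a84061751e75c4986dc01d5178626d859801648d59501c3935a049639e51484070055c19b01855c4db0146d359a6c065689b55501331a45684c4d94a24da60c4156d839a45b5954144d369371a55285701571961a6db55a71770054068d4004806c054c51555949470941201000a6dc34851e51c59800c31c7d23c061c040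
noncomputable def c0atn6F (u : ℕ) : ℕ := Nat.land (Nat.shiftRight c0atn6Fd (Nat.mul u (nat_lit 6))) (nat_lit 63)
noncomputable def c0atn6 : Nd := ⟨c0atn6F, (nat_lit 6), (nat_lit 6), [[nat_lit 0]], [((nat_lit 0), [])], []⟩
noncomputable def c0acc0Dd : ℕ := nat_lit 0xbab9619e677f93827b4b9637362f283c38141a3b27131720101926120d110c09080b0600
noncomputable def c0acc0D (u : ℕ) : ℕ := Nat.land (Nat.shiftRight c0acc0Dd (Nat.mul u (nat_lit 8))) (nat_lit 255)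
noncomputable def c0acc0Pd : ℕ := nat_lit 0x1f861770d01884d0de4ac14a0135a045e0ba88b11ec8d7489c6c6d1142d60944328814f26287c4601
noncomputable def c0acc0P (u : ℕ) : ℕ := Nat.land (Nat.shiftRight c0acc0Pd (Nat.mul u (nat_lit 9))) (nat_lit 511)
noncomputable def c0acc0Qd : ℕ := nat_lit 0x4c00008002800000006800000000000000000000110000040150000000003c000000000000001c0000000000000000000000000000000000000d20000000000008540000000170000090000000000000000000060000000000000000006c800000000040000000000700000000000000000000000000000000000030000001d0000000000000000000000000000000000190000000000000000000000008c000000000000d00000000000000000000038000004b7800800000000220000006005800000000050000000007c0000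
noncomputable def c0acc0Q (u : ℕ) : ℕ := Nat.land (Nat.shiftRight c0acc0Qd (Nat.mul u (nat_lit 6))) (nat_lit 63)
noncomputable def c0acc0 : H16.Lev := ⟨36, 7, c0acc0D, c0acc0P, c0acc0Q⟩
noncomputable def c0atn7Fd : ℕ := nat_lit 0x2285e0218590176d271a5008606cf81b81881e85d5c06df02749a01f65f7226524de7da6d65da82179f9dc0168d78186207e28986606c08629a681501501f6de8df3008c061975b5968597d57d501955a8617c06ce00e5e055945c8005967e16d545601f8588d581f01c69b6158076d645b3e281401f89f4d370064e71d64b41545988e8575d955c41901959c6920208987cf6187dc0137d57c959755554f38d55a7d361f4c03996910006575546d53d97d251569840a61045e69551660001c74e4960155c058064f5c8012040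
noncomputable def c0atn7F (u : ℕ) : ℕ := Nat.land (Nat.shiftRight c0atn7Fd (Nat.mul u (nat_lit 6))) (nat_lit 63)
noncomputable def c0atn7 : Nd := ⟨c0atn7F, (nat_lit 7), (nat_lit 7), [[nat_lit 0]], [((nat_lit 0), [])], []⟩
noncomputable def c0w0_W : List (List ℕ) := [[nat_lit 1, nat_lit 2, nat_lit 1, nat_lit 0, nat_lit 3, nat_lit 4, nat_lit 3, nat_lit 2, nat_lit 0, nat_lit 2, nat_lit 4, nat_lit 3, nat_lit 2, nat_lit 4, nat_lit 2, nat_lit 5, nat_lit 4, nat_lit 6, nat_lit 5, nat_lit 4, nat_lit 3, nat_lit 2, nat_lit 3, nat_lit 2, nat_lit 0, nat_lit 3, nat_lit 5, nat_lit 4],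
  [nat_lit 6, nat_lit 0, nat_lit 2, nat_lit 1, nat_lit 2, nat_lit 0, nat_lit 1, nat_lit 0, nat_lit 4, nat_lit 3, nat_lit 2, nat_lit 5, nat_lit 4, nat_lit 3, nat_lit 2, nat_lit 0, nat_lit 2, nat_lit 1, nat_lit 0, nat_lit 3, nat_lit 4, nat_lit 6, nat_lit 5, nat_lit 4, nat_lit 3, nat_lit 2, nat_lit 0, nat_lit 2, nat_lit 3, nat_lit 5, nat_lit 4, nat_lit 6]]
noncomputable def c0w0_P : ℕ → ℕ → ℕ := wdsP H15.Co3.P c0w0_W
noncomputable def c0y0x_W : List (List ℕ) := [[nat_lit 6, nat_lit 0, nat_lit 2, nat_lit 1, nat_lit 2, nat_lit 0, nat_lit 1, nat_lit 0, nat_lit 4, nat_lit 3, nat_lit 2, nat_lit 5, nat_lit 4, nat_lit 3, nat_lit 2, nat_lit 0, nat_lit 2, nat_lit 1, nat_lit 0, nat_lit 3, nat_lit 4, nat_lit 6, nat_lit 5, nat_lit 4, nat_lit 3, nat_lit 2, nat_lit 0, nat_lit 2, nat_lit 3, nat_lit 5, nat_lit 4, nat_lit 6]]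
noncomputable def c0y0x_P : ℕ → ℕ → ℕ := wdsP H15.Co3.P c0y0x_W
noncomputable def c0y0th_W : List (List ℕ) := [[nat_lit 4, nat_lit 0, nat_lit 2, nat_lit 0, nat_lit 2, nat_lit 0, nat_lit 2, nat_lit 1, nat_lit 3, nat_lit 2, nat_lit 3, nat_lit 2, nat_lit 0, nat_lit 3, nat_lit 5, nat_lit 4, nat_lit 3, nat_lit 2, nat_lit 1, nat_lit 2, nat_lit 3, nat_lit 5, nat_lit 4, nat_lit 3, nat_lit 0, nat_lit 1],
  [nat_lit 1, nat_lit 0, nat_lit 2, nat_lit 0, nat_lit 2, nat_lit 0, nat_lit 1, nat_lit 0, nat_lit 2, nat_lit 1, nat_lit 4, nat_lit 3, nat_lit 2, nat_lit 1, nat_lit 2, nat_lit 5, nat_lit 4, nat_lit 3, nat_lit 2, nat_lit 1, nat_lit 2, nat_lit 0, nat_lit 6, nat_lit 5, nat_lit 4, nat_lit 3, nat_lit 2, nat_lit 6, nat_lit 5, nat_lit 2, nat_lit 4],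
  [nat_lit 2, nat_lit 1, nat_lit 2, nat_lit 0, nat_lit 2, nat_lit 3, nat_lit 4, nat_lit 3, nat_lit 2, nat_lit 3, nat_lit 2, nat_lit 0, nat_lit 1, nat_lit 5, nat_lit 4, nat_lit 3, nat_lit 2, nat_lit 0, nat_lit 2, nat_lit 0, nat_lit 2, nat_lit 3, nat_lit 6, nat_lit 5, nat_lit 4, nat_lit 3, nat_lit 2, nat_lit 1, nat_lit 2, nat_lit 3, nat_lit 6],
  [nat_lit 0, nat_lit 2, nat_lit 1, nat_lit 2, nat_lit 0, nat_lit 2, nat_lit 0, nat_lit 3, nat_lit 2, nat_lit 1, nat_lit 2, nat_lit 0, nat_lit 4, nat_lit 3, nat_lit 2, nat_lit 0, nat_lit 2, nat_lit 1, nat_lit 3, nat_lit 4, nat_lit 5, nat_lit 4, nat_lit 3, nat_lit 6, nat_lit 5, nat_lit 4, nat_lit 3, nat_lit 2, nat_lit 0, nat_lit 2, nat_lit 1, nat_lit 3],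
  [nat_lit 4, nat_lit 2, nat_lit 1, nat_lit 2, nat_lit 0, nat_lit 2, nat_lit 3, nat_lit 2, nat_lit 0, nat_lit 2, nat_lit 1, nat_lit 2, nat_lit 1, nat_lit 0, nat_lit 4, nat_lit 5, nat_lit 4, nat_lit 3, nat_lit 2, nat_lit 0, nat_lit 2, nat_lit 3, nat_lit 4, nat_lit 3, nat_lit 2, nat_lit 6, nat_lit 5, nat_lit 4, nat_lit 3, nat_lit 2, nat_lit 1, nat_lit 2, nat_lit 3, nat_lit 4, nat_lit 2, nat_lit 3],
  [nat_lit 1, nat_lit 2, nat_lit 0, nat_lit 2, nat_lit 3, nat_lit 2, nat_lit 0, nat_lit 2, nat_lit 0, nat_lit 3, nat_lit 2, nat_lit 1, nat_lit 4, nat_lit 3, nat_lit 2, nat_lit 0, nat_lit 2, nat_lit 3, nat_lit 4, nat_lit 2, nat_lit 0, nat_lit 5, nat_lit 4, nat_lit 3, nat_lit 2, nat_lit 6, nat_lit 5, nat_lit 4, nat_lit 3, nat_lit 2, nat_lit 3, nat_lit 5],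
  [nat_lit 3, nat_lit 2, nat_lit 1, nat_lit 3, nat_lit 2, nat_lit 3, nat_lit 2, nat_lit 3, nat_lit 4, nat_lit 3, nat_lit 2, nat_lit 0, nat_lit 2, nat_lit 0, nat_lit 5, nat_lit 4, nat_lit 3, nat_lit 2, nat_lit 1, nat_lit 2, nat_lit 5, nat_lit 4, nat_lit 6, nat_lit 5, nat_lit 4, nat_lit 3, nat_lit 2, nat_lit 0, nat_lit 2, nat_lit 3, nat_lit 4, nat_lit 3, nat_lit 5, nat_lit 2, nat_lit 3, nat_lit 6, nat_lit 0],
  [nat_lit 6],
  [nat_lit 6, nat_lit 0, nat_lit 2, nat_lit 0, nat_lit 2, nat_lit 1, nat_lit 2, nat_lit 1, nat_lit 0, nat_lit 3, nat_lit 4, nat_lit 3, nat_lit 2, nat_lit 1, nat_lit 2, nat_lit 0, nat_lit 3, nat_lit 4, nat_lit 5, nat_lit 4, nat_lit 3, nat_lit 2, nat_lit 1, nat_lit 2, nat_lit 6, nat_lit 5, nat_lit 4, nat_lit 3, nat_lit 4],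
  [nat_lit 0],
  [nat_lit 1],
  [nat_lit 2],
  [nat_lit 3],
  [nat_lit 4],
  [nat_lit 5],
  [nat_lit 1, nat_lit 0, nat_lit 2, nat_lit 1, nat_lit 3, nat_lit 2, nat_lit 1, nat_lit 2, nat_lit 1, nat_lit 4, nat_lit 3, nat_lit 2, nat_lit 1, nat_lit 2, nat_lit 0, nat_lit 5, nat_lit 4, nat_lit 3, nat_lit 2, nat_lit 3, nat_lit 2, nat_lit 5, nat_lit 2, nat_lit 3, nat_lit 6, nat_lit 5, nat_lit 4, nat_lit 3, nat_lit 2, nat_lit 0, nat_lit 2, nat_lit 0, nat_lit 5, nat_lit 1]]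
noncomputable def c0y0th_P : ℕ → ℕ → ℕ := wdsP H15.Co3.P c0y0th_W
noncomputable def c0y0tl0Dd : ℕ := nat_lit 0xdbecbee57d69d59a7ec7baedaada3eb4cdb7c0ab7ba2dd5794ed379dcce7c97b59afaa0bc07b2993c92c0630a2b579aa90b89c87c84c81d8bb092b37af7aa785b82ca87a77110a3783a07177e7bb76d75d72e73d76b74c6fd6ed6cd04575b0e073b71c75a0c078974a6fb6bc61d59e04372a74969b68b63c62c5ad4fe0337295dc5cc58c4bd4ae46e44e43e42e00f0800287475db5cb59b54c51c50c40d02372755b0700605ca54b4fb49c48c46c45c41c0310185c943b40b3fc3ec3cd36e02262748a47a3bc3ac39c37d35e0215a75674a94993cb37c35d5575074b73f93ca38931e36931d30e36731b30c2fc0402db2cc03030a2cb29c1fe1ee1de3092f923c22c1ed1cd1ae2b922b21b20c1ec18e16e3072f72891fb1ac17d15e14e0102c72b72a72391ab16c15d14d13e12e2872572091f91e919b16b15c14c12d11e23715b11d1c716915a14a12b14911b12911a10e12710c0fb0eb0dc0cc10a0cb08e1090bb0ac07e06e0d90ab07d06d1070e708b06c05e0d705d09908907a06a06905b08705a05904b03c02e03b02d01e01d04702a02901b02700e00d00b009000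
noncomputable def c0y0tl0D (u : ℕ) : ℕ := Nat.land (Nat.shiftRight c0y0tl0Dd (Nat.mul u (nat_lit 12))) (nat_lit 4095)
noncomputable def c0y0tl0Pd : ℕ := nat_lit 0x72269190c3780930dc599140677541097ab57ca8498d4628b0f63249a00d4d04542d70182a124cd0626889bc28048dc54b0878019e2f03a8c2a5235bde20210b3803c31283c22206319395a084f9d4760e27b0554da7f84974856315c18f481bf0b8ed4918208ac1cbd4aa0466bbc0a480f8adc4f26b9c816cb00aecc4512c8449487232c8ba3d0e0fceca76d875ca904789c701a2238d2ec436bb0ac582d92e0a95053a06cfa1e3cce0fe3ca45acd2853a84cc9448c1cc88320b506a96c3f5aad95bc2148a03a4091c847dbd8202e8985dceae34a981ab989101a2c36131de2cc4c895f086219cc6a6e3429612af5fba4ce61839959c944f2d944c82fc385219650ccfe34362f8b47c38a0428203f3b88e412f40426df3c2c4f4964103c48c080235d69d0da2d370d1f14c46dd699f578b470a71563a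
noncomputable def c0y0tl0P (u : ℕ) : ℕ := Nat.land (Nat.shiftRight c0y0tl0Pd (Nat.mul u (nat_lit 9))) (nat_lit 511)
noncomputable def c0y0tl0Qd : ℕ := nat_lit 0x2d94daadd738c819107b1dc82661dbc10ab95f9883c13639f0d4be2fa0206496f1796cc03f2b09ad659089788a089d87c822c9c52b13472b406da0e3b4110c4bb20d06b559e4d300039e0a2f8728e5664c540bce8342730dfe8c2813d94141f8aa0a0553314a8f5338da080485a7834e820161a2b800b24d9074c1588465710d60464678dc200206c48970d4686108387daecf494499842511073dce6705012188603685c4cfa1688c0c287e864f61b842659c63232a84e7d87911162b6fbe4ae431ebc4746f69a9478ba1987d3abd438a54688612256af30538148d765b49df0143285e4b010a7e148f23c1840524d02d387f668016e91752048a2c173f1b07272170dcfe573a462ec491d4941504bb9b82457b652c9b07a4060f42d36dc2250eb19445d0b330aac154a0dd6d071b5162b484c394ee6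
noncomputable def c0y0tl0Q (u : ℕ) : ℕ := Nat.land (Nat.shiftRight c0y0tl0Qd (Nat.mul u (nat_lit 9))) (nat_lit 511)
noncomputable def c0y0tl0 : H16.Lev := ⟨276, 16, c0y0tl0D, c0y0tl0P, c0y0tl0Q⟩
noncomputable def c0y0tl1Dd : ℕ := nat_lit 0x4864559108da40c4c83a238785c1bf4773a12d580233e7c378434629627b40b2db7333f027e6eb1f43cc1c723a1b52246d96c76b52781fb1d32891d712d6ac6a339f23037b62e34533c1e81791cd1746132025f81f01e71c41551b20e55dd5d42fd13713e19f1581840c113a5c25b911313d11a0f80ef1162761110ff0f20f60cb0e423722e58357a21c20a2015681f81e61070fe1cb55f5561c210f0f40e353b53219e18c0c713b0b91200b00a84bd4b410e1050b30b60e10b547546c0a609f0d84510cf0ad43f09d4094003f70963d33ca0aa0843c10a50b409e39438b0a408b06935e08233a07931f3162f22ce09505e08c05709808329808f04e08a25905523e0a203c0892112081f61ed0801e41d204c0880431c007f06219318a18109906e15d15405606402814204d05404402113913004712711e09005303208705201810c10307e03e0fa04a03504103001f0e80490400df0cd06c03806302f0160c405a03702e02602002301e0510170bb04801a01d01501c03602d01402401b01208e06a05800f04f04603400d02b00e01100c01900b00a008009007000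
noncomputable def c0y0tl1D (u : ℕ) : ℕ := Nat.land (Nat.shiftRight c0y0tl1Dd (Nat.mul u (nat_lit 12))) (nat_lit 4095)
noncomputable def c0y0tl1Pd : ℕ := nat_lit 0x144e545e85606cc0316d5af682999d50b54c206498470e5e6b2283de243d1e25d821463b95cee469048d27787be0bc1044b7122ba2e0ad48c919aec70112c020050d340a83a6432b2c52a54c8842c8518031f4786d04c0e6c271448c7f1626916197882c6244103bc481f59a6c4ae17119c90fb072c626e95c92a0e366834544a837a9c98d70d1f012ee56254d6731a1a94c3f413f0bae32d44202a12935430406712e089d7aab88ac60e158b30a27b20ae6223a110c7b4a0896a634faf8c27d792ac824937399b22e7ec18fc5317c303c794b23200603b3a02e834434d8628468122280501e93c5500b7c064258439f20f40bf9b08748329daff5f9c8da2d3a9d1d6cf6eb11148f133b06ade66adc7cb800248be436dabc6ed460426044d0d835c0f4052f0767051ad1269c78315842338aa96cd6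
noncomputable def c0y0tl1P (u : ℕ) : ℕ := Nat.land (Nat.shiftRight c0y0tl1Pd (Nat.mul u (nat_lit 9))) (nat_lit 511)
noncomputable def c0y0tl1Qd : ℕ := nat_lit 0x54be4928a758f9b05a821e02d025297a0e818685512551a0e8be8e563247aea7d420fe107e99d76075b2606a2616c15505278989e4f0462bd60112109056e60db1cc2394e0010c18273bd44a31620c470c690d9c076799f00c2a26815ea17199aa1e0e6f3914e2011004da0a59bf1543f0d1fa12973300a06a04f245a0e105a851047359150008592f99f007b15d2c6f04879ca37143fc96565e8a5ce4f1c1c598722823c764860174d09a38118b0c87614c5e2e4a0c8060c4f98c62c44aa49dad757419a6d4361d0d2540eba51ae38522cf2db3a9e889102e21d84fb3bb0c289d41298c8ad39b04fab80e100ca8448085f0f706801fcdd0ca904a936fc0572cb2d98060bf71359a24c8889d62b5021b99cb75a165aa7b09a6d788528b361cf4633b9b8e81e2ac24ca5d03d32da62c2e244a20b64861f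
noncomputable def c0y0tl1Q (u : ℕ) : ℕ := Nat.land (Nat.shiftRight c0y0tl1Qd (Nat.mul u (nat_lit 9))) (nat_lit 511)
noncomputable def c0y0tl1 : H16.Lev := ⟨275, 9, c0y0tl1D, c0y0tl1P, c0y0tl1Q⟩
noncomputable def c0y0tl2Dd : ℕ := nat_lit 0x88da18ddff6b16b47938599525b11d30d22594f346899448f122ca53a5422ec843a089384d52e4b41f4823191f4610a314ab2908a1bcaa3d4ee2a46d38080310b61fca82848c1f85f168531144a0f8431745914035138420f42e0a4221043616c400802f0cc4d0c8280841b07c3f06425078380901a0a81708c16048130341102c0f0300a0380801c0601400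
noncomputable def c0y0tl2D (u : ℕ) : ℕ := Nat.land (Nat.shiftRight c0y0tl2Dd (Nat.mul u (nat_lit 10))) (nat_lit 1023)
noncomputable def c0y0tl2Pd : ℕ := nat_lit 0x830ee02cd3b831186f3b2fce237588c1c2f855b80e8200691c7c87798c472ce6d3b9b61707a95c6a019864863447128786348b989b032b97500153fa98b47a7a12dc50873825665b7ba68704c08345a0484cab9b2a7370b942b23c2793adf0944d92ac3e35c8cc739c2924e569110ce0e272e40f126abe83a518213d5205
noncomputable def c0y0tl2P (u : ℕ) : ℕ := Nat.land (Nat.shiftRight c0y0tl2Pd (Nat.mul u (nat_lit 9))) (nat_lit 511)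
noncomputable def c0y0tl2Qd : ℕ := nat_lit 0x34200000000000004803401bc0038003680000000000180605e00037ae000000148000000000067088009ad70de3800000a34d2802c00380003d52901536000000c8028000000000000cc000000000500000000062831800098018be0008048ea70000010cc0078e8000b938000000000046180011c0690000000b000000000003d760001700e001fd79c05d2603280d08c00000000001a0000088000000001f0060e40007e000000000200042e0ac6d18028b45400e92000000164045dc02aadc8000489602b62008800000000000000000000005c00002800002500a001e00006c02b9e32dea000190012000000000000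
noncomputable def c0y0tl2Q (u : ℕ) : ℕ := Nat.land (Nat.shiftRight c0y0tl2Qd (Nat.mul u (nat_lit 7))) (nat_lit 127)
noncomputable def c0y0tl2 : H16.Lev := ⟨112, 7, c0y0tl2D, c0y0tl2P, c0y0tl2Q⟩
noncomputable def c0y0tl3Dd : ℕ := nat_lit 0x21b896bde2e4ac8f9d3660d1232587152234a0c16284870c14200
noncomputable def c0y0tl3D (u : ℕ) : ℕ := Nat.land (Nat.shiftRight c0y0tl3Dd (Nat.mul u (nat_lit 7))) (nat_lit 127)
noncomputable def c0y0tl3Pd : ℕ := nat_lit 0x1e6e75903060d02b9288699669de0ca06d2002ee13b1d1c6e04637d4a5d3fbd2143b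
noncomputable def c0y0tl3P (u : ℕ) : ℕ := Nat.land (Nat.shiftRight c0y0tl3Pd (Nat.mul u (nat_lit 9))) (nat_lit 511)
noncomputable def c0y0tl3Qd : ℕ := nat_lit 0x4000440000000000000000000002e80000000000000e0000481883000003c0000000000180026000000000000000000000000000000006c000000000000000a000010000000028000000000000000700000000000000e180000000092c0a00000000000000000000000000008000000b800000000000000580000000a80000000000000000000001900000000000000000000000000000068000000000001a000000000000000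
noncomputable def c0y0tl3Q (u : ℕ) : ℕ := Nat.land (Nat.shiftRight c0y0tl3Qd (Nat.mul u (nat_lit 5))) (nat_lit 31)
noncomputable def c0y0tl3 : H16.Lev := ⟨30, 5, c0y0tl3D, c0y0tl3P, c0y0tl3Q⟩
noncomputable def c0y0tl4Dd : ℕ := nat_lit 0xac676e71615d523f4d453a2f3d3235312b402a29341f251b221e17211d1a16152413201c120f1811140e0d100b0a0709060804030200
noncomputable def c0y0tl4D (u : ℕ) : ℕ := Nat.land (Nat.shiftRight c0y0tl4Dd (Nat.mul u (nat_lit 8))) (nat_lit 255)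
noncomputable def c0y0tl4Pd : ℕ := nat_lit 0x70ae4f0e49c4c2436558071896d7e192d11d56207733966331e035b6a1898dda210531f16303268f85c0f31a390e151a0260271733893412843e0966f
noncomputable def c0y0tl4P (u : ℕ) : ℕ := Nat.land (Nat.shiftRight c0y0tl4Pd (Nat.mul u (nat_lit 9))) (nat_lit 511)
noncomputable def c0y0tl4Qd : ℕ := nat_lit 0x6c0000000000000003000000500240000000000002000000000000023000000000007000006000000000740b80000000000640022000000000000000000000a4000000000000000084054003402d94000001700000070003300000500000000000000000e0000000003400000000000000160000000000000002000000000000000000003c0000000000aa70000000000000000314f004002f98000000000001201f000cb568000b800ac0011000000000000000000024000000000a00000300004018400780000280b00000000000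
noncomputable def c0y0tl4Q (u : ℕ) : ℕ := Nat.land (Nat.shiftRight c0y0tl4Qd (Nat.mul u (nat_lit 6))) (nat_lit 63)
noncomputable def c0y0tl4 : H16.Lev := ⟨54, 4, c0y0tl4D, c0y0tl4P, c0y0tl4Q⟩
noncomputable def c0y0tl5Dd : ℕ := nat_lit 0xec8654210
noncomputable def c0y0tl5D (u : ℕ) : ℕ := Nat.land (Nat.shiftRight c0y0tl5Dd (Nat.mul u (nat_lit 4))) (nat_lit 15)
noncomputable def c0y0tl5Pd : ℕ := nat_lit 0xb26d2960c5706128e899
noncomputable def c0y0tl5P (u : ℕ) : ℕ := Nat.land (Nat.shiftRight c0y0tl5Pd (Nat.mul u (nat_lit 9))) (nat_lit 511)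
noncomputable def c0y0tl5Qd : ℕ := nat_lit 0x50000000000000000000000000000000000000000000700000000000000000000000000000000000000080000000000006000000000000000000000000000000000000000000000000100000000000000000000000000004000000000000200000000000000000000000000000000000000000000000000000000000003000000000000
noncomputable def c0y0tl5Q (u : ℕ) : ℕ := Nat.land (Nat.shiftRight c0y0tl5Qd (Nat.mul u (nat_lit 4))) (nat_lit 15)
noncomputable def c0y0tl5 : H16.Lev := ⟨9, 2, c0y0tl5D, c0y0tl5P, c0y0tl5Q⟩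
noncomputable def c0y0tl6Dd : ℕ := nat_lit 0x90
noncomputable def c0y0tl6D (u : ℕ) : ℕ := Nat.land (Nat.shiftRight c0y0tl6Dd (Nat.mul u (nat_lit 2))) (nat_lit 3)
noncomputable def c0y0tl6Pd : ℕ := nat_lit 0xfad5d792
noncomputable def c0y0tl6P (u : ℕ) : ℕ := Nat.land (Nat.shiftRight c0y0tl6Pd (Nat.mul u (nat_lit 8))) (nat_lit 255)
noncomputable def c0y0tl6Qd : ℕ := nat_lit 0x300000000000000000480000000000000000000000000000000000000000000000000000000000000000000000000000000000000000000000000000000000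
noncomputable def c0y0tl6Q (u : ℕ) : ℕ := Nat.land (Nat.shiftRight c0y0tl6Qd (Nat.mul u (nat_lit 2))) (nat_lit 3)
noncomputable def c0y0tl6 : H16.Lev := ⟨4, 1, c0y0tl6D, c0y0tl6P, c0y0tl6Q⟩
noncomputable def c0y0ce_W : List (List ℕ) := [[nat_lit 3, nat_lit 1, nat_lit 2, nat_lit 3, nat_lit 2, nat_lit 3, nat_lit 2, nat_lit 1, nat_lit 2, nat_lit 0, nat_lit 4, nat_lit 3, nat_lit 2, nat_lit 1, nat_lit 5, nat_lit 4, nat_lit 3, nat_lit 2, nat_lit 1, nat_lit 2, nat_lit 3, nat_lit 4, nat_lit 2, nat_lit 3, nat_lit 2, nat_lit 5, nat_lit 4, nat_lit 3, nat_lit 2, nat_lit 1, nat_lit 6, nat_lit 5, nat_lit 2],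
  [nat_lit 5, nat_lit 0, nat_lit 1, nat_lit 2, nat_lit 0, nat_lit 1, nat_lit 3, nat_lit 2, nat_lit 4, nat_lit 5, nat_lit 4, nat_lit 3, nat_lit 2, nat_lit 0, nat_lit 2, nat_lit 0, nat_lit 3, nat_lit 2, nat_lit 4, nat_lit 5, nat_lit 6, nat_lit 5, nat_lit 4, nat_lit 3, nat_lit 2, nat_lit 3, nat_lit 2, nat_lit 0, nat_lit 4, nat_lit 5]]
noncomputable def c0y0ce_P : ℕ → ℕ → ℕ := wdsP H15.Co3.P c0y0ce_W
noncomputable def c0y0cc2Dd : ℕ := nat_lit 0x163440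
noncomputable def c0y0cc2D (u : ℕ) : ℕ := Nat.land (Nat.shiftRight c0y0cc2Dd (Nat.mul u (nat_lit 3))) (nat_lit 7)
noncomputable def c0y0cc2Pd : ℕ := nat_lit 0x3b923948b10c05
noncomputable def c0y0cc2P (u : ℕ) : ℕ := Nat.land (Nat.shiftRight c0y0cc2Pd (Nat.mul u (nat_lit 8))) (nat_lit 255)
noncomputable def c0y0cc2Qd : ℕ := nat_lit 0x10000000000000000000000140000000000000000000000000000000000000000000000000000003000000000c20000000000000000000000000000000001000000000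
noncomputable def c0y0cc2Q (u : ℕ) : ℕ := Nat.land (Nat.shiftRight c0y0cc2Qd (Nat.mul u (nat_lit 3))) (nat_lit 7)
noncomputable def c0y0cc2 : H16.Lev := ⟨7, 1, c0y0cc2D, c0y0cc2P, c0y0cc2Q⟩
noncomputable def c0y0tn0Fd : ℕ := nat_lit 0x208aa0c42a4c0c646266ca6aa80caac8c2486a2c82268c44a26828488c64ac866c2c642024c84182268ca4141411a201411116a811116a10
noncomputable def c0y0tn0F (u : ℕ) : ℕ := Nat.land (Nat.shiftRight c0y0tn0Fd (Nat.mul u (nat_lit 4))) (nat_lit 15)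
noncomputable def c0y0tn0 : Nd := ⟨c0y0tn0F, (nat_lit 2), (nat_lit 1), [], [((nat_lit 0), []), ((nat_lit 0), [nat_lit 0, nat_lit 0]), ((nat_lit 0), [nat_lit 0]), ((nat_lit 0), [nat_lit 0, nat_lit 0, nat_lit 0]), ((nat_lit 0), [nat_lit 0, nat_lit 0, nat_lit 0, nat_lit 0]), ((nat_lit 1), [nat_lit 0, nat_lit 0, nat_lit 0, nat_lit 0, nat_lit 0])], []⟩
noncomputable def c0y0cc0Dd : ℕ := nat_lit 2
noncomputable def c0y0cc0D (u : ℕ) : ℕ := Nat.land (Nat.shiftRight c0y0cc0Dd (Nat.mul u (nat_lit 1))) (nat_lit 1)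
noncomputable def c0y0cc0Pd : ℕ := nat_lit 0xd63a
noncomputable def c0y0cc0P (u : ℕ) : ℕ := Nat.land (Nat.shiftRight c0y0cc0Pd (Nat.mul u (nat_lit 8))) (nat_lit 255)
noncomputable def c0y0cc0Qd : ℕ := nat_lit 0x400000000000000000000000000000000000000000000000000000
noncomputable def c0y0cc0Q (u : ℕ) : ℕ := Nat.land (Nat.shiftRight c0y0cc0Qd (Nat.mul u (nat_lit 1))) (nat_lit 1)
noncomputable def c0y0cc0 : H16.Lev := ⟨2, 2, c0y0cc0D, c0y0cc0P, c0y0cc0Q⟩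
noncomputable def c0y0tn1Fd : ℕ := nat_lit 0x9864ba2324346b8487a45374a62384353b88942548342b87442864a5b674543639696889b8669533975aa847678746a88392678654ba535856b368548394876ab19846722826a4426b485a7a8b04984b9b6a5b4363835553369664285668646787362a53a96474574b4961a46284251a828295462412128b664111274146411496b24641111111111110
noncomputable def c0y0tn1F (u : ℕ) : ℕ := Nat.land (Nat.shiftRight c0y0tn1Fd (Nat.mul u (nat_lit 4))) (nat_lit 15)
noncomputable def c0y0tn1 : Nd := ⟨c0y0tn1F, (nat_lit 2), (nat_lit 2), [[nat_lit 0, nat_lit 0],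
  [nat_lit 0]], [((nat_lit 0), [])], []⟩
noncomputable def c1ax_W : List (List ℕ) := [[nat_lit 0, nat_lit 2, nat_lit 1, nat_lit 3, nat_lit 2, nat_lit 1, nat_lit 2, nat_lit 0, nat_lit 2, nat_lit 3, nat_lit 4, nat_lit 3, nat_lit 2, nat_lit 1, nat_lit 5, nat_lit 4, nat_lit 3, nat_lit 2, nat_lit 1, nat_lit 2, nat_lit 3, nat_lit 4, nat_lit 2, nat_lit 5, nat_lit 6, nat_lit 5, nat_lit 4, nat_lit 3, nat_lit 2, nat_lit 0, nat_lit 2, nat_lit 4, nat_lit 2, nat_lit 1, nat_lit 6]]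
noncomputable def c1ax_P : ℕ → ℕ → ℕ := wdsP H15.Co3.P c1ax_W
noncomputable def c1ath_W : List (List ℕ) := [[nat_lit 3, nat_lit 6, nat_lit 2, nat_lit 3, nat_lit 2, nat_lit 0, nat_lit 2, nat_lit 0, nat_lit 3, nat_lit 2, nat_lit 4, nat_lit 3, nat_lit 2, nat_lit 0, nat_lit 2, nat_lit 0, nat_lit 5, nat_lit 4, nat_lit 3, nat_lit 2, nat_lit 0, nat_lit 2, nat_lit 3, nat_lit 4, nat_lit 5, nat_lit 4, nat_lit 2, nat_lit 3, nat_lit 2, nat_lit 4, nat_lit 3, nat_lit 6, nat_lit 5, nat_lit 4, nat_lit 3, nat_lit 2, nat_lit 1, nat_lit 2, nat_lit 3, nat_lit 2, nat_lit 4, nat_lit 5, nat_lit 6, nat_lit 1],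
  [nat_lit 3, nat_lit 6, nat_lit 0, nat_lit 1, nat_lit 2, nat_lit 0, nat_lit 1, nat_lit 0, nat_lit 2, nat_lit 1, nat_lit 3, nat_lit 2, nat_lit 0, nat_lit 4, nat_lit 3, nat_lit 5, nat_lit 4, nat_lit 3, nat_lit 2, nat_lit 0, nat_lit 2, nat_lit 0, nat_lit 4, nat_lit 6, nat_lit 3],
  [nat_lit 2, nat_lit 1, nat_lit 2, nat_lit 1, nat_lit 0, nat_lit 2, nat_lit 3, nat_lit 4, nat_lit 3, nat_lit 2, nat_lit 1, nat_lit 2, nat_lit 0, nat_lit 3, nat_lit 2, nat_lit 5, nat_lit 4, nat_lit 3, nat_lit 2, nat_lit 3, nat_lit 2, nat_lit 3, nat_lit 4, nat_lit 5, nat_lit 6, nat_lit 5, nat_lit 4, nat_lit 3, nat_lit 2, nat_lit 3, nat_lit 2, nat_lit 3, nat_lit 4, nat_lit 5, nat_lit 6, nat_lit 2, nat_lit 3, nat_lit 6],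
  [nat_lit 2, nat_lit 1, nat_lit 2, nat_lit 1, nat_lit 0, nat_lit 2, nat_lit 3, nat_lit 4, nat_lit 3, nat_lit 2, nat_lit 0, nat_lit 2, nat_lit 0, nat_lit 2, nat_lit 3, nat_lit 2, nat_lit 5, nat_lit 4, nat_lit 3, nat_lit 2, nat_lit 0, nat_lit 2, nat_lit 4, nat_lit 2, nat_lit 0, nat_lit 5],
  [nat_lit 4, nat_lit 5, nat_lit 0, nat_lit 1, nat_lit 2, nat_lit 0, nat_lit 1, nat_lit 0, nat_lit 3, nat_lit 2, nat_lit 0, nat_lit 4, nat_lit 3, nat_lit 2, nat_lit 1, nat_lit 2, nat_lit 1, nat_lit 3, nat_lit 2, nat_lit 4, nat_lit 5, nat_lit 4, nat_lit 3, nat_lit 2, nat_lit 1, nat_lit 2, nat_lit 1, nat_lit 6, nat_lit 5, nat_lit 4, nat_lit 3, nat_lit 2, nat_lit 3, nat_lit 2, nat_lit 0, nat_lit 3, nat_lit 2, nat_lit 4, nat_lit 2],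
  [nat_lit 5, nat_lit 6, nat_lit 0, nat_lit 2, nat_lit 1, nat_lit 2, nat_lit 3, nat_lit 2, nat_lit 4, nat_lit 3, nat_lit 2, nat_lit 0, nat_lit 2, nat_lit 0, nat_lit 3, nat_lit 4, nat_lit 3, nat_lit 5, nat_lit 4, nat_lit 3, nat_lit 2, nat_lit 1, nat_lit 2, nat_lit 3, nat_lit 4, nat_lit 2, nat_lit 3, nat_lit 5, nat_lit 2, nat_lit 6, nat_lit 5, nat_lit 4, nat_lit 3, nat_lit 2, nat_lit 1, nat_lit 2, nat_lit 6, nat_lit 3],
  [nat_lit 2, nat_lit 1, nat_lit 0, nat_lit 3, nat_lit 2, nat_lit 1, nat_lit 0, nat_lit 4, nat_lit 3, nat_lit 2, nat_lit 3, nat_lit 2, nat_lit 3, nat_lit 2, nat_lit 4, nat_lit 5, nat_lit 6, nat_lit 5, nat_lit 4, nat_lit 3, nat_lit 2, nat_lit 0, nat_lit 5],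
  [nat_lit 2, nat_lit 5, nat_lit 6, nat_lit 2, nat_lit 0, nat_lit 2, nat_lit 0, nat_lit 1, nat_lit 2, nat_lit 4, nat_lit 3, nat_lit 2, nat_lit 0, nat_lit 2, nat_lit 4, nat_lit 5, nat_lit 4, nat_lit 3, nat_lit 2, nat_lit 0, nat_lit 2, nat_lit 1, nat_lit 0, nat_lit 3, nat_lit 4, nat_lit 6, nat_lit 5, nat_lit 4, nat_lit 3, nat_lit 2, nat_lit 1, nat_lit 2, nat_lit 3, nat_lit 2, nat_lit 4, nat_lit 5, nat_lit 6],
  [nat_lit 6, nat_lit 1, nat_lit 0, nat_lit 2, nat_lit 1, nat_lit 2, nat_lit 0, nat_lit 2, nat_lit 3, nat_lit 2, nat_lit 4, nat_lit 3, nat_lit 2, nat_lit 1, nat_lit 2, nat_lit 0, nat_lit 5, nat_lit 4, nat_lit 3, nat_lit 2, nat_lit 3, nat_lit 2, nat_lit 0, nat_lit 2, nat_lit 6, nat_lit 5, nat_lit 4, nat_lit 3, nat_lit 2, nat_lit 0, nat_lit 2, nat_lit 3, nat_lit 6, nat_lit 1, nat_lit 4],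
  [nat_lit 4, nat_lit 1, nat_lit 2, nat_lit 0, nat_lit 2, nat_lit 1, nat_lit 3, nat_lit 2, nat_lit 1, nat_lit 2, nat_lit 1, nat_lit 2, nat_lit 4, nat_lit 3, nat_lit 2, nat_lit 0, nat_lit 2, nat_lit 0, nat_lit 2, nat_lit 0, nat_lit 2, nat_lit 5, nat_lit 4, nat_lit 3, nat_lit 2, nat_lit 1, nat_lit 2, nat_lit 3, nat_lit 4, nat_lit 2, nat_lit 5, nat_lit 6, nat_lit 5, nat_lit 4, nat_lit 3],
  [nat_lit 0, nat_lit 5, nat_lit 1, nat_lit 0, nat_lit 2, nat_lit 0, nat_lit 1, nat_lit 0, nat_lit 3, nat_lit 2, nat_lit 3, nat_lit 2, nat_lit 1, nat_lit 3, nat_lit 4, nat_lit 3, nat_lit 2, nat_lit 1, nat_lit 2, nat_lit 3, nat_lit 4, nat_lit 2, nat_lit 3, nat_lit 2, nat_lit 0, nat_lit 1, nat_lit 5, nat_lit 4, nat_lit 3, nat_lit 2, nat_lit 0, nat_lit 2, nat_lit 0, nat_lit 3, nat_lit 6, nat_lit 0],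
  [nat_lit 0],
  [nat_lit 1],
  [nat_lit 2],
  [nat_lit 3],
  [nat_lit 4],
  [nat_lit 5],
  [nat_lit 6],
  [nat_lit 6, nat_lit 0, nat_lit 2, nat_lit 0, nat_lit 1, nat_lit 3, nat_lit 2, nat_lit 1, nat_lit 2, nat_lit 3, nat_lit 4, nat_lit 3, nat_lit 2, nat_lit 0, nat_lit 2, nat_lit 0, nat_lit 1, nat_lit 0, nat_lit 5, nat_lit 4, nat_lit 3, nat_lit 2, nat_lit 1, nat_lit 2, nat_lit 1, nat_lit 3, nat_lit 6, nat_lit 5, nat_lit 4, nat_lit 3, nat_lit 2, nat_lit 0, nat_lit 2, nat_lit 3, nat_lit 4, nat_lit 2]]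
noncomputable def c1ath_P : ℕ → ℕ → ℕ := wdsP H15.Co3.P c1ath_W
noncomputable def c1atl0Dd : ℕ := nat_lit 0x814b64c772e02063b7b98e8d7c6f6b92dc70c4d5a22ab5bd8d6864c309997ac005a1aa197b299150a26d96f4289131ab414989ee4eda9c53da9da4e3a688580ae156729c14949c64d0a42917ea5c524a76138a98d4bd0a1c4e8076511a8413d49c44cfa630f6a0564bc0198ffe03d36880b4cc00613bc9d4c42a63a35506e02fe2023839850d5215909980ec3de6380c1006cd50625086971c3b865c31b98482920fa3661924b8c57c0be85a8b6658e0918440d4c0d400915ecad21570989968c6a61031102b8b8857a08f18d0b620ea04d8220b8659e2bc959c1625c22ce95e01a458a0459670aee0bf0561624aec09904314648703ed27993349504121f611207d63a01bd0d9c6aa4a61fe8d0465c31b2528e2c6a630815e8fa05523e719f0c186a02df15381e00c434f15c897009e29414089b80ca23502900a407e26b12c091409a02c01d006404e0140f607ac3b01b30e286c833e1790b387ec3d21660a9850025c19d08d079c3841af096041c1c415009e846017812a0828380152104079037c1980b905383bc1b80b7052824816c08203801bc0fe04a03f01b40b604901b81b009002402380d4044045019811004003100f804401e00e0068030016000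
noncomputable def c1atl0D (u : ℕ) : ℕ := Nat.land (Nat.shiftRight c1atl0Dd (Nat.mul u (nat_lit 13))) (nat_lit 8191)
noncomputable def c1atl0Pd : ℕ := nat_lit 0x77018e86a00ad4de82792ec1471012b9f26c8143918ec023c5441f51b4e12ef75a4154e749c461a985d419604e81ab61ee868a8178193db24cec6402541ca87db81b2bf42b2ce70a88351d29721b0c40006233190b61d2bd1b12899d836a406bd1ba8f6081d3638118f52cb77f05cf8e6169e82aa785a648e9c7fc14a63e4f3b55901801e1e6362f2c58ab2019b9560b7bbf060103f0f180266c0498ebe67a44fe757d205c409041001e1d839759c2f4a221be591221dcaa56517c7e2a6dbf4c0848224826d75a20c62580a2985c4d309c9c2f83107066356b094ae5c5c285b47d02a2daa4886130348672195848a7838c58181926868f63418dd508209c1ea45669a53e514e9557ad22d9584e4b548446e28599ac8c542511044890b168188e210edb84f5c8e4526624b40a450109b4c87715b78f21e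
noncomputable def c1atl0P (u : ℕ) : ℕ := Nat.land (Nat.shiftRight c1atl0Pd (Nat.mul u (nat_lit 9))) (nat_lit 511)
noncomputable def c1atl0Qd : ℕ := nat_lit 0x61b11e4d374c09e24755b51f2343dbb94c6775c0d409f53accd4926da0e0a58498e062be4ec2dfc3f7c44d45007b8d5a2e87a2c0e2431f204b2da3a8097a1135935b28b3214c92d27d0a1ce0a439e45eca6b1bdc4c944b8132cb67105768d6c22052e5853bc1e4f5a3221c630fa6134ed63419d4a14abd446dc56178e0c07dbf49ce616a8c56a85c8e954f0682d5bc77799990cf65e0518b0125100307639111ae683143104df42a3c98b171ab8029e0230909116a96a103286a580d040f4405c377083084051b15cb6693726cf45013858e86028898541c528245808083b0b8461206c164854874601a6784c667e36a916c8e0931c1cb810a70a8392a8ecc2913c1755e3d019b01a2012a30a4735b8640ecd7e000f85660915c83c5905d5a5f32a2844903eb757e154a425007f5d44896ff4bc1e1ecc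
noncomputable def c1atl0Q (u : ℕ) : ℕ := Nat.land (Nat.shiftRight c1atl0Qd (Nat.mul u (nat_lit 9))) (nat_lit 511)
noncomputable def c1atl0 : H16.Lev := ⟨276, 19, c1atl0D, c1atl0P, c1atl0Q⟩
noncomputable def c1atl1Dd : ℕ := nat_lit 0x9777156a38b489e8176dd7d56297bf7d88157d36025f65ec5c15cb5c056976a7545244a368049d4fa46c4d94b846b46063641e6315f13fe3f33e23dd3e53fd5d33bc39b37a36f3e63dc3383d159c3b03a534839a2b438429336334d23b30b22549c2f52df20f2d426425929d27151e2451b729123a1964182391f81a945d1ed1cc1a72541911b648441b1a019518a17f4371a41691623e115f3df13e1333be34a28c26b3132602552c621e13234528410c11a30e25811810d1a52a029520b25311b2271a81062061051a31610fc0dc0f90f10fa09a15814d0f00c506e0ef0ba0da1210630d90a91560830aa09612f0b90c809807e0b80bd0ad07206d0820970b206709c08107709110308607606c06b0650f804d0620df0d402c0ed05d05706104c0510d70540b30600410a804609d0490920560360dd08703b0d207c04b0c705503c0ab0300a003309504003102b08a07f0350a606604402809007403402608507a02a06902e06f02906402305e05004505304802f04303202d01602001a01d01b01f01e00f01201001801401300d01901c00e01701100c00a009000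
noncomputable def c1atl1D (u : ℕ) : ℕ := Nat.land (Nat.shiftRight c1atl1Dd (Nat.mul u (nat_lit 12))) (nat_lit 4095)
noncomputable def c1atl1Pd : ℕ := nat_lit 0x2c02e5c230a102993cab8904b5e199cc8b1e21dd47b6ea72106e32124204a0d411ca27403ad940012afc0e4217ba452cf163e18d1261bc07401828d582f4222540a412d9586c3822a6c68df590dcc26207044cad47036134b86394c98a9528ac1e2a5531486032f180662e3eaecbea1830916afc03355688818a8e070b358b5c88927238aa8a0500980f57c86c4cfb2ba79ae672d289e4db86b7966a710b31c472180e4fe736e44618c962214a28f79be93af1434416cc22c1f9dabd043a17301021a95a6d2942476140587dfc633b3bd9ad0061c1ceff3884ce8694fc4d269706bda0e220a871fac84134832323e43cf4ee3423122905408dc61d3aa35c3004a2ad24126b429eea4100f8a0a06d0f5d8d13621130d95f2594cb7699648e548110196ac2782562785d1dd9c6f2eabe1c181fa0c2c4d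
noncomputable def c1atl1P (u : ℕ) : ℕ := Nat.land (Nat.shiftRight c1atl1Pd (Nat.mul u (nat_lit 9))) (nat_lit 511)
noncomputable def c1atl1Qd : ℕ := nat_lit 0x27390fc721f015167d520a8c4fd24abdbef65284cd0302a1748aac4a1d92ee61492930dc3ba34e8e22d0f0da2179405d46a2ac15eaa11aa1462c768229fe7f4608c38c6488ad54c80b908405874024b28608bc4f84461b95747b719c1ba997706cd9075902cd2c40c1c55aa944b3c1b1203428ca10172ed8037440657e2853239602427a48eafe69316181d26069b42f268b472383c278643a8227140a8811ccf41e0110e1af3409b9663f800f6160c0516c665140210a656043f0c81f51998a03b4841992fb2e3319ab658adc0f106ba3c2c6f49b593a146118cf22507a7c00c1843e1f5090ac3da6db5cbb1b01201898450330b8504d467355bcd15a9014e8375ad144e75f2f1d30e7a255deae1b1210e272f00068464b3dc8204888048e60290b194f95eb2c96572fa6c1c6b76aadb2675c269c0f0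
noncomputable def c1atl1Q (u : ℕ) : ℕ := Nat.land (Nat.shiftRight c1atl1Qd (Nat.mul u (nat_lit 9))) (nat_lit 511)
noncomputable def c1atl1 : H16.Lev := ⟨275, 11, c1atl1D, c1atl1P, c1atl1Q⟩
noncomputable def c1atl2Dd : ℕ := nat_lit 0xf0975bc54852f195c2d6bd539b22bf4e92d3f28549e4f75dce84238769d137cd6564cb7e59b41cfe70db1338c254cec2fca22c0b31f8754bd1a2b4a027926474ff285184510b260831e902348c91c46726c6a1a05e1f4de330c01d05f2245520077158ba18865170592b8480fc362944c27093134a810c1b258811e03d1bc3b28c6612831234912107b11c320ac5d0f8691048807c350886d1802c1905b1481d12c4e108450c03c09c400cc370a81e0942104816064170341a0400e0501102c150600c04c0f0280702000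
noncomputable def c1atl2D (u : ℕ) : ℕ := Nat.land (Nat.shiftRight c1atl2Dd (Nat.mul u (nat_lit 10))) (nat_lit 1023)
noncomputable def c1atl2Pd : ℕ := nat_lit 0xf85588229ae61659b4a5037a9e934bb42294ff094f0b4fc157b2d1b8ac47366010b5585024c1189d912c9392d8068f720c9849306385fee37d98cd0a2432f91ada53900e30289888a2c02c2e54ced411753f112c8ece0fa87a4203060786d3ae262075400d56a1550cc02151a669051bd906c5d430d44f3c26148f20fac5acd846259fc83239dd6ed2743c61ac5518660e914a1415e735ebb030b37707060267e88124f7870f426cd6894dce09674282c74680fcea80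
noncomputable def c1atl2P (u : ℕ) : ℕ := Nat.land (Nat.shiftRight c1atl2Pd (Nat.mul u (nat_lit 9))) (nat_lit 511)
noncomputable def c1atl2Qd : ℕ := nat_lit 0x6300589f530f253a840690002150000098645185712d13006f540000108b97000034260000175c1a0000002709000077704c720000000089006886309d31000041280b0300070c449b007c3d0000244b00758060006a1b00943b5e00297a008a180032001d00478883000045675d9235236c0049598f4d0000950036002e001f741120527887692f009e7d00006b46932c5b0000918d00a1009600372a7e01041c7b65553e009a3c0039406d000000006e009c0000005a000000575f0000a0420a99611e38000000000000002b0000000000006602000e00560000000000000000767f1500008e0000000000001400000062001233004a164e00221900058c820d8100004f004873003f08000000004379000000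
noncomputable def c1atl2Q (u : ℕ) : ℕ := Nat.land (Nat.shiftRight c1atl2Qd (Nat.mul u (nat_lit 8))) (nat_lit 255)
noncomputable def c1atl2 : H16.Lev := ⟨162, 9, c1atl2D, c1atl2P, c1atl2Q⟩
noncomputable def c1atl3Dd : ℕ := nat_lit 0x27c8a9e25694c2cd97520f0560b84b1193c4dc20d043d074398c019cef20079180ca30cbc2d45929072190b72c05613c4b26488248440f08b1cc6c1947d0d88d1782e1fc6f1a0501e0410e8630b04908c4c0544209c3b0d0450803e0b421100390c8300681e05c0e098120a41f04c24088180401d06c0702c140300f0280d0200501800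
noncomputable def c1atl3D (u : ℕ) : ℕ := Nat.land (Nat.shiftRight c1atl3Dd (Nat.mul u (nat_lit 10))) (nat_lit 1023)
noncomputable def c1atl3Pd : ℕ := nat_lit 0x7e7f955e27a81aacb0b96bb616e9830c3006e23e34c1ef26127c1889544443ec16294e1a224b42d4f090db2d3c3152aed4cf57b2f86415492160e16098fd1a6d4d2d14420578613af77f2d8a3064a371980a6894162e8762385ac0623ec1aad343f51500502e8125271b242404672309efa48a4cd486
noncomputable def c1atl3P (u : ℕ) : ℕ := Nat.land (Nat.shiftRight c1atl3Pd (Nat.mul u (nat_lit 9))) (nat_lit 511)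
noncomputable def c1atl3Qd : ℕ := nat_lit 0x270000024da8c022006a90000c600010ce9c9002c1000050ede000153280000001b000001c000000017600000000022000005ebe00000ac00f80001c02184005000002597014e61800e80007c3b000ba9802e0000e805600a00c40004f8af5f8000b400fa50548000bc05c011c02304dc180006988600468000001b00000000001a00570190000000000000000000001800000401300000000002d80000000000000610003300943129e0a0000000000000000000000000064000000000000000000000e60000000c8000000000000000012002c9a00000860002a00d1c006624000aa00ad100806800000008b200000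
noncomputable def c1atl3Q (u : ℕ) : ℕ := Nat.land (Nat.shiftRight c1atl3Qd (Nat.mul u (nat_lit 7))) (nat_lit 127)
noncomputable def c1atl3 : H16.Lev := ⟨105, 7, c1atl3D, c1atl3P, c1atl3Q⟩
noncomputable def c1atl4Dd : ℕ := nat_lit 0xcd978430
noncomputable def c1atl4D (u : ℕ) : ℕ := Nat.land (Nat.shiftRight c1atl4Dd (Nat.mul u (nat_lit 4))) (nat_lit 15)
noncomputable def c1atl4Pd : ℕ := nat_lit 0xcb7eb7c27c58a555
noncomputable def c1atl4P (u : ℕ) : ℕ := Nat.land (Nat.shiftRight c1atl4Pd (Nat.mul u (nat_lit 8))) (nat_lit 255)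
noncomputable def c1atl4Qd : ℕ := nat_lit 0xe00000100000000a00000000000008000000000000000000000000000183000000000000000000000000002000000000000000000000000000000000000000000000000000000000000000000
noncomputable def c1atl4Q (u : ℕ) : ℕ := Nat.land (Nat.shiftRight c1atl4Qd (Nat.mul u (nat_lit 3))) (nat_lit 7)
noncomputable def c1atl4 : H16.Lev := ⟨8, 5, c1atl4D, c1atl4P, c1atl4Q⟩
noncomputable def c1atl5Dd : ℕ := nat_lit 0x750
noncomputable def c1atl5D (u : ℕ) : ℕ := Nat.land (Nat.shiftRight c1atl5Dd (Nat.mul u (nat_lit 3))) (nat_lit 7)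
noncomputable def c1atl5Pd : ℕ := nat_lit 0xb77ecb58
noncomputable def c1atl5P (u : ℕ) : ℕ := Nat.land (Nat.shiftRight c1atl5Pd (Nat.mul u (nat_lit 8))) (nat_lit 255)
noncomputable def c1atl5Qd : ℕ := nat_lit 0x4000000000c0000000000000000000000000002000000000000000000000000000000000000000000000000000000000000000
noncomputable def c1atl5Q (u : ℕ) : ℕ := Nat.land (Nat.shiftRight c1atl5Qd (Nat.mul u (nat_lit 2))) (nat_lit 3)
noncomputable def c1atl5 : H16.Lev := ⟨4, 3, c1atl5D, c1atl5P, c1atl5Q⟩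
noncomputable def c1atl6Dd : ℕ := nat_lit 0xa88
noncomputable def c1atl6D (u : ℕ) : ℕ := Nat.land (Nat.shiftRight c1atl6Dd (Nat.mul u (nat_lit 3))) (nat_lit 7)
noncomputable def c1atl6Pd : ℕ := nat_lit 0x7943128a2
noncomputable def c1atl6P (u : ℕ) : ℕ := Nat.land (Nat.shiftRight c1atl6Pd (Nat.mul u (nat_lit 9))) (nat_lit 511)
noncomputable def c1atl6Qd : ℕ := nat_lit 0x200000000000030000000000000000000000000000000000000000000000100000000000000000000000000000000000000000000000000000000000000000000000000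
noncomputable def c1atl6Q (u : ℕ) : ℕ := Nat.land (Nat.shiftRight c1atl6Qd (Nat.mul u (nat_lit 2))) (nat_lit 3)
noncomputable def c1atl6 : H16.Lev := ⟨4, 2, c1atl6D, c1atl6P, c1atl6Q⟩
noncomputable def c1atl7Dd : ℕ := nat_lit 4
noncomputable def c1atl7D (u : ℕ) : ℕ := Nat.land (Nat.shiftRight c1atl7Dd (Nat.mul u (nat_lit 1))) (nat_lit 1)
noncomputable def c1atl7Pd : ℕ := nat_lit 0x43128f2
noncomputable def c1atl7P (u : ℕ) : ℕ := Nat.land (Nat.shiftRight c1atl7Pd (Nat.mul u (nat_lit 9))) (nat_lit 511)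
noncomputable def c1atl7Qd : ℕ := nat_lit 0x200000000000000000000000000000000000000000000000000000000000100000000000000000000000000000000000000000000000000000000000000000000000000
noncomputable def c1atl7Q (u : ℕ) : ℕ := Nat.land (Nat.shiftRight c1atl7Qd (Nat.mul u (nat_lit 2))) (nat_lit 3)
noncomputable def c1atl7 : H16.Lev := ⟨3, 1, c1atl7D, c1atl7P, c1atl7Q⟩
noncomputable def c1ace_W : List (List ℕ) := [[nat_lit 1, nat_lit 4, nat_lit 2, nat_lit 1, nat_lit 2, nat_lit 0, nat_lit 1, nat_lit 0, nat_lit 3, nat_lit 2, nat_lit 3, nat_lit 2, nat_lit 0, nat_lit 4, nat_lit 3, nat_lit 2, nat_lit 1, nat_lit 5, nat_lit 4, nat_lit 3, nat_lit 2, nat_lit 0, nat_lit 2, nat_lit 3, nat_lit 4, nat_lit 5, nat_lit 4, nat_lit 6, nat_lit 5, nat_lit 4, nat_lit 3, nat_lit 2, nat_lit 0, nat_lit 2, nat_lit 3, nat_lit 4, nat_lit 2, nat_lit 0, nat_lit 3, nat_lit 2, nat_lit 5, nat_lit 0, nat_lit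 4, nat_lit 3],
  [nat_lit 6, nat_lit 3, nat_lit 0, nat_lit 1, nat_lit 0, nat_lit 3, nat_lit 2, nat_lit 3, nat_lit 2, nat_lit 3, nat_lit 2, nat_lit 0, nat_lit 4, nat_lit 3, nat_lit 2, nat_lit 0, nat_lit 2, nat_lit 3, nat_lit 2, nat_lit 4, nat_lit 5, nat_lit 4, nat_lit 3, nat_lit 2, nat_lit 3, nat_lit 2, nat_lit 0, nat_lit 3, nat_lit 2, nat_lit 4, nat_lit 3, nat_lit 6, nat_lit 5],
  [nat_lit 0, nat_lit 2, nat_lit 1, nat_lit 3, nat_lit 2, nat_lit 1, nat_lit 2, nat_lit 0, nat_lit 2, nat_lit 3, nat_lit 4, nat_lit 3, nat_lit 2, nat_lit 1, nat_lit 5, nat_lit 4, nat_lit 3, nat_lit 2, nat_lit 1, nat_lit 2, nat_lit 3, nat_lit 4, nat_lit 2, nat_lit 5, nat_lit 6, nat_lit 5, nat_lit 4, nat_lit 3, nat_lit 2, nat_lit 0, nat_lit 2, nat_lit 1, nat_lit 2, nat_lit 4, nat_lit 6],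
  [nat_lit 1, nat_lit 2, nat_lit 1, nat_lit 2, nat_lit 1, nat_lit 3, nat_lit 2, nat_lit 1, nat_lit 2, nat_lit 0, nat_lit 2, nat_lit 3, nat_lit 4, nat_lit 3, nat_lit 2, nat_lit 0, nat_lit 2, nat_lit 0, nat_lit 2, nat_lit 0, nat_lit 4, nat_lit 5, nat_lit 4, nat_lit 3, nat_lit 2, nat_lit 0, nat_lit 2, nat_lit 3, nat_lit 4, nat_lit 5, nat_lit 6, nat_lit 5, nat_lit 4, nat_lit 3, nat_lit 2, nat_lit 0, nat_lit 2, nat_lit 3, nat_lit 4, nat_lit 5],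
  [nat_lit 6, nat_lit 2, nat_lit 0, nat_lit 1, nat_lit 2, nat_lit 1, nat_lit 2, nat_lit 3, nat_lit 2, nat_lit 3, nat_lit 2, nat_lit 1, nat_lit 2, nat_lit 0, nat_lit 4, nat_lit 3, nat_lit 2, nat_lit 1, nat_lit 2, nat_lit 0, nat_lit 6],
  [nat_lit 4, nat_lit 5, nat_lit 6, nat_lit 0, nat_lit 2, nat_lit 0, nat_lit 1, nat_lit 3, nat_lit 2, nat_lit 1, nat_lit 2, nat_lit 0, nat_lit 2, nat_lit 0, nat_lit 2, nat_lit 4, nat_lit 3, nat_lit 2, nat_lit 0, nat_lit 2, nat_lit 3, nat_lit 4, nat_lit 3, nat_lit 5, nat_lit 4, nat_lit 3, nat_lit 2, nat_lit 1, nat_lit 2, nat_lit 5, nat_lit 6, nat_lit 5, nat_lit 4, nat_lit 3, nat_lit 2, nat_lit 6, nat_lit 5, nat_lit 4, nat_lit 3],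
  [nat_lit 2, nat_lit 4, nat_lit 2, nat_lit 0, nat_lit 1, nat_lit 0, nat_lit 2, nat_lit 1, nat_lit 3, nat_lit 2, nat_lit 0, nat_lit 2, nat_lit 3, nat_lit 4, nat_lit 3, nat_lit 2, nat_lit 3, nat_lit 2, nat_lit 5, nat_lit 4, nat_lit 3, nat_lit 2, nat_lit 3, nat_lit 2, nat_lit 5, nat_lit 2, nat_lit 3, nat_lit 6, nat_lit 5, nat_lit 4, nat_lit 3, nat_lit 2, nat_lit 0, nat_lit 2, nat_lit 1, nat_lit 0],
  [nat_lit 0, nat_lit 1, nat_lit 0, nat_lit 2, nat_lit 3, nat_lit 2, nat_lit 3, nat_lit 2, nat_lit 0, nat_lit 2, nat_lit 4, nat_lit 3, nat_lit 2, nat_lit 0, nat_lit 2, nat_lit 0, nat_lit 2, nat_lit 3, nat_lit 4, nat_lit 3, nat_lit 5, nat_lit 4, nat_lit 3, nat_lit 2, nat_lit 0, nat_lit 2, nat_lit 3, nat_lit 4, nat_lit 3, nat_lit 2, nat_lit 5, nat_lit 6, nat_lit 5, nat_lit 4, nat_lit 3, nat_lit 2, nat_lit 3, nat_lit 6]]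
noncomputable def c1ace_P : ℕ → ℕ → ℕ := wdsP H15.Co3.P c1ace_W
noncomputable def c1acc6Dd : ℕ := nat_lit 0
noncomputable def c1acc6D (u : ℕ) : ℕ := Nat.land (Nat.shiftRight c1acc6Dd (Nat.mul u (nat_lit 1))) (nat_lit 1)
noncomputable def c1acc6Pd : ℕ := nat_lit 0xf2a2
noncomputable def c1acc6P (u : ℕ) : ℕ := Nat.land (Nat.shiftRight c1acc6Pd (Nat.mul u (nat_lit 8))) (nat_lit 255)
noncomputable def c1acc6Qd : ℕ := nat_lit 0x4000000000000000000000000000000000000000000000000000000000000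
noncomputable def c1acc6Q (u : ℕ) : ℕ := Nat.land (Nat.shiftRight c1acc6Qd (Nat.mul u (nat_lit 1))) (nat_lit 1)
noncomputable def c1acc6 : H16.Lev := ⟨2, 1, c1acc6D, c1acc6P, c1acc6Q⟩
noncomputable def c1atn0Fd : ℕ := nat_lit 0x24
noncomputable def c1atn0F (u : ℕ) : ℕ := Nat.land (Nat.shiftRight c1atn0Fd (Nat.mul u (nat_lit 2))) (nat_lit 3)
noncomputable def c1atn0 : Nd := ⟨c1atn0F, (nat_lit 2), (nat_lit 1), [[nat_lit 0]], [((nat_lit 0), [])], []⟩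
noncomputable def c1acc4Dd : ℕ := nat_lit 0x9ace618820
noncomputable def c1acc4D (u : ℕ) : ℕ := Nat.land (Nat.shiftRight c1acc4Dd (Nat.mul u (nat_lit 5))) (nat_lit 31)
noncomputable def c1acc4Pd : ℕ := nat_lit 0x7cc2b7cb7e58a555
noncomputable def c1acc4P (u : ℕ) : ℕ := Nat.land (Nat.shiftRight c1acc4Pd (Nat.mul u (nat_lit 8))) (nat_lit 255)
noncomputable def c1acc4Qd : ℕ := nat_lit 0x800000180000000a000000000000080000000000000000000000000000c7000000000000000000000000002000000000000000000000000000000000000000000000000000000000000000000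
noncomputable def c1acc4Q (u : ℕ) : ℕ := Nat.land (Nat.shiftRight c1acc4Qd (Nat.mul u (nat_lit 3))) (nat_lit 7)
noncomputable def c1acc4 : H16.Lev := ⟨8, 4, c1acc4D, c1acc4P, c1acc4Q⟩
noncomputable def c1atn1Fd : ℕ := nat_lit 0
noncomputable def c1atn1F (u : ℕ) : ℕ := Nat.land (Nat.shiftRight c1atn1Fd (Nat.mul u (nat_lit 1))) (nat_lit 1)
noncomputable def c1atn1 : Nd := ⟨c1atn1F, (nat_lit 4), (nat_lit 4), [], [((nat_lit 0), [])], []⟩
noncomputable def c1acc3Dd : ℕ := nat_lit 0xfc29a542480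
noncomputable def c1acc3D (u : ℕ) : ℕ := Nat.land (Nat.shiftRight c1acc3Dd (Nat.mul u (nat_lit 5))) (nat_lit 31)
noncomputable def c1acc3Pd : ℕ := nat_lit 0xf786a819c94493da1886
noncomputable def c1acc3P (u : ℕ) : ℕ := Nat.land (Nat.shiftRight c1acc3Pd (Nat.mul u (nat_lit 9))) (nat_lit 511)
noncomputable def c1acc3Qd : ℕ := nat_lit 0x710000000000000000000082000000000000000000000000000000000000000500000000000000000000000000000000000000000000060000000000040300000000000000000000000000000000000000000000000000000000000000000000000000000000000000000000000000000000000000000000000000000000000000000000000000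
noncomputable def c1acc3Q (u : ℕ) : ℕ := Nat.land (Nat.shiftRight c1acc3Qd (Nat.mul u (nat_lit 4))) (nat_lit 15)
noncomputable def c1acc3 : H16.Lev := ⟨9, 5, c1acc3D, c1acc3P, c1acc3Q⟩
noncomputable def c1atn2Fd : ℕ := nat_lit 0x1354d65796d35ce6ca0193b41eeb466a6d93493012658f796f66ab8c802a16051307466d7de3b74ac055a67039b75b5f172aee8d65886e13049550becf046d647020
noncomputable def c1atn2F (u : ℕ) : ℕ := Nat.land (Nat.shiftRight c1atn2Fd (Nat.mul u (nat_lit 5))) (nat_lit 31)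
noncomputable def c1atn2 : Nd := ⟨c1atn2F, (nat_lit 5), (nat_lit 5), [[nat_lit 0]], [((nat_lit 0), [])], []⟩
noncomputable def c1acc2Dd : ℕ := nat_lit 0xa113cd2c91ca140
noncomputable def c1acc2D (u : ℕ) : ℕ := Nat.land (Nat.shiftRight c1acc2Dd (Nat.mul u (nat_lit 6))) (nat_lit 63)
noncomputable def c1acc2Pd : ℕ := nat_lit 0x10d0c5024928f67bb3a1a80
noncomputable def c1acc2P (u : ℕ) : ℕ := Nat.land (Nat.shiftRight c1acc2Pd (Nat.mul u (nat_lit 9))) (nat_lit 511)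
noncomputable def c1acc2Qd : ℕ := nat_lit 0x180000000000000000000034000000000000000000000000000000000000000200000000000000000000000000000000000000000000070000000000050600000000000900000000000000000000000000000000000000000000000000000000000000000000000000000000000000000000000000000000000000000000000000000000000000
noncomputable def c1acc2Q (u : ℕ) : ℕ := Nat.land (Nat.shiftRight c1acc2Qd (Nat.mul u (nat_lit 4))) (nat_lit 15)
noncomputable def c1acc2 : H16.Lev := ⟨10, 6, c1acc2D, c1acc2P, c1acc2Q⟩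
noncomputable def c1atn3Fd : ℕ := nat_lit 0x45149566055745c75969158f41769e35a0144d071445a6ca76058d5dd45b75031751d4cf5975925990177154c85992574dc5d174630e81950f5d738c35d6588155c601d55b59a8157166886934005da2d73965d555182384c3162d681701d3d445601165359c5872500506d70002105d44d245c0075ca05d040
noncomputable def c1atn3F (u : ℕ) : ℕ := Nat.land (Nat.shiftRight c1atn3Fd (Nat.mul u (nat_lit 6))) (nat_lit 63)
noncomputable def c1atn3 : Nd := ⟨c1atn3F, (nat_lit 6), (nat_lit 6), [[nat_lit 0]], [((nat_lit 0), [])], []⟩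
noncomputable def c1acc1Dd : ℕ := nat_lit 0x110999281c60a1a2c300
noncomputable def c1acc1D (u : ℕ) : ℕ := Nat.land (Nat.shiftRight c1acc1Dd (Nat.mul u (nat_lit 7))) (nat_lit 127)
noncomputable def c1acc1Pd : ℕ := nat_lit 0x20140ce7ba510c9286bda184d
noncomputable def c1acc1P (u : ℕ) : ℕ := Nat.land (Nat.shiftRight c1acc1Pd (Nat.mul u (nat_lit 9))) (nat_lit 511)
noncomputable def c1acc1Qd : ℕ := nat_lit 0x310000000000000000000072000000000000000000000000000000000000000800000000000000000000000000000000000000000000090000000000060400000000000500000a00000000000000000000000000000000000000000000000000000000000000000000000000000000000000000000000000000000000000000000000000000000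
noncomputable def c1acc1Q (u : ℕ) : ℕ := Nat.land (Nat.shiftRight c1acc1Qd (Nat.mul u (nat_lit 4))) (nat_lit 15)
noncomputable def c1acc1 : H16.Lev := ⟨11, 7, c1acc1D, c1acc1P, c1acc1Q⟩
noncomputable def c1atn4Fd : ℕ := nat_lit 0x1951d55b89989d8a26db69f81176188e6d355555d55988d02085b59865665b6134998215e06545226598548146e06d469b89b62079d6a281b81579b51289c4a166281a65959b81b51b7225189db44e6585da4e06dd55181659b49a74f7e069261765c85365a00d6618966d225b6115d901e6106526d86ce01b51b3d92595574ce5531e02955cf8195cb3a04ce39739930e4db81359a5804d479139345159a45a66081859031b59849559100f0094990184604406107995996965902d851a50f28134e64e2083d90074925d9881040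
noncomputable def c1atn4F (u : ℕ) : ℕ := Nat.land (Nat.shiftRight c1atn4Fd (Nat.mul u (nat_lit 6))) (nat_lit 63)
noncomputable def c1atn4 : Nd := ⟨c1atn4F, (nat_lit 7), (nat_lit 7), [[nat_lit 0]], [((nat_lit 0), [])], []⟩
noncomputable def c1acc0Dd : ℕ := nat_lit 0xddb5d55997143ce1c0
noncomputable def c1acc0D (u : ℕ) : ℕ := Nat.land (Nat.shiftRight c1acc0Dd (Nat.mul u (nat_lit 6))) (nat_lit 63)
noncomputable def c1acc0Pd : ℕ := nat_lit 0x40281288686a49eef6674309a1e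
noncomputable def c1acc0P (u : ℕ) : ℕ := Nat.land (Nat.shiftRight c1acc0Pd (Nat.mul u (nat_lit 9))) (nat_lit 511)
noncomputable def c1acc0Qd : ℕ := nat_lit 0x7200000000000000000000540000000000000000000000000000000000000003000000000000000000000000000000000000000000000a0000000000090600000000000800000b00000000000000000000000000000000000000000000000000100000000000000000000000000000000000000000000000000000000000000000000000000000
noncomputable def c1acc0Q (u : ℕ) : ℕ := Nat.land (Nat.shiftRight c1acc0Qd (Nat.mul u (nat_lit 4))) (nat_lit 15)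
noncomputable def c1acc0 : H16.Lev := ⟨12, 8, c1acc0D, c1acc0P, c1acc0Q⟩
noncomputable def c1atn5Fd : ℕ := nat_lit 0x7999d32a44d65d86e561985e3a15e47df7dc5d979071c71679f01b5db51d61e75978065875661e01f55e59c7a359c7a471355f6e26157149dc5177177d675c79f2dd9a23c969999e6da91575f85d8a56df55479d7e67a561b51d45f69388d59901c7db71159d65f68e9107e14187177e666479c02401349f5cb7197d762455e5995007243dc7de91e6c091b69265f7d45194db41a79889321f01578065c8e076471b65f70065e71959f7d865871d7565574e75cc61d35f89c41129c69d7a771761a8517d670981d71169441c5c1040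
noncomputable def c1atn5F (u : ℕ) : ℕ := Nat.land (Nat.shiftRight c1atn5Fd (Nat.mul u (nat_lit 6))) (nat_lit 63)
noncomputable def c1atn5 : Nd := ⟨c1atn5F, (nat_lit 8), (nat_lit 8), [[nat_lit 0]], [((nat_lit 0), [])], []⟩
noncomputable def c1w0_W : List (List ℕ) := [[nat_lit 0, nat_lit 2, nat_lit 1, nat_lit 3, nat_lit 2, nat_lit 1, nat_lit 2, nat_lit 0, nat_lit 2, nat_lit 3, nat_lit 4, nat_lit 3, nat_lit 2, nat_lit 1, nat_lit 5, nat_lit 4, nat_lit 3, nat_lit 2, nat_lit 1, nat_lit 2, nat_lit 3, nat_lit 4, nat_lit 2, nat_lit 5, nat_lit 6, nat_lit 5, nat_lit 4, nat_lit 3, nat_lit 2, nat_lit 0, nat_lit 2, nat_lit 4, nat_lit 2, nat_lit 1, nat_lit 6],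
  [nat_lit 3, nat_lit 2, nat_lit 1, nat_lit 2, nat_lit 0, nat_lit 2, nat_lit 3, nat_lit 2, nat_lit 0, nat_lit 2, nat_lit 1, nat_lit 2, nat_lit 4, nat_lit 3, nat_lit 2, nat_lit 3, nat_lit 2, nat_lit 3, nat_lit 5, nat_lit 4, nat_lit 3, nat_lit 2, nat_lit 0, nat_lit 2, nat_lit 4, nat_lit 3, nat_lit 2, nat_lit 4, nat_lit 6, nat_lit 5, nat_lit 4, nat_lit 3, nat_lit 2, nat_lit 1, nat_lit 2, nat_lit 3, nat_lit 2, nat_lit 4]]
noncomputable def c1w0_P : ℕ → ℕ → ℕ := wdsP H15.Co3.P c1w0_W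
noncomputable def c1y0x_W : List (List ℕ) := [[nat_lit 3, nat_lit 2, nat_lit 1, nat_lit 2, nat_lit 0, nat_lit 2, nat_lit 3, nat_lit 2, nat_lit 0, nat_lit 2, nat_lit 1, nat_lit 2, nat_lit 4, nat_lit 3, nat_lit 2, nat_lit 3, nat_lit 2, nat_lit 3, nat_lit 5, nat_lit 4, nat_lit 3, nat_lit 2, nat_lit 0, nat_lit 2, nat_lit 4, nat_lit 3, nat_lit 2, nat_lit 4, nat_lit 6, nat_lit 5, nat_lit 4, nat_lit 3, nat_lit 2, nat_lit 1, nat_lit 2, nat_lit 3, nat_lit 2, nat_lit 4]]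
noncomputable def c1y0x_P : ℕ → ℕ → ℕ := wdsP H15.Co3.P c1y0x_W
noncomputable def c1y0th_W : List (List ℕ) := [[nat_lit 0, nat_lit 2, nat_lit 1, nat_lit 3, nat_lit 2, nat_lit 1, nat_lit 2, nat_lit 0, nat_lit 2, nat_lit 3, nat_lit 4, nat_lit 3, nat_lit 2, nat_lit 1, nat_lit 5, nat_lit 4, nat_lit 3, nat_lit 2, nat_lit 1, nat_lit 2, nat_lit 3, nat_lit 4, nat_lit 2, nat_lit 3, nat_lit 5, nat_lit 6, nat_lit 5, nat_lit 4, nat_lit 3, nat_lit 2, nat_lit 1, nat_lit 6, nat_lit 2, nat_lit 1, nat_lit 2],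
  [nat_lit 3, nat_lit 4, nat_lit 0, nat_lit 2, nat_lit 1, nat_lit 2, nat_lit 0, nat_lit 1, nat_lit 0, nat_lit 2, nat_lit 3, nat_lit 2, nat_lit 1, nat_lit 2, nat_lit 1, nat_lit 3, nat_lit 2, nat_lit 4, nat_lit 3, nat_lit 2, nat_lit 0, nat_lit 6],
  [nat_lit 1, nat_lit 0, nat_lit 2, nat_lit 0, nat_lit 2, nat_lit 1, nat_lit 2, nat_lit 1, nat_lit 0, nat_lit 3, nat_lit 2, nat_lit 0, nat_lit 5, nat_lit 4, nat_lit 3, nat_lit 2, nat_lit 0, nat_lit 2, nat_lit 1, nat_lit 2, nat_lit 5],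
  [nat_lit 3, nat_lit 0, nat_lit 2, nat_lit 0, nat_lit 2, nat_lit 0, nat_lit 3, nat_lit 2, nat_lit 1, nat_lit 2, nat_lit 1, nat_lit 4, nat_lit 3, nat_lit 2, nat_lit 0, nat_lit 2, nat_lit 0, nat_lit 3, nat_lit 2, nat_lit 0, nat_lit 3, nat_lit 6, nat_lit 2],
  [nat_lit 0, nat_lit 4, nat_lit 1, nat_lit 3, nat_lit 2, nat_lit 3, nat_lit 2, nat_lit 0, nat_lit 2, nat_lit 0, nat_lit 4, nat_lit 3, nat_lit 2, nat_lit 5, nat_lit 4, nat_lit 3, nat_lit 2, nat_lit 0, nat_lit 2, nat_lit 1, nat_lit 3, nat_lit 2, nat_lit 4, nat_lit 3, nat_lit 5, nat_lit 6, nat_lit 5, nat_lit 4, nat_lit 3, nat_lit 2, nat_lit 0, nat_lit 2, nat_lit 1, nat_lit 3, nat_lit 2, nat_lit 4, nat_lit 0],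
  [nat_lit 2, nat_lit 0, nat_lit 1, nat_lit 0, nat_lit 2, nat_lit 3, nat_lit 2, nat_lit 0, nat_lit 2, nat_lit 3, nat_lit 4, nat_lit 3, nat_lit 2, nat_lit 0, nat_lit 2, nat_lit 3, nat_lit 2, nat_lit 1, nat_lit 5, nat_lit 4, nat_lit 3, nat_lit 2, nat_lit 3, nat_lit 2, nat_lit 3, nat_lit 5],
  [nat_lit 1, nat_lit 2, nat_lit 1, nat_lit 2, nat_lit 1, nat_lit 3, nat_lit 2, nat_lit 0, nat_lit 2, nat_lit 1, nat_lit 0, nat_lit 4, nat_lit 3, nat_lit 2, nat_lit 3, nat_lit 2, nat_lit 3, nat_lit 2, nat_lit 4, nat_lit 5, nat_lit 4, nat_lit 3, nat_lit 2, nat_lit 1, nat_lit 2, nat_lit 1, nat_lit 2, nat_lit 0, nat_lit 6, nat_lit 5, nat_lit 4, nat_lit 3, nat_lit 2, nat_lit 0, nat_lit 2, nat_lit 3, nat_lit 4, nat_lit 3, nat_lit 5],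
  [nat_lit 1, nat_lit 2, nat_lit 0, nat_lit 2, nat_lit 0, nat_lit 2, nat_lit 0, nat_lit 1, nat_lit 0, nat_lit 3, nat_lit 2, nat_lit 1, nat_lit 2, nat_lit 3, nat_lit 5, nat_lit 4, nat_lit 3, nat_lit 2, nat_lit 1, nat_lit 2, nat_lit 3, nat_lit 4, nat_lit 5, nat_lit 6, nat_lit 5, nat_lit 4, nat_lit 3, nat_lit 2, nat_lit 0, nat_lit 5],
  [nat_lit 0, nat_lit 2, nat_lit 1, nat_lit 2, nat_lit 0, nat_lit 2, nat_lit 0, nat_lit 2, nat_lit 0, nat_lit 3, nat_lit 4, nat_lit 3, nat_lit 2, nat_lit 1, nat_lit 2, nat_lit 3, nat_lit 4, nat_lit 2, nat_lit 5, nat_lit 4, nat_lit 3, nat_lit 2, nat_lit 3, nat_lit 2, nat_lit 3, nat_lit 4, nat_lit 2, nat_lit 6, nat_lit 5, nat_lit 4, nat_lit 3, nat_lit 2, nat_lit 1, nat_lit 2, nat_lit 0, nat_lit 6, nat_lit 3],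
  [nat_lit 0, nat_lit 3, nat_lit 2, nat_lit 3, nat_lit 2, nat_lit 0, nat_lit 2, nat_lit 1, nat_lit 4, nat_lit 3, nat_lit 2, nat_lit 3, nat_lit 2, nat_lit 0, nat_lit 2, nat_lit 4, nat_lit 5, nat_lit 4, nat_lit 3, nat_lit 2, nat_lit 3, nat_lit 2, nat_lit 3, nat_lit 4, nat_lit 2, nat_lit 5, nat_lit 6, nat_lit 5, nat_lit 4, nat_lit 3, nat_lit 2, nat_lit 3, nat_lit 6, nat_lit 2, nat_lit 1],
  [nat_lit 0],
  [nat_lit 1],
  [nat_lit 2],
  [nat_lit 3],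
  [nat_lit 4],
  [nat_lit 5],
  [nat_lit 6],
  [nat_lit 2, nat_lit 4, nat_lit 2, nat_lit 3, nat_lit 2, nat_lit 3, nat_lit 2, nat_lit 1, nat_lit 0, nat_lit 3, nat_lit 4, nat_lit 3, nat_lit 5, nat_lit 4, nat_lit 3, nat_lit 2, nat_lit 3, nat_lit 2, nat_lit 3, nat_lit 4, nat_lit 2, nat_lit 3, nat_lit 5, nat_lit 4, nat_lit 6, nat_lit 5, nat_lit 4, nat_lit 3, nat_lit 2, nat_lit 1, nat_lit 2, nat_lit 3, nat_lit 2, nat_lit 4, nat_lit 5, nat_lit 6]]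
noncomputable def c1y0th_P : ℕ → ℕ → ℕ := wdsP H15.Co3.P c1y0th_W
noncomputable def c1y0tl0Dd : ℕ := nat_lit 0x8a3072dda010061c3869bc8c6c29b94957302b15ba025167cbb95b0ab907c219e5e514d4a46ae35330e1d630a3053b936c926a650938438872a524d8a67c8bcb2755526c1266b380312b35552a1a03a87f40fc05054b28ad35c99c19f27d54c08c645121b40e003e527266c6102f64c424bd02480016901451f41c70daa28003492e40889e007e8f90bf85b4e0a6be4081e9424a6cf35e99d901e7fd121006cd321134192038ff81fb3d1075c0d80732ea02541065d32c597483aa11102780d8ba25672df8090ba05660e206c89f8157015973c34018e0be05a89201452c395d8b9c146091161810256325003f87fe50a03893e098447b1ed8edc93c40f2100dbc67249d20702d81484f61e38c0c57809204012288f035b1930b7c53040c1d98c9450a3b21890b7402e32315c0a0c64429411e09c44be24d10b81b8494238113009c02a05c0e9074437e19c01c009435a1890b2855004c0130f0073c2a61410978478028187085873435419808e03e41ac13e096042416411a07b83501400f6072834c1820af04f03881a00ad04e022815807b03501a40f004603b819c0ac04501a019808802202180c8040041018010003c02e00e804001c00d006002c014000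
noncomputable def c1y0tl0D (u : ℕ) : ℕ := Nat.land (Nat.shiftRight c1y0tl0Dd (Nat.mul u (nat_lit 13))) (nat_lit 8191)
noncomputable def c1y0tl0Pd : ℕ := nat_lit 0x200d26f48906c0a8c6a254f6b585389007583002161251b540c02744441cd85594d5509352a10a1504305de473a13976c97cae95c6c70359610f4b8640e1f1e9f204a052278128f132c9daf7053e9a2b765b658e713fa3522b1510417e2053b85fc2341300fcf31d44e1ce975c01786f3eb74e6f282b3d8ad305a60dd104e3f18c767fa6d5ab61700520c4773c5983e61b695ee6869e9f6ec5f15e06e706a0532ac1999c1ec83c094bace17a520e2d441650e240ea5a0217650fd4ca515101b6fd30212085e4912026d75a20dbe312c0509a61393e0c41c1a8c0b8b850a2c6ce58613034862f8f1c8c2453c0ca38718b030324d0d086f63418dd508209c1ea45669a53e514e9557ad22d9584e4b548446e28599ac8c542511044890b168188e210edb84f5c8e4526624b40a450109b4c87715b78f21e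
noncomputable def c1y0tl0P (u : ℕ) : ℕ := Nat.land (Nat.shiftRight c1y0tl0Pd (Nat.mul u (nat_lit 9))) (nat_lit 511)
noncomputable def c1y0tl0Qd : ℕ := nat_lit 0x5b43df4a4702d51e4b80c1de8343cc0d566544b64e2b24faf4d0a246b39ce56680e063105c2b12c4276a5da28c598d568fb4424098451fc197ce32e8095c1134a4994f830389fd0b540a19a0a551f05e95659bdd08064a85529849911dcba60a2c52b174b981e5066272105f0fb4988e148b953a847bbd446f25f9b4d8d77fb0c9ed816b5856a34f0ed0aa66f9ca147a8898d8a996a0518d0c2710c30773a921e2662f2ed0d0563ae55eda84a38027f0228208eb5695d9032582940ce40f3cc5c374103082051b154b06723990fa5113858ec5b45098541c7b0245808083a8b24a1206c166276074601a1c84c666a37251b646092dc1c4010934a63a418f0b8523da6cf03e019ac1a2012b4cfc745e0640ec06e000e65487125bc3d3805de05a30c0044c240be50e1553b3daaef6ebf61b13893f13502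
noncomputable def c1y0tl0Q (u : ℕ) : ℕ := Nat.land (Nat.shiftRight c1y0tl0Qd (Nat.mul u (nat_lit 9))) (nat_lit 511)
noncomputable def c1y0tl0 : H16.Lev := ⟨276, 18, c1y0tl0D, c1y0tl0P, c1y0tl0Q⟩
noncomputable def c1y0tl1Dd : ℕ := nat_lit 0x8375f777979f3fb6d94a65af6cd6875053e55dd4ab30b5c949730653558d57939527e2222425335343634a91d250127a26621122a1ca4bc1d542747546b41d2f51ac1d042527625824e1702732691992264082413df3072193e01fb1521d639b1cc18a1dd3732f314e34b32d2cb1a412837b27b12a30526735425333532b23522b1161f91db1651211d110d2b515b0ec28d2e62790f80ee1402511a92c722921f1f70e42952812772631d92641cf0db24521d1631292322281ff0d02001f61151d71d81cd0d11ce0bc0b00fa09c09217f1010b30940f71911570ae09f0950d90a417311309a09016008b15515614b0cf0c508114c0b41411420bb0740aa0b10a00a708c12e09d07712408207210507807f0b906a0df0af06c0fc0a506009b09106d0620cb06e0d40630b70ad0580c004c09905904e0b50b60380ab0ac03a08504f0a102407306b08d04503004a08e03b02604008303102707907a05007106904d06f04305f07003902f02506705506503705b02d02303f05203504802102a01f01a01c01001d01201300e01b01900f01700d01501600b00c008009000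
noncomputable def c1y0tl1D (u : ℕ) : ℕ := Nat.land (Nat.shiftRight c1y0tl1Dd (Nat.mul u (nat_lit 12))) (nat_lit 4095)
noncomputable def c1y0tl1Pd : ℕ := nat_lit 0x44002f82918befc0b8b96a574b9312a017a30536c6748f216650a1b16462340a852cf6a0ac1c871d058b6642e81c72bf223c1d4db101c9caa30d2f00cac87be0bd0e2408cac4e520b10c7d2e3acc302059d864fa25a21e6270107e14a863a3cce415c199ecc9550d0a2d7601811b04581ada51171960429f04448de252132850107022d88b981c184c7b55b553c246112466f92cab86ade659cd6e1286401bab336a448a6e40071b2d6183ed5eb402ae8aa924603ddf0d84b4de4a70d92943010aa987e6a1bc4106036c32128b142901be81283fce87e89a11ccda0c3c4b4471b269ea775f390f8fe0cb3870431f2895252380758a754c8b56cd04127120988430c26e273834a8695da807acc743dc187f7ec1ca63b4eb854a223c371128a5ea4cf2cd27a59da71052b5d8ee31825a23147010f44d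
noncomputable def c1y0tl1P (u : ℕ) : ℕ := Nat.land (Nat.shiftRight c1y0tl1Pd (Nat.mul u (nat_lit 9))) (nat_lit 511)
noncomputable def c1y0tl1Qd : ℕ := nat_lit 0x29a9958626db60e0877eb04de2f0f26a1eb04db30d0862b1103f0c3d32120da112e49303629b49ce6388201a0967395fe2315945c246558b0349f2ca310a1672140fa5f5a1f12cf3372b40a347a108202445a89705e5fc00729d1724e04b37411c26de139d938bb448d61278423e4b8af3ca3814dc4badc7ac03619832d3700f8d226542543632809286e308383a0a5d091d104315f00d62734f0502ac678344b652308ccb07f10151a0454c004221724328705545388183b52a0106fa5719050f75eae9f8ec03be19ab286b65d6cf769351eaa84354ea290e8f16a5707b500106639a924d72643902e72028d785a328fc4afe0e3bdd2413192d1ab648b24087b884286cd2793d9eaa16226548946b06152e361000747e35b7c864f85bb8cefb16a2224a0393c454216582c0ca775374ee023030e0911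
noncomputable def c1y0tl1Q (u : ℕ) : ℕ := Nat.land (Nat.shiftRight c1y0tl1Qd (Nat.mul u (nat_lit 9))) (nat_lit 511)
noncomputable def c1y0tl1 : H16.Lev := ⟨275, 10, c1y0tl1D, c1y0tl1P, c1y0tl1Q⟩
noncomputable def c1y0tl2Dd : ℕ := nat_lit 0xf1707bff99a3576be5a4652dab068b6410669de598968888fc3d209372024dcc676d20785d93bca6709ba64cdf2393d6c96b494d733da26451d6489c2e18a435053d5623b46e5494246cd52613a4c9213eca727d2223d192d5013c4fa3c8ad21c5e32c70158d12ec771388d170462e4ba2c4852c860150670f8581d45f2443c120401cc470b85d1c43f1a81e18c2c1543013437114611881c1643d1684b0d420148181242707c3b108330b4310941d0582908c1b05019040170380c0540803c130440d02c090280601c00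
noncomputable def c1y0tl2D (u : ℕ) : ℕ := Nat.land (Nat.shiftRight c1y0tl2Dd (Nat.mul u (nat_lit 10))) (nat_lit 1023)
noncomputable def c1y0tl2Pd : ℕ := nat_lit 0x8ee481e8fed11d825faa011239e2f269aa212a54998ca85080adcd48c5b32188ad1f9e220846d36018e87bb9d7ad6708c18aa318c34fcac43048d2588320e267c858711e920684d44527638993035f35db89d722e87a185a409126f7d30040bb23859490e40341fc194b3d5a4914f900e61d839ca00535c955566d28a282ac166bed9632852c4ea855313c1471341d80614769dd5eff16b39669461164c21f3606d340f46a0a18266629d30703a27a1ed92ec45c6f6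
noncomputable def c1y0tl2P (u : ℕ) : ℕ := Nat.land (Nat.shiftRight c1y0tl2Pd (Nat.mul u (nat_lit 9))) (nat_lit 511)
noncomputable def c1y0tl2Qd : ℕ := nat_lit 0x690002810548720d672b91003b6b00005c528b391c4599002e4f00007b0042000094950000a01f5f0000007c7a000057015e770000000059007f047e5a78000093419c46001a2f0b2d005d86000075850017304e005b79004c5637008a87005319002a001d008470350000920a279049746100983f06580000110009004300188f64409f65960f8800325100006f28806a0e00479d710068009e00821e2229073d3a24085000341300896d23000000008e001500000003000000166c0000368d3860338c26000000000000004b0000000000003e830055009b00000000000000002c737600001b0000000000000c00000097004d14003c6612004454004a3120626e00001000637d00259a00000000a121000000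
noncomputable def c1y0tl2Q (u : ℕ) : ℕ := Nat.land (Nat.shiftRight c1y0tl2Qd (Nat.mul u (nat_lit 8))) (nat_lit 255)
noncomputable def c1y0tl2 : H16.Lev := ⟨162, 8, c1y0tl2D, c1y0tl2P, c1y0tl2Q⟩
noncomputable def c1y0tl3Dd : ℕ := nat_lit 0x1b5dee7f3576b854d951fa95328ac0444a2129065b15fa767f36df0a13f395cce0292ad4a895aa0cfaa95e2d946994922d026b2c900f43a1a0b8ce612e95c5056278c0a02a229044849218d4382f0b0e43c291e8cc6e181f0e0642b118944c170f86c40150d04c18110503c0c0d0702c1207040100a00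
noncomputable def c1y0tl3D (u : ℕ) : ℕ := Nat.land (Nat.shiftRight c1y0tl3Dd (Nat.mul u (nat_lit 9))) (nat_lit 511)
noncomputable def c1y0tl3Pd : ℕ := nat_lit 0x203431216fb86b019a942933a04a38305958c909231050c80055250a3791c386c3540df48f7bad03aa85b9f9485150200189e5db5d990159c25b3113929d5e8d0cac49e5560aad4c9387860ec267427c291348ae97284611c0f8be2c9d5a00a0780dc67430a681afe0fc385a852c258ba737f8c83686
noncomputable def c1y0tl3P (u : ℕ) : ℕ := Nat.land (Nat.shiftRight c1y0tl3Pd (Nat.mul u (nat_lit 9))) (nat_lit 511)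
noncomputable def c1y0tl3Qd : ℕ := nat_lit 0x4001a004e2b1d4cb41b00016c0009575c530630000c9240008e000000000000000000000000230000000220000000000000001a8074000000000015017b0b90002c000000066006d5e200600007678e8086000466e017006200059540004464a4041b80003f44f0000003800000180605144f8090018560000000000041c015403e010801900000000094b1008cc01a9e0004c012c0670000000000078000002800000b870001600017e0005a0000000000009c0000000000000000000000000000000000008000000048000000000090000000006816022cd02017a6016a921015c00026006bd005000000000002400000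
noncomputable def c1y0tl3Q (u : ℕ) : ℕ := Nat.land (Nat.shiftRight c1y0tl3Qd (Nat.mul u (nat_lit 7))) (nat_lit 127)
noncomputable def c1y0tl3 : H16.Lev := ⟨105, 6, c1y0tl3D, c1y0tl3P, c1y0tl3Q⟩
noncomputable def c1y0tl4Dd : ℕ := nat_lit 0xcfb9bab6ad8ca29e958e857b867d73827e63695f726a6661505e5744554f4b3f30494e3d3b372c4235312e272118221f101d0c1715120e0804090a0705030200
noncomputable def c1y0tl4D (u : ℕ) : ℕ := Nat.land (Nat.shiftRight c1y0tl4Dd (Nat.mul u (nat_lit 8))) (nat_lit 255)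
noncomputable def c1y0tl4Pd : ℕ := nat_lit 0x5791c38fe49059a0ce84b113c6f0ea99769305060b282063edd09659aae040d0913d281966325410d61201687580438fca45f42864265bbe946915d21562580aab1ee7c89954a30c
noncomputable def c1y0tl4P (u : ℕ) : ℕ := Nat.land (Nat.shiftRight c1y0tl4Pd (Nat.mul u (nat_lit 9))) (nat_lit 511)
noncomputable def c1y0tl4Qd : ℕ := nat_lit 0xc0000016700012dc000000002501703c000a8e00014000000000000000000002900000000000000000000000000000000003903801f00078000003601b000013000c4b0003c00199c0240fc000698000003201434001d035000000000028021c3b30000000000000000028002c01a015004000000000600000000d00000000000000000000000000000000b48000080000040880000000000f80000000000000000000000000000011000000000000000010000000000000cfd00082e03a1c002300000092b02f000000000000000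
noncomputable def c1y0tl4Q (u : ℕ) : ℕ := Nat.land (Nat.shiftRight c1y0tl4Qd (Nat.mul u (nat_lit 6))) (nat_lit 63)
noncomputable def c1y0tl4 : H16.Lev := ⟨64, 4, c1y0tl4D, c1y0tl4P, c1y0tl4Q⟩
noncomputable def c1y0tl5Dd : ℕ := nat_lit 0x24
noncomputable def c1y0tl5D (u : ℕ) : ℕ := Nat.land (Nat.shiftRight c1y0tl5Dd (Nat.mul u (nat_lit 2))) (nat_lit 3)
noncomputable def c1y0tl5Pd : ℕ := nat_lit 0x1f16f0d
noncomputable def c1y0tl5P (u : ℕ) : ℕ := Nat.land (Nat.shiftRight c1y0tl5Pd (Nat.mul u (nat_lit 9))) (nat_lit 511)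
noncomputable def c1y0tl5Qd : ℕ := nat_lit 0x40000000000000000000000000000200000000000000000000000000000000000000000000000000000000000000
noncomputable def c1y0tl5Q (u : ℕ) : ℕ := Nat.land (Nat.shiftRight c1y0tl5Qd (Nat.mul u (nat_lit 2))) (nat_lit 3)
noncomputable def c1y0tl5 : H16.Lev := ⟨3, 2, c1y0tl5D, c1y0tl5P, c1y0tl5Q⟩
noncomputable def c1y0tl6Dd : ℕ := nat_lit 0
noncomputable def c1y0tl6D (u : ℕ) : ℕ := Nat.land (Nat.shiftRight c1y0tl6Dd (Nat.mul u (nat_lit 1))) (nat_lit 1)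
noncomputable def c1y0tl6Pd : ℕ := nat_lit 0xd400
noncomputable def c1y0tl6P (u : ℕ) : ℕ := Nat.land (Nat.shiftRight c1y0tl6Pd (Nat.mul u (nat_lit 8))) (nat_lit 255)
noncomputable def c1y0tl6Qd : ℕ := nat_lit 0x100000000000000000000000000000000000000000000000000000
noncomputable def c1y0tl6Q (u : ℕ) : ℕ := Nat.land (Nat.shiftRight c1y0tl6Qd (Nat.mul u (nat_lit 1))) (nat_lit 1)
noncomputable def c1y0tl6 : H16.Lev := ⟨2, 1, c1y0tl6D, c1y0tl6P, c1y0tl6Q⟩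
noncomputable def c1y0ce_W : List (List ℕ) := [[nat_lit 0, nat_lit 2, nat_lit 1, nat_lit 3, nat_lit 2, nat_lit 1, nat_lit 2, nat_lit 0, nat_lit 2, nat_lit 3, nat_lit 4, nat_lit 3, nat_lit 2, nat_lit 1, nat_lit 5, nat_lit 4, nat_lit 3, nat_lit 2, nat_lit 1, nat_lit 2, nat_lit 3, nat_lit 4, nat_lit 2, nat_lit 3, nat_lit 5, nat_lit 6, nat_lit 5, nat_lit 4, nat_lit 3, nat_lit 2, nat_lit 1, nat_lit 6, nat_lit 2, nat_lit 1, nat_lit 2],
  [nat_lit 4, nat_lit 2, nat_lit 6, nat_lit 0, nat_lit 1, nat_lit 2, nat_lit 0, nat_lit 3, nat_lit 2, nat_lit 3, nat_lit 2, nat_lit 3, nat_lit 2, nat_lit 3, nat_lit 4, nat_lit 3, nat_lit 2, nat_lit 0, nat_lit 2, nat_lit 3, nat_lit 5, nat_lit 4, nat_lit 3, nat_lit 2, nat_lit 1, nat_lit 2, nat_lit 3, nat_lit 6, nat_lit 5, nat_lit 4, nat_lit 3, nat_lit 2, nat_lit 1, nat_lit 2]]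
noncomputable def c1y0ce_P : ℕ → ℕ → ℕ := wdsP H15.Co3.P c1y0ce_W
noncomputable def c1y0cc6Dd : ℕ := nat_lit 0
noncomputable def c1y0cc6D (u : ℕ) : ℕ := Nat.land (Nat.shiftRight c1y0cc6Dd (Nat.mul u (nat_lit 1))) (nat_lit 1)
noncomputable def c1y0cc6Pd : ℕ := nat_lit 0xd400
noncomputable def c1y0cc6P (u : ℕ) : ℕ := Nat.land (Nat.shiftRight c1y0cc6Pd (Nat.mul u (nat_lit 8))) (nat_lit 255)
noncomputable def c1y0cc6Qd : ℕ := nat_lit 0x100000000000000000000000000000000000000000000000000000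
noncomputable def c1y0cc6Q (u : ℕ) : ℕ := Nat.land (Nat.shiftRight c1y0cc6Qd (Nat.mul u (nat_lit 1))) (nat_lit 1)
noncomputable def c1y0cc6 : H16.Lev := ⟨2, 1, c1y0cc6D, c1y0cc6P, c1y0cc6Q⟩
noncomputable def c1y0tn0Fd : ℕ := nat_lit 0
noncomputable def c1y0tn0F (u : ℕ) : ℕ := Nat.land (Nat.shiftRight c1y0tn0Fd (Nat.mul u (nat_lit 1))) (nat_lit 1)
noncomputable def c1y0tn0 : Nd := ⟨c1y0tn0F, (nat_lit 2), (nat_lit 1), [], [((nat_lit 0), [])], []⟩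
noncomputable def c1y0cc0Dd : ℕ := nat_lit 0x4e2f6ad2728c20
noncomputable def c1y0cc0D (u : ℕ) : ℕ := Nat.land (Nat.shiftRight c1y0cc0Dd (Nat.mul u (nat_lit 5))) (nat_lit 31)
noncomputable def c1y0cc0Pd : ℕ := nat_lit 0x3dd24805033a1b0c433d89a1e
noncomputable def c1y0cc0P (u : ℕ) : ℕ := Nat.land (Nat.shiftRight c1y0cc0Pd (Nat.mul u (nat_lit 9))) (nat_lit 511)
noncomputable def c1y0cc0Qd : ℕ := nat_lit 0x5400000000000000000000a2000000000000000000000000000000000000000600000000000000000000000000000000000000000000070000000000000900000000000300000800000000000000000000000000000000000000000000000000100000000000000000000000000000000000000000000000000000000000000000000000000000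
noncomputable def c1y0cc0Q (u : ℕ) : ℕ := Nat.land (Nat.shiftRight c1y0cc0Qd (Nat.mul u (nat_lit 4))) (nat_lit 15)
noncomputable def c1y0cc0 : H16.Lev := ⟨11, 2, c1y0cc0D, c1y0cc0P, c1y0cc0Q⟩
noncomputable def c1y0tn1Fd : ℕ := nat_lit 0x1a8a46924b3588b5440e2960218ac9540b264e0631cab49a34a169693155232d3720696a2c03d8963d9c08a50794e2763ce6234822ad6bab1ef911ab2a8e26d68364c52648d254614208f2a89d399d0f18935012a7ad8b4322a98a9286be8070623642a39b985739b14520884cce025b45b5f494c0a1b9cf14c6a6d60a059001c0b043ded31245199607b966791225c66c8c4cbb52b03b18944034124510b54394d4943ec138421a842108420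
noncomputable def c1y0tn1F (u : ℕ) : ℕ := Nat.land (Nat.shiftRight c1y0tn1Fd (Nat.mul u (nat_lit 5))) (nat_lit 31)
noncomputable def c1y0tn1 : Nd := ⟨c1y0tn1F, (nat_lit 2), (nat_lit 2), [[nat_lit 0, nat_lit 0, nat_lit 0, nat_lit 0, nat_lit 0, nat_lit 0, nat_lit 0, nat_lit 0, nat_lit 0, nat_lit 0, nat_lit 0],
  [nat_lit 0]], [((nat_lit 0), [])], []⟩

theorem md_b : ltAll 276 H15.Co3.B = 0 ∧ 495766656000 ≠ 0 := by decide +kernel
theorem p2t_lt : H16.allL (ltAll 7) p2t_W = true := by decide +kernel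
theorem p2_r_a : allZ2 (resEnt p2t_P p2P p2E p2I (nat_lit 276) (nat_lit 248)) (nat_lit 10) (nat_lit 248) = true := by decide +kernel
theorem p2_b : neL H15.Co3.B (p2B.map p2E) = 0 ∧ ltAll 248 p2B = 0 := by decide +kernel
theorem p2_p : allZ2 (pcEnt p2P (nat_lit 2) p2B p2C) 10 10 = true := by decide +kernel
theorem p2_e : H16.allL (ltAll 10) p2e = true := by decide +kernel
theorem p2l0_e_0 : allZ (dent p2l0 (wdsP p2P p2e) (nat_lit 248)) (nat_lit 0) (nat_lit 63) = true := by decide +kernel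
theorem p2l0_h : 0 < p2l0.n ∧ 0 < p2l0.K ∧ p2l0.Pt 0 < 248 ∧ p2l0.Q (p2l0.Pt 0) = 0 := by decide +kernel
theorem p2l1_e_0 : allZ (dent p2l1 (wdsP p2P p2e) (nat_lit 248)) (nat_lit 0) (nat_lit 15) = true := by decide +kernel
theorem p2l1_h : 0 < p2l1.n ∧ 0 < p2l1.K ∧ p2l1.Pt 0 < 248 ∧ p2l1.Q (p2l1.Pt 0) = 0 := by decide +kernel
theorem p2_f1 : (Nat.ble p2l1.K 5 && Nat.ble (topK []) p2l1.K && fixLetters (wdsP p2P p2e) (topK []) (p2l1.Pt 0)) = true := by decide +kernel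
theorem p2_f0 : (Nat.ble p2l0.K 5 && Nat.ble (topK [p2l1]) p2l0.K && fixLetters (wdsP p2P p2e) (topK [p2l1]) (p2l0.Pt 0)) = true := by decide +kernel
theorem p2_c : chainCard [p2l0, p2l1] = 2 ^ 10 ∧ ¬ 2 ^ (10 + 1) ∣ 495766656000 := by decide +kernel
theorem covr_lt : H16.allL (ltAll 7) covr_W = true := by decide +kernel
theorem cov_c0 : (Nat.ble 10 10 && Nat.beq (ltAll 10 []) 0 && Nat.beq (covT0.chk H15.Co3.P p2P covr_P p2E 7 10 2 2 2 p2B 10 [] 0) 0) = true := by decide +kernel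
theorem c0ax_lt : H16.allL (ltAll 7) c0ax_W = true := by decide +kernel
theorem c0ath_lt : H16.allL (ltAll 7) c0ath_W = true := by decide +kernel
theorem c0atl0_e_0 : allZ (dent c0atl0 c0ath_P (nat_lit 276)) (nat_lit 0) (nat_lit 275) = true := by decide +kernel
theorem c0atl0_h : 0 < c0atl0.n ∧ 0 < c0atl0.K ∧ c0atl0.Pt 0 < 276 ∧ c0atl0.Q (c0atl0.Pt 0) = 0 := by decide +kernel
theorem c0atl1_e_0 : allZ (dent c0atl1 c0ath_P (nat_lit 276)) (nat_lit 0) (nat_lit 274) = true := by decide +kernel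
theorem c0atl1_h : 0 < c0atl1.n ∧ 0 < c0atl1.K ∧ c0atl1.Pt 0 < 276 ∧ c0atl1.Q (c0atl1.Pt 0) = 0 := by decide +kernel
theorem c0atl2_e_0 : allZ (dent c0atl2 c0ath_P (nat_lit 276)) (nat_lit 0) (nat_lit 111) = true := by decide +kernel
theorem c0atl2_h : 0 < c0atl2.n ∧ 0 < c0atl2.K ∧ c0atl2.Pt 0 < 276 ∧ c0atl2.Q (c0atl2.Pt 0) = 0 := by decide +kernel
theorem c0atl3_e_0 : allZ (dent c0atl3 c0ath_P (nat_lit 276)) (nat_lit 0) (nat_lit 29) = true := by decide +kernel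
theorem c0atl3_h : 0 < c0atl3.n ∧ 0 < c0atl3.K ∧ c0atl3.Pt 0 < 276 ∧ c0atl3.Q (c0atl3.Pt 0) = 0 := by decide +kernel
theorem c0atl4_e_0 : allZ (dent c0atl4 c0ath_P (nat_lit 276)) (nat_lit 0) (nat_lit 1) = true := by decide +kernel
theorem c0atl4_h : 0 < c0atl4.n ∧ 0 < c0atl4.K ∧ c0atl4.Pt 0 < 276 ∧ c0atl4.Q (c0atl4.Pt 0) = 0 := by decide +kernel
theorem c0atl5_e_0 : allZ (dent c0atl5 c0ath_P (nat_lit 276)) (nat_lit 0) (nat_lit 26) = true := by decide +kernel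
theorem c0atl5_h : 0 < c0atl5.n ∧ 0 < c0atl5.K ∧ c0atl5.Pt 0 < 276 ∧ c0atl5.Q (c0atl5.Pt 0) = 0 := by decide +kernel
theorem c0atl6_e_0 : allZ (dent c0atl6 c0ath_P (nat_lit 276)) (nat_lit 0) (nat_lit 8) = true := by decide +kernel
theorem c0atl6_h : 0 < c0atl6.n ∧ 0 < c0atl6.K ∧ c0atl6.Pt 0 < 276 ∧ c0atl6.Q (c0atl6.Pt 0) = 0 := by decide +kernel
theorem c0atl7_e_0 : allZ (dent c0atl7 c0ath_P (nat_lit 276)) (nat_lit 0) (nat_lit 3) = true := by decide +kernel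
theorem c0atl7_h : 0 < c0atl7.n ∧ 0 < c0atl7.K ∧ c0atl7.Pt 0 < 276 ∧ c0atl7.Q (c0atl7.Pt 0) = 0 := by decide +kernel
theorem c0at_f7 : (Nat.ble c0atl7.K 15 && Nat.ble (topK []) c0atl7.K && fixLetters c0ath_P (topK []) (c0atl7.Pt 0)) = true := by decide +kernel
theorem c0at_f6 : (Nat.ble c0atl6.K 15 && Nat.ble (topK [c0atl7]) c0atl6.K && fixLetters c0ath_P (topK [c0atl7]) (c0atl6.Pt 0)) = true := by decide +kernel
theorem c0at_f5 : (Nat.ble c0atl5.K 15 && Nat.ble (topK [c0atl6, c0atl7]) c0atl5.K && fixLetters c0ath_P (topK [c0atl6, c0atl7]) (c0atl5.Pt 0)) = true := by decide +kernel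
theorem c0at_f4 : (Nat.ble c0atl4.K 15 && Nat.ble (topK [c0atl5, c0atl6, c0atl7]) c0atl4.K && fixLetters c0ath_P (topK [c0atl5, c0atl6, c0atl7]) (c0atl4.Pt 0)) = true := by decide +kernel
theorem c0at_f3 : (Nat.ble c0atl3.K 15 && Nat.ble (topK [c0atl4, c0atl5, c0atl6, c0atl7]) c0atl3.K && fixLetters c0ath_P (topK [c0atl4, c0atl5, c0atl6, c0atl7]) (c0atl3.Pt 0)) = true := by decide +kernel
theorem c0at_f2 : (Nat.ble c0atl2.K 15 && Nat.ble (topK [c0atl3, c0atl4, c0atl5, c0atl6, c0atl7]) c0atl2.K && fixLetters c0ath_P (topK [c0atl3, c0atl4, c0atl5, c0atl6, c0atl7]) (c0atl2.Pt 0)) = true := by decide +kernel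
theorem c0at_f1 : (Nat.ble c0atl1.K 15 && Nat.ble (topK [c0atl2, c0atl3, c0atl4, c0atl5, c0atl6, c0atl7]) c0atl1.K && fixLetters c0ath_P (topK [c0atl2, c0atl3, c0atl4, c0atl5, c0atl6, c0atl7]) (c0atl1.Pt 0)) = true := by decide +kernel
theorem c0at_f0 : (Nat.ble c0atl0.K 15 && Nat.ble (topK [c0atl1, c0atl2, c0atl3, c0atl4, c0atl5, c0atl6, c0atl7]) c0atl0.K && fixLetters c0ath_P (topK [c0atl1, c0atl2, c0atl3, c0atl4, c0atl5, c0atl6, c0atl7]) (c0atl0.Pt 0)) = true := by decide +kernel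
theorem c0at_c : chainCard [c0atl0, c0atl1, c0atl2, c0atl3, c0atl4, c0atl5, c0atl6, c0atl7] = 495766656000 := by decide +kernel
theorem c0ace_lt : H16.allL (ltAll 7) c0ace_W = true := by decide +kernel
theorem c0acc7_e_0 : allZ (dent c0acc7 c0ace_P (nat_lit 276)) (nat_lit 0) (nat_lit 3) = true := by decide +kernel
theorem c0acc7_h : 0 < c0acc7.n ∧ 0 < c0acc7.K ∧ c0acc7.Pt 0 < 276 ∧ c0acc7.Q (c0acc7.Pt 0) = 0 := by decide +kernel
theorem c0atn0_0 : (Nat.ble c0atl7.K 15 && Nat.beq (ltAll 276 [c0atl6.Pt 0, c0atl5.Pt 0, c0atl4.Pt 0, c0atl3.Pt 0, c0atl2.Pt 0, c0atl1.Pt 0, c0atl0.Pt 0]) 0 && kChk c0ace_P c0ax_P c0atn0.Kn 1 H15.Co3.B [c0atl6.Pt 0, c0atl5.Pt 0, c0atl4.Pt 0, c0atl3.Pt 0, c0atl2.Pt 0, c0atl1.Pt 0, c0atl0.Pt 0] && H16.allL (ltAll 1) c0atn0.pre && planOK c0ath_P c0ax_P 1 (c0atl7.Pt 0) c0atn0.plan [c0atl7]) = true := by decide +kernel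
theorem c0atn0_1_0 : allZ (c0atn0.ent H15.Co3.P c0ath_P c0ax_P c0ax_P c0ace_P (nat_lit 7) (nat_lit 1) H15.Co3.B c0atl7 [] (memO c0acc7)) (nat_lit 0) (nat_lit 4) = true := by decide +kernel
theorem c0ac_f7 : (Nat.ble c0acc7.K 7 && Nat.ble (topK []) c0acc7.K && Nat.beq (c0acc7.Pt 0) (c0atl7.Pt 0) && Nat.beq (ltAll 276 [c0atl6.Pt 0, c0atl5.Pt 0, c0atl4.Pt 0, c0atl3.Pt 0, c0atl2.Pt 0, c0atl1.Pt 0, c0atl0.Pt 0]) 0 && kChk c0ace_P c0ax_P c0acc7.K 1 H15.Co3.B [c0atl6.Pt 0, c0atl5.Pt 0, c0atl4.Pt 0, c0atl3.Pt 0, c0atl2.Pt 0, c0atl1.Pt 0, c0atl0.Pt 0]) = true := by decide +kernel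
theorem c0atn1_0 : (Nat.ble c0atl6.K 15 && Nat.beq (ltAll 276 [c0atl5.Pt 0, c0atl4.Pt 0, c0atl3.Pt 0, c0atl2.Pt 0, c0atl1.Pt 0, c0atl0.Pt 0]) 0 && kChk c0ace_P c0ax_P c0atn1.Kn 1 H15.Co3.B [c0atl5.Pt 0, c0atl4.Pt 0, c0atl3.Pt 0, c0atl2.Pt 0, c0atl1.Pt 0, c0atl0.Pt 0] && H16.allL (ltAll 1) c0atn1.pre && planOK c0ath_P c0ax_P 1 (c0atl6.Pt 0) c0atn1.plan [c0atl6, c0atl7]) = true := by decide +kernel
theorem c0atn1_1_0 : allZ (c0atn1.ent H15.Co3.P c0ath_P c0ax_P c0ax_P c0ace_P (nat_lit 7) (nat_lit 1) H15.Co3.B c0atl6 [c0atl7] (fun w => Nat.xor w (c0atl6.Pt (nat_lit 0)))) (nat_lit 0) (nat_lit 9) = true := by decide +kernel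
theorem c0acc5_e_0 : allZ (dent c0acc5 c0ace_P (nat_lit 276)) (nat_lit 0) (nat_lit 2) = true := by decide +kernel
theorem c0acc5_h : 0 < c0acc5.n ∧ 0 < c0acc5.K ∧ c0acc5.Pt 0 < 276 ∧ c0acc5.Q (c0acc5.Pt 0) = 0 := by decide +kernel
theorem c0atn2_0 : (Nat.ble c0atl5.K 15 && Nat.beq (ltAll 276 [c0atl4.Pt 0, c0atl3.Pt 0, c0atl2.Pt 0, c0atl1.Pt 0, c0atl0.Pt 0]) 0 && kChk c0ace_P c0ax_P c0atn2.Kn 1 H15.Co3.B [c0atl4.Pt 0, c0atl3.Pt 0, c0atl2.Pt 0, c0atl1.Pt 0, c0atl0.Pt 0] && H16.allL (ltAll 1) c0atn2.pre && planOK c0ath_P c0ax_P 1 (c0atl5.Pt 0) c0atn2.plan [c0atl5, c0atl6, c0atl7]) = true := by decide +kernel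
theorem c0atn2_1_0 : allZ (c0atn2.ent H15.Co3.P c0ath_P c0ax_P c0ax_P c0ace_P (nat_lit 7) (nat_lit 1) H15.Co3.B c0atl5 [c0atl6, c0atl7] (memO c0acc5)) (nat_lit 0) (nat_lit 27) = true := by decide +kernel
theorem c0ac_f5 : (Nat.ble c0acc5.K 7 && Nat.ble (topK [c0acc7]) c0acc5.K && Nat.beq (c0acc5.Pt 0) (c0atl5.Pt 0) && Nat.beq (ltAll 276 [c0atl4.Pt 0, c0atl3.Pt 0, c0atl2.Pt 0, c0atl1.Pt 0, c0atl0.Pt 0]) 0 && kChk c0ace_P c0ax_P c0acc5.K 1 H15.Co3.B [c0atl4.Pt 0, c0atl3.Pt 0, c0atl2.Pt 0, c0atl1.Pt 0, c0atl0.Pt 0]) = true := by decide +kernel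
theorem c0acc4_e_0 : allZ (dent c0acc4 c0ace_P (nat_lit 276)) (nat_lit 0) (nat_lit 1) = true := by decide +kernel
theorem c0acc4_h : 0 < c0acc4.n ∧ 0 < c0acc4.K ∧ c0acc4.Pt 0 < 276 ∧ c0acc4.Q (c0acc4.Pt 0) = 0 := by decide +kernel
theorem c0atn3_0 : (Nat.ble c0atl4.K 15 && Nat.beq (ltAll 276 [c0atl3.Pt 0, c0atl2.Pt 0, c0atl1.Pt 0, c0atl0.Pt 0]) 0 && kChk c0ace_P c0ax_P c0atn3.Kn 1 H15.Co3.B [c0atl3.Pt 0, c0atl2.Pt 0, c0atl1.Pt 0, c0atl0.Pt 0] && H16.allL (ltAll 1) c0atn3.pre && planOK c0ath_P c0ax_P 1 (c0atl4.Pt 0) c0atn3.plan [c0atl4, c0atl5, c0atl6, c0atl7]) = true := by decide +kernel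
theorem c0atn3_1_0 : allZ (c0atn3.ent H15.Co3.P c0ath_P c0ax_P c0ax_P c0ace_P (nat_lit 7) (nat_lit 1) H15.Co3.B c0atl4 [c0atl5, c0atl6, c0atl7] (memO c0acc4)) (nat_lit 0) (nat_lit 2) = true := by decide +kernel
theorem c0ac_f4 : (Nat.ble c0acc4.K 7 && Nat.ble (topK [c0acc5, c0acc7]) c0acc4.K && Nat.beq (c0acc4.Pt 0) (c0atl4.Pt 0) && Nat.beq (ltAll 276 [c0atl3.Pt 0, c0atl2.Pt 0, c0atl1.Pt 0, c0atl0.Pt 0]) 0 && kChk c0ace_P c0ax_P c0acc4.K 1 H15.Co3.B [c0atl3.Pt 0, c0atl2.Pt 0, c0atl1.Pt 0, c0atl0.Pt 0]) = true := by decide +kernel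
theorem c0acc3_e_0 : allZ (dent c0acc3 c0ace_P (nat_lit 276)) (nat_lit 0) (nat_lit 5) = true := by decide +kernel
theorem c0acc3_h : 0 < c0acc3.n ∧ 0 < c0acc3.K ∧ c0acc3.Pt 0 < 276 ∧ c0acc3.Q (c0acc3.Pt 0) = 0 := by decide +kernel
theorem c0atn4_0 : (Nat.ble c0atl3.K 15 && Nat.beq (ltAll 276 [c0atl2.Pt 0, c0atl1.Pt 0, c0atl0.Pt 0]) 0 && kChk c0ace_P c0ax_P c0atn4.Kn 1 H15.Co3.B [c0atl2.Pt 0, c0atl1.Pt 0, c0atl0.Pt 0] && H16.allL (ltAll 1) c0atn4.pre && planOK c0ath_P c0ax_P 1 (c0atl3.Pt 0) c0atn4.plan [c0atl3, c0atl4, c0atl5, c0atl6, c0atl7]) = true := by decide +kernel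
theorem c0atn4_1_0 : allZ (c0atn4.ent H15.Co3.P c0ath_P c0ax_P c0ax_P c0ace_P (nat_lit 7) (nat_lit 1) H15.Co3.B c0atl3 [c0atl4, c0atl5, c0atl6, c0atl7] (memO c0acc3)) (nat_lit 0) (nat_lit 30) = true := by decide +kernel
theorem c0ac_f3 : (Nat.ble c0acc3.K 7 && Nat.ble (topK [c0acc4, c0acc5, c0acc7]) c0acc3.K && Nat.beq (c0acc3.Pt 0) (c0atl3.Pt 0) && Nat.beq (ltAll 276 [c0atl2.Pt 0, c0atl1.Pt 0, c0atl0.Pt 0]) 0 && kChk c0ace_P c0ax_P c0acc3.K 1 H15.Co3.B [c0atl2.Pt 0, c0atl1.Pt 0, c0atl0.Pt 0]) = true := by decide +kernel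
theorem c0acc2_e_0 : allZ (dent c0acc2 c0ace_P (nat_lit 276)) (nat_lit 0) (nat_lit 15) = true := by decide +kernel
theorem c0acc2_h : 0 < c0acc2.n ∧ 0 < c0acc2.K ∧ c0acc2.Pt 0 < 276 ∧ c0acc2.Q (c0acc2.Pt 0) = 0 := by decide +kernel
theorem c0atn5_0 : (Nat.ble c0atl2.K 15 && Nat.beq (ltAll 276 [c0atl1.Pt 0, c0atl0.Pt 0]) 0 && kChk c0ace_P c0ax_P c0atn5.Kn 1 H15.Co3.B [c0atl1.Pt 0, c0atl0.Pt 0] && H16.allL (ltAll 1) c0atn5.pre && planOK c0ath_P c0ax_P 1 (c0atl2.Pt 0) c0atn5.plan [c0atl2, c0atl3, c0atl4, c0atl5, c0atl6, c0atl7]) = true := by decide +kernel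
theorem c0atn5_1_0 : allZ (c0atn5.ent H15.Co3.P c0ath_P c0ax_P c0ax_P c0ace_P (nat_lit 7) (nat_lit 1) H15.Co3.B c0atl2 [c0atl3, c0atl4, c0atl5, c0atl6, c0atl7] (memO c0acc2)) (nat_lit 0) (nat_lit 112) = true := by decide +kernel
theorem c0ac_f2 : (Nat.ble c0acc2.K 7 && Nat.ble (topK [c0acc3, c0acc4, c0acc5, c0acc7]) c0acc2.K && Nat.beq (c0acc2.Pt 0) (c0atl2.Pt 0) && Nat.beq (ltAll 276 [c0atl1.Pt 0, c0atl0.Pt 0]) 0 && kChk c0ace_P c0ax_P c0acc2.K 1 H15.Co3.B [c0atl1.Pt 0, c0atl0.Pt 0]) = true := by decide +kernel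
theorem c0acc1_e_0 : allZ (dent c0acc1 c0ace_P (nat_lit 276)) (nat_lit 0) (nat_lit 34) = true := by decide +kernel
theorem c0acc1_h : 0 < c0acc1.n ∧ 0 < c0acc1.K ∧ c0acc1.Pt 0 < 276 ∧ c0acc1.Q (c0acc1.Pt 0) = 0 := by decide +kernel
theorem c0atn6_0 : (Nat.ble c0atl1.K 15 && Nat.beq (ltAll 276 [c0atl0.Pt 0]) 0 && kChk c0ace_P c0ax_P c0atn6.Kn 1 H15.Co3.B [c0atl0.Pt 0] && H16.allL (ltAll 1) c0atn6.pre && planOK c0ath_P c0ax_P 1 (c0atl1.Pt 0) c0atn6.plan [c0atl1, c0atl2, c0atl3, c0atl4, c0atl5, c0atl6, c0atl7]) = true := by decide +kernel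
theorem c0atn6_1_0 : allZ (c0atn6.ent H15.Co3.P c0ath_P c0ax_P c0ax_P c0ace_P (nat_lit 7) (nat_lit 1) H15.Co3.B c0atl1 [c0atl2, c0atl3, c0atl4, c0atl5, c0atl6, c0atl7] (memO c0acc1)) (nat_lit 0) (nat_lit 275) = true := by decide +kernel
theorem c0ac_f1 : (Nat.ble c0acc1.K 7 && Nat.ble (topK [c0acc2, c0acc3, c0acc4, c0acc5, c0acc7]) c0acc1.K && Nat.beq (c0acc1.Pt 0) (c0atl1.Pt 0) && Nat.beq (ltAll 276 [c0atl0.Pt 0]) 0 && kChk c0ace_P c0ax_P c0acc1.K 1 H15.Co3.B [c0atl0.Pt 0]) = true := by decide +kernel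
theorem c0acc0_e_0 : allZ (dent c0acc0 c0ace_P (nat_lit 276)) (nat_lit 0) (nat_lit 35) = true := by decide +kernel
theorem c0acc0_h : 0 < c0acc0.n ∧ 0 < c0acc0.K ∧ c0acc0.Pt 0 < 276 ∧ c0acc0.Q (c0acc0.Pt 0) = 0 := by decide +kernel
theorem c0atn7_0 : (Nat.ble c0atl0.K 15 && Nat.beq (ltAll 276 []) 0 && kChk c0ace_P c0ax_P c0atn7.Kn 1 H15.Co3.B [] && H16.allL (ltAll 1) c0atn7.pre && planOK c0ath_P c0ax_P 1 (c0atl0.Pt 0) c0atn7.plan [c0atl0, c0atl1, c0atl2, c0atl3, c0atl4, c0atl5, c0atl6, c0atl7]) = true := by decide +kernel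
theorem c0atn7_1_0 : allZ (c0atn7.ent H15.Co3.P c0ath_P c0ax_P c0ax_P c0ace_P (nat_lit 7) (nat_lit 1) H15.Co3.B c0atl0 [c0atl1, c0atl2, c0atl3, c0atl4, c0atl5, c0atl6, c0atl7] (memO c0acc0)) (nat_lit 0) (nat_lit 276) = true := by decide +kernel
theorem c0ac_f0 : (Nat.ble c0acc0.K 7 && Nat.ble (topK [c0acc1, c0acc2, c0acc3, c0acc4, c0acc5, c0acc7]) c0acc0.K && Nat.beq (c0acc0.Pt 0) (c0atl0.Pt 0) && Nat.beq (ltAll 276 []) 0 && kChk c0ace_P c0ax_P c0acc0.K 1 H15.Co3.B []) = true := by decide +kernel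
theorem c0ac_c : chainCard [c0acc0, c0acc1, c0acc2, c0acc3, c0acc4, c0acc5, c0acc7] = 2903040 ∧ topK [c0acc0, c0acc1, c0acc2, c0acc3, c0acc4, c0acc5, c0acc7] = 7 := by decide +kernel
theorem c0w0_lt : H16.allL (ltAll 7) c0w0_W = true := by decide +kernel
theorem c0y0x_lt : H16.allL (ltAll 7) c0y0x_W = true := by decide +kernel
theorem c0y0th_lt : H16.allL (ltAll 7) c0y0th_W = true := by decide +kernel
theorem c0y0tl0_e_0 : allZ (dent c0y0tl0 c0y0th_P (nat_lit 276)) (nat_lit 0) (nat_lit 275) = true := by decide +kernel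
theorem c0y0tl0_h : 0 < c0y0tl0.n ∧ 0 < c0y0tl0.K ∧ c0y0tl0.Pt 0 < 276 ∧ c0y0tl0.Q (c0y0tl0.Pt 0) = 0 := by decide +kernel
theorem c0y0tl1_e_0 : allZ (dent c0y0tl1 c0y0th_P (nat_lit 276)) (nat_lit 0) (nat_lit 274) = true := by decide +kernel
theorem c0y0tl1_h : 0 < c0y0tl1.n ∧ 0 < c0y0tl1.K ∧ c0y0tl1.Pt 0 < 276 ∧ c0y0tl1.Q (c0y0tl1.Pt 0) = 0 := by decide +kernel
theorem c0y0tl2_e_0 : allZ (dent c0y0tl2 c0y0th_P (nat_lit 276)) (nat_lit 0) (nat_lit 111) = true := by decide +kernel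
theorem c0y0tl2_h : 0 < c0y0tl2.n ∧ 0 < c0y0tl2.K ∧ c0y0tl2.Pt 0 < 276 ∧ c0y0tl2.Q (c0y0tl2.Pt 0) = 0 := by decide +kernel
theorem c0y0tl3_e_0 : allZ (dent c0y0tl3 c0y0th_P (nat_lit 276)) (nat_lit 0) (nat_lit 29) = true := by decide +kernel
theorem c0y0tl3_h : 0 < c0y0tl3.n ∧ 0 < c0y0tl3.K ∧ c0y0tl3.Pt 0 < 276 ∧ c0y0tl3.Q (c0y0tl3.Pt 0) = 0 := by decide +kernel
theorem c0y0tl4_e_0 : allZ (dent c0y0tl4 c0y0th_P (nat_lit 276)) (nat_lit 0) (nat_lit 53) = true := by decide +kernel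
theorem c0y0tl4_h : 0 < c0y0tl4.n ∧ 0 < c0y0tl4.K ∧ c0y0tl4.Pt 0 < 276 ∧ c0y0tl4.Q (c0y0tl4.Pt 0) = 0 := by decide +kernel
theorem c0y0tl5_e_0 : allZ (dent c0y0tl5 c0y0th_P (nat_lit 276)) (nat_lit 0) (nat_lit 8) = true := by decide +kernel
theorem c0y0tl5_h : 0 < c0y0tl5.n ∧ 0 < c0y0tl5.K ∧ c0y0tl5.Pt 0 < 276 ∧ c0y0tl5.Q (c0y0tl5.Pt 0) = 0 := by decide +kernel
theorem c0y0tl6_e_0 : allZ (dent c0y0tl6 c0y0th_P (nat_lit 276)) (nat_lit 0) (nat_lit 3) = true := by decide +kernel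
theorem c0y0tl6_h : 0 < c0y0tl6.n ∧ 0 < c0y0tl6.K ∧ c0y0tl6.Pt 0 < 276 ∧ c0y0tl6.Q (c0y0tl6.Pt 0) = 0 := by decide +kernel
theorem c0y0t_f6 : (Nat.ble c0y0tl6.K 16 && Nat.ble (topK []) c0y0tl6.K && fixLetters c0y0th_P (topK []) (c0y0tl6.Pt 0)) = true := by decide +kernel
theorem c0y0t_f5 : (Nat.ble c0y0tl5.K 16 && Nat.ble (topK [c0y0tl6]) c0y0tl5.K && fixLetters c0y0th_P (topK [c0y0tl6]) (c0y0tl5.Pt 0)) = true := by decide +kernel
theorem c0y0t_f4 : (Nat.ble c0y0tl4.K 16 && Nat.ble (topK [c0y0tl5, c0y0tl6]) c0y0tl4.K && fixLetters c0y0th_P (topK [c0y0tl5, c0y0tl6]) (c0y0tl4.Pt 0)) = true := by decide +kernel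
theorem c0y0t_f3 : (Nat.ble c0y0tl3.K 16 && Nat.ble (topK [c0y0tl4, c0y0tl5, c0y0tl6]) c0y0tl3.K && fixLetters c0y0th_P (topK [c0y0tl4, c0y0tl5, c0y0tl6]) (c0y0tl3.Pt 0)) = true := by decide +kernel
theorem c0y0t_f2 : (Nat.ble c0y0tl2.K 16 && Nat.ble (topK [c0y0tl3, c0y0tl4, c0y0tl5, c0y0tl6]) c0y0tl2.K && fixLetters c0y0th_P (topK [c0y0tl3, c0y0tl4, c0y0tl5, c0y0tl6]) (c0y0tl2.Pt 0)) = true := by decide +kernel
theorem c0y0t_f1 : (Nat.ble c0y0tl1.K 16 && Nat.ble (topK [c0y0tl2, c0y0tl3, c0y0tl4, c0y0tl5, c0y0tl6]) c0y0tl1.K && fixLetters c0y0th_P (topK [c0y0tl2, c0y0tl3, c0y0tl4, c0y0tl5, c0y0tl6]) (c0y0tl1.Pt 0)) = true := by decide +kernel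
theorem c0y0t_f0 : (Nat.ble c0y0tl0.K 16 && Nat.ble (topK [c0y0tl1, c0y0tl2, c0y0tl3, c0y0tl4, c0y0tl5, c0y0tl6]) c0y0tl0.K && fixLetters c0y0th_P (topK [c0y0tl1, c0y0tl2, c0y0tl3, c0y0tl4, c0y0tl5, c0y0tl6]) (c0y0tl0.Pt 0)) = true := by decide +kernel
theorem c0y0t_c : chainCard [c0y0tl0, c0y0tl1, c0y0tl2, c0y0tl3, c0y0tl4, c0y0tl5, c0y0tl6] = 495766656000 := by decide +kernel
theorem c0y0ce_lt : H16.allL (ltAll 7) c0y0ce_W = true := by decide +kernel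
theorem c0y0c_f6 : (Nat.ble c0y0tl6.K 16 && Nat.blt (nat_lit 5) 276 && fixLetters c0y0th_P c0y0tl6.K (nat_lit 5) && Nat.beq (ltAll 1 [nat_lit 0, nat_lit 0, nat_lit 0, nat_lit 0]) 0 && Nat.beq (apW c0y0x_P [nat_lit 0, nat_lit 0, nat_lit 0, nat_lit 0] (nat_lit 5)) (c0y0tl6.Pt 0)) = true := by decide +kernel
theorem c0y0c_f5 : (Nat.ble c0y0tl5.K 16 && Nat.blt (nat_lit 5) 276 && fixLetters c0y0th_P c0y0tl5.K (nat_lit 5) && Nat.beq (ltAll 1 [nat_lit 0, nat_lit 0, nat_lit 0]) 0 && Nat.beq (apW c0y0x_P [nat_lit 0, nat_lit 0, nat_lit 0] (nat_lit 5)) (c0y0tl5.Pt 0)) = true := by decide +kernel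
theorem c0y0c_f4 : (Nat.ble c0y0tl4.K 16 && Nat.blt (nat_lit 5) 276 && fixLetters c0y0th_P c0y0tl4.K (nat_lit 5) && Nat.beq (ltAll 1 [nat_lit 0]) 0 && Nat.beq (apW c0y0x_P [nat_lit 0] (nat_lit 5)) (c0y0tl4.Pt 0)) = true := by decide +kernel
theorem c0y0c_f3 : (Nat.ble c0y0tl3.K 16 && Nat.blt (nat_lit 5) 276 && fixLetters c0y0th_P c0y0tl3.K (nat_lit 5) && Nat.beq (ltAll 1 [nat_lit 0, nat_lit 0]) 0 && Nat.beq (apW c0y0x_P [nat_lit 0, nat_lit 0] (nat_lit 5)) (c0y0tl3.Pt 0)) = true := by decide +kernel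
theorem c0y0cc2_e_0 : allZ (dent c0y0cc2 c0y0ce_P (nat_lit 276)) (nat_lit 0) (nat_lit 6) = true := by decide +kernel
theorem c0y0cc2_h : 0 < c0y0cc2.n ∧ 0 < c0y0cc2.K ∧ c0y0cc2.Pt 0 < 276 ∧ c0y0cc2.Q (c0y0cc2.Pt 0) = 0 := by decide +kernel
theorem c0y0tn0_0 : (Nat.ble c0y0tl2.K 16 && Nat.beq (ltAll 276 [c0y0tl1.Pt 0, c0y0tl0.Pt 0]) 0 && kChk c0y0ce_P c0y0x_P c0y0tn0.Kn 1 H15.Co3.B [c0y0tl1.Pt 0, c0y0tl0.Pt 0] && H16.allL (ltAll 1) c0y0tn0.pre && planOK c0y0th_P c0y0x_P 1 (c0y0tl2.Pt 0) c0y0tn0.plan [c0y0tl2, c0y0tl3, c0y0tl4, c0y0tl5, c0y0tl6]) = true := by decide +kernel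
theorem c0y0tn0_1_0 : allZ (c0y0tn0.ent H15.Co3.P c0y0th_P c0y0x_P c0y0x_P c0y0ce_P (nat_lit 7) (nat_lit 1) H15.Co3.B c0y0tl2 [c0y0tl3, c0y0tl4, c0y0tl5, c0y0tl6] (memO c0y0cc2)) (nat_lit 0) (nat_lit 112) = true := by decide +kernel
theorem c0y0c_f2 : (Nat.ble c0y0cc2.K 2 && Nat.ble (topK []) c0y0cc2.K && Nat.beq (c0y0cc2.Pt 0) (c0y0tl2.Pt 0) && Nat.beq (ltAll 276 [c0y0tl1.Pt 0, c0y0tl0.Pt 0]) 0 && kChk c0y0ce_P c0y0x_P c0y0cc2.K 1 H15.Co3.B [c0y0tl1.Pt 0, c0y0tl0.Pt 0]) = true := by decide +kernel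
theorem c0y0c_f1 : (Nat.ble c0y0tl1.K 16 && Nat.blt (nat_lit 58) 276 && fixLetters c0y0th_P c0y0tl1.K (nat_lit 58) && Nat.beq (ltAll 1 [nat_lit 0]) 0 && Nat.beq (apW c0y0x_P [nat_lit 0] (nat_lit 58)) (c0y0tl1.Pt 0)) = true := by decide +kernel
theorem c0y0cc0_e_0 : allZ (dent c0y0cc0 c0y0ce_P (nat_lit 276)) (nat_lit 0) (nat_lit 1) = true := by decide +kernel
theorem c0y0cc0_h : 0 < c0y0cc0.n ∧ 0 < c0y0cc0.K ∧ c0y0cc0.Pt 0 < 276 ∧ c0y0cc0.Q (c0y0cc0.Pt 0) = 0 := by decide +kernel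
theorem c0y0tn1_0 : (Nat.ble c0y0tl0.K 16 && Nat.beq (ltAll 276 []) 0 && kChk c0y0ce_P c0y0x_P c0y0tn1.Kn 1 H15.Co3.B [] && H16.allL (ltAll 1) c0y0tn1.pre && planOK c0y0th_P c0y0x_P 1 (c0y0tl0.Pt 0) c0y0tn1.plan [c0y0tl0, c0y0tl1, c0y0tl2, c0y0tl3, c0y0tl4, c0y0tl5, c0y0tl6]) = true := by decide +kernel
theorem c0y0tn1_1_0 : allZ (c0y0tn1.ent H15.Co3.P c0y0th_P c0y0x_P c0y0x_P c0y0ce_P (nat_lit 7) (nat_lit 1) H15.Co3.B c0y0tl0 [c0y0tl1, c0y0tl2, c0y0tl3, c0y0tl4, c0y0tl5, c0y0tl6] (memO c0y0cc0)) (nat_lit 0) (nat_lit 276) = true := by decide +kernel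
theorem c0y0c_f0 : (Nat.ble c0y0cc0.K 2 && Nat.ble (topK [c0y0cc2]) c0y0cc0.K && Nat.beq (c0y0cc0.Pt 0) (c0y0tl0.Pt 0) && Nat.beq (ltAll 276 []) 0 && kChk c0y0ce_P c0y0x_P c0y0cc0.K 1 H15.Co3.B []) = true := by decide +kernel
theorem c0y0c_c : chainCard [c0y0cc0, c0y0cc2] = 14 ∧ topK [c0y0cc0, c0y0cc2] = 2 := by decide +kernel
theorem c0w0_k : eqL c0w0_P 2 H15.Co3.B (List.replicate 7 1) [0] = 0 := by decide +kernel
theorem c0w0p_k : fixL c0w0_P 2 H15.Co3.B (List.replicate 2 0) = 0 := by decide +kernel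
theorem c0w0n_k : 0 < 276 ∧ ltAll 2 (List.replicate 2 1) = 0 ∧ ltAll 2 [] = 0 ∧ apW c0w0_P (List.replicate 2 1) 0 ≠ apW c0w0_P [] 0 := by decide +kernel
theorem c1ax_lt : H16.allL (ltAll 7) c1ax_W = true := by decide +kernel
theorem c1ath_lt : H16.allL (ltAll 7) c1ath_W = true := by decide +kernel
theorem c1atl0_e_0 : allZ (dent c1atl0 c1ath_P (nat_lit 276)) (nat_lit 0) (nat_lit 275) = true := by decide +kernel
theorem c1atl0_h : 0 < c1atl0.n ∧ 0 < c1atl0.K ∧ c1atl0.Pt 0 < 276 ∧ c1atl0.Q (c1atl0.Pt 0) = 0 := by decide +kernel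
theorem c1atl1_e_0 : allZ (dent c1atl1 c1ath_P (nat_lit 276)) (nat_lit 0) (nat_lit 274) = true := by decide +kernel
theorem c1atl1_h : 0 < c1atl1.n ∧ 0 < c1atl1.K ∧ c1atl1.Pt 0 < 276 ∧ c1atl1.Q (c1atl1.Pt 0) = 0 := by decide +kernel
theorem c1atl2_e_0 : allZ (dent c1atl2 c1ath_P (nat_lit 276)) (nat_lit 0) (nat_lit 161) = true := by decide +kernel
theorem c1atl2_h : 0 < c1atl2.n ∧ 0 < c1atl2.K ∧ c1atl2.Pt 0 < 276 ∧ c1atl2.Q (c1atl2.Pt 0) = 0 := by decide +kernel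
theorem c1atl3_e_0 : allZ (dent c1atl3 c1ath_P (nat_lit 276)) (nat_lit 0) (nat_lit 104) = true := by decide +kernel
theorem c1atl3_h : 0 < c1atl3.n ∧ 0 < c1atl3.K ∧ c1atl3.Pt 0 < 276 ∧ c1atl3.Q (c1atl3.Pt 0) = 0 := by decide +kernel
theorem c1atl4_e_0 : allZ (dent c1atl4 c1ath_P (nat_lit 276)) (nat_lit 0) (nat_lit 7) = true := by decide +kernel
theorem c1atl4_h : 0 < c1atl4.n ∧ 0 < c1atl4.K ∧ c1atl4.Pt 0 < 276 ∧ c1atl4.Q (c1atl4.Pt 0) = 0 := by decide +kernel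
theorem c1atl5_e_0 : allZ (dent c1atl5 c1ath_P (nat_lit 276)) (nat_lit 0) (nat_lit 3) = true := by decide +kernel
theorem c1atl5_h : 0 < c1atl5.n ∧ 0 < c1atl5.K ∧ c1atl5.Pt 0 < 276 ∧ c1atl5.Q (c1atl5.Pt 0) = 0 := by decide +kernel
theorem c1atl6_e_0 : allZ (dent c1atl6 c1ath_P (nat_lit 276)) (nat_lit 0) (nat_lit 3) = true := by decide +kernel
theorem c1atl6_h : 0 < c1atl6.n ∧ 0 < c1atl6.K ∧ c1atl6.Pt 0 < 276 ∧ c1atl6.Q (c1atl6.Pt 0) = 0 := by decide +kernel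
theorem c1atl7_e_0 : allZ (dent c1atl7 c1ath_P (nat_lit 276)) (nat_lit 0) (nat_lit 2) = true := by decide +kernel
theorem c1atl7_h : 0 < c1atl7.n ∧ 0 < c1atl7.K ∧ c1atl7.Pt 0 < 276 ∧ c1atl7.Q (c1atl7.Pt 0) = 0 := by decide +kernel
theorem c1at_f7 : (Nat.ble c1atl7.K 19 && Nat.ble (topK []) c1atl7.K && fixLetters c1ath_P (topK []) (c1atl7.Pt 0)) = true := by decide +kernel
theorem c1at_f6 : (Nat.ble c1atl6.K 19 && Nat.ble (topK [c1atl7]) c1atl6.K && fixLetters c1ath_P (topK [c1atl7]) (c1atl6.Pt 0)) = true := by decide +kernel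
theorem c1at_f5 : (Nat.ble c1atl5.K 19 && Nat.ble (topK [c1atl6, c1atl7]) c1atl5.K && fixLetters c1ath_P (topK [c1atl6, c1atl7]) (c1atl5.Pt 0)) = true := by decide +kernel
theorem c1at_f4 : (Nat.ble c1atl4.K 19 && Nat.ble (topK [c1atl5, c1atl6, c1atl7]) c1atl4.K && fixLetters c1ath_P (topK [c1atl5, c1atl6, c1atl7]) (c1atl4.Pt 0)) = true := by decide +kernel
theorem c1at_f3 : (Nat.ble c1atl3.K 19 && Nat.ble (topK [c1atl4, c1atl5, c1atl6, c1atl7]) c1atl3.K && fixLetters c1ath_P (topK [c1atl4, c1atl5, c1atl6, c1atl7]) (c1atl3.Pt 0)) = true := by decide +kernel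
theorem c1at_f2 : (Nat.ble c1atl2.K 19 && Nat.ble (topK [c1atl3, c1atl4, c1atl5, c1atl6, c1atl7]) c1atl2.K && fixLetters c1ath_P (topK [c1atl3, c1atl4, c1atl5, c1atl6, c1atl7]) (c1atl2.Pt 0)) = true := by decide +kernel
theorem c1at_f1 : (Nat.ble c1atl1.K 19 && Nat.ble (topK [c1atl2, c1atl3, c1atl4, c1atl5, c1atl6, c1atl7]) c1atl1.K && fixLetters c1ath_P (topK [c1atl2, c1atl3, c1atl4, c1atl5, c1atl6, c1atl7]) (c1atl1.Pt 0)) = true := by decide +kernel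
theorem c1at_f0 : (Nat.ble c1atl0.K 19 && Nat.ble (topK [c1atl1, c1atl2, c1atl3, c1atl4, c1atl5, c1atl6, c1atl7]) c1atl0.K && fixLetters c1ath_P (topK [c1atl1, c1atl2, c1atl3, c1atl4, c1atl5, c1atl6, c1atl7]) (c1atl0.Pt 0)) = true := by decide +kernel
theorem c1at_c : chainCard [c1atl0, c1atl1, c1atl2, c1atl3, c1atl4, c1atl5, c1atl6, c1atl7] = 495766656000 := by decide +kernel
theorem c1ace_lt : H16.allL (ltAll 7) c1ace_W = true := by decide +kernel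
theorem c1ac_f7 : (Nat.ble c1atl7.K 19 && Nat.blt (nat_lit 162) 276 && fixLetters c1ath_P c1atl7.K (nat_lit 162) && Nat.beq (ltAll 1 [nat_lit 0]) 0 && Nat.beq (apW c1ax_P [nat_lit 0] (nat_lit 162)) (c1atl7.Pt 0)) = true := by decide +kernel
theorem c1acc6_e_0 : allZ (dent c1acc6 c1ace_P (nat_lit 276)) (nat_lit 0) (nat_lit 1) = true := by decide +kernel
theorem c1acc6_h : 0 < c1acc6.n ∧ 0 < c1acc6.K ∧ c1acc6.Pt 0 < 276 ∧ c1acc6.Q (c1acc6.Pt 0) = 0 := by decide +kernel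
theorem c1atn0_0 : (Nat.ble c1atl6.K 19 && Nat.beq (ltAll 276 [c1atl5.Pt 0, c1atl4.Pt 0, c1atl3.Pt 0, c1atl2.Pt 0, c1atl1.Pt 0, c1atl0.Pt 0]) 0 && kChk c1ace_P c1ax_P c1atn0.Kn 1 H15.Co3.B [c1atl5.Pt 0, c1atl4.Pt 0, c1atl3.Pt 0, c1atl2.Pt 0, c1atl1.Pt 0, c1atl0.Pt 0] && H16.allL (ltAll 1) c1atn0.pre && planOK c1ath_P c1ax_P 1 (c1atl6.Pt 0) c1atn0.plan [c1atl6, c1atl7]) = true := by decide +kernel
theorem c1atn0_1_0 : allZ (c1atn0.ent H15.Co3.P c1ath_P c1ax_P c1ax_P c1ace_P (nat_lit 7) (nat_lit 1) H15.Co3.B c1atl6 [c1atl7] (memO c1acc6)) (nat_lit 0) (nat_lit 4) = true := by decide +kernel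
theorem c1ac_f6 : (Nat.ble c1acc6.K 8 && Nat.ble (topK []) c1acc6.K && Nat.beq (c1acc6.Pt 0) (c1atl6.Pt 0) && Nat.beq (ltAll 276 [c1atl5.Pt 0, c1atl4.Pt 0, c1atl3.Pt 0, c1atl2.Pt 0, c1atl1.Pt 0, c1atl0.Pt 0]) 0 && kChk c1ace_P c1ax_P c1acc6.K 1 H15.Co3.B [c1atl5.Pt 0, c1atl4.Pt 0, c1atl3.Pt 0, c1atl2.Pt 0, c1atl1.Pt 0, c1atl0.Pt 0]) = true := by decide +kernel
theorem c1ac_f5 : (Nat.ble c1atl5.K 19 && Nat.blt (nat_lit 85) 276 && fixLetters c1ath_P c1atl5.K (nat_lit 85) && Nat.beq (ltAll 1 [nat_lit 0]) 0 && Nat.beq (apW c1ax_P [nat_lit 0] (nat_lit 85)) (c1atl5.Pt 0)) = true := by decide +kernel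
theorem c1acc4_e_0 : allZ (dent c1acc4 c1ace_P (nat_lit 276)) (nat_lit 0) (nat_lit 7) = true := by decide +kernel
theorem c1acc4_h : 0 < c1acc4.n ∧ 0 < c1acc4.K ∧ c1acc4.Pt 0 < 276 ∧ c1acc4.Q (c1acc4.Pt 0) = 0 := by decide +kernel
theorem c1atn1_0 : (Nat.ble c1atl4.K 19 && Nat.beq (ltAll 276 [c1atl3.Pt 0, c1atl2.Pt 0, c1atl1.Pt 0, c1atl0.Pt 0]) 0 && kChk c1ace_P c1ax_P c1atn1.Kn 1 H15.Co3.B [c1atl3.Pt 0, c1atl2.Pt 0, c1atl1.Pt 0, c1atl0.Pt 0] && H16.allL (ltAll 1) c1atn1.pre && planOK c1ath_P c1ax_P 1 (c1atl4.Pt 0) c1atn1.plan [c1atl4, c1atl5, c1atl6, c1atl7]) = true := by decide +kernel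
theorem c1atn1_1_0 : allZ (c1atn1.ent H15.Co3.P c1ath_P c1ax_P c1ax_P c1ace_P (nat_lit 7) (nat_lit 1) H15.Co3.B c1atl4 [c1atl5, c1atl6, c1atl7] (memO c1acc4)) (nat_lit 0) (nat_lit 8) = true := by decide +kernel
theorem c1ac_f4 : (Nat.ble c1acc4.K 8 && Nat.ble (topK [c1acc6]) c1acc4.K && Nat.beq (c1acc4.Pt 0) (c1atl4.Pt 0) && Nat.beq (ltAll 276 [c1atl3.Pt 0, c1atl2.Pt 0, c1atl1.Pt 0, c1atl0.Pt 0]) 0 && kChk c1ace_P c1ax_P c1acc4.K 1 H15.Co3.B [c1atl3.Pt 0, c1atl2.Pt 0, c1atl1.Pt 0, c1atl0.Pt 0]) = true := by decide +kernel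
theorem c1acc3_e_0 : allZ (dent c1acc3 c1ace_P (nat_lit 276)) (nat_lit 0) (nat_lit 8) = true := by decide +kernel
theorem c1acc3_h : 0 < c1acc3.n ∧ 0 < c1acc3.K ∧ c1acc3.Pt 0 < 276 ∧ c1acc3.Q (c1acc3.Pt 0) = 0 := by decide +kernel
theorem c1atn2_0 : (Nat.ble c1atl3.K 19 && Nat.beq (ltAll 276 [c1atl2.Pt 0, c1atl1.Pt 0, c1atl0.Pt 0]) 0 && kChk c1ace_P c1ax_P c1atn2.Kn 1 H15.Co3.B [c1atl2.Pt 0, c1atl1.Pt 0, c1atl0.Pt 0] && H16.allL (ltAll 1) c1atn2.pre && planOK c1ath_P c1ax_P 1 (c1atl3.Pt 0) c1atn2.plan [c1atl3, c1atl4, c1atl5, c1atl6, c1atl7]) = true := by decide +kernel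
theorem c1atn2_1_0 : allZ (c1atn2.ent H15.Co3.P c1ath_P c1ax_P c1ax_P c1ace_P (nat_lit 7) (nat_lit 1) H15.Co3.B c1atl3 [c1atl4, c1atl5, c1atl6, c1atl7] (memO c1acc3)) (nat_lit 0) (nat_lit 105) = true := by decide +kernel
theorem c1ac_f3 : (Nat.ble c1acc3.K 8 && Nat.ble (topK [c1acc4, c1acc6]) c1acc3.K && Nat.beq (c1acc3.Pt 0) (c1atl3.Pt 0) && Nat.beq (ltAll 276 [c1atl2.Pt 0, c1atl1.Pt 0, c1atl0.Pt 0]) 0 && kChk c1ace_P c1ax_P c1acc3.K 1 H15.Co3.B [c1atl2.Pt 0, c1atl1.Pt 0, c1atl0.Pt 0]) = true := by decide +kernel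
theorem c1acc2_e_0 : allZ (dent c1acc2 c1ace_P (nat_lit 276)) (nat_lit 0) (nat_lit 9) = true := by decide +kernel
theorem c1acc2_h : 0 < c1acc2.n ∧ 0 < c1acc2.K ∧ c1acc2.Pt 0 < 276 ∧ c1acc2.Q (c1acc2.Pt 0) = 0 := by decide +kernel
theorem c1atn3_0 : (Nat.ble c1atl2.K 19 && Nat.beq (ltAll 276 [c1atl1.Pt 0, c1atl0.Pt 0]) 0 && kChk c1ace_P c1ax_P c1atn3.Kn 1 H15.Co3.B [c1atl1.Pt 0, c1atl0.Pt 0] && H16.allL (ltAll 1) c1atn3.pre && planOK c1ath_P c1ax_P 1 (c1atl2.Pt 0) c1atn3.plan [c1atl2, c1atl3, c1atl4, c1atl5, c1atl6, c1atl7]) = true := by decide +kernel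
theorem c1atn3_1_0 : allZ (c1atn3.ent H15.Co3.P c1ath_P c1ax_P c1ax_P c1ace_P (nat_lit 7) (nat_lit 1) H15.Co3.B c1atl2 [c1atl3, c1atl4, c1atl5, c1atl6, c1atl7] (memO c1acc2)) (nat_lit 0) (nat_lit 162) = true := by decide +kernel
theorem c1ac_f2 : (Nat.ble c1acc2.K 8 && Nat.ble (topK [c1acc3, c1acc4, c1acc6]) c1acc2.K && Nat.beq (c1acc2.Pt 0) (c1atl2.Pt 0) && Nat.beq (ltAll 276 [c1atl1.Pt 0, c1atl0.Pt 0]) 0 && kChk c1ace_P c1ax_P c1acc2.K 1 H15.Co3.B [c1atl1.Pt 0, c1atl0.Pt 0]) = true := by decide +kernel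
theorem c1acc1_e_0 : allZ (dent c1acc1 c1ace_P (nat_lit 276)) (nat_lit 0) (nat_lit 10) = true := by decide +kernel
theorem c1acc1_h : 0 < c1acc1.n ∧ 0 < c1acc1.K ∧ c1acc1.Pt 0 < 276 ∧ c1acc1.Q (c1acc1.Pt 0) = 0 := by decide +kernel
theorem c1atn4_0 : (Nat.ble c1atl1.K 19 && Nat.beq (ltAll 276 [c1atl0.Pt 0]) 0 && kChk c1ace_P c1ax_P c1atn4.Kn 1 H15.Co3.B [c1atl0.Pt 0] && H16.allL (ltAll 1) c1atn4.pre && planOK c1ath_P c1ax_P 1 (c1atl1.Pt 0) c1atn4.plan [c1atl1, c1atl2, c1atl3, c1atl4, c1atl5, c1atl6, c1atl7]) = true := by decide +kernel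
theorem c1atn4_1_0 : allZ (c1atn4.ent H15.Co3.P c1ath_P c1ax_P c1ax_P c1ace_P (nat_lit 7) (nat_lit 1) H15.Co3.B c1atl1 [c1atl2, c1atl3, c1atl4, c1atl5, c1atl6, c1atl7] (memO c1acc1)) (nat_lit 0) (nat_lit 275) = true := by decide +kernel
theorem c1ac_f1 : (Nat.ble c1acc1.K 8 && Nat.ble (topK [c1acc2, c1acc3, c1acc4, c1acc6]) c1acc1.K && Nat.beq (c1acc1.Pt 0) (c1atl1.Pt 0) && Nat.beq (ltAll 276 [c1atl0.Pt 0]) 0 && kChk c1ace_P c1ax_P c1acc1.K 1 H15.Co3.B [c1atl0.Pt 0]) = true := by decide +kernel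
theorem c1acc0_e_0 : allZ (dent c1acc0 c1ace_P (nat_lit 276)) (nat_lit 0) (nat_lit 11) = true := by decide +kernel
theorem c1acc0_h : 0 < c1acc0.n ∧ 0 < c1acc0.K ∧ c1acc0.Pt 0 < 276 ∧ c1acc0.Q (c1acc0.Pt 0) = 0 := by decide +kernel
theorem c1atn5_0 : (Nat.ble c1atl0.K 19 && Nat.beq (ltAll 276 []) 0 && kChk c1ace_P c1ax_P c1atn5.Kn 1 H15.Co3.B [] && H16.allL (ltAll 1) c1atn5.pre && planOK c1ath_P c1ax_P 1 (c1atl0.Pt 0) c1atn5.plan [c1atl0, c1atl1, c1atl2, c1atl3, c1atl4, c1atl5, c1atl6, c1atl7]) = true := by decide +kernel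
theorem c1atn5_1_0 : allZ (c1atn5.ent H15.Co3.P c1ath_P c1ax_P c1ax_P c1ace_P (nat_lit 7) (nat_lit 1) H15.Co3.B c1atl0 [c1atl1, c1atl2, c1atl3, c1atl4, c1atl5, c1atl6, c1atl7] (memO c1acc0)) (nat_lit 0) (nat_lit 276) = true := by decide +kernel
theorem c1ac_f0 : (Nat.ble c1acc0.K 8 && Nat.ble (topK [c1acc1, c1acc2, c1acc3, c1acc4, c1acc6]) c1acc0.K && Nat.beq (c1acc0.Pt 0) (c1atl0.Pt 0) && Nat.beq (ltAll 276 []) 0 && kChk c1ace_P c1ax_P c1acc0.K 1 H15.Co3.B []) = true := by decide +kernel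
theorem c1ac_c : chainCard [c1acc0, c1acc1, c1acc2, c1acc3, c1acc4, c1acc6] = 190080 ∧ topK [c1acc0, c1acc1, c1acc2, c1acc3, c1acc4, c1acc6] = 8 := by decide +kernel
theorem c1w0_lt : H16.allL (ltAll 7) c1w0_W = true := by decide +kernel
theorem c1y0x_lt : H16.allL (ltAll 7) c1y0x_W = true := by decide +kernel
theorem c1y0th_lt : H16.allL (ltAll 7) c1y0th_W = true := by decide +kernel
theorem c1y0tl0_e_0 : allZ (dent c1y0tl0 c1y0th_P (nat_lit 276)) (nat_lit 0) (nat_lit 275) = true := by decide +kernel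
theorem c1y0tl0_h : 0 < c1y0tl0.n ∧ 0 < c1y0tl0.K ∧ c1y0tl0.Pt 0 < 276 ∧ c1y0tl0.Q (c1y0tl0.Pt 0) = 0 := by decide +kernel
theorem c1y0tl1_e_0 : allZ (dent c1y0tl1 c1y0th_P (nat_lit 276)) (nat_lit 0) (nat_lit 274) = true := by decide +kernel
theorem c1y0tl1_h : 0 < c1y0tl1.n ∧ 0 < c1y0tl1.K ∧ c1y0tl1.Pt 0 < 276 ∧ c1y0tl1.Q (c1y0tl1.Pt 0) = 0 := by decide +kernel
theorem c1y0tl2_e_0 : allZ (dent c1y0tl2 c1y0th_P (nat_lit 276)) (nat_lit 0) (nat_lit 161) = true := by decide +kernel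
theorem c1y0tl2_h : 0 < c1y0tl2.n ∧ 0 < c1y0tl2.K ∧ c1y0tl2.Pt 0 < 276 ∧ c1y0tl2.Q (c1y0tl2.Pt 0) = 0 := by decide +kernel
theorem c1y0tl3_e_0 : allZ (dent c1y0tl3 c1y0th_P (nat_lit 276)) (nat_lit 0) (nat_lit 104) = true := by decide +kernel
theorem c1y0tl3_h : 0 < c1y0tl3.n ∧ 0 < c1y0tl3.K ∧ c1y0tl3.Pt 0 < 276 ∧ c1y0tl3.Q (c1y0tl3.Pt 0) = 0 := by decide +kernel
theorem c1y0tl4_e_0 : allZ (dent c1y0tl4 c1y0th_P (nat_lit 276)) (nat_lit 0) (nat_lit 63) = true := by decide +kernel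
theorem c1y0tl4_h : 0 < c1y0tl4.n ∧ 0 < c1y0tl4.K ∧ c1y0tl4.Pt 0 < 276 ∧ c1y0tl4.Q (c1y0tl4.Pt 0) = 0 := by decide +kernel
theorem c1y0tl5_e_0 : allZ (dent c1y0tl5 c1y0th_P (nat_lit 276)) (nat_lit 0) (nat_lit 2) = true := by decide +kernel
theorem c1y0tl5_h : 0 < c1y0tl5.n ∧ 0 < c1y0tl5.K ∧ c1y0tl5.Pt 0 < 276 ∧ c1y0tl5.Q (c1y0tl5.Pt 0) = 0 := by decide +kernel
theorem c1y0tl6_e_0 : allZ (dent c1y0tl6 c1y0th_P (nat_lit 276)) (nat_lit 0) (nat_lit 1) = true := by decide +kernel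
theorem c1y0tl6_h : 0 < c1y0tl6.n ∧ 0 < c1y0tl6.K ∧ c1y0tl6.Pt 0 < 276 ∧ c1y0tl6.Q (c1y0tl6.Pt 0) = 0 := by decide +kernel
theorem c1y0t_f6 : (Nat.ble c1y0tl6.K 18 && Nat.ble (topK []) c1y0tl6.K && fixLetters c1y0th_P (topK []) (c1y0tl6.Pt 0)) = true := by decide +kernel
theorem c1y0t_f5 : (Nat.ble c1y0tl5.K 18 && Nat.ble (topK [c1y0tl6]) c1y0tl5.K && fixLetters c1y0th_P (topK [c1y0tl6]) (c1y0tl5.Pt 0)) = true := by decide +kernel
theorem c1y0t_f4 : (Nat.ble c1y0tl4.K 18 && Nat.ble (topK [c1y0tl5, c1y0tl6]) c1y0tl4.K && fixLetters c1y0th_P (topK [c1y0tl5, c1y0tl6]) (c1y0tl4.Pt 0)) = true := by decide +kernel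
theorem c1y0t_f3 : (Nat.ble c1y0tl3.K 18 && Nat.ble (topK [c1y0tl4, c1y0tl5, c1y0tl6]) c1y0tl3.K && fixLetters c1y0th_P (topK [c1y0tl4, c1y0tl5, c1y0tl6]) (c1y0tl3.Pt 0)) = true := by decide +kernel
theorem c1y0t_f2 : (Nat.ble c1y0tl2.K 18 && Nat.ble (topK [c1y0tl3, c1y0tl4, c1y0tl5, c1y0tl6]) c1y0tl2.K && fixLetters c1y0th_P (topK [c1y0tl3, c1y0tl4, c1y0tl5, c1y0tl6]) (c1y0tl2.Pt 0)) = true := by decide +kernel
theorem c1y0t_f1 : (Nat.ble c1y0tl1.K 18 && Nat.ble (topK [c1y0tl2, c1y0tl3, c1y0tl4, c1y0tl5, c1y0tl6]) c1y0tl1.K && fixLetters c1y0th_P (topK [c1y0tl2, c1y0tl3, c1y0tl4, c1y0tl5, c1y0tl6]) (c1y0tl1.Pt 0)) = true := by decide +kernel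
theorem c1y0t_f0 : (Nat.ble c1y0tl0.K 18 && Nat.ble (topK [c1y0tl1, c1y0tl2, c1y0tl3, c1y0tl4, c1y0tl5, c1y0tl6]) c1y0tl0.K && fixLetters c1y0th_P (topK [c1y0tl1, c1y0tl2, c1y0tl3, c1y0tl4, c1y0tl5, c1y0tl6]) (c1y0tl0.Pt 0)) = true := by decide +kernel
theorem c1y0t_c : chainCard [c1y0tl0, c1y0tl1, c1y0tl2, c1y0tl3, c1y0tl4, c1y0tl5, c1y0tl6] = 495766656000 := by decide +kernel
theorem c1y0ce_lt : H16.allL (ltAll 7) c1y0ce_W = true := by decide +kernel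
theorem c1y0cc6_e_0 : allZ (dent c1y0cc6 c1y0ce_P (nat_lit 276)) (nat_lit 0) (nat_lit 1) = true := by decide +kernel
theorem c1y0cc6_h : 0 < c1y0cc6.n ∧ 0 < c1y0cc6.K ∧ c1y0cc6.Pt 0 < 276 ∧ c1y0cc6.Q (c1y0cc6.Pt 0) = 0 := by decide +kernel
theorem c1y0tn0_0 : (Nat.ble c1y0tl6.K 18 && Nat.beq (ltAll 276 [c1y0tl5.Pt 0, c1y0tl4.Pt 0, c1y0tl3.Pt 0, c1y0tl2.Pt 0, c1y0tl1.Pt 0, c1y0tl0.Pt 0]) 0 && kChk c1y0ce_P c1y0x_P c1y0tn0.Kn 1 H15.Co3.B [c1y0tl5.Pt 0, c1y0tl4.Pt 0, c1y0tl3.Pt 0, c1y0tl2.Pt 0, c1y0tl1.Pt 0, c1y0tl0.Pt 0] && H16.allL (ltAll 1) c1y0tn0.pre && planOK c1y0th_P c1y0x_P 1 (c1y0tl6.Pt 0) c1y0tn0.plan [c1y0tl6]) = true := by decide +kernel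
theorem c1y0tn0_1_0 : allZ (c1y0tn0.ent H15.Co3.P c1y0th_P c1y0x_P c1y0x_P c1y0ce_P (nat_lit 7) (nat_lit 1) H15.Co3.B c1y0tl6 [] (memO c1y0cc6)) (nat_lit 0) (nat_lit 2) = true := by decide +kernel
theorem c1y0c_f6 : (Nat.ble c1y0cc6.K 2 && Nat.ble (topK []) c1y0cc6.K && Nat.beq (c1y0cc6.Pt 0) (c1y0tl6.Pt 0) && Nat.beq (ltAll 276 [c1y0tl5.Pt 0, c1y0tl4.Pt 0, c1y0tl3.Pt 0, c1y0tl2.Pt 0, c1y0tl1.Pt 0, c1y0tl0.Pt 0]) 0 && kChk c1y0ce_P c1y0x_P c1y0cc6.K 1 H15.Co3.B [c1y0tl5.Pt 0, c1y0tl4.Pt 0, c1y0tl3.Pt 0, c1y0tl2.Pt 0, c1y0tl1.Pt 0, c1y0tl0.Pt 0]) = true := by decide +kernel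
theorem c1y0c_f5 : (Nat.ble c1y0tl5.K 18 && Nat.blt (nat_lit 30) 276 && fixLetters c1y0th_P c1y0tl5.K (nat_lit 30) && Nat.beq (ltAll 1 [nat_lit 0, nat_lit 0, nat_lit 0, nat_lit 0, nat_lit 0]) 0 && Nat.beq (apW c1y0x_P [nat_lit 0, nat_lit 0, nat_lit 0, nat_lit 0, nat_lit 0] (nat_lit 30)) (c1y0tl5.Pt 0)) = true := by decide +kernel
theorem c1y0c_f4 : (Nat.ble c1y0tl4.K 18 && Nat.blt (nat_lit 30) 276 && fixLetters c1y0th_P c1y0tl4.K (nat_lit 30) && Nat.beq (ltAll 1 [nat_lit 0, nat_lit 0, nat_lit 0, nat_lit 0]) 0 && Nat.beq (apW c1y0x_P [nat_lit 0, nat_lit 0, nat_lit 0, nat_lit 0] (nat_lit 30)) (c1y0tl4.Pt 0)) = true := by decide +kernel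
theorem c1y0c_f3 : (Nat.ble c1y0tl3.K 18 && Nat.blt (nat_lit 30) 276 && fixLetters c1y0th_P c1y0tl3.K (nat_lit 30) && Nat.beq (ltAll 1 [nat_lit 0, nat_lit 0, nat_lit 0]) 0 && Nat.beq (apW c1y0x_P [nat_lit 0, nat_lit 0, nat_lit 0] (nat_lit 30)) (c1y0tl3.Pt 0)) = true := by decide +kernel
theorem c1y0c_f2 : (Nat.ble c1y0tl2.K 18 && Nat.blt (nat_lit 30) 276 && fixLetters c1y0th_P c1y0tl2.K (nat_lit 30) && Nat.beq (ltAll 1 [nat_lit 0, nat_lit 0]) 0 && Nat.beq (apW c1y0x_P [nat_lit 0, nat_lit 0] (nat_lit 30)) (c1y0tl2.Pt 0)) = true := by decide +kernel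
theorem c1y0c_f1 : (Nat.ble c1y0tl1.K 18 && Nat.blt (nat_lit 30) 276 && fixLetters c1y0th_P c1y0tl1.K (nat_lit 30) && Nat.beq (ltAll 1 [nat_lit 0]) 0 && Nat.beq (apW c1y0x_P [nat_lit 0] (nat_lit 30)) (c1y0tl1.Pt 0)) = true := by decide +kernel
theorem c1y0cc0_e_0 : allZ (dent c1y0cc0 c1y0ce_P (nat_lit 276)) (nat_lit 0) (nat_lit 10) = true := by decide +kernel
theorem c1y0cc0_h : 0 < c1y0cc0.n ∧ 0 < c1y0cc0.K ∧ c1y0cc0.Pt 0 < 276 ∧ c1y0cc0.Q (c1y0cc0.Pt 0) = 0 := by decide +kernel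
theorem c1y0tn1_0 : (Nat.ble c1y0tl0.K 18 && Nat.beq (ltAll 276 []) 0 && kChk c1y0ce_P c1y0x_P c1y0tn1.Kn 1 H15.Co3.B [] && H16.allL (ltAll 1) c1y0tn1.pre && planOK c1y0th_P c1y0x_P 1 (c1y0tl0.Pt 0) c1y0tn1.plan [c1y0tl0, c1y0tl1, c1y0tl2, c1y0tl3, c1y0tl4, c1y0tl5, c1y0tl6]) = true := by decide +kernel
theorem c1y0tn1_1_0 : allZ (c1y0tn1.ent H15.Co3.P c1y0th_P c1y0x_P c1y0x_P c1y0ce_P (nat_lit 7) (nat_lit 1) H15.Co3.B c1y0tl0 [c1y0tl1, c1y0tl2, c1y0tl3, c1y0tl4, c1y0tl5, c1y0tl6] (memO c1y0cc0)) (nat_lit 0) (nat_lit 276) = true := by decide +kernel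
theorem c1y0c_f0 : (Nat.ble c1y0cc0.K 2 && Nat.ble (topK [c1y0cc6]) c1y0cc0.K && Nat.beq (c1y0cc0.Pt 0) (c1y0tl0.Pt 0) && Nat.beq (ltAll 276 []) 0 && kChk c1y0ce_P c1y0x_P c1y0cc0.K 1 H15.Co3.B []) = true := by decide +kernel
theorem c1y0c_c : chainCard [c1y0cc0, c1y0cc6] = 22 ∧ topK [c1y0cc0, c1y0cc6] = 2 := by decide +kernel
theorem c1w0_k : eqL c1w0_P 2 H15.Co3.B (List.replicate 11 1) [0] = 0 := by decide +kernel
theorem c1w0p_k : fixL c1w0_P 2 H15.Co3.B (List.replicate 2 0) = 0 := by decide +kernel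
theorem c1w0n_k : 0 < 276 ∧ ltAll 2 (List.replicate 2 1) = 0 ∧ ltAll 2 [] = 0 ∧ apW c1w0_P (List.replicate 2 1) 0 ≠ apW c1w0_P [] 0 := by decide +kernel

theorem md {G : Type*} [Group G] (e : gen H15.Co3.g 7 ≃* G) :
    ∃ (_ : MulAction G (Set H15.Lam)) (g : ℕ → G), Md g H15.Co3.pt H15.Co3.P 276 7 H15.Co3.B 495766656000 ∧
      ∀ k < 7, (e.symm (g k)).1 = H15.Co3.g k :=
  exists_md H15.Co3.act H15.Co3.inj H15.Co3.card H15.Co3.isBase md_b e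
theorem p2t_act {G Ω : Type*} [Group G] [MulAction G Ω] {g : ℕ → G} {pt : ℕ → Ω}
    (M : Md g pt H15.Co3.P 276 7 H15.Co3.B 495766656000) : Act (wds g p2t_W) pt p2t_P 276 10 :=
  M.wact p2t_lt
theorem p2_r : ∀ k < 10, ∀ i < 248, (resEnt p2t_P p2P p2E p2I (nat_lit 276) (nat_lit 248)) k i = 0 := allZ2_sound p2_r_a
theorem p2_sm {G Ω : Type*} [Group G] [MulAction G Ω] {g : ℕ → G} {pt : ℕ → Ω}
    (M : Md g pt H15.Co3.P 276 7 H15.Co3.B 495766656000) : Sm (wds g p2t_W) (fun i => pt (p2E i)) p2P 248 10 p2B ∧ ∀ i < 248, p2E i < 276 :=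
  M.res (p2t_act M) (by decide) p2_r p2_b
theorem p2l0_e : ∀ i < 63, (dent p2l0 (wdsP p2P p2e) (nat_lit 248)) i = 0 := allZ_sound0 p2l0_e_0
theorem p2l0_ok : DOK p2l0 (wdsP p2P p2e) 248 := ⟨p2l0_h, p2l0_e⟩
theorem p2l1_e : ∀ i < 15, (dent p2l1 (wdsP p2P p2e) (nat_lit 248)) i = 0 := allZ_sound0 p2l1_e_0
theorem p2l1_ok : DOK p2l1 (wdsP p2P p2e) 248 := ⟨p2l1_h, p2l1_e⟩
theorem p2_low {G Ω : Type*} [Group G] [MulAction G Ω] {g : ℕ → G} {pt : ℕ → Ω}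
    (M : Md g pt H15.Co3.P 276 7 H15.Co3.B 495766656000) : SLow (gi (wds (wds g p2t_W) p2e)) (fun i => pt (p2E i)) 248 [p2l0, p2l1] :=
  ((SLow.nil).cons p2l1_ok ((p2_sm M).1.act.wds p2_e 5) p2_f1).cons p2l0_ok ((p2_sm M).1.act.wds p2_e 5) p2_f0
theorem p2_pc {G Ω : Type*} [Group G] [MulAction G Ω] {g : ℕ → G} {pt : ℕ → Ω}
    (M : Md g pt H15.Co3.P 276 7 H15.Co3.B 495766656000) : PC (wds g p2t_W) 10 2 :=
  have := M.fin
  ((p2_sm M).1.pc0 (by decide) p2_p).pc (p2_low M) (p2_sm M).1.inj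
    (fun k => evA_mem_gen _ (nth_lt p2_e k)) M.card ⟨by decide, p2_c⟩
theorem covr_act {G Ω : Type*} [Group G] [MulAction G Ω] {g : ℕ → G} {pt : ℕ → Ω}
    (M : Md g pt H15.Co3.P 276 7 H15.Co3.B 495766656000) : Act (wds g covr_W) pt covr_P 276 2 :=
  M.wact covr_lt
theorem cov_0 {G Ω : Type*} [Group G] [MulAction G Ω] {g : ℕ → G} {pt : ℕ → Ω}
    (M : Md g pt H15.Co3.P 276 7 H15.Co3.B 495766656000) : H0.TR.Cov (wds g p2t_W) (wds g covr_W) 2 2 10 (evA (wds g p2t_W) []) :=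
  have := M.fin
  covT0.cov M (p2_sm M).1 (p2_sm M).2 (covr_act M) (p2_pc M) _ _ cov_c0
theorem cov {G Ω : Type*} [Group G] [MulAction G Ω] {g : ℕ → G} {pt : ℕ → Ω}
    (M : Md g pt H15.Co3.P 276 7 H15.Co3.B 495766656000) {y : G} {e : ℕ} (hy : y ^ 2 ^ e = 1) (hq : y ^ 2 = 1) : Good (wds g covr_W) 2 y :=
  have := M.fin
  H0.TR.Cov.all (p2_pc M) (cov_0 M) hy hq
theorem c0ax_act {G Ω : Type*} [Group G] [MulAction G Ω] {g : ℕ → G} {pt : ℕ → Ω}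
    (M : Md g pt H15.Co3.P 276 7 H15.Co3.B 495766656000) : Act (wds g c0ax_W) pt c0ax_P 276 1 :=
  M.wact c0ax_lt
theorem c0ath_act {G Ω : Type*} [Group G] [MulAction G Ω] {g : ℕ → G} {pt : ℕ → Ω}
    (M : Md g pt H15.Co3.P 276 7 H15.Co3.B 495766656000) : Act (wds g c0ath_W) pt c0ath_P 276 15 :=
  M.wact c0ath_lt
theorem c0atl0_e : ∀ i < 275, (dent c0atl0 c0ath_P (nat_lit 276)) i = 0 := allZ_sound0 c0atl0_e_0
theorem c0atl0_ok : DOK c0atl0 c0ath_P 276 := ⟨c0atl0_h, c0atl0_e⟩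
theorem c0atl1_e : ∀ i < 274, (dent c0atl1 c0ath_P (nat_lit 276)) i = 0 := allZ_sound0 c0atl1_e_0
theorem c0atl1_ok : DOK c0atl1 c0ath_P 276 := ⟨c0atl1_h, c0atl1_e⟩
theorem c0atl2_e : ∀ i < 111, (dent c0atl2 c0ath_P (nat_lit 276)) i = 0 := allZ_sound0 c0atl2_e_0
theorem c0atl2_ok : DOK c0atl2 c0ath_P 276 := ⟨c0atl2_h, c0atl2_e⟩
theorem c0atl3_e : ∀ i < 29, (dent c0atl3 c0ath_P (nat_lit 276)) i = 0 := allZ_sound0 c0atl3_e_0
theorem c0atl3_ok : DOK c0atl3 c0ath_P 276 := ⟨c0atl3_h, c0atl3_e⟩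
theorem c0atl4_e : ∀ i < 1, (dent c0atl4 c0ath_P (nat_lit 276)) i = 0 := allZ_sound0 c0atl4_e_0
theorem c0atl4_ok : DOK c0atl4 c0ath_P 276 := ⟨c0atl4_h, c0atl4_e⟩
theorem c0atl5_e : ∀ i < 26, (dent c0atl5 c0ath_P (nat_lit 276)) i = 0 := allZ_sound0 c0atl5_e_0
theorem c0atl5_ok : DOK c0atl5 c0ath_P 276 := ⟨c0atl5_h, c0atl5_e⟩
theorem c0atl6_e : ∀ i < 8, (dent c0atl6 c0ath_P (nat_lit 276)) i = 0 := allZ_sound0 c0atl6_e_0
theorem c0atl6_ok : DOK c0atl6 c0ath_P 276 := ⟨c0atl6_h, c0atl6_e⟩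
theorem c0atl7_e : ∀ i < 3, (dent c0atl7 c0ath_P (nat_lit 276)) i = 0 := allZ_sound0 c0atl7_e_0
theorem c0atl7_ok : DOK c0atl7 c0ath_P 276 := ⟨c0atl7_h, c0atl7_e⟩
theorem c0at_low {G Ω : Type*} [Group G] [MulAction G Ω] {g : ℕ → G} {pt : ℕ → Ω}
    (M : Md g pt H15.Co3.P 276 7 H15.Co3.B 495766656000) : SLow (gi (wds g c0ath_W)) pt 276 [c0atl0, c0atl1, c0atl2, c0atl3, c0atl4, c0atl5, c0atl6, c0atl7] :=
  ((((((((SLow.nil).cons c0atl7_ok (c0ath_act M) c0at_f7).cons c0atl6_ok (c0ath_act M) c0at_f6).cons c0atl5_ok (c0ath_act M) c0at_f5).cons c0atl4_ok (c0ath_act M) c0at_f4).cons c0atl3_ok (c0ath_act M) c0at_f3).cons c0atl2_ok (c0ath_act M) c0at_f2).cons c0atl1_ok (c0ath_act M) c0at_f1).cons c0atl0_ok (c0ath_act M) c0at_f0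
theorem c0at_S0 {G Ω : Type*} [Group G] [MulAction G Ω] {g : ℕ → G} {pt : ℕ → Ω}
    (M : Md g pt H15.Co3.P 276 7 H15.Co3.B 495766656000) : Stage ⊤ (wds g c0ath_W) pt 276 [c0atl0, c0atl1, c0atl2, c0atl3, c0atl4, c0atl5, c0atl6, c0atl7] [] :=
  M.stage (c0at_low M) c0at_c
theorem c0at_S1 {G Ω : Type*} [Group G] [MulAction G Ω] {g : ℕ → G} {pt : ℕ → Ω}
    (M : Md g pt H15.Co3.P 276 7 H15.Co3.B 495766656000) : Stage ⊤ (wds g c0ath_W) pt 276 [c0atl1, c0atl2, c0atl3, c0atl4, c0atl5, c0atl6, c0atl7] [c0atl0.Pt 0] :=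
  (c0at_S0 M).next
theorem c0at_S2 {G Ω : Type*} [Group G] [MulAction G Ω] {g : ℕ → G} {pt : ℕ → Ω}
    (M : Md g pt H15.Co3.P 276 7 H15.Co3.B 495766656000) : Stage ⊤ (wds g c0ath_W) pt 276 [c0atl2, c0atl3, c0atl4, c0atl5, c0atl6, c0atl7] [c0atl1.Pt 0, c0atl0.Pt 0] :=
  (c0at_S1 M).next
theorem c0at_S3 {G Ω : Type*} [Group G] [MulAction G Ω] {g : ℕ → G} {pt : ℕ → Ω}
    (M : Md g pt H15.Co3.P 276 7 H15.Co3.B 495766656000) : Stage ⊤ (wds g c0ath_W) pt 276 [c0atl3, c0atl4, c0atl5, c0atl6, c0atl7] [c0atl2.Pt 0, c0atl1.Pt 0, c0atl0.Pt 0] :=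
  (c0at_S2 M).next
theorem c0at_S4 {G Ω : Type*} [Group G] [MulAction G Ω] {g : ℕ → G} {pt : ℕ → Ω}
    (M : Md g pt H15.Co3.P 276 7 H15.Co3.B 495766656000) : Stage ⊤ (wds g c0ath_W) pt 276 [c0atl4, c0atl5, c0atl6, c0atl7] [c0atl3.Pt 0, c0atl2.Pt 0, c0atl1.Pt 0, c0atl0.Pt 0] :=
  (c0at_S3 M).next
theorem c0at_S5 {G Ω : Type*} [Group G] [MulAction G Ω] {g : ℕ → G} {pt : ℕ → Ω}
    (M : Md g pt H15.Co3.P 276 7 H15.Co3.B 495766656000) : Stage ⊤ (wds g c0ath_W) pt 276 [c0atl5, c0atl6, c0atl7] [c0atl4.Pt 0, c0atl3.Pt 0, c0atl2.Pt 0, c0atl1.Pt 0, c0atl0.Pt 0] :=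
  (c0at_S4 M).next
theorem c0at_S6 {G Ω : Type*} [Group G] [MulAction G Ω] {g : ℕ → G} {pt : ℕ → Ω}
    (M : Md g pt H15.Co3.P 276 7 H15.Co3.B 495766656000) : Stage ⊤ (wds g c0ath_W) pt 276 [c0atl6, c0atl7] [c0atl5.Pt 0, c0atl4.Pt 0, c0atl3.Pt 0, c0atl2.Pt 0, c0atl1.Pt 0, c0atl0.Pt 0] :=
  (c0at_S5 M).next
theorem c0at_S7 {G Ω : Type*} [Group G] [MulAction G Ω] {g : ℕ → G} {pt : ℕ → Ω}
    (M : Md g pt H15.Co3.P 276 7 H15.Co3.B 495766656000) : Stage ⊤ (wds g c0ath_W) pt 276 [c0atl7] [c0atl6.Pt 0, c0atl5.Pt 0, c0atl4.Pt 0, c0atl3.Pt 0, c0atl2.Pt 0, c0atl1.Pt 0, c0atl0.Pt 0] :=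
  (c0at_S6 M).next
theorem c0at_S8 {G Ω : Type*} [Group G] [MulAction G Ω] {g : ℕ → G} {pt : ℕ → Ω}
    (M : Md g pt H15.Co3.P 276 7 H15.Co3.B 495766656000) : Stage ⊤ (wds g c0ath_W) pt 276 [] [c0atl7.Pt 0, c0atl6.Pt 0, c0atl5.Pt 0, c0atl4.Pt 0, c0atl3.Pt 0, c0atl2.Pt 0, c0atl1.Pt 0, c0atl0.Pt 0] :=
  (c0at_S7 M).next
theorem c0ace_act {G Ω : Type*} [Group G] [MulAction G Ω] {g : ℕ → G} {pt : ℕ → Ω}
    (M : Md g pt H15.Co3.P 276 7 H15.Co3.B 495766656000) : Act (wds g c0ace_W) pt c0ace_P 276 7 :=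
  M.wact c0ace_lt
theorem c0acc7_e : ∀ i < 3, (dent c0acc7 c0ace_P (nat_lit 276)) i = 0 := allZ_sound0 c0acc7_e_0
theorem c0acc7_ok : DOK c0acc7 c0ace_P 276 := ⟨c0acc7_h, c0acc7_e⟩
theorem c0atn0_1 : ∀ i < 4, (c0atn0.ent H15.Co3.P c0ath_P c0ax_P c0ax_P c0ace_P (nat_lit 7) (nat_lit 1) H15.Co3.B c0atl7 [] (memO c0acc7)) i = 0 := allZ_sound0 c0atn0_1_0
theorem c0atn0_t {G Ω : Type*} [Group G] [MulAction G Ω] {g : ℕ → G} {pt : ℕ → Ω}
    (M : Md g pt H15.Co3.P 276 7 H15.Co3.B 495766656000) : TrO (gen (wds g c0ath_W) c0atl7.K) (wds g c0ax_W) (wds g c0ax_W) 1 pt 276 (c0atl7.Pt 0) (memO c0acc7) :=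
  node M (c0at_S7 M) (c0ath_act M) (c0ax_act M) (c0ax_act M) c0atn0 ((c0ace_act M).mono (by decide)) (fun _ _ => trivial) c0atn0_0 c0atn0_1 (List.forall_mem_nil _)
theorem c0atn1_1 : ∀ i < 9, (c0atn1.ent H15.Co3.P c0ath_P c0ax_P c0ax_P c0ace_P (nat_lit 7) (nat_lit 1) H15.Co3.B c0atl6 [c0atl7] (fun w => Nat.xor w (c0atl6.Pt (nat_lit 0)))) i = 0 := allZ_sound0 c0atn1_1_0
theorem c0atn1_t {G Ω : Type*} [Group G] [MulAction G Ω] {g : ℕ → G} {pt : ℕ → Ω}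
    (M : Md g pt H15.Co3.P 276 7 H15.Co3.B 495766656000) : TrO (gen (wds g c0ath_W) c0atl6.K) (wds g c0ax_W) (wds g c0ax_W) 1 pt 276 (c0atl6.Pt 0) (fun w => Nat.xor w (c0atl6.Pt (nat_lit 0))) :=
  node M (c0at_S6 M) (c0ath_act M) (c0ax_act M) (c0ax_act M) c0atn1 ((c0ace_act M).mono (by decide)) (fun _ _ => trivial) c0atn1_0 c0atn1_1 (List.forall_mem_nil _)
theorem c0acc5_e : ∀ i < 2, (dent c0acc5 c0ace_P (nat_lit 276)) i = 0 := allZ_sound0 c0acc5_e_0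
theorem c0acc5_ok : DOK c0acc5 c0ace_P 276 := ⟨c0acc5_h, c0acc5_e⟩
theorem c0atn2_1 : ∀ i < 27, (c0atn2.ent H15.Co3.P c0ath_P c0ax_P c0ax_P c0ace_P (nat_lit 7) (nat_lit 1) H15.Co3.B c0atl5 [c0atl6, c0atl7] (memO c0acc5)) i = 0 := allZ_sound0 c0atn2_1_0
theorem c0atn2_t {G Ω : Type*} [Group G] [MulAction G Ω] {g : ℕ → G} {pt : ℕ → Ω}
    (M : Md g pt H15.Co3.P 276 7 H15.Co3.B 495766656000) : TrO (gen (wds g c0ath_W) c0atl5.K) (wds g c0ax_W) (wds g c0ax_W) 1 pt 276 (c0atl5.Pt 0) (memO c0acc5) :=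
  node M (c0at_S5 M) (c0ath_act M) (c0ax_act M) (c0ax_act M) c0atn2 ((c0ace_act M).mono (by decide)) (fun _ _ => trivial) c0atn2_0 c0atn2_1 (List.forall_mem_nil _)
theorem c0acc4_e : ∀ i < 1, (dent c0acc4 c0ace_P (nat_lit 276)) i = 0 := allZ_sound0 c0acc4_e_0
theorem c0acc4_ok : DOK c0acc4 c0ace_P 276 := ⟨c0acc4_h, c0acc4_e⟩
theorem c0atn3_1 : ∀ i < 2, (c0atn3.ent H15.Co3.P c0ath_P c0ax_P c0ax_P c0ace_P (nat_lit 7) (nat_lit 1) H15.Co3.B c0atl4 [c0atl5, c0atl6, c0atl7] (memO c0acc4)) i = 0 := allZ_sound0 c0atn3_1_0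
theorem c0atn3_t {G Ω : Type*} [Group G] [MulAction G Ω] {g : ℕ → G} {pt : ℕ → Ω}
    (M : Md g pt H15.Co3.P 276 7 H15.Co3.B 495766656000) : TrO (gen (wds g c0ath_W) c0atl4.K) (wds g c0ax_W) (wds g c0ax_W) 1 pt 276 (c0atl4.Pt 0) (memO c0acc4) :=
  node M (c0at_S4 M) (c0ath_act M) (c0ax_act M) (c0ax_act M) c0atn3 ((c0ace_act M).mono (by decide)) (fun _ _ => trivial) c0atn3_0 c0atn3_1 (List.forall_mem_nil _)
theorem c0acc3_e : ∀ i < 5, (dent c0acc3 c0ace_P (nat_lit 276)) i = 0 := allZ_sound0 c0acc3_e_0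
theorem c0acc3_ok : DOK c0acc3 c0ace_P 276 := ⟨c0acc3_h, c0acc3_e⟩
theorem c0atn4_1 : ∀ i < 30, (c0atn4.ent H15.Co3.P c0ath_P c0ax_P c0ax_P c0ace_P (nat_lit 7) (nat_lit 1) H15.Co3.B c0atl3 [c0atl4, c0atl5, c0atl6, c0atl7] (memO c0acc3)) i = 0 := allZ_sound0 c0atn4_1_0
theorem c0atn4_t {G Ω : Type*} [Group G] [MulAction G Ω] {g : ℕ → G} {pt : ℕ → Ω}
    (M : Md g pt H15.Co3.P 276 7 H15.Co3.B 495766656000) : TrO (gen (wds g c0ath_W) c0atl3.K) (wds g c0ax_W) (wds g c0ax_W) 1 pt 276 (c0atl3.Pt 0) (memO c0acc3) :=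
  node M (c0at_S3 M) (c0ath_act M) (c0ax_act M) (c0ax_act M) c0atn4 ((c0ace_act M).mono (by decide)) (fun _ _ => trivial) c0atn4_0 c0atn4_1 (List.forall_mem_nil _)
theorem c0acc2_e : ∀ i < 15, (dent c0acc2 c0ace_P (nat_lit 276)) i = 0 := allZ_sound0 c0acc2_e_0
theorem c0acc2_ok : DOK c0acc2 c0ace_P 276 := ⟨c0acc2_h, c0acc2_e⟩
theorem c0atn5_1 : ∀ i < 112, (c0atn5.ent H15.Co3.P c0ath_P c0ax_P c0ax_P c0ace_P (nat_lit 7) (nat_lit 1) H15.Co3.B c0atl2 [c0atl3, c0atl4, c0atl5, c0atl6, c0atl7] (memO c0acc2)) i = 0 := allZ_sound0 c0atn5_1_0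
theorem c0atn5_t {G Ω : Type*} [Group G] [MulAction G Ω] {g : ℕ → G} {pt : ℕ → Ω}
    (M : Md g pt H15.Co3.P 276 7 H15.Co3.B 495766656000) : TrO (gen (wds g c0ath_W) c0atl2.K) (wds g c0ax_W) (wds g c0ax_W) 1 pt 276 (c0atl2.Pt 0) (memO c0acc2) :=
  node M (c0at_S2 M) (c0ath_act M) (c0ax_act M) (c0ax_act M) c0atn5 ((c0ace_act M).mono (by decide)) (fun _ _ => trivial) c0atn5_0 c0atn5_1 (List.forall_mem_nil _)
theorem c0acc1_e : ∀ i < 34, (dent c0acc1 c0ace_P (nat_lit 276)) i = 0 := allZ_sound0 c0acc1_e_0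
theorem c0acc1_ok : DOK c0acc1 c0ace_P 276 := ⟨c0acc1_h, c0acc1_e⟩
theorem c0atn6_1 : ∀ i < 275, (c0atn6.ent H15.Co3.P c0ath_P c0ax_P c0ax_P c0ace_P (nat_lit 7) (nat_lit 1) H15.Co3.B c0atl1 [c0atl2, c0atl3, c0atl4, c0atl5, c0atl6, c0atl7] (memO c0acc1)) i = 0 := allZ_sound0 c0atn6_1_0
theorem c0atn6_t {G Ω : Type*} [Group G] [MulAction G Ω] {g : ℕ → G} {pt : ℕ → Ω}
    (M : Md g pt H15.Co3.P 276 7 H15.Co3.B 495766656000) : TrO (gen (wds g c0ath_W) c0atl1.K) (wds g c0ax_W) (wds g c0ax_W) 1 pt 276 (c0atl1.Pt 0) (memO c0acc1) :=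
  node M (c0at_S1 M) (c0ath_act M) (c0ax_act M) (c0ax_act M) c0atn6 ((c0ace_act M).mono (by decide)) (fun _ _ => trivial) c0atn6_0 c0atn6_1 (List.forall_mem_nil _)
theorem c0acc0_e : ∀ i < 35, (dent c0acc0 c0ace_P (nat_lit 276)) i = 0 := allZ_sound0 c0acc0_e_0
theorem c0acc0_ok : DOK c0acc0 c0ace_P 276 := ⟨c0acc0_h, c0acc0_e⟩
theorem c0atn7_1 : ∀ i < 276, (c0atn7.ent H15.Co3.P c0ath_P c0ax_P c0ax_P c0ace_P (nat_lit 7) (nat_lit 1) H15.Co3.B c0atl0 [c0atl1, c0atl2, c0atl3, c0atl4, c0atl5, c0atl6, c0atl7] (memO c0acc0)) i = 0 := allZ_sound0 c0atn7_1_0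
theorem c0atn7_t {G Ω : Type*} [Group G] [MulAction G Ω] {g : ℕ → G} {pt : ℕ → Ω}
    (M : Md g pt H15.Co3.P 276 7 H15.Co3.B 495766656000) : TrO (gen (wds g c0ath_W) c0atl0.K) (wds g c0ax_W) (wds g c0ax_W) 1 pt 276 (c0atl0.Pt 0) (memO c0acc0) :=
  node M (c0at_S0 M) (c0ath_act M) (c0ax_act M) (c0ax_act M) c0atn7 ((c0ace_act M).mono (by decide)) (fun _ _ => trivial) c0atn7_0 c0atn7_1 (List.forall_mem_nil _)
theorem c0ac {G Ω : Type*} [Group G] [MulAction G Ω] {g : ℕ → G} {pt : ℕ → Ω}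
    (M : Md g pt H15.Co3.P 276 7 H15.Co3.B 495766656000) : Cen ⊤ (wds g c0ax_W) 1 (wds g c0ace_W) pt 276 [c0acc0, c0acc1, c0acc2, c0acc3, c0acc4, c0acc5, c0acc7] :=
  (c0at_S0 M).top ▸ Cen.lev M (c0at_S0 M) (Cen.lev M (c0at_S1 M) (Cen.lev M (c0at_S2 M) (Cen.lev M (c0at_S3 M) (Cen.lev M (c0at_S4 M) (Cen.lev M (c0at_S5 M) (Cen.triv (c0at_S6 M) (Cen.lev M (c0at_S7 M) (Cen.bot) (c0atn0_t M) (c0ax_act M) (c0ace_act M) (fun _ _ => trivial) c0acc7_ok c0ac_f7) (c0atn1_t M)) (c0atn2_t M) (c0ax_act M) (c0ace_act M) (fun _ _ => trivial) c0acc5_ok c0ac_f5) (c0atn3_t M) (c0ax_act M) (c0ace_act M) (fun _ _ => trivial) c0acc4_ok c0ac_f4) (c0atn4_t M) (c0ax_act M) (c0ace_act M) (fun _ _ => trivial) c0acc3_ok c0ac_f3) (c0atn5_t M) (c0ax_act M) (c0ace_act M) (fun _ _ => trivial) c0acc2_ok c0ac_f2) (c0atn6_t M) (c0ax_act M) (c0ace_act M) (fun _ _ => trivial) c0acc1_ok c0ac_f1) (c0atn7_t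 M) (c0ax_act M) (c0ace_act M) (fun _ _ => trivial) c0acc0_ok c0ac_f0
theorem c0ac_card {G Ω : Type*} [Group G] [MulAction G Ω] {g : ℕ → G} {pt : ℕ → Ω}
    (M : Md g pt H15.Co3.P 276 7 H15.Co3.B 495766656000) : Nat.card (Subgroup.centralizer {(wds g c0ax_W) 0}) = 2903040 :=
  (c0ac M).card_cent1 M.inj c0ac_c.1
theorem c0ac_eq {G Ω : Type*} [Group G] [MulAction G Ω] {g : ℕ → G} {pt : ℕ → Ω}
    (M : Md g pt H15.Co3.P 276 7 H15.Co3.B 495766656000) : Subgroup.centralizer (gen (wds g c0ax_W) 1) = gen (wds g c0ace_W) 7 ∧ Nat.card (gen (wds g c0ace_W) 7) = 2903040 :=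
  c0ac_c.1 ▸ c0ac_c.2 ▸ ⟨(c0ac M).cent, (c0ac M).card M.inj⟩
theorem c0w0_act {G Ω : Type*} [Group G] [MulAction G Ω] {g : ℕ → G} {pt : ℕ → Ω}
    (M : Md g pt H15.Co3.P 276 7 H15.Co3.B 495766656000) : Act (wds g c0w0_W) pt c0w0_P 276 2 :=
  M.wact c0w0_lt
theorem c0y0x_act {G Ω : Type*} [Group G] [MulAction G Ω] {g : ℕ → G} {pt : ℕ → Ω}
    (M : Md g pt H15.Co3.P 276 7 H15.Co3.B 495766656000) : Act (wds g c0y0x_W) pt c0y0x_P 276 1 :=
  M.wact c0y0x_lt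
theorem c0y0th_act {G Ω : Type*} [Group G] [MulAction G Ω] {g : ℕ → G} {pt : ℕ → Ω}
    (M : Md g pt H15.Co3.P 276 7 H15.Co3.B 495766656000) : Act (wds g c0y0th_W) pt c0y0th_P 276 16 :=
  M.wact c0y0th_lt
theorem c0y0tl0_e : ∀ i < 275, (dent c0y0tl0 c0y0th_P (nat_lit 276)) i = 0 := allZ_sound0 c0y0tl0_e_0
theorem c0y0tl0_ok : DOK c0y0tl0 c0y0th_P 276 := ⟨c0y0tl0_h, c0y0tl0_e⟩
theorem c0y0tl1_e : ∀ i < 274, (dent c0y0tl1 c0y0th_P (nat_lit 276)) i = 0 := allZ_sound0 c0y0tl1_e_0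
theorem c0y0tl1_ok : DOK c0y0tl1 c0y0th_P 276 := ⟨c0y0tl1_h, c0y0tl1_e⟩
theorem c0y0tl2_e : ∀ i < 111, (dent c0y0tl2 c0y0th_P (nat_lit 276)) i = 0 := allZ_sound0 c0y0tl2_e_0
theorem c0y0tl2_ok : DOK c0y0tl2 c0y0th_P 276 := ⟨c0y0tl2_h, c0y0tl2_e⟩
theorem c0y0tl3_e : ∀ i < 29, (dent c0y0tl3 c0y0th_P (nat_lit 276)) i = 0 := allZ_sound0 c0y0tl3_e_0
theorem c0y0tl3_ok : DOK c0y0tl3 c0y0th_P 276 := ⟨c0y0tl3_h, c0y0tl3_e⟩
theorem c0y0tl4_e : ∀ i < 53, (dent c0y0tl4 c0y0th_P (nat_lit 276)) i = 0 := allZ_sound0 c0y0tl4_e_0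
theorem c0y0tl4_ok : DOK c0y0tl4 c0y0th_P 276 := ⟨c0y0tl4_h, c0y0tl4_e⟩
theorem c0y0tl5_e : ∀ i < 8, (dent c0y0tl5 c0y0th_P (nat_lit 276)) i = 0 := allZ_sound0 c0y0tl5_e_0
theorem c0y0tl5_ok : DOK c0y0tl5 c0y0th_P 276 := ⟨c0y0tl5_h, c0y0tl5_e⟩
theorem c0y0tl6_e : ∀ i < 3, (dent c0y0tl6 c0y0th_P (nat_lit 276)) i = 0 := allZ_sound0 c0y0tl6_e_0
theorem c0y0tl6_ok : DOK c0y0tl6 c0y0th_P 276 := ⟨c0y0tl6_h, c0y0tl6_e⟩
theorem c0y0t_low {G Ω : Type*} [Group G] [MulAction G Ω] {g : ℕ → G} {pt : ℕ → Ω}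
    (M : Md g pt H15.Co3.P 276 7 H15.Co3.B 495766656000) : SLow (gi (wds g c0y0th_W)) pt 276 [c0y0tl0, c0y0tl1, c0y0tl2, c0y0tl3, c0y0tl4, c0y0tl5, c0y0tl6] :=
  (((((((SLow.nil).cons c0y0tl6_ok (c0y0th_act M) c0y0t_f6).cons c0y0tl5_ok (c0y0th_act M) c0y0t_f5).cons c0y0tl4_ok (c0y0th_act M) c0y0t_f4).cons c0y0tl3_ok (c0y0th_act M) c0y0t_f3).cons c0y0tl2_ok (c0y0th_act M) c0y0t_f2).cons c0y0tl1_ok (c0y0th_act M) c0y0t_f1).cons c0y0tl0_ok (c0y0th_act M) c0y0t_f0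
theorem c0y0t_S0 {G Ω : Type*} [Group G] [MulAction G Ω] {g : ℕ → G} {pt : ℕ → Ω}
    (M : Md g pt H15.Co3.P 276 7 H15.Co3.B 495766656000) : Stage ⊤ (wds g c0y0th_W) pt 276 [c0y0tl0, c0y0tl1, c0y0tl2, c0y0tl3, c0y0tl4, c0y0tl5, c0y0tl6] [] :=
  M.stage (c0y0t_low M) c0y0t_c
theorem c0y0t_S1 {G Ω : Type*} [Group G] [MulAction G Ω] {g : ℕ → G} {pt : ℕ → Ω}
    (M : Md g pt H15.Co3.P 276 7 H15.Co3.B 495766656000) : Stage ⊤ (wds g c0y0th_W) pt 276 [c0y0tl1, c0y0tl2, c0y0tl3, c0y0tl4, c0y0tl5, c0y0tl6] [c0y0tl0.Pt 0] :=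
  (c0y0t_S0 M).next
theorem c0y0t_S2 {G Ω : Type*} [Group G] [MulAction G Ω] {g : ℕ → G} {pt : ℕ → Ω}
    (M : Md g pt H15.Co3.P 276 7 H15.Co3.B 495766656000) : Stage ⊤ (wds g c0y0th_W) pt 276 [c0y0tl2, c0y0tl3, c0y0tl4, c0y0tl5, c0y0tl6] [c0y0tl1.Pt 0, c0y0tl0.Pt 0] :=
  (c0y0t_S1 M).next
theorem c0y0t_S3 {G Ω : Type*} [Group G] [MulAction G Ω] {g : ℕ → G} {pt : ℕ → Ω}
    (M : Md g pt H15.Co3.P 276 7 H15.Co3.B 495766656000) : Stage ⊤ (wds g c0y0th_W) pt 276 [c0y0tl3, c0y0tl4, c0y0tl5, c0y0tl6] [c0y0tl2.Pt 0, c0y0tl1.Pt 0, c0y0tl0.Pt 0] :=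
  (c0y0t_S2 M).next
theorem c0y0t_S4 {G Ω : Type*} [Group G] [MulAction G Ω] {g : ℕ → G} {pt : ℕ → Ω}
    (M : Md g pt H15.Co3.P 276 7 H15.Co3.B 495766656000) : Stage ⊤ (wds g c0y0th_W) pt 276 [c0y0tl4, c0y0tl5, c0y0tl6] [c0y0tl3.Pt 0, c0y0tl2.Pt 0, c0y0tl1.Pt 0, c0y0tl0.Pt 0] :=
  (c0y0t_S3 M).next
theorem c0y0t_S5 {G Ω : Type*} [Group G] [MulAction G Ω] {g : ℕ → G} {pt : ℕ → Ω}
    (M : Md g pt H15.Co3.P 276 7 H15.Co3.B 495766656000) : Stage ⊤ (wds g c0y0th_W) pt 276 [c0y0tl5, c0y0tl6] [c0y0tl4.Pt 0, c0y0tl3.Pt 0, c0y0tl2.Pt 0, c0y0tl1.Pt 0, c0y0tl0.Pt 0] :=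
  (c0y0t_S4 M).next
theorem c0y0t_S6 {G Ω : Type*} [Group G] [MulAction G Ω] {g : ℕ → G} {pt : ℕ → Ω}
    (M : Md g pt H15.Co3.P 276 7 H15.Co3.B 495766656000) : Stage ⊤ (wds g c0y0th_W) pt 276 [c0y0tl6] [c0y0tl5.Pt 0, c0y0tl4.Pt 0, c0y0tl3.Pt 0, c0y0tl2.Pt 0, c0y0tl1.Pt 0, c0y0tl0.Pt 0] :=
  (c0y0t_S5 M).next
theorem c0y0t_S7 {G Ω : Type*} [Group G] [MulAction G Ω] {g : ℕ → G} {pt : ℕ → Ω}
    (M : Md g pt H15.Co3.P 276 7 H15.Co3.B 495766656000) : Stage ⊤ (wds g c0y0th_W) pt 276 [] [c0y0tl6.Pt 0, c0y0tl5.Pt 0, c0y0tl4.Pt 0, c0y0tl3.Pt 0, c0y0tl2.Pt 0, c0y0tl1.Pt 0, c0y0tl0.Pt 0] :=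
  (c0y0t_S6 M).next
theorem c0y0ce_act {G Ω : Type*} [Group G] [MulAction G Ω] {g : ℕ → G} {pt : ℕ → Ω}
    (M : Md g pt H15.Co3.P 276 7 H15.Co3.B 495766656000) : Act (wds g c0y0ce_W) pt c0y0ce_P 276 2 :=
  M.wact c0y0ce_lt
theorem c0y0cc2_e : ∀ i < 6, (dent c0y0cc2 c0y0ce_P (nat_lit 276)) i = 0 := allZ_sound0 c0y0cc2_e_0
theorem c0y0cc2_ok : DOK c0y0cc2 c0y0ce_P 276 := ⟨c0y0cc2_h, c0y0cc2_e⟩
theorem c0y0tn0_1 : ∀ i < 112, (c0y0tn0.ent H15.Co3.P c0y0th_P c0y0x_P c0y0x_P c0y0ce_P (nat_lit 7) (nat_lit 1) H15.Co3.B c0y0tl2 [c0y0tl3, c0y0tl4, c0y0tl5, c0y0tl6] (memO c0y0cc2)) i = 0 := allZ_sound0 c0y0tn0_1_0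
theorem c0y0tn0_t {G Ω : Type*} [Group G] [MulAction G Ω] {g : ℕ → G} {pt : ℕ → Ω}
    (M : Md g pt H15.Co3.P 276 7 H15.Co3.B 495766656000) : TrO (gen (wds g c0y0th_W) c0y0tl2.K) (wds g c0y0x_W) (wds g c0y0x_W) 1 pt 276 (c0y0tl2.Pt 0) (memO c0y0cc2) :=
  node M (c0y0t_S2 M) (c0y0th_act M) (c0y0x_act M) (c0y0x_act M) c0y0tn0 ((c0y0ce_act M).mono (by decide)) (fun _ _ => trivial) c0y0tn0_0 c0y0tn0_1 (List.forall_mem_nil _)
theorem c0y0cc0_e : ∀ i < 1, (dent c0y0cc0 c0y0ce_P (nat_lit 276)) i = 0 := allZ_sound0 c0y0cc0_e_0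
theorem c0y0cc0_ok : DOK c0y0cc0 c0y0ce_P 276 := ⟨c0y0cc0_h, c0y0cc0_e⟩
theorem c0y0tn1_1 : ∀ i < 276, (c0y0tn1.ent H15.Co3.P c0y0th_P c0y0x_P c0y0x_P c0y0ce_P (nat_lit 7) (nat_lit 1) H15.Co3.B c0y0tl0 [c0y0tl1, c0y0tl2, c0y0tl3, c0y0tl4, c0y0tl5, c0y0tl6] (memO c0y0cc0)) i = 0 := allZ_sound0 c0y0tn1_1_0
theorem c0y0tn1_t {G Ω : Type*} [Group G] [MulAction G Ω] {g : ℕ → G} {pt : ℕ → Ω}
    (M : Md g pt H15.Co3.P 276 7 H15.Co3.B 495766656000) : TrO (gen (wds g c0y0th_W) c0y0tl0.K) (wds g c0y0x_W) (wds g c0y0x_W) 1 pt 276 (c0y0tl0.Pt 0) (memO c0y0cc0) :=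
  node M (c0y0t_S0 M) (c0y0th_act M) (c0y0x_act M) (c0y0x_act M) c0y0tn1 ((c0y0ce_act M).mono (by decide)) (fun _ _ => trivial) c0y0tn1_0 c0y0tn1_1 (List.forall_mem_nil _)
theorem c0y0c {G Ω : Type*} [Group G] [MulAction G Ω] {g : ℕ → G} {pt : ℕ → Ω}
    (M : Md g pt H15.Co3.P 276 7 H15.Co3.B 495766656000) : Cen ⊤ (wds g c0y0x_W) 1 (wds g c0y0ce_W) pt 276 [c0y0cc0, c0y0cc2] :=
  (c0y0t_S0 M).top ▸ Cen.lev M (c0y0t_S0 M) (Cen.triv (c0y0t_S1 M) (Cen.lev M (c0y0t_S2 M) (Cen.triv (c0y0t_S3 M) (Cen.triv (c0y0t_S4 M) (Cen.triv (c0y0t_S5 M) (Cen.triv (c0y0t_S6 M) (Cen.bot) (forced (c0y0t_S6 M) (c0y0th_act M) (c0y0x_act M) _ _ c0y0c_f6)) (forced (c0y0t_S5 M) (c0y0th_act M) (c0y0x_act M) _ _ c0y0c_f5)) (forced (c0y0t_S4 M) (c0y0th_act M) (c0y0x_act M) _ _ c0y0c_f4)) (forced (c0y0t_S3 M) (c0y0th_act M) (c0y0x_act M) _ _ c0y0c_f3)) (c0y0tn0_t M) (c0y0x_act M) (c0y0ce_act M) (fun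 _ _ => trivial) c0y0cc2_ok c0y0c_f2) (forced (c0y0t_S1 M) (c0y0th_act M) (c0y0x_act M) _ _ c0y0c_f1)) (c0y0tn1_t M) (c0y0x_act M) (c0y0ce_act M) (fun _ _ => trivial) c0y0cc0_ok c0y0c_f0
theorem c0y0c_card {G Ω : Type*} [Group G] [MulAction G Ω] {g : ℕ → G} {pt : ℕ → Ω}
    (M : Md g pt H15.Co3.P 276 7 H15.Co3.B 495766656000) : Nat.card (Subgroup.centralizer {(wds g c0y0x_W) 0}) = 14 :=
  (c0y0c M).card_cent1 M.inj c0y0c_c.1
theorem c0y0c_eq {G Ω : Type*} [Group G] [MulAction G Ω] {g : ℕ → G} {pt : ℕ → Ω}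
    (M : Md g pt H15.Co3.P 276 7 H15.Co3.B 495766656000) : Subgroup.centralizer (gen (wds g c0y0x_W) 1) = gen (wds g c0y0ce_W) 2 ∧ Nat.card (gen (wds g c0y0ce_W) 2) = 14 :=
  c0y0c_c.1 ▸ c0y0c_c.2 ▸ ⟨(c0y0c M).cent, (c0y0c M).card M.inj⟩
theorem c0w0p {G Ω : Type*} [Group G] [MulAction G Ω] {g : ℕ → G} {pt : ℕ → Ω}
    (M : Md g pt H15.Co3.P 276 7 H15.Co3.B 495766656000) : (wds g c0w0_W) 0 ^ 2 = 1 :=
  M.pw (c0w0_act M) c0w0p_k
theorem c0w0n {G Ω : Type*} [Group G] [MulAction G Ω] {g : ℕ → G} {pt : ℕ → Ω}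
    (M : Md g pt H15.Co3.P 276 7 H15.Co3.B 495766656000) : (wds g c0w0_W) 1 ^ 2 ≠ 1 :=
  M.npw (c0w0_act M) _ c0w0n_k
theorem c0W0 {G Ω : Type*} [Group G] [MulAction G Ω] {g : ℕ → G} {pt : ℕ → Ω}
    (M : Md g pt H15.Co3.P 276 7 H15.Co3.B 495766656000) : Wit (H27.IC.Ce ((wds g covr_W) 0)) 7 14 :=
  have := M.fin
  wit_w (x := (wds g c0w0_W)) (k := 3) (by norm_num) (M.eq_of (c0w0_act M) c0w0_k) (c0w0p M) (c0w0n M) (c0ac_card M) (by decide +kernel) (c0y0c_card M)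
theorem c0 {G Ω : Type*} [Group G] [MulAction G Ω] {g : ℕ → G} {pt : ℕ → Ω}
    (M : Md g pt H15.Co3.P 276 7 H15.Co3.B 495766656000) : OK (H27.IC.Ce ((wds g covr_W) 0)) :=
  have := M.fin
  ok_num (n := 2903040) (ws := []) 10 (c0ac_card M) (c0W0 M) (List.forall_mem_nil _) (by decide +kernel)
theorem c1ax_act {G Ω : Type*} [Group G] [MulAction G Ω] {g : ℕ → G} {pt : ℕ → Ω}
    (M : Md g pt H15.Co3.P 276 7 H15.Co3.B 495766656000) : Act (wds g c1ax_W) pt c1ax_P 276 1 :=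
  M.wact c1ax_lt
theorem c1ath_act {G Ω : Type*} [Group G] [MulAction G Ω] {g : ℕ → G} {pt : ℕ → Ω}
    (M : Md g pt H15.Co3.P 276 7 H15.Co3.B 495766656000) : Act (wds g c1ath_W) pt c1ath_P 276 19 :=
  M.wact c1ath_lt
theorem c1atl0_e : ∀ i < 275, (dent c1atl0 c1ath_P (nat_lit 276)) i = 0 := allZ_sound0 c1atl0_e_0
theorem c1atl0_ok : DOK c1atl0 c1ath_P 276 := ⟨c1atl0_h, c1atl0_e⟩
theorem c1atl1_e : ∀ i < 274, (dent c1atl1 c1ath_P (nat_lit 276)) i = 0 := allZ_sound0 c1atl1_e_0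
theorem c1atl1_ok : DOK c1atl1 c1ath_P 276 := ⟨c1atl1_h, c1atl1_e⟩
theorem c1atl2_e : ∀ i < 161, (dent c1atl2 c1ath_P (nat_lit 276)) i = 0 := allZ_sound0 c1atl2_e_0
theorem c1atl2_ok : DOK c1atl2 c1ath_P 276 := ⟨c1atl2_h, c1atl2_e⟩
theorem c1atl3_e : ∀ i < 104, (dent c1atl3 c1ath_P (nat_lit 276)) i = 0 := allZ_sound0 c1atl3_e_0
theorem c1atl3_ok : DOK c1atl3 c1ath_P 276 := ⟨c1atl3_h, c1atl3_e⟩
theorem c1atl4_e : ∀ i < 7, (dent c1atl4 c1ath_P (nat_lit 276)) i = 0 := allZ_sound0 c1atl4_e_0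
theorem c1atl4_ok : DOK c1atl4 c1ath_P 276 := ⟨c1atl4_h, c1atl4_e⟩
theorem c1atl5_e : ∀ i < 3, (dent c1atl5 c1ath_P (nat_lit 276)) i = 0 := allZ_sound0 c1atl5_e_0
theorem c1atl5_ok : DOK c1atl5 c1ath_P 276 := ⟨c1atl5_h, c1atl5_e⟩
theorem c1atl6_e : ∀ i < 3, (dent c1atl6 c1ath_P (nat_lit 276)) i = 0 := allZ_sound0 c1atl6_e_0
theorem c1atl6_ok : DOK c1atl6 c1ath_P 276 := ⟨c1atl6_h, c1atl6_e⟩
theorem c1atl7_e : ∀ i < 2, (dent c1atl7 c1ath_P (nat_lit 276)) i = 0 := allZ_sound0 c1atl7_e_0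
theorem c1atl7_ok : DOK c1atl7 c1ath_P 276 := ⟨c1atl7_h, c1atl7_e⟩
theorem c1at_low {G Ω : Type*} [Group G] [MulAction G Ω] {g : ℕ → G} {pt : ℕ → Ω}
    (M : Md g pt H15.Co3.P 276 7 H15.Co3.B 495766656000) : SLow (gi (wds g c1ath_W)) pt 276 [c1atl0, c1atl1, c1atl2, c1atl3, c1atl4, c1atl5, c1atl6, c1atl7] :=
  ((((((((SLow.nil).cons c1atl7_ok (c1ath_act M) c1at_f7).cons c1atl6_ok (c1ath_act M) c1at_f6).cons c1atl5_ok (c1ath_act M) c1at_f5).cons c1atl4_ok (c1ath_act M) c1at_f4).cons c1atl3_ok (c1ath_act M) c1at_f3).cons c1atl2_ok (c1ath_act M) c1at_f2).cons c1atl1_ok (c1ath_act M) c1at_f1).cons c1atl0_ok (c1ath_act M) c1at_f0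
theorem c1at_S0 {G Ω : Type*} [Group G] [MulAction G Ω] {g : ℕ → G} {pt : ℕ → Ω}
    (M : Md g pt H15.Co3.P 276 7 H15.Co3.B 495766656000) : Stage ⊤ (wds g c1ath_W) pt 276 [c1atl0, c1atl1, c1atl2, c1atl3, c1atl4, c1atl5, c1atl6, c1atl7] [] :=
  M.stage (c1at_low M) c1at_c
theorem c1at_S1 {G Ω : Type*} [Group G] [MulAction G Ω] {g : ℕ → G} {pt : ℕ → Ω}
    (M : Md g pt H15.Co3.P 276 7 H15.Co3.B 495766656000) : Stage ⊤ (wds g c1ath_W) pt 276 [c1atl1, c1atl2, c1atl3, c1atl4, c1atl5, c1atl6, c1atl7] [c1atl0.Pt 0] :=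
  (c1at_S0 M).next
theorem c1at_S2 {G Ω : Type*} [Group G] [MulAction G Ω] {g : ℕ → G} {pt : ℕ → Ω}
    (M : Md g pt H15.Co3.P 276 7 H15.Co3.B 495766656000) : Stage ⊤ (wds g c1ath_W) pt 276 [c1atl2, c1atl3, c1atl4, c1atl5, c1atl6, c1atl7] [c1atl1.Pt 0, c1atl0.Pt 0] :=
  (c1at_S1 M).next
theorem c1at_S3 {G Ω : Type*} [Group G] [MulAction G Ω] {g : ℕ → G} {pt : ℕ → Ω}
    (M : Md g pt H15.Co3.P 276 7 H15.Co3.B 495766656000) : Stage ⊤ (wds g c1ath_W) pt 276 [c1atl3, c1atl4, c1atl5, c1atl6, c1atl7] [c1atl2.Pt 0, c1atl1.Pt 0, c1atl0.Pt 0] :=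
  (c1at_S2 M).next
theorem c1at_S4 {G Ω : Type*} [Group G] [MulAction G Ω] {g : ℕ → G} {pt : ℕ → Ω}
    (M : Md g pt H15.Co3.P 276 7 H15.Co3.B 495766656000) : Stage ⊤ (wds g c1ath_W) pt 276 [c1atl4, c1atl5, c1atl6, c1atl7] [c1atl3.Pt 0, c1atl2.Pt 0, c1atl1.Pt 0, c1atl0.Pt 0] :=
  (c1at_S3 M).next
theorem c1at_S5 {G Ω : Type*} [Group G] [MulAction G Ω] {g : ℕ → G} {pt : ℕ → Ω}
    (M : Md g pt H15.Co3.P 276 7 H15.Co3.B 495766656000) : Stage ⊤ (wds g c1ath_W) pt 276 [c1atl5, c1atl6, c1atl7] [c1atl4.Pt 0, c1atl3.Pt 0, c1atl2.Pt 0, c1atl1.Pt 0, c1atl0.Pt 0] :=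
  (c1at_S4 M).next
theorem c1at_S6 {G Ω : Type*} [Group G] [MulAction G Ω] {g : ℕ → G} {pt : ℕ → Ω}
    (M : Md g pt H15.Co3.P 276 7 H15.Co3.B 495766656000) : Stage ⊤ (wds g c1ath_W) pt 276 [c1atl6, c1atl7] [c1atl5.Pt 0, c1atl4.Pt 0, c1atl3.Pt 0, c1atl2.Pt 0, c1atl1.Pt 0, c1atl0.Pt 0] :=
  (c1at_S5 M).next
theorem c1at_S7 {G Ω : Type*} [Group G] [MulAction G Ω] {g : ℕ → G} {pt : ℕ → Ω}
    (M : Md g pt H15.Co3.P 276 7 H15.Co3.B 495766656000) : Stage ⊤ (wds g c1ath_W) pt 276 [c1atl7] [c1atl6.Pt 0, c1atl5.Pt 0, c1atl4.Pt 0, c1atl3.Pt 0, c1atl2.Pt 0, c1atl1.Pt 0, c1atl0.Pt 0] :=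
  (c1at_S6 M).next
theorem c1at_S8 {G Ω : Type*} [Group G] [MulAction G Ω] {g : ℕ → G} {pt : ℕ → Ω}
    (M : Md g pt H15.Co3.P 276 7 H15.Co3.B 495766656000) : Stage ⊤ (wds g c1ath_W) pt 276 [] [c1atl7.Pt 0, c1atl6.Pt 0, c1atl5.Pt 0, c1atl4.Pt 0, c1atl3.Pt 0, c1atl2.Pt 0, c1atl1.Pt 0, c1atl0.Pt 0] :=
  (c1at_S7 M).next
theorem c1ace_act {G Ω : Type*} [Group G] [MulAction G Ω] {g : ℕ → G} {pt : ℕ → Ω}
    (M : Md g pt H15.Co3.P 276 7 H15.Co3.B 495766656000) : Act (wds g c1ace_W) pt c1ace_P 276 8 :=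
  M.wact c1ace_lt
theorem c1acc6_e : ∀ i < 1, (dent c1acc6 c1ace_P (nat_lit 276)) i = 0 := allZ_sound0 c1acc6_e_0
theorem c1acc6_ok : DOK c1acc6 c1ace_P 276 := ⟨c1acc6_h, c1acc6_e⟩
theorem c1atn0_1 : ∀ i < 4, (c1atn0.ent H15.Co3.P c1ath_P c1ax_P c1ax_P c1ace_P (nat_lit 7) (nat_lit 1) H15.Co3.B c1atl6 [c1atl7] (memO c1acc6)) i = 0 := allZ_sound0 c1atn0_1_0
theorem c1atn0_t {G Ω : Type*} [Group G] [MulAction G Ω] {g : ℕ → G} {pt : ℕ → Ω}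
    (M : Md g pt H15.Co3.P 276 7 H15.Co3.B 495766656000) : TrO (gen (wds g c1ath_W) c1atl6.K) (wds g c1ax_W) (wds g c1ax_W) 1 pt 276 (c1atl6.Pt 0) (memO c1acc6) :=
  node M (c1at_S6 M) (c1ath_act M) (c1ax_act M) (c1ax_act M) c1atn0 ((c1ace_act M).mono (by decide)) (fun _ _ => trivial) c1atn0_0 c1atn0_1 (List.forall_mem_nil _)
theorem c1acc4_e : ∀ i < 7, (dent c1acc4 c1ace_P (nat_lit 276)) i = 0 := allZ_sound0 c1acc4_e_0
theorem c1acc4_ok : DOK c1acc4 c1ace_P 276 := ⟨c1acc4_h, c1acc4_e⟩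
theorem c1atn1_1 : ∀ i < 8, (c1atn1.ent H15.Co3.P c1ath_P c1ax_P c1ax_P c1ace_P (nat_lit 7) (nat_lit 1) H15.Co3.B c1atl4 [c1atl5, c1atl6, c1atl7] (memO c1acc4)) i = 0 := allZ_sound0 c1atn1_1_0
theorem c1atn1_t {G Ω : Type*} [Group G] [MulAction G Ω] {g : ℕ → G} {pt : ℕ → Ω}
    (M : Md g pt H15.Co3.P 276 7 H15.Co3.B 495766656000) : TrO (gen (wds g c1ath_W) c1atl4.K) (wds g c1ax_W) (wds g c1ax_W) 1 pt 276 (c1atl4.Pt 0) (memO c1acc4) :=
  node M (c1at_S4 M) (c1ath_act M) (c1ax_act M) (c1ax_act M) c1atn1 ((c1ace_act M).mono (by decide)) (fun _ _ => trivial) c1atn1_0 c1atn1_1 (List.forall_mem_nil _)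
theorem c1acc3_e : ∀ i < 8, (dent c1acc3 c1ace_P (nat_lit 276)) i = 0 := allZ_sound0 c1acc3_e_0
theorem c1acc3_ok : DOK c1acc3 c1ace_P 276 := ⟨c1acc3_h, c1acc3_e⟩
theorem c1atn2_1 : ∀ i < 105, (c1atn2.ent H15.Co3.P c1ath_P c1ax_P c1ax_P c1ace_P (nat_lit 7) (nat_lit 1) H15.Co3.B c1atl3 [c1atl4, c1atl5, c1atl6, c1atl7] (memO c1acc3)) i = 0 := allZ_sound0 c1atn2_1_0
theorem c1atn2_t {G Ω : Type*} [Group G] [MulAction G Ω] {g : ℕ → G} {pt : ℕ → Ω}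
    (M : Md g pt H15.Co3.P 276 7 H15.Co3.B 495766656000) : TrO (gen (wds g c1ath_W) c1atl3.K) (wds g c1ax_W) (wds g c1ax_W) 1 pt 276 (c1atl3.Pt 0) (memO c1acc3) :=
  node M (c1at_S3 M) (c1ath_act M) (c1ax_act M) (c1ax_act M) c1atn2 ((c1ace_act M).mono (by decide)) (fun _ _ => trivial) c1atn2_0 c1atn2_1 (List.forall_mem_nil _)
theorem c1acc2_e : ∀ i < 9, (dent c1acc2 c1ace_P (nat_lit 276)) i = 0 := allZ_sound0 c1acc2_e_0
theorem c1acc2_ok : DOK c1acc2 c1ace_P 276 := ⟨c1acc2_h, c1acc2_e⟩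
theorem c1atn3_1 : ∀ i < 162, (c1atn3.ent H15.Co3.P c1ath_P c1ax_P c1ax_P c1ace_P (nat_lit 7) (nat_lit 1) H15.Co3.B c1atl2 [c1atl3, c1atl4, c1atl5, c1atl6, c1atl7] (memO c1acc2)) i = 0 := allZ_sound0 c1atn3_1_0
theorem c1atn3_t {G Ω : Type*} [Group G] [MulAction G Ω] {g : ℕ → G} {pt : ℕ → Ω}
    (M : Md g pt H15.Co3.P 276 7 H15.Co3.B 495766656000) : TrO (gen (wds g c1ath_W) c1atl2.K) (wds g c1ax_W) (wds g c1ax_W) 1 pt 276 (c1atl2.Pt 0) (memO c1acc2) :=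
  node M (c1at_S2 M) (c1ath_act M) (c1ax_act M) (c1ax_act M) c1atn3 ((c1ace_act M).mono (by decide)) (fun _ _ => trivial) c1atn3_0 c1atn3_1 (List.forall_mem_nil _)
theorem c1acc1_e : ∀ i < 10, (dent c1acc1 c1ace_P (nat_lit 276)) i = 0 := allZ_sound0 c1acc1_e_0
theorem c1acc1_ok : DOK c1acc1 c1ace_P 276 := ⟨c1acc1_h, c1acc1_e⟩
theorem c1atn4_1 : ∀ i < 275, (c1atn4.ent H15.Co3.P c1ath_P c1ax_P c1ax_P c1ace_P (nat_lit 7) (nat_lit 1) H15.Co3.B c1atl1 [c1atl2, c1atl3, c1atl4, c1atl5, c1atl6, c1atl7] (memO c1acc1)) i = 0 := allZ_sound0 c1atn4_1_0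
theorem c1atn4_t {G Ω : Type*} [Group G] [MulAction G Ω] {g : ℕ → G} {pt : ℕ → Ω}
    (M : Md g pt H15.Co3.P 276 7 H15.Co3.B 495766656000) : TrO (gen (wds g c1ath_W) c1atl1.K) (wds g c1ax_W) (wds g c1ax_W) 1 pt 276 (c1atl1.Pt 0) (memO c1acc1) :=
  node M (c1at_S1 M) (c1ath_act M) (c1ax_act M) (c1ax_act M) c1atn4 ((c1ace_act M).mono (by decide)) (fun _ _ => trivial) c1atn4_0 c1atn4_1 (List.forall_mem_nil _)
theorem c1acc0_e : ∀ i < 11, (dent c1acc0 c1ace_P (nat_lit 276)) i = 0 := allZ_sound0 c1acc0_e_0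
theorem c1acc0_ok : DOK c1acc0 c1ace_P 276 := ⟨c1acc0_h, c1acc0_e⟩
theorem c1atn5_1 : ∀ i < 276, (c1atn5.ent H15.Co3.P c1ath_P c1ax_P c1ax_P c1ace_P (nat_lit 7) (nat_lit 1) H15.Co3.B c1atl0 [c1atl1, c1atl2, c1atl3, c1atl4, c1atl5, c1atl6, c1atl7] (memO c1acc0)) i = 0 := allZ_sound0 c1atn5_1_0
theorem c1atn5_t {G Ω : Type*} [Group G] [MulAction G Ω] {g : ℕ → G} {pt : ℕ → Ω}
    (M : Md g pt H15.Co3.P 276 7 H15.Co3.B 495766656000) : TrO (gen (wds g c1ath_W) c1atl0.K) (wds g c1ax_W) (wds g c1ax_W) 1 pt 276 (c1atl0.Pt 0) (memO c1acc0) :=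
  node M (c1at_S0 M) (c1ath_act M) (c1ax_act M) (c1ax_act M) c1atn5 ((c1ace_act M).mono (by decide)) (fun _ _ => trivial) c1atn5_0 c1atn5_1 (List.forall_mem_nil _)
theorem c1ac {G Ω : Type*} [Group G] [MulAction G Ω] {g : ℕ → G} {pt : ℕ → Ω}
    (M : Md g pt H15.Co3.P 276 7 H15.Co3.B 495766656000) : Cen ⊤ (wds g c1ax_W) 1 (wds g c1ace_W) pt 276 [c1acc0, c1acc1, c1acc2, c1acc3, c1acc4, c1acc6] :=
  (c1at_S0 M).top ▸ Cen.lev M (c1at_S0 M) (Cen.lev M (c1at_S1 M) (Cen.lev M (c1at_S2 M) (Cen.lev M (c1at_S3 M) (Cen.lev M (c1at_S4 M) (Cen.triv (c1at_S5 M) (Cen.lev M (c1at_S6 M) (Cen.triv (c1at_S7 M) (Cen.bot) (forced (c1at_S7 M) (c1ath_act M) (c1ax_act M) _ _ c1ac_f7)) (c1atn0_t M) (c1ax_act M) (c1ace_act M) (fun _ _ => trivial) c1acc6_ok c1ac_f6) (forced (c1at_S5 M) (c1ath_act M) (c1ax_act M) _ _ c1ac_f5)) (c1atn1_t M) (c1ax_act M) (c1ace_act M) (fun _ _ => trivial) c1acc4_ok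 c1ac_f4) (c1atn2_t M) (c1ax_act M) (c1ace_act M) (fun _ _ => trivial) c1acc3_ok c1ac_f3) (c1atn3_t M) (c1ax_act M) (c1ace_act M) (fun _ _ => trivial) c1acc2_ok c1ac_f2) (c1atn4_t M) (c1ax_act M) (c1ace_act M) (fun _ _ => trivial) c1acc1_ok c1ac_f1) (c1atn5_t M) (c1ax_act M) (c1ace_act M) (fun _ _ => trivial) c1acc0_ok c1ac_f0
theorem c1ac_card {G Ω : Type*} [Group G] [MulAction G Ω] {g : ℕ → G} {pt : ℕ → Ω}
    (M : Md g pt H15.Co3.P 276 7 H15.Co3.B 495766656000) : Nat.card (Subgroup.centralizer {(wds g c1ax_W) 0}) = 190080 :=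
  (c1ac M).card_cent1 M.inj c1ac_c.1
theorem c1ac_eq {G Ω : Type*} [Group G] [MulAction G Ω] {g : ℕ → G} {pt : ℕ → Ω}
    (M : Md g pt H15.Co3.P 276 7 H15.Co3.B 495766656000) : Subgroup.centralizer (gen (wds g c1ax_W) 1) = gen (wds g c1ace_W) 8 ∧ Nat.card (gen (wds g c1ace_W) 8) = 190080 :=
  c1ac_c.1 ▸ c1ac_c.2 ▸ ⟨(c1ac M).cent, (c1ac M).card M.inj⟩
theorem c1w0_act {G Ω : Type*} [Group G] [MulAction G Ω] {g : ℕ → G} {pt : ℕ → Ω}
    (M : Md g pt H15.Co3.P 276 7 H15.Co3.B 495766656000) : Act (wds g c1w0_W) pt c1w0_P 276 2 :=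
  M.wact c1w0_lt
theorem c1y0x_act {G Ω : Type*} [Group G] [MulAction G Ω] {g : ℕ → G} {pt : ℕ → Ω}
    (M : Md g pt H15.Co3.P 276 7 H15.Co3.B 495766656000) : Act (wds g c1y0x_W) pt c1y0x_P 276 1 :=
  M.wact c1y0x_lt
theorem c1y0th_act {G Ω : Type*} [Group G] [MulAction G Ω] {g : ℕ → G} {pt : ℕ → Ω}
    (M : Md g pt H15.Co3.P 276 7 H15.Co3.B 495766656000) : Act (wds g c1y0th_W) pt c1y0th_P 276 18 :=
  M.wact c1y0th_lt
theorem c1y0tl0_e : ∀ i < 275, (dent c1y0tl0 c1y0th_P (nat_lit 276)) i = 0 := allZ_sound0 c1y0tl0_e_0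
theorem c1y0tl0_ok : DOK c1y0tl0 c1y0th_P 276 := ⟨c1y0tl0_h, c1y0tl0_e⟩
theorem c1y0tl1_e : ∀ i < 274, (dent c1y0tl1 c1y0th_P (nat_lit 276)) i = 0 := allZ_sound0 c1y0tl1_e_0
theorem c1y0tl1_ok : DOK c1y0tl1 c1y0th_P 276 := ⟨c1y0tl1_h, c1y0tl1_e⟩
theorem c1y0tl2_e : ∀ i < 161, (dent c1y0tl2 c1y0th_P (nat_lit 276)) i = 0 := allZ_sound0 c1y0tl2_e_0
theorem c1y0tl2_ok : DOK c1y0tl2 c1y0th_P 276 := ⟨c1y0tl2_h, c1y0tl2_e⟩
theorem c1y0tl3_e : ∀ i < 104, (dent c1y0tl3 c1y0th_P (nat_lit 276)) i = 0 := allZ_sound0 c1y0tl3_e_0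
theorem c1y0tl3_ok : DOK c1y0tl3 c1y0th_P 276 := ⟨c1y0tl3_h, c1y0tl3_e⟩
theorem c1y0tl4_e : ∀ i < 63, (dent c1y0tl4 c1y0th_P (nat_lit 276)) i = 0 := allZ_sound0 c1y0tl4_e_0
theorem c1y0tl4_ok : DOK c1y0tl4 c1y0th_P 276 := ⟨c1y0tl4_h, c1y0tl4_e⟩
theorem c1y0tl5_e : ∀ i < 2, (dent c1y0tl5 c1y0th_P (nat_lit 276)) i = 0 := allZ_sound0 c1y0tl5_e_0
theorem c1y0tl5_ok : DOK c1y0tl5 c1y0th_P 276 := ⟨c1y0tl5_h, c1y0tl5_e⟩
theorem c1y0tl6_e : ∀ i < 1, (dent c1y0tl6 c1y0th_P (nat_lit 276)) i = 0 := allZ_sound0 c1y0tl6_e_0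
theorem c1y0tl6_ok : DOK c1y0tl6 c1y0th_P 276 := ⟨c1y0tl6_h, c1y0tl6_e⟩
theorem c1y0t_low {G Ω : Type*} [Group G] [MulAction G Ω] {g : ℕ → G} {pt : ℕ → Ω}
    (M : Md g pt H15.Co3.P 276 7 H15.Co3.B 495766656000) : SLow (gi (wds g c1y0th_W)) pt 276 [c1y0tl0, c1y0tl1, c1y0tl2, c1y0tl3, c1y0tl4, c1y0tl5, c1y0tl6] :=
  (((((((SLow.nil).cons c1y0tl6_ok (c1y0th_act M) c1y0t_f6).cons c1y0tl5_ok (c1y0th_act M) c1y0t_f5).cons c1y0tl4_ok (c1y0th_act M) c1y0t_f4).cons c1y0tl3_ok (c1y0th_act M) c1y0t_f3).cons c1y0tl2_ok (c1y0th_act M) c1y0t_f2).cons c1y0tl1_ok (c1y0th_act M) c1y0t_f1).cons c1y0tl0_ok (c1y0th_act M) c1y0t_f0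
theorem c1y0t_S0 {G Ω : Type*} [Group G] [MulAction G Ω] {g : ℕ → G} {pt : ℕ → Ω}
    (M : Md g pt H15.Co3.P 276 7 H15.Co3.B 495766656000) : Stage ⊤ (wds g c1y0th_W) pt 276 [c1y0tl0, c1y0tl1, c1y0tl2, c1y0tl3, c1y0tl4, c1y0tl5, c1y0tl6] [] :=
  M.stage (c1y0t_low M) c1y0t_c
theorem c1y0t_S1 {G Ω : Type*} [Group G] [MulAction G Ω] {g : ℕ → G} {pt : ℕ → Ω}
    (M : Md g pt H15.Co3.P 276 7 H15.Co3.B 495766656000) : Stage ⊤ (wds g c1y0th_W) pt 276 [c1y0tl1, c1y0tl2, c1y0tl3, c1y0tl4, c1y0tl5, c1y0tl6] [c1y0tl0.Pt 0] :=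
  (c1y0t_S0 M).next
theorem c1y0t_S2 {G Ω : Type*} [Group G] [MulAction G Ω] {g : ℕ → G} {pt : ℕ → Ω}
    (M : Md g pt H15.Co3.P 276 7 H15.Co3.B 495766656000) : Stage ⊤ (wds g c1y0th_W) pt 276 [c1y0tl2, c1y0tl3, c1y0tl4, c1y0tl5, c1y0tl6] [c1y0tl1.Pt 0, c1y0tl0.Pt 0] :=
  (c1y0t_S1 M).next
theorem c1y0t_S3 {G Ω : Type*} [Group G] [MulAction G Ω] {g : ℕ → G} {pt : ℕ → Ω}
    (M : Md g pt H15.Co3.P 276 7 H15.Co3.B 495766656000) : Stage ⊤ (wds g c1y0th_W) pt 276 [c1y0tl3, c1y0tl4, c1y0tl5, c1y0tl6] [c1y0tl2.Pt 0, c1y0tl1.Pt 0, c1y0tl0.Pt 0] :=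
  (c1y0t_S2 M).next
theorem c1y0t_S4 {G Ω : Type*} [Group G] [MulAction G Ω] {g : ℕ → G} {pt : ℕ → Ω}
    (M : Md g pt H15.Co3.P 276 7 H15.Co3.B 495766656000) : Stage ⊤ (wds g c1y0th_W) pt 276 [c1y0tl4, c1y0tl5, c1y0tl6] [c1y0tl3.Pt 0, c1y0tl2.Pt 0, c1y0tl1.Pt 0, c1y0tl0.Pt 0] :=
  (c1y0t_S3 M).next
theorem c1y0t_S5 {G Ω : Type*} [Group G] [MulAction G Ω] {g : ℕ → G} {pt : ℕ → Ω}
    (M : Md g pt H15.Co3.P 276 7 H15.Co3.B 495766656000) : Stage ⊤ (wds g c1y0th_W) pt 276 [c1y0tl5, c1y0tl6] [c1y0tl4.Pt 0, c1y0tl3.Pt 0, c1y0tl2.Pt 0, c1y0tl1.Pt 0, c1y0tl0.Pt 0] :=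
  (c1y0t_S4 M).next
theorem c1y0t_S6 {G Ω : Type*} [Group G] [MulAction G Ω] {g : ℕ → G} {pt : ℕ → Ω}
    (M : Md g pt H15.Co3.P 276 7 H15.Co3.B 495766656000) : Stage ⊤ (wds g c1y0th_W) pt 276 [c1y0tl6] [c1y0tl5.Pt 0, c1y0tl4.Pt 0, c1y0tl3.Pt 0, c1y0tl2.Pt 0, c1y0tl1.Pt 0, c1y0tl0.Pt 0] :=
  (c1y0t_S5 M).next
theorem c1y0t_S7 {G Ω : Type*} [Group G] [MulAction G Ω] {g : ℕ → G} {pt : ℕ → Ω}
    (M : Md g pt H15.Co3.P 276 7 H15.Co3.B 495766656000) : Stage ⊤ (wds g c1y0th_W) pt 276 [] [c1y0tl6.Pt 0, c1y0tl5.Pt 0, c1y0tl4.Pt 0, c1y0tl3.Pt 0, c1y0tl2.Pt 0, c1y0tl1.Pt 0, c1y0tl0.Pt 0] :=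
  (c1y0t_S6 M).next
theorem c1y0ce_act {G Ω : Type*} [Group G] [MulAction G Ω] {g : ℕ → G} {pt : ℕ → Ω}
    (M : Md g pt H15.Co3.P 276 7 H15.Co3.B 495766656000) : Act (wds g c1y0ce_W) pt c1y0ce_P 276 2 :=
  M.wact c1y0ce_lt
theorem c1y0cc6_e : ∀ i < 1, (dent c1y0cc6 c1y0ce_P (nat_lit 276)) i = 0 := allZ_sound0 c1y0cc6_e_0
theorem c1y0cc6_ok : DOK c1y0cc6 c1y0ce_P 276 := ⟨c1y0cc6_h, c1y0cc6_e⟩
theorem c1y0tn0_1 : ∀ i < 2, (c1y0tn0.ent H15.Co3.P c1y0th_P c1y0x_P c1y0x_P c1y0ce_P (nat_lit 7) (nat_lit 1) H15.Co3.B c1y0tl6 [] (memO c1y0cc6)) i = 0 := allZ_sound0 c1y0tn0_1_0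
theorem c1y0tn0_t {G Ω : Type*} [Group G] [MulAction G Ω] {g : ℕ → G} {pt : ℕ → Ω}
    (M : Md g pt H15.Co3.P 276 7 H15.Co3.B 495766656000) : TrO (gen (wds g c1y0th_W) c1y0tl6.K) (wds g c1y0x_W) (wds g c1y0x_W) 1 pt 276 (c1y0tl6.Pt 0) (memO c1y0cc6) :=
  node M (c1y0t_S6 M) (c1y0th_act M) (c1y0x_act M) (c1y0x_act M) c1y0tn0 ((c1y0ce_act M).mono (by decide)) (fun _ _ => trivial) c1y0tn0_0 c1y0tn0_1 (List.forall_mem_nil _)
theorem c1y0cc0_e : ∀ i < 10, (dent c1y0cc0 c1y0ce_P (nat_lit 276)) i = 0 := allZ_sound0 c1y0cc0_e_0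
theorem c1y0cc0_ok : DOK c1y0cc0 c1y0ce_P 276 := ⟨c1y0cc0_h, c1y0cc0_e⟩
theorem c1y0tn1_1 : ∀ i < 276, (c1y0tn1.ent H15.Co3.P c1y0th_P c1y0x_P c1y0x_P c1y0ce_P (nat_lit 7) (nat_lit 1) H15.Co3.B c1y0tl0 [c1y0tl1, c1y0tl2, c1y0tl3, c1y0tl4, c1y0tl5, c1y0tl6] (memO c1y0cc0)) i = 0 := allZ_sound0 c1y0tn1_1_0
theorem c1y0tn1_t {G Ω : Type*} [Group G] [MulAction G Ω] {g : ℕ → G} {pt : ℕ → Ω}
    (M : Md g pt H15.Co3.P 276 7 H15.Co3.B 495766656000) : TrO (gen (wds g c1y0th_W) c1y0tl0.K) (wds g c1y0x_W) (wds g c1y0x_W) 1 pt 276 (c1y0tl0.Pt 0) (memO c1y0cc0) :=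
  node M (c1y0t_S0 M) (c1y0th_act M) (c1y0x_act M) (c1y0x_act M) c1y0tn1 ((c1y0ce_act M).mono (by decide)) (fun _ _ => trivial) c1y0tn1_0 c1y0tn1_1 (List.forall_mem_nil _)
theorem c1y0c {G Ω : Type*} [Group G] [MulAction G Ω] {g : ℕ → G} {pt : ℕ → Ω}
    (M : Md g pt H15.Co3.P 276 7 H15.Co3.B 495766656000) : Cen ⊤ (wds g c1y0x_W) 1 (wds g c1y0ce_W) pt 276 [c1y0cc0, c1y0cc6] :=
  (c1y0t_S0 M).top ▸ Cen.lev M (c1y0t_S0 M) (Cen.triv (c1y0t_S1 M) (Cen.triv (c1y0t_S2 M) (Cen.triv (c1y0t_S3 M) (Cen.triv (c1y0t_S4 M) (Cen.triv (c1y0t_S5 M) (Cen.lev M (c1y0t_S6 M) (Cen.bot) (c1y0tn0_t M) (c1y0x_act M) (c1y0ce_act M) (fun _ _ => trivial) c1y0cc6_ok c1y0c_f6) (forced (c1y0t_S5 M) (c1y0th_act M) (c1y0x_act M) _ _ c1y0c_f5)) (forced (c1y0t_S4 M) (c1y0th_act M) (c1y0x_act M) _ _ c1y0c_f4)) (forced (c1y0t_S3 M) (c1y0th_act M) (c1y0x_act M) _ _ c1y0c_f3)) (forced (c1y0t_S2 M) (c1y0th_act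 M) (c1y0x_act M) _ _ c1y0c_f2)) (forced (c1y0t_S1 M) (c1y0th_act M) (c1y0x_act M) _ _ c1y0c_f1)) (c1y0tn1_t M) (c1y0x_act M) (c1y0ce_act M) (fun _ _ => trivial) c1y0cc0_ok c1y0c_f0
theorem c1y0c_card {G Ω : Type*} [Group G] [MulAction G Ω] {g : ℕ → G} {pt : ℕ → Ω}
    (M : Md g pt H15.Co3.P 276 7 H15.Co3.B 495766656000) : Nat.card (Subgroup.centralizer {(wds g c1y0x_W) 0}) = 22 :=
  (c1y0c M).card_cent1 M.inj c1y0c_c.1
theorem c1y0c_eq {G Ω : Type*} [Group G] [MulAction G Ω] {g : ℕ → G} {pt : ℕ → Ω}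
    (M : Md g pt H15.Co3.P 276 7 H15.Co3.B 495766656000) : Subgroup.centralizer (gen (wds g c1y0x_W) 1) = gen (wds g c1y0ce_W) 2 ∧ Nat.card (gen (wds g c1y0ce_W) 2) = 22 :=
  c1y0c_c.1 ▸ c1y0c_c.2 ▸ ⟨(c1y0c M).cent, (c1y0c M).card M.inj⟩
theorem c1w0p {G Ω : Type*} [Group G] [MulAction G Ω] {g : ℕ → G} {pt : ℕ → Ω}
    (M : Md g pt H15.Co3.P 276 7 H15.Co3.B 495766656000) : (wds g c1w0_W) 0 ^ 2 = 1 :=
  M.pw (c1w0_act M) c1w0p_k
theorem c1w0n {G Ω : Type*} [Group G] [MulAction G Ω] {g : ℕ → G} {pt : ℕ → Ω}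
    (M : Md g pt H15.Co3.P 276 7 H15.Co3.B 495766656000) : (wds g c1w0_W) 1 ^ 2 ≠ 1 :=
  M.npw (c1w0_act M) _ c1w0n_k
theorem c1W0 {G Ω : Type*} [Group G] [MulAction G Ω] {g : ℕ → G} {pt : ℕ → Ω}
    (M : Md g pt H15.Co3.P 276 7 H15.Co3.B 495766656000) : Wit (H27.IC.Ce ((wds g covr_W) 1)) 11 22 :=
  have := M.fin
  wit_w (x := (wds g c1w0_W)) (k := 5) (by norm_num) (M.eq_of (c1w0_act M) c1w0_k) (c1w0p M) (c1w0n M) (c1ac_card M) (by decide +kernel) (c1y0c_card M)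
theorem c1 {G Ω : Type*} [Group G] [MulAction G Ω] {g : ℕ → G} {pt : ℕ → Ω}
    (M : Md g pt H15.Co3.P 276 7 H15.Co3.B 495766656000) : OK (H27.IC.Ce ((wds g covr_W) 1)) :=
  have := M.fin
  ok_num (n := 190080) (ws := []) 7 (c1ac_card M) (c1W0 M) (List.forall_mem_nil _) (by decide +kernel)
theorem both {G Ω : Type*} [Group G] [MulAction G Ω] {g : ℕ → G} {pt : ℕ → Ω}
    (M : Md g pt H15.Co3.P 276 7 H15.Co3.B 495766656000) : Both G :=
  have := M.fin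
  both_reps (wds g covr_W) 2 (fun _ hy => cov M (e := 1) hy hy) fun i hi => match i, hi with
    | 0, _ => c0 M
    | 1, _ => c1 M

theorem spor : Both Cfsg.Spor.Co3 := by
  obtain ⟨_, g, M, -⟩ := md H15.co3Gen
  exact both M

end H15.IC.Co3
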