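import Cfsg.Agent.H15.IC.P
import Cfsg.Agent.H15.Conway2

/-! Generated by tools/h0/tr.py. -/

set_option maxRecDepth 100000
set_option maxHeartbeats 0

namespace H15.IC.HS
open H16 H0.TR
open scoped commutatorElement

noncomputable def p2t_W : List (List ℕ) := [[nat_lit 0, nat_lit 1, nat_lit 0, nat_lit 2, nat_lit 0, nat_lit 1, nat_lit 2, nat_lit 0, nat_lit 3, nat_lit 0, nat_lit 2, nat_lit 1, nat_lit 4, nat_lit 2, nat_lit 0, nat_lit 1, nat_lit 2, nat_lit 4],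
  [nat_lit 3, nat_lit 1, nat_lit 5, nat_lit 1, nat_lit 0, nat_lit 2, nat_lit 3, nat_lit 0, nat_lit 1, nat_lit 2, nat_lit 1, nat_lit 4, nat_lit 2, nat_lit 5, nat_lit 3],
  [nat_lit 0, nat_lit 2, nat_lit 1, nat_lit 0, nat_lit 1, nat_lit 2, nat_lit 4, nat_lit 2, nat_lit 1, nat_lit 3],
  [nat_lit 1, nat_lit 4, nat_lit 1, nat_lit 2, nat_lit 1, nat_lit 0, nat_lit 1, nat_lit 2, nat_lit 0, nat_lit 1, nat_lit 3, nat_lit 4],
  [nat_lit 1, nat_lit 0, nat_lit 1, nat_lit 2, nat_lit 0, nat_lit 1, nat_lit 0, nat_lit 2, nat_lit 3, nat_lit 4, nat_lit 2, nat_lit 0, nat_lit 1, nat_lit 2, nat_lit 0, nat_lit 5, nat_lit 2, nat_lit 3, nat_lit 1, nat_lit 4, nat_lit 2, nat_lit 1, nat_lit 5, nat_lit 2],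
  [nat_lit 1, nat_lit 2, nat_lit 1, nat_lit 0, nat_lit 2, nat_lit 1, nat_lit 3, nat_lit 0, nat_lit 1, nat_lit 0, nat_lit 1, nat_lit 4, nat_lit 5, nat_lit 2, nat_lit 3, nat_lit 1, nat_lit 4, nat_lit 2, nat_lit 1, nat_lit 0, nat_lit 2, nat_lit 5, nat_lit 1],
  [nat_lit 1, nat_lit 2, nat_lit 0, nat_lit 3, nat_lit 0, nat_lit 1, nat_lit 0, nat_lit 2, nat_lit 4, nat_lit 2, nat_lit 0, nat_lit 3, nat_lit 5, nat_lit 2, nat_lit 1, nat_lit 4, nat_lit 2, nat_lit 0, nat_lit 3, nat_lit 2],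
  [nat_lit 0, nat_lit 3, nat_lit 4, nat_lit 0, nat_lit 1, nat_lit 0, nat_lit 2, nat_lit 1, nat_lit 0, nat_lit 1, nat_lit 2, nat_lit 3, nat_lit 1, nat_lit 2, nat_lit 0, nat_lit 5, nat_lit 2, nat_lit 3, nat_lit 1, nat_lit 4, nat_lit 1, nat_lit 5],
  [nat_lit 5, nat_lit 4, nat_lit 2, nat_lit 1, nat_lit 0, nat_lit 1, nat_lit 2, nat_lit 0, nat_lit 1, nat_lit 0, nat_lit 3, nat_lit 5, nat_lit 0, nat_lit 2]]
noncomputable def p2t_P : ℕ → ℕ → ℕ := wdsP H15.HS.P p2t_W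
noncomputable def p2Pd : List ℕ := [nat_lit 0x82f9ebc72e23ba771a2c47f021c268d5b3762c19b24ca13a548a552e5abd62b162488f1c70b1e2a409922874d97326109a407c40a463110d0e182840608080,
  nat_lit 0x1a28ea3445c4153830b0b3c6c49466c98316ed9a351c40c0f268489a247d019890d5254cee2bf74a122d84f6038569d4ae58be3be7919cc10c1c0030804105,
  nat_lit 0x84edcc08b05c3c8cfe1ba7d11ec74c915af3e647136ea56276cb942a4ad16b52a74818623048a468580f108858d6480d1124ccb9c3678b140e182830804100,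
  nat_lit 0x84fe2c4731dc3a8cedebc7d021c13e4cc8e4cad7a46240c20644509a24cc7b046254ac6e30e8a2aa1aad1a58d886c9d52e4ad0b9e16711140c1c2830808080,
  nat_lit 0x1c4c88f20ccf9260650a06460d3170fddc22870b9e82e603c7d15ec3751e24658b8ea31ad94b55a885156ea93b4186cb0916217a44aad4260014382020c206,
  nat_lit 0x56bd3ae58d922968996a86ea92b53850b9e7ee1dc2182ce891054da32c2910d203e0438ccc93143123c564608b082f5d3c72f899f34390190a00302020c207,
  nat_lit 0x76508125431fa5825cd188eb148a32bd313483959f6c745ba630dc9646d60334e8511560357081ef5bbc7ca104669104c536c8f425ae089c02081800a18384,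
  nat_lit 0x6eca2c4447da1556c1ebc486c48e8478e3828fcbbb1a447a78cb942140216be16e4d128e4cb1980a45255e75d2618b082a31058b646d61b306100870c00282,
  nat_lit 0x503dc46108571e5a8213e4e706918a6cabd3ae8b40447d82b78dda0e642524415059997248a187ebd1b5545dda916d98a6270cd2518b239004042070c00283]
noncomputable def p2P (k u : ℕ) : ℕ := Nat.land (Nat.shiftRight (nth (nat_lit 0) p2Pd k) (Nat.mul u (nat_lit 7))) (nat_lit 127)
noncomputable def p2Ed : ℕ := nat_lit 0xc382f5db96ecd8af5a9d2a3427ce9b325498f120c06ed9ab466c972d58ad52950992a446890a03e70d9a325cb1526488901e3868a1220181c57e5c58630280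
noncomputable def p2E (u : ℕ) : ℕ := Nat.land (Nat.shiftRight p2Ed (Nat.mul u (nat_lit 7))) (nat_lit 127)
noncomputable def p2Id : ℕ := nat_lit 0x1e3c60d1624384020c07ef80007af1dba72e1bb60ad5a00660023206018b0000000000000005eb96ac56a800000a54274c9522300890a03e78e9c360001a3260b802c54a0026488901e38682003058a00000801200400
noncomputable def p2I (u : ℕ) : ℕ := Nat.land (Nat.shiftRight p2Id (Nat.mul u (nat_lit 7))) (nat_lit 127)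
noncomputable def p2B : List ℕ := [nat_lit 0, nat_lit 56, nat_lit 8, nat_lit 9, nat_lit 1]
noncomputable def p2C : List (List (List ℕ)) := [[[],
  [],
  [],
  [],
  [],
  [],
  [],
  [],
  []], [[],
  [],
  [],
  [],
  [],
  [],
  [],
  [nat_lit 0],
  []], [[],
  [],
  [nat_lit 0],
  [nat_lit 0],
  [],
  [],
  [nat_lit 1],
  [nat_lit 1],
  [nat_lit 1]], [[],
  [],
  [],
  [],
  [nat_lit 0, nat_lit 1],
  [nat_lit 1],
  [nat_lit 1],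
  [],
  [nat_lit 2]], [[],
  [],
  [],
  [],
  [nat_lit 0, nat_lit 1],
  [],
  [],
  [nat_lit 0, nat_lit 2],
  []], [[],
  [],
  [],
  [],
  [],
  [nat_lit 0, nat_lit 1],
  [nat_lit 0, nat_lit 1],
  [nat_lit 1, nat_lit 2],
  [nat_lit 0, nat_lit 1]], [[],
  [],
  [],
  [],
  [],
  [],
  [],
  [nat_lit 2, nat_lit 3],
  [nat_lit 0, nat_lit 1, nat_lit 5]], [[],
  [],
  [],
  [],
  [],
  [],
  [],
  [nat_lit 3],
  [nat_lit 0, nat_lit 3, nat_lit 4]], [[],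
  [],
  [],
  [],
  [],
  [],
  [],
  [],
  [nat_lit 4]]]
noncomputable def p2e : List (List ℕ) := [[],
  [],
  [],
  [],
  [],
  [],
  [],
  [],
  [],
  [],
  [],
  [],
  [],
  [],
  [],
  [],
  [],
  [],
  [],
  [],
  [],
  [],
  [],
  [],
  [],
  [],
  [],
  [],
  [],
  [],
  [],
  [],
  [],
  [],
  [nat_lit 1, nat_lit 3, nat_lit 5, nat_lit 6, nat_lit 7],
  [nat_lit 0, nat_lit 3],
  [],
  [nat_lit 0],
  [nat_lit 0],
  [nat_lit 2, nat_lit 4, nat_lit 6, nat_lit 7],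
  [nat_lit 2, nat_lit 3, nat_lit 7, nat_lit 8],
  [nat_lit 4, nat_lit 5],
  [nat_lit 0, nat_lit 3],
  [nat_lit 3, nat_lit 7]]
noncomputable def p2l0Dd : ℕ := nat_lit 0x83abd00832a1545600
noncomputable def p2l0D (u : ℕ) : ℕ := Nat.land (Nat.shiftRight p2l0Dd (Nat.mul u (nat_lit 9))) (nat_lit 511)
noncomputable def p2l0Pd : ℕ := nat_lit 0xddd850
noncomputable def p2l0P (u : ℕ) : ℕ := Nat.land (Nat.shiftRight p2l0Pd (Nat.mul u (nat_lit 3))) (nat_lit 7)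
noncomputable def p2l0Qd : ℕ := nat_lit 0xde3a50
noncomputable def p2l0Q (u : ℕ) : ℕ := Nat.land (Nat.shiftRight p2l0Qd (Nat.mul u (nat_lit 3))) (nat_lit 7)
noncomputable def p2l0 : H16.Lev := ⟨8, 44, p2l0D, p2l0P, p2l0Q⟩
noncomputable def p2l1Dd : ℕ := nat_lit 0xf531400
noncomputable def p2l1D (u : ℕ) : ℕ := Nat.land (Nat.shiftRight p2l1Dd (Nat.mul u (nat_lit 7))) (nat_lit 127)
noncomputable def p2l1Pd : ℕ := nat_lit 0x519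
noncomputable def p2l1P (u : ℕ) : ℕ := Nat.land (Nat.shiftRight p2l1Pd (Nat.mul u (nat_lit 3))) (nat_lit 7)
noncomputable def p2l1Qd : ℕ := nat_lit 0x270
noncomputable def p2l1Q (u : ℕ) : ℕ := Nat.land (Nat.shiftRight p2l1Qd (Nat.mul u (nat_lit 2))) (nat_lit 3)
noncomputable def p2l1 : H16.Lev := ⟨4, 41, p2l1D, p2l1P, p2l1Q⟩
noncomputable def p2l2Dd : ℕ := nat_lit 0xc7774f4b27232500
noncomputable def p2l2D (u : ℕ) : ℕ := Nat.land (Nat.shiftRight p2l2Dd (Nat.mul u (nat_lit 8))) (nat_lit 255)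
noncomputable def p2l2Pd : ℕ := nat_lit 0xf715465da8
noncomputable def p2l2P (u : ℕ) : ℕ := Nat.land (Nat.shiftRight p2l2Pd (Nat.mul u (nat_lit 5))) (nat_lit 31)
noncomputable def p2l2Qd : ℕ := nat_lit 0x1c600040400000b140000000
noncomputable def p2l2Q (u : ℕ) : ℕ := Nat.land (Nat.shiftRight p2l2Qd (Nat.mul u (nat_lit 3))) (nat_lit 7)
noncomputable def p2l2 : H16.Lev := ⟨8, 40, p2l2D, p2l2P, p2l2Q⟩
noncomputable def p2l3Dd : ℕ := nat_lit 0x880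
noncomputable def p2l3D (u : ℕ) : ℕ := Nat.land (Nat.shiftRight p2l3Dd (Nat.mul u (nat_lit 6))) (nat_lit 63)
noncomputable def p2l3Pd : ℕ := nat_lit 0x3e
noncomputable def p2l3P (u : ℕ) : ℕ := Nat.land (Nat.shiftRight p2l3Pd (Nat.mul u (nat_lit 3))) (nat_lit 7)
noncomputable def p2l3Qd : ℕ := nat_lit 0x80
noncomputable def p2l3Q (u : ℕ) : ℕ := Nat.land (Nat.shiftRight p2l3Qd (Nat.mul u (nat_lit 1))) (nat_lit 1)
noncomputable def p2l3 : H16.Lev := ⟨2, 35, p2l3D, p2l3P, p2l3Q⟩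
noncomputable def covr_W : List (List ℕ) := [[nat_lit 1, nat_lit 0, nat_lit 2, nat_lit 1, nat_lit 0, nat_lit 1, nat_lit 2, nat_lit 3, nat_lit 1, nat_lit 2, nat_lit 4, nat_lit 2, nat_lit 1, nat_lit 0, nat_lit 2, nat_lit 1, nat_lit 2],
  [nat_lit 0, nat_lit 2, nat_lit 0, nat_lit 1, nat_lit 3, nat_lit 0, nat_lit 2, nat_lit 1, nat_lit 0, nat_lit 1, nat_lit 3, nat_lit 4, nat_lit 2, nat_lit 1, nat_lit 0, nat_lit 5, nat_lit 2, nat_lit 3, nat_lit 1, nat_lit 4, nat_lit 2, nat_lit 1, nat_lit 5, nat_lit 3]]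
noncomputable def covr_P : ℕ → ℕ → ℕ := wdsP H15.HS.P covr_W
noncomputable def covT0 : H0.TR.CT := (.split (.more (.split (.more (.split (.more (.split (.more (.split (.more (.split (.more (.split (.more (.split (.more (.split (.more .one (.more (.leaf (nat_lit 0) []) .one))) (.more (.fuse [nat_lit 7] [] (.leaf (nat_lit 0) [nat_lit 3, nat_lit 0, nat_lit 3, nat_lit 1, nat_lit 3, nat_lit 0, nat_lit 2, nat_lit 1, nat_lit 0, nat_lit 1, nat_lit 2, nat_lit 4, nat_lit 2, nat_lit 0, nat_lit 3, nat_lit 1, nat_lit 2, nat_lit 0, nat_lit 1, nat_lit 5])) .one))) (.more (.fuse [nat_lit 6] [] (.fuse [nat_lit 3] [] (.prune (nat_lit 0) (nat_lit 1) []))) .one))) (.more (.fuse [nat_lit 8] [nat_lit 0] (.fuse [nat_lit 4] [nat_lit 0] (.fuse [nat_lit 2] [] (.leaf (nat_lit 0) [nat_lit 1, nat_lit 0, nat_lit 1, nat_lit 2, nat_lit 0, nat_lit 1, nat_lit 0, nat_lit 3,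 nat_lit 4, nat_lit 2, nat_lit 0, nat_lit 3])))) .one))) (.more (.split (.more (.fuse [nat_lit 7] [nat_lit 0] (.fuse [nat_lit 3] [nat_lit 0] (.prune (nat_lit 1) (nat_lit 1) [nat_lit 0]))) (.more (.fuse [nat_lit 7] [] (.fuse [nat_lit 3] [nat_lit 0] (.fuse [nat_lit 2] [] (.leaf (nat_lit 1) [])))) .one))) .one))) (.more (.split (.more (.split (.more (.fuse [nat_lit 7] [nat_lit 1] (.fuse [nat_lit 3] [] (.prune (nat_lit 1) (nat_lit 1) [nat_lit 0]))) (.more (.fuse [nat_lit 7] [nat_lit 0, nat_lit 1] (.fuse [nat_lit 3] [] (.fuse [nat_lit 2] [] (.prune (nat_lit 0) (nat_lit 1) [])))) .one))) (.more (.split (.more (.split (.more (.fuse [nat_lit 6] [nat_lit 0] (.fuse [nat_lit 3] [] (.leaf (nat_lit 0) [nat_lit 0, nat_lit 1, nat_lit 0, nat_lit 2, nat_lit 1, nat_lit 0, nat_lit 1, nat_lit 2, nat_lit 4, nat_lit 2, nat_lit 0]))) (.more (.split (.more (.fuse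 [nat_lit 6] [] (.prune (nat_lit 0) (nat_lit 1) [])) (.more (.fuse [nat_lit 6] [] (.prune (nat_lit 0) (nat_lit 1) [])) .one))) .one))) (.more (.fuse [nat_lit 8] [nat_lit 1] (.fuse [nat_lit 4] [nat_lit 0] (.fuse [nat_lit 2] [] (.prune (nat_lit 0) (nat_lit 1) [])))) .one))) .one))) .one))) (.more (.fuse [nat_lit 8] [] (.split (.more (.fuse [nat_lit 7] [nat_lit 2] (.split (.more (.fuse [nat_lit 2] [] (.fuse [nat_lit 2, nat_lit 5] [] (.leaf (nat_lit 1) [nat_lit 2, nat_lit 0, nat_lit 1, nat_lit 0, nat_lit 2, nat_lit 1, nat_lit 0, nat_lit 3, nat_lit 1, nat_lit 0, nat_lit 2, nat_lit 4, nat_lit 2, nat_lit 0, nat_lit 5, nat_lit 0, nat_lit 1]))) (.more (.fuse [nat_lit 2] [] (.prune (nat_lit 1) (nat_lit 1) [nat_lit 0])) .one)))) (.more (.fuse [nat_lit 7] [nat_lit 0, nat_lit 1] (.split (.more (.fuse [nat_lit 2] [] (.prune (nat_lit 1) (nat_lit 1) [nat_lit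 0])) (.more (.fuse [nat_lit 2] [] (.fuse [nat_lit 2, nat_lit 5] [] (.leaf (nat_lit 0) [nat_lit 1, nat_lit 0, nat_lit 2, nat_lit 1, nat_lit 0, nat_lit 1, nat_lit 2, nat_lit 1, nat_lit 3, nat_lit 1, nat_lit 0, nat_lit 4, nat_lit 2, nat_lit 5, nat_lit 0, nat_lit 3]))) .one)))) .one)))) .one))) (.more (.split (.more (.split (.more (.fuse [nat_lit 8] [nat_lit 0, nat_lit 1, nat_lit 2, nat_lit 3] (.fuse [nat_lit 6] [nat_lit 0, nat_lit 1, nat_lit 2] (.prune (nat_lit 3) (nat_lit 1) []))) (.more (.fuse [nat_lit 8] [nat_lit 1, nat_lit 2, nat_lit 3] (.fuse [nat_lit 6] [nat_lit 1, nat_lit 2] (.prune (nat_lit 3) (nat_lit 1) [nat_lit 1, nat_lit 2]))) .one))) (.more (.fuse [nat_lit 8] [nat_lit 0, nat_lit 2, nat_lit 3, nat_lit 4] (.split (.more (.fuse [nat_lit 6] [nat_lit 0, nat_lit 1, nat_lit 2] (.fuse [nat_lit 4] [nat_lit 0] (.prune (nat_lit 2) (nat_lit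 1) [nat_lit 0, nat_lit 1]))) (.more (.fuse [nat_lit 6] [nat_lit 2] (.fuse [nat_lit 4] [nat_lit 0] (.split (.more (.fuse [nat_lit 1] [] (.leaf (nat_lit 0) [nat_lit 2, nat_lit 0, nat_lit 1, nat_lit 2, nat_lit 1, nat_lit 0, nat_lit 1, nat_lit 2, nat_lit 1, nat_lit 0, nat_lit 4, nat_lit 2, nat_lit 0, nat_lit 1, nat_lit 2])) (.more (.fuse [nat_lit 1] [] (.prune (nat_lit 0) (nat_lit 1) [])) .one))))) .one)))) .one))) .one))) (.more (.split (.more (.split (.more (.fuse [nat_lit 6] [nat_lit 0, nat_lit 1] (.fuse [nat_lit 7] [nat_lit 0, nat_lit 1, nat_lit 2, nat_lit 3] (.prune (nat_lit 4) (nat_lit 1) []))) (.more (.fuse [nat_lit 6] [] (.prune (nat_lit 5) (nat_lit 1) [nat_lit 0, nat_lit 1, nat_lit 4])) .one))) (.more (.split (.more (.fuse [nat_lit 6] [nat_lit 3] (.fuse [nat_lit 7] [nat_lit 1, nat_lit 3] (.split (.more (.fuse [nat_lit 3] [nat_lit 0] (.prune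 (nat_lit 2) (nat_lit 1) [nat_lit 0])) (.more (.fuse [nat_lit 3] [] (.split (.more (.fuse [nat_lit 1] [] (.prune (nat_lit 0) (nat_lit 1) [])) (.more (.fuse [nat_lit 1] [] (.leaf (nat_lit 1) [nat_lit 1, nat_lit 0, nat_lit 2, nat_lit 0, nat_lit 3, nat_lit 5, nat_lit 0])) .one)))) .one))))) (.more (.fuse [nat_lit 6] [nat_lit 0, nat_lit 3] (.prune (nat_lit 5) (nat_lit 1) [nat_lit 2, nat_lit 3])) .one))) .one))) .one)))
noncomputable def c0ax_W : List (List ℕ) := [[nat_lit 1, nat_lit 0, nat_lit 2, nat_lit 1, nat_lit 0, nat_lit 1, nat_lit 2, nat_lit 3, nat_lit 1, nat_lit 2, nat_lit 4, nat_lit 2, nat_lit 1, nat_lit 0, nat_lit 2, nat_lit 1, nat_lit 2]]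
noncomputable def c0ax_P : ℕ → ℕ → ℕ := wdsP H15.HS.P c0ax_W
noncomputable def c0ath_W : List (List ℕ) := [[nat_lit 2, nat_lit 1, nat_lit 0, nat_lit 1, nat_lit 2, nat_lit 3, nat_lit 0, nat_lit 1],
  [nat_lit 1, nat_lit 0, nat_lit 1, nat_lit 2, nat_lit 0, nat_lit 1, nat_lit 3, nat_lit 0, nat_lit 2, nat_lit 1],
  [nat_lit 3, nat_lit 0, nat_lit 1],
  [nat_lit 2, nat_lit 0, nat_lit 1, nat_lit 2, nat_lit 3, nat_lit 1, nat_lit 0, nat_lit 2],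
  [nat_lit 0, nat_lit 1, nat_lit 0, nat_lit 2, nat_lit 1, nat_lit 0, nat_lit 2, nat_lit 3, nat_lit 0, nat_lit 1, nat_lit 0, nat_lit 2],
  [nat_lit 0],
  [nat_lit 1],
  [nat_lit 2],
  [nat_lit 3],
  [nat_lit 4],
  [nat_lit 5],
  [nat_lit 5, nat_lit 0, nat_lit 1, nat_lit 3, nat_lit 1, nat_lit 0, nat_lit 1, nat_lit 2, nat_lit 0, nat_lit 1, nat_lit 5, nat_lit 2, nat_lit 3, nat_lit 4, nat_lit 1, nat_lit 2, nat_lit 0, nat_lit 1, nat_lit 5, nat_lit 2]]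
noncomputable def c0ath_P : ℕ → ℕ → ℕ := wdsP H15.HS.P c0ath_W
noncomputable def c0atl0Dd : ℕ := nat_lit 0x942e11e33e97bad19e2b8062cde9732da712a49432564948f91321a532998b4a223a4718afa4246c878ba21228e79ce119f2cc64c8a8fd39a704cf1652165909c16f2c65889015e228420a581727c3e4938e123643c3691a17a1bc8b0b114a234360571021a43f0720dc144228660c4194278250841280c8300480601682c0540980681402604405000
noncomputable def c0atl0D (u : ℕ) : ℕ := Nat.land (Nat.shiftRight c0atl0Dd (Nat.mul u (nat_lit 11))) (nat_lit 2047)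
noncomputable def c0atl0Pd : ℕ := nat_lit 0x9d7b159b556fe0a9731dba75abcfa1768e1369009da560b1a210818f28cd0116cb10bc80542874f154b090d1a8675125394465c0d973559898ec5b150fd18a26b44468294626867c70964a8b92080972f3cf63be92dce00
noncomputable def c0atl0P (u : ℕ) : ℕ := Nat.land (Nat.shiftRight c0atl0Pd (Nat.mul u (nat_lit 7))) (nat_lit 127)
noncomputable def c0atl0Qd : ℕ := nat_lit 0xb38685cbb8a95ab17f04aab5af5baf2e8d3a98d3234eb41b30a61b2e2718bbb3c1033c44bd62904fd8b2843d0341024d3e4a39a9f6e50b4e3aadec1241e6019f215241b25d4336320478845415427081970c1c8b8a2a680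
noncomputable def c0atl0Q (u : ℕ) : ℕ := Nat.land (Nat.shiftRight c0atl0Qd (Nat.mul u (nat_lit 7))) (nat_lit 127)
noncomputable def c0atl0 : H16.Lev := ⟨100, 12, c0atl0D, c0atl0P, c0atl0Q⟩
noncomputable def c0atl1Dd : ℕ := nat_lit 0xa2525541272d260e25142420231a160b190d0a110900
noncomputable def c0atl1D (u : ℕ) : ℕ := Nat.land (Nat.shiftRight c0atl1Dd (Nat.mul u (nat_lit 8))) (nat_lit 255)
noncomputable def c0atl1Pd : ℕ := nat_lit 0x2c57bf4eb5da353055b73ece1c74ae5aa18af4e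
noncomputable def c0atl1P (u : ℕ) : ℕ := Nat.land (Nat.shiftRight c0atl1Pd (Nat.mul u (nat_lit 7))) (nat_lit 127)
noncomputable def c0atl1Qd : ℕ := nat_lit 0x3890d9860559135a458e919e35000000000000000000000000000000000000000000000000000000000000000000000000000000000000000000000000000
noncomputable def c0atl1Q (u : ℕ) : ℕ := Nat.land (Nat.shiftRight c0atl1Qd (Nat.mul u (nat_lit 5))) (nat_lit 31)
noncomputable def c0atl1 : H16.Lev := ⟨22, 10, c0atl1D, c0atl1P, c0atl1Q⟩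
noncomputable def c0atl2Dd : ℕ := nat_lit 0x71c162f937028612128d3213274a080e18280
noncomputable def c0atl2D (u : ℕ) : ℕ := Nat.land (Nat.shiftRight c0atl2Dd (Nat.mul u (nat_lit 7))) (nat_lit 127)
noncomputable def c0atl2Pd : ℕ := nat_lit 0x53b962edeab8abd2c36a8e3c17e7d9a942b5b
noncomputable def c0atl2P (u : ℕ) : ℕ := Nat.land (Nat.shiftRight c0atl2Pd (Nat.mul u (nat_lit 7))) (nat_lit 127)
noncomputable def c0atl2Qd : ℕ := nat_lit 0x439673423302892685e3a31222800000000000000000000000000000000000000000000000000000000000000000000000000000000000000000000000000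
noncomputable def c0atl2Q (u : ℕ) : ℕ := Nat.land (Nat.shiftRight c0atl2Qd (Nat.mul u (nat_lit 5))) (nat_lit 31)
noncomputable def c0atl2 : H16.Lev := ⟨21, 9, c0atl2D, c0atl2P, c0atl2Q⟩
noncomputable def c0atl3Dd : ℕ := nat_lit 0x1162080
noncomputable def c0atl3D (u : ℕ) : ℕ := Nat.land (Nat.shiftRight c0atl3Dd (Nat.mul u (nat_lit 5))) (nat_lit 31)
noncomputable def c0atl3Pd : ℕ := nat_lit 0x435e78508
noncomputable def c0atl3P (u : ℕ) : ℕ := Nat.land (Nat.shiftRight c0atl3Pd (Nat.mul u (nat_lit 7))) (nat_lit 127)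
noncomputable def c0atl3Qd : ℕ := nat_lit 0x800000000000000600000000000080000000000000040000000
noncomputable def c0atl3Q (u : ℕ) : ℕ := Nat.land (Nat.shiftRight c0atl3Qd (Nat.mul u (nat_lit 3))) (nat_lit 7)
noncomputable def c0atl3 : H16.Lev := ⟨5, 5, c0atl3D, c0atl3P, c0atl3Q⟩
noncomputable def c0atl4Dd : ℕ := nat_lit 0xa630
noncomputable def c0atl4D (u : ℕ) : ℕ := Nat.land (Nat.shiftRight c0atl4Dd (Nat.mul u (nat_lit 4))) (nat_lit 15)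
noncomputable def c0atl4Pd : ℕ := nat_lit 0x86bcf0a
noncomputable def c0atl4P (u : ℕ) : ℕ := Nat.land (Nat.shiftRight c0atl4Pd (Nat.mul u (nat_lit 7))) (nat_lit 127)
noncomputable def c0atl4Qd : ℕ := nat_lit 0xc000000000800000001000000000000000
noncomputable def c0atl4Q (u : ℕ) : ℕ := Nat.land (Nat.shiftRight c0atl4Qd (Nat.mul u (nat_lit 2))) (nat_lit 3)
noncomputable def c0atl4 : H16.Lev := ⟨4, 4, c0atl4D, c0atl4P, c0atl4Q⟩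
noncomputable def c0atl5Dd : ℕ := nat_lit 0x750
noncomputable def c0atl5D (u : ℕ) : ℕ := Nat.land (Nat.shiftRight c0atl5Dd (Nat.mul u (nat_lit 3))) (nat_lit 7)
noncomputable def c0atl5Pd : ℕ := nat_lit 0xbd4294f
noncomputable def c0atl5P (u : ℕ) : ℕ := Nat.land (Nat.shiftRight c0atl5Pd (Nat.mul u (nat_lit 7))) (nat_lit 127)
noncomputable def c0atl5Qd : ℕ := nat_lit 0x300000120000000000000000000000000000000000000000
noncomputable def c0atl5Q (u : ℕ) : ℕ := Nat.land (Nat.shiftRight c0atl5Qd (Nat.mul u (nat_lit 2))) (nat_lit 3)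
noncomputable def c0atl5 : H16.Lev := ⟨4, 3, c0atl5D, c0atl5P, c0atl5Q⟩
noncomputable def c0atl6Dd : ℕ := nat_lit 0x888
noncomputable def c0atl6D (u : ℕ) : ℕ := Nat.land (Nat.shiftRight c0atl6Dd (Nat.mul u (nat_lit 3))) (nat_lit 7)
noncomputable def c0atl6Pd : ℕ := nat_lit 0xbb629dc
noncomputable def c0atl6P (u : ℕ) : ℕ := Nat.land (Nat.shiftRight c0atl6Pd (Nat.mul u (nat_lit 7))) (nat_lit 127)
noncomputable def c0atl6Qd : ℕ := nat_lit 0xc0200400000000000000000000000000000000000000000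
noncomputable def c0atl6Q (u : ℕ) : ℕ := Nat.land (Nat.shiftRight c0atl6Qd (Nat.mul u (nat_lit 2))) (nat_lit 3)
noncomputable def c0atl6 : H16.Lev := ⟨4, 2, c0atl6D, c0atl6P, c0atl6Q⟩
noncomputable def c0atl7Dd : ℕ := nat_lit 4
noncomputable def c0atl7D (u : ℕ) : ℕ := Nat.land (Nat.shiftRight c0atl7Dd (Nat.mul u (nat_lit 1))) (nat_lit 1)
noncomputable def c0atl7Pd : ℕ := nat_lit 0x20641
noncomputable def c0atl7P (u : ℕ) : ℕ := Nat.land (Nat.shiftRight c0atl7Pd (Nat.mul u (nat_lit 6))) (nat_lit 63)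
noncomputable def c0atl7Qd : ℕ := nat_lit 0x20004000000000000
noncomputable def c0atl7Q (u : ℕ) : ℕ := Nat.land (Nat.shiftRight c0atl7Qd (Nat.mul u (nat_lit 2))) (nat_lit 3)
noncomputable def c0atl7 : H16.Lev := ⟨3, 1, c0atl7D, c0atl7P, c0atl7Q⟩
noncomputable def c0ace_W : List (List ℕ) := [[nat_lit 1, nat_lit 0, nat_lit 2, nat_lit 3, nat_lit 1, nat_lit 0, nat_lit 1, nat_lit 2],
  [nat_lit 2, nat_lit 1, nat_lit 0, nat_lit 1, nat_lit 2],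
  [nat_lit 3, nat_lit 1, nat_lit 2, nat_lit 0, nat_lit 1, nat_lit 0, nat_lit 2, nat_lit 0, nat_lit 3],
  [nat_lit 0, nat_lit 1, nat_lit 2, nat_lit 0, nat_lit 1, nat_lit 3, nat_lit 0, nat_lit 2, nat_lit 1, nat_lit 3, nat_lit 0, nat_lit 4],
  [nat_lit 2, nat_lit 1, nat_lit 3, nat_lit 0, nat_lit 2, nat_lit 4, nat_lit 2, nat_lit 0, nat_lit 5, nat_lit 2, nat_lit 3, nat_lit 1, nat_lit 0, nat_lit 3]]
noncomputable def c0ace_P : ℕ → ℕ → ℕ := wdsP H15.HS.P c0ace_W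
noncomputable def c0acc7Dd : ℕ := nat_lit 4
noncomputable def c0acc7D (u : ℕ) : ℕ := Nat.land (Nat.shiftRight c0acc7Dd (Nat.mul u (nat_lit 1))) (nat_lit 1)
noncomputable def c0acc7Pd : ℕ := nat_lit 0x19801
noncomputable def c0acc7P (u : ℕ) : ℕ := Nat.land (Nat.shiftRight c0acc7Pd (Nat.mul u (nat_lit 6))) (nat_lit 63)
noncomputable def c0acc7Qd : ℕ := nat_lit 0x10008000000000000
noncomputable def c0acc7Q (u : ℕ) : ℕ := Nat.land (Nat.shiftRight c0acc7Qd (Nat.mul u (nat_lit 2))) (nat_lit 3)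
noncomputable def c0acc7 : H16.Lev := ⟨3, 1, c0acc7D, c0acc7P, c0acc7Q⟩
noncomputable def c0atn0Fd : ℕ := nat_lit 0
noncomputable def c0atn0F (u : ℕ) : ℕ := Nat.land (Nat.shiftRight c0atn0Fd (Nat.mul u (nat_lit 1))) (nat_lit 1)
noncomputable def c0atn0 : Nd := ⟨c0atn0F, (nat_lit 2), (nat_lit 1), [], [((nat_lit 0), [])], []⟩
noncomputable def c0acc5Dd : ℕ := nat_lit 0xa88
noncomputable def c0acc5D (u : ℕ) : ℕ := Nat.land (Nat.shiftRight c0acc5Dd (Nat.mul u (nat_lit 3))) (nat_lit 7)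
noncomputable def c0acc5Pd : ℕ := nat_lit 0xbd4294f
noncomputable def c0acc5P (u : ℕ) : ℕ := Nat.land (Nat.shiftRight c0acc5Pd (Nat.mul u (nat_lit 7))) (nat_lit 127)
noncomputable def c0acc5Qd : ℕ := nat_lit 0x300000120000000000000000000000000000000000000000
noncomputable def c0acc5Q (u : ℕ) : ℕ := Nat.land (Nat.shiftRight c0acc5Qd (Nat.mul u (nat_lit 2))) (nat_lit 3)
noncomputable def c0acc5 : H16.Lev := ⟨4, 2, c0acc5D, c0acc5P, c0acc5Q⟩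
noncomputable def c0atn1Fd : ℕ := nat_lit 0
noncomputable def c0atn1F (u : ℕ) : ℕ := Nat.land (Nat.shiftRight c0atn1Fd (Nat.mul u (nat_lit 1))) (nat_lit 1)
noncomputable def c0atn1 : Nd := ⟨c0atn1F, (nat_lit 2), (nat_lit 2), [], [((nat_lit 0), [])], []⟩
noncomputable def c0acc3Dd : ℕ := nat_lit 8
noncomputable def c0acc3D (u : ℕ) : ℕ := Nat.land (Nat.shiftRight c0acc3Dd (Nat.mul u (nat_lit 2))) (nat_lit 3)
noncomputable def c0acc3Pd : ℕ := nat_lit 0xa8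
noncomputable def c0acc3P (u : ℕ) : ℕ := Nat.land (Nat.shiftRight c0acc3Pd (Nat.mul u (nat_lit 4))) (nat_lit 15)
noncomputable def c0acc3Qd : ℕ := nat_lit 0x400
noncomputable def c0acc3Q (u : ℕ) : ℕ := Nat.land (Nat.shiftRight c0acc3Qd (Nat.mul u (nat_lit 1))) (nat_lit 1)
noncomputable def c0acc3 : H16.Lev := ⟨2, 3, c0acc3D, c0acc3P, c0acc3Q⟩
noncomputable def c0atn2Fd : ℕ := nat_lit 0x3a40
noncomputable def c0atn2F (u : ℕ) : ℕ := Nat.land (Nat.shiftRight c0atn2Fd (Nat.mul u (nat_lit 3))) (nat_lit 7)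
noncomputable def c0atn2 : Nd := ⟨c0atn2F, (nat_lit 3), (nat_lit 3), [[nat_lit 0]], [((nat_lit 0), [])], []⟩
noncomputable def c0acc1Dd : ℕ := nat_lit 0xfc9f98562b6a90731460
noncomputable def c0acc1D (u : ℕ) : ℕ := Nat.land (Nat.shiftRight c0acc1Dd (Nat.mul u (nat_lit 5))) (nat_lit 31)
noncomputable def c0acc1Pd : ℕ := nat_lit 0xb74705dad7acd7a772861b14a7ce
noncomputable def c0acc1P (u : ℕ) : ℕ := Nat.land (Nat.shiftRight c0acc1Pd (Nat.mul u (nat_lit 7))) (nat_lit 127)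
noncomputable def c0acc1Qd : ℕ := nat_lit 0x4d0ac6f0938b0072e510000000000000000000000000000000000000000000000000000000000000000000000000000000
noncomputable def c0acc1Q (u : ℕ) : ℕ := Nat.land (Nat.shiftRight c0acc1Qd (Nat.mul u (nat_lit 4))) (nat_lit 15)
noncomputable def c0acc1 : H16.Lev := ⟨16, 4, c0acc1D, c0acc1P, c0acc1Q⟩
noncomputable def c0atn3Fd : ℕ := nat_lit 0xa0000908000070040100
noncomputable def c0atn3F (u : ℕ) : ℕ := Nat.land (Nat.shiftRight c0atn3Fd (Nat.mul u (nat_lit 4))) (nat_lit 15)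
noncomputable def c0atn3 : Nd := ⟨c0atn3F, (nat_lit 4), (nat_lit 4), [[nat_lit 0]], [((nat_lit 0), [])], []⟩
noncomputable def c0acc0Dd : ℕ := nat_lit 0x9b2203b6c9cc1c2e78a0e1a405091014200
noncomputable def c0acc0D (u : ℕ) : ℕ := Nat.land (Nat.shiftRight c0acc0Dd (Nat.mul u (nat_lit 7))) (nat_lit 127)
noncomputable def c0acc0Pd : ℕ := nat_lit 0xc57eae3a96a58518c5c1460f21c57e79780
noncomputable def c0acc0P (u : ℕ) : ℕ := Nat.land (Nat.shiftRight c0acc0Pd (Nat.mul u (nat_lit 7))) (nat_lit 127)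
noncomputable def c0acc0Qd : ℕ := nat_lit 0x84c0090000038000022f00000000006800000080280001800600009000000014708000000000000000000008000000000008000000000b000000018000000
noncomputable def c0acc0Q (u : ℕ) : ℕ := Nat.land (Nat.shiftRight c0acc0Qd (Nat.mul u (nat_lit 5))) (nat_lit 31)
noncomputable def c0acc0 : H16.Lev := ⟨20, 5, c0acc0D, c0acc0P, c0acc0Q⟩
noncomputable def c0atn4Fd : ℕ := nat_lit 0xe6018000180601cc76f3c6b77845f59e1dabc63005aaf9ce0074016681a0d6612adef29341704ab485660a82b2b36729b8090550b641e62c30002d6a54020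
noncomputable def c0atn4F (u : ℕ) : ℕ := Nat.land (Nat.shiftRight c0atn4Fd (Nat.mul u (nat_lit 5))) (nat_lit 31)
noncomputable def c0atn4 : Nd := ⟨c0atn4F, (nat_lit 5), (nat_lit 5), [[nat_lit 0]], [((nat_lit 0), [])], []⟩
noncomputable def c0w0_W : List (List ℕ) := [[nat_lit 1, nat_lit 0, nat_lit 2, nat_lit 1, nat_lit 0, nat_lit 1, nat_lit 2, nat_lit 3, nat_lit 1, nat_lit 2, nat_lit 4, nat_lit 2, nat_lit 1, nat_lit 0, nat_lit 2, nat_lit 1, nat_lit 2],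
  [nat_lit 4, nat_lit 2, nat_lit 1, nat_lit 0, nat_lit 2, nat_lit 1, nat_lit 3, nat_lit 0, nat_lit 2, nat_lit 1, nat_lit 5, nat_lit 2, nat_lit 3, nat_lit 1, nat_lit 4, nat_lit 2, nat_lit 5, nat_lit 3, nat_lit 0]]
noncomputable def c0w0_P : ℕ → ℕ → ℕ := wdsP H15.HS.P c0w0_W
noncomputable def c0y0x_W : List (List ℕ) := [[nat_lit 4, nat_lit 2, nat_lit 1, nat_lit 0, nat_lit 2, nat_lit 1, nat_lit 3, nat_lit 0, nat_lit 2, nat_lit 1, nat_lit 5, nat_lit 2, nat_lit 3, nat_lit 1, nat_lit 4, nat_lit 2, nat_lit 5, nat_lit 3, nat_lit 0]]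
noncomputable def c0y0x_P : ℕ → ℕ → ℕ := wdsP H15.HS.P c0y0x_W
noncomputable def c0y0th_W : List (List ℕ) := [[nat_lit 4, nat_lit 2, nat_lit 1, nat_lit 3, nat_lit 0, nat_lit 1, nat_lit 0, nat_lit 1, nat_lit 2, nat_lit 3, nat_lit 4],
  [nat_lit 5, nat_lit 0, nat_lit 2, nat_lit 0, nat_lit 1, nat_lit 0, nat_lit 1, nat_lit 4, nat_lit 2, nat_lit 0, nat_lit 5],
  [nat_lit 0, nat_lit 2, nat_lit 5, nat_lit 0, nat_lit 2, nat_lit 0, nat_lit 1, nat_lit 5, nat_lit 2],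
  [nat_lit 3, nat_lit 0, nat_lit 1, nat_lit 0, nat_lit 1, nat_lit 2, nat_lit 3, nat_lit 4, nat_lit 2, nat_lit 1],
  [nat_lit 3],
  [nat_lit 4],
  [nat_lit 0],
  [nat_lit 1],
  [nat_lit 2],
  [nat_lit 5],
  [nat_lit 2, nat_lit 3, nat_lit 1, nat_lit 3, nat_lit 1, nat_lit 4, nat_lit 5, nat_lit 2, nat_lit 1, nat_lit 4, nat_lit 1, nat_lit 2, nat_lit 3, nat_lit 0, nat_lit 5]]
noncomputable def c0y0th_P : ℕ → ℕ → ℕ := wdsP H15.HS.P c0y0th_W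
noncomputable def c0y0tl0Dd : ℕ := nat_lit 0x7a701db1b8d6b0e8190b16616bd5750786e8a4943a50572ab9269b63562a1411d51a2905362613d46d05da4014a8503d1e827a4c8b31102764c03713a25e3e46704e29e4e4768382863dc5b8ac12e108910a11ec2ac2208a1522504482f0ac1a83a0550581a43985f0a80881f86809214c2405202e11c288160760cc070310160780681302203c04800
noncomputable def c0y0tl0D (u : ℕ) : ℕ := Nat.land (Nat.shiftRight c0y0tl0Dd (Nat.mul u (nat_lit 11))) (nat_lit 2047)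
noncomputable def c0y0tl0Pd : ℕ := nat_lit 0x9d7aedfc77315bb386adaa15aa57a580b519ee90a4363ca017874339071119aa7624388a803852a9d4908f344407ad8bc268cd8a294d5928770c14b4a3092c57320c61ac15044c64f8e22b4c131479fae16bc4c96ef8e00
noncomputable def c0y0tl0P (u : ℕ) : ℕ := Nat.land (Nat.shiftRight c0y0tl0Pd (Nat.mul u (nat_lit 7))) (nat_lit 127)
noncomputable def c0y0tl0Qd : ℕ := nat_lit 0xbf76d52c18b0deb962dbea95acd57f4e8579f8d91a409c23d6661dc244b0cb012097c7473a23c06b932b54954960c2071c3655aa46c4cfcc82a26ba222a301970090d5b45bc918747b49440b9e0e2c2b17315c148686400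
noncomputable def c0y0tl0Q (u : ℕ) : ℕ := Nat.land (Nat.shiftRight c0y0tl0Qd (Nat.mul u (nat_lit 7))) (nat_lit 127)
noncomputable def c0y0tl0 : H16.Lev := ⟨100, 11, c0y0tl0D, c0y0tl0P, c0y0tl0Q⟩
noncomputable def c0y0tl1Dd : ℕ := nat_lit 0x977b413872134634090b433a2b201810170d08070600
noncomputable def c0y0tl1D (u : ℕ) : ℕ := Nat.land (Nat.shiftRight c0y0tl1Dd (Nat.mul u (nat_lit 8))) (nat_lit 255)
noncomputable def c0y0tl1Pd : ℕ := nat_lit 0x27d6a746852c156dd9c752c4ebf6aed7bd86e62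
noncomputable def c0y0tl1P (u : ℕ) : ℕ := Nat.land (Nat.shiftRight c0y0tl1Pd (Nat.mul u (nat_lit 7))) (nat_lit 127)
noncomputable def c0y0tl1Qd : ℕ := nat_lit 0x5804f38ca169989251ca9c251aa00000000000000000000000000000000000000000000000000000000000000000000000000000000000000000000000000
noncomputable def c0y0tl1Q (u : ℕ) : ℕ := Nat.land (Nat.shiftRight c0y0tl1Qd (Nat.mul u (nat_lit 5))) (nat_lit 31)
noncomputable def c0y0tl1 : H16.Lev := ⟨22, 9, c0y0tl1D, c0y0tl1P, c0y0tl1Q⟩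
noncomputable def c0y0tl2Dd : ℕ := nat_lit 0x61437e9bb74a54123a3c689181c7081614200
noncomputable def c0y0tl2D (u : ℕ) : ℕ := Nat.land (Nat.shiftRight c0y0tl2Dd (Nat.mul u (nat_lit 7))) (nat_lit 127)
noncomputable def c0y0tl2Pd : ℕ := nat_lit 0x3757296306ad26a992cdb2d96e17ae64aa631
noncomputable def c0y0tl2P (u : ℕ) : ℕ := Nat.land (Nat.shiftRight c0y0tl2Pd (Nat.mul u (nat_lit 7))) (nat_lit 127)
noncomputable def c0y0tl2Qd : ℕ := nat_lit 0x1a13c96000000000000000000006a25ee50c10291119898000000000000000000000000000000000000000000000000000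
noncomputable def c0y0tl2Q (u : ℕ) : ℕ := Nat.land (Nat.shiftRight c0y0tl2Qd (Nat.mul u (nat_lit 5))) (nat_lit 31)
noncomputable def c0y0tl2 : H16.Lev := ⟨21, 6, c0y0tl2D, c0y0tl2P, c0y0tl2Q⟩
noncomputable def c0y0tl3Dd : ℕ := nat_lit 0xaa089869644f30e24a1460c0
noncomputable def c0y0tl3D (u : ℕ) : ℕ := Nat.land (Nat.shiftRight c0y0tl3Dd (Nat.mul u (nat_lit 6))) (nat_lit 63)
noncomputable def c0y0tl3Pd : ℕ := nat_lit 0xef50862f20f27087e2bb86e4b14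
noncomputable def c0y0tl3P (u : ℕ) : ℕ := Nat.land (Nat.shiftRight c0y0tl3Pd (Nat.mul u (nat_lit 7))) (nat_lit 127)
noncomputable def c0y0tl3Qd : ℕ := nat_lit 0xa0050300000e040200000000000000000800000d069000000b100000000000000fc070000
noncomputable def c0y0tl3Q (u : ℕ) : ℕ := Nat.land (Nat.shiftRight c0y0tl3Qd (Nat.mul u (nat_lit 4))) (nat_lit 15)
noncomputable def c0y0tl3 : H16.Lev := ⟨16, 4, c0y0tl3D, c0y0tl3P, c0y0tl3Q⟩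
noncomputable def c0y0tl4Dd : ℕ := nat_lit 0x3c750
noncomputable def c0y0tl4D (u : ℕ) : ℕ := Nat.land (Nat.shiftRight c0y0tl4Dd (Nat.mul u (nat_lit 3))) (nat_lit 7)
noncomputable def c0y0tl4Pd : ℕ := nat_lit 0x2bd6c1528da
noncomputable def c0y0tl4P (u : ℕ) : ℕ := Nat.land (Nat.shiftRight c0y0tl4Pd (Nat.mul u (nat_lit 7))) (nat_lit 127)
noncomputable def c0y0tl4Qd : ℕ := nat_lit 0x3000000b02008000000000000000000000000000000000000000000000000000000000000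
noncomputable def c0y0tl4Q (u : ℕ) : ℕ := Nat.land (Nat.shiftRight c0y0tl4Qd (Nat.mul u (nat_lit 3))) (nat_lit 7)
noncomputable def c0y0tl4 : H16.Lev := ⟨6, 3, c0y0tl4D, c0y0tl4P, c0y0tl4Q⟩
noncomputable def c0y0tl5Dd : ℕ := nat_lit 0x6a88
noncomputable def c0y0tl5D (u : ℕ) : ℕ := Nat.land (Nat.shiftRight c0y0tl5Dd (Nat.mul u (nat_lit 3))) (nat_lit 7)
noncomputable def c0y0tl5Pd : ℕ := nat_lit 0x1c5c0a2
noncomputable def c0y0tl5P (u : ℕ) : ℕ := Nat.land (Nat.shiftRight c0y0tl5Pd (Nat.mul u (nat_lit 5))) (nat_lit 31)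
noncomputable def c0y0tl5Qd : ℕ := nat_lit 0x4000000002000600008000
noncomputable def c0y0tl5Q (u : ℕ) : ℕ := Nat.land (Nat.shiftRight c0y0tl5Qd (Nat.mul u (nat_lit 3))) (nat_lit 7)
noncomputable def c0y0tl5 : H16.Lev := ⟨5, 2, c0y0tl5D, c0y0tl5P, c0y0tl5Q⟩
noncomputable def c0y0tl6Dd : ℕ := nat_lit 0
noncomputable def c0y0tl6D (u : ℕ) : ℕ := Nat.land (Nat.shiftRight c0y0tl6Dd (Nat.mul u (nat_lit 1))) (nat_lit 1)
noncomputable def c0y0tl6Pd : ℕ := nat_lit 0x2ee1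
noncomputable def c0y0tl6P (u : ℕ) : ℕ := Nat.land (Nat.shiftRight c0y0tl6Pd (Nat.mul u (nat_lit 7))) (nat_lit 127)
noncomputable def c0y0tl6Qd : ℕ := nat_lit 0x200000000000000000000000
noncomputable def c0y0tl6Q (u : ℕ) : ℕ := Nat.land (Nat.shiftRight c0y0tl6Qd (Nat.mul u (nat_lit 1))) (nat_lit 1)
noncomputable def c0y0tl6 : H16.Lev := ⟨2, 1, c0y0tl6D, c0y0tl6P, c0y0tl6Q⟩
noncomputable def c0y0ce_W : List (List ℕ) := [[nat_lit 2, nat_lit 1, nat_lit 5, nat_lit 0, nat_lit 1, nat_lit 3, nat_lit 1, nat_lit 4, nat_lit 2, nat_lit 0, nat_lit 5, nat_lit 2, nat_lit 4, nat_lit 1, nat_lit 2, nat_lit 3],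
  [nat_lit 0, nat_lit 4, nat_lit 2, nat_lit 0, nat_lit 1, nat_lit 2, nat_lit 0, nat_lit 1, nat_lit 4, nat_lit 2, nat_lit 1, nat_lit 0, nat_lit 2, nat_lit 5, nat_lit 2, nat_lit 3, nat_lit 4, nat_lit 1, nat_lit 2, nat_lit 4]]
noncomputable def c0y0ce_P : ℕ → ℕ → ℕ := wdsP H15.HS.P c0y0ce_W
noncomputable def c0y0cc5Dd : ℕ := nat_lit 0
noncomputable def c0y0cc5D (u : ℕ) : ℕ := Nat.land (Nat.shiftRight c0y0cc5Dd (Nat.mul u (nat_lit 1))) (nat_lit 1)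
noncomputable def c0y0cc5Pd : ℕ := nat_lit 0xb2
noncomputable def c0y0cc5P (u : ℕ) : ℕ := Nat.land (Nat.shiftRight c0y0cc5Pd (Nat.mul u (nat_lit 4))) (nat_lit 15)
noncomputable def c0y0cc5Qd : ℕ := nat_lit 0x800
noncomputable def c0y0cc5Q (u : ℕ) : ℕ := Nat.land (Nat.shiftRight c0y0cc5Qd (Nat.mul u (nat_lit 1))) (nat_lit 1)
noncomputable def c0y0cc5 : H16.Lev := ⟨2, 1, c0y0cc5D, c0y0cc5P, c0y0cc5Q⟩
noncomputable def c0y0tn0Fd : ℕ := nat_lit 0x214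
noncomputable def c0y0tn0F (u : ℕ) : ℕ := Nat.land (Nat.shiftRight c0y0tn0Fd (Nat.mul u (nat_lit 2))) (nat_lit 3)
noncomputable def c0y0tn0 : Nd := ⟨c0y0tn0F, (nat_lit 2), (nat_lit 1), [[nat_lit 0, nat_lit 0, nat_lit 0, nat_lit 0, nat_lit 0]], [((nat_lit 0), []), ((nat_lit 0), [nat_lit 0])], []⟩
noncomputable def c0y0cc0Dd : ℕ := nat_lit 0x22f6ad2728c20
noncomputable def c0y0cc0D (u : ℕ) : ℕ := Nat.land (Nat.shiftRight c0y0cc0Dd (Nat.mul u (nat_lit 5))) (nat_lit 31)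
noncomputable def c0y0cc0Pd : ℕ := nat_lit 0x185abe525b1a988f00
noncomputable def c0y0cc0P (u : ℕ) : ℕ := Nat.land (Nat.shiftRight c0y0cc0Pd (Nat.mul u (nat_lit 7))) (nat_lit 127)
noncomputable def c0y0cc0Qd : ℕ := nat_lit 0x200700008000003000000005000000000000000000000000049000000000000000001000000000600000000000000000000
noncomputable def c0y0cc0Q (u : ℕ) : ℕ := Nat.land (Nat.shiftRight c0y0cc0Qd (Nat.mul u (nat_lit 4))) (nat_lit 15)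
noncomputable def c0y0cc0 : H16.Lev := ⟨10, 2, c0y0cc0D, c0y0cc0P, c0y0cc0Q⟩
noncomputable def c0y0tn1Fd : ℕ := nat_lit 0x4c4e08940729ce02c4092bdab189f38d4139bdeb7b62598dab7c56d3b5229a62b2b625aac0f3b5293944048c6b126a3a826d695f35be339812b084e708420
noncomputable def c0y0tn1F (u : ℕ) : ℕ := Nat.land (Nat.shiftRight c0y0tn1Fd (Nat.mul u (nat_lit 5))) (nat_lit 31)
noncomputable def c0y0tn1 : Nd := ⟨c0y0tn1F, (nat_lit 2), (nat_lit 2), [[nat_lit 0, nat_lit 0, nat_lit 0, nat_lit 0, nat_lit 0]], [((nat_lit 0), []), ((nat_lit 0), [nat_lit 0])], []⟩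
noncomputable def c1ax_W : List (List ℕ) := [[nat_lit 0, nat_lit 2, nat_lit 0, nat_lit 1, nat_lit 3, nat_lit 0, nat_lit 2, nat_lit 1, nat_lit 0, nat_lit 1, nat_lit 3, nat_lit 4, nat_lit 2, nat_lit 1, nat_lit 0, nat_lit 5, nat_lit 2, nat_lit 3, nat_lit 1, nat_lit 4, nat_lit 2, nat_lit 1, nat_lit 5, nat_lit 3]]
noncomputable def c1ax_P : ℕ → ℕ → ℕ := wdsP H15.HS.P c1ax_W
noncomputable def c1ath_W : List (List ℕ) := [[nat_lit 2, nat_lit 4, nat_lit 0, nat_lit 2, nat_lit 1, nat_lit 0, nat_lit 3, nat_lit 1, nat_lit 2, nat_lit 0, nat_lit 4, nat_lit 2, nat_lit 0, nat_lit 4],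
  [nat_lit 1, nat_lit 2, nat_lit 3, nat_lit 0, nat_lit 2, nat_lit 4, nat_lit 2, nat_lit 0, nat_lit 3, nat_lit 1],
  [nat_lit 0, nat_lit 1, nat_lit 0, nat_lit 2, nat_lit 1, nat_lit 0, nat_lit 1, nat_lit 2, nat_lit 3, nat_lit 1, nat_lit 0, nat_lit 1],
  [nat_lit 4, nat_lit 1, nat_lit 0, nat_lit 2, nat_lit 0, nat_lit 1, nat_lit 2, nat_lit 3, nat_lit 1, nat_lit 0, nat_lit 2, nat_lit 0, nat_lit 1, nat_lit 3, nat_lit 4],
  [nat_lit 2, nat_lit 0, nat_lit 1, nat_lit 0, nat_lit 1, nat_lit 2, nat_lit 0, nat_lit 1, nat_lit 0, nat_lit 1, nat_lit 3, nat_lit 1, nat_lit 3],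
  [nat_lit 1, nat_lit 2, nat_lit 0, nat_lit 1, nat_lit 0, nat_lit 1, nat_lit 2, nat_lit 0, nat_lit 3, nat_lit 1, nat_lit 4, nat_lit 2, nat_lit 1, nat_lit 4],
  [nat_lit 0],
  [nat_lit 1],
  [nat_lit 2],
  [nat_lit 3],
  [nat_lit 4],
  [nat_lit 5],
  [nat_lit 1, nat_lit 0, nat_lit 1, nat_lit 2, nat_lit 1, nat_lit 0, nat_lit 3, nat_lit 4, nat_lit 2, nat_lit 1, nat_lit 4, nat_lit 5, nat_lit 2, nat_lit 4, nat_lit 1, nat_lit 3]]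
noncomputable def c1ath_P : ℕ → ℕ → ℕ := wdsP H15.HS.P c1ath_W
noncomputable def c1atl0Dd : ℕ := nat_lit 0x9871cde6bc089508debabf7aadf18b9475e0c217d2614a88b509aeb4a4a74c20530667d8289dc4b88a0e79363506d0ba0443805382e97f1d036c418b4082490730b30b810c530371e03906b8be09e2c44d0191482c01c0c915e0ac4c0a20cc1c84b83412c1904485812a0683106e0940d4248280241200801b0180c40683001e0b80701602a04c05800
noncomputable def c1atl0D (u : ℕ) : ℕ := Nat.land (Nat.shiftRight c1atl0Dd (Nat.mul u (nat_lit 11))) (nat_lit 2047)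
noncomputable def c1atl0Pd : ℕ := nat_lit 0x9d7ebd8a582f01b96b095c73ea53a146a900f36e96c4a55a00aedad99845a3012963b9ad6d08c1ec918280e043f1cb030d1728a036c64ba7502a13154b5d1888f63413a1219f909a2bc36cc9a234ba5af247923e92dce00
noncomputable def c1atl0P (u : ℕ) : ℕ := Nat.land (Nat.shiftRight c1atl0Pd (Nat.mul u (nat_lit 7))) (nat_lit 127)
noncomputable def c1atl0Qd : ℕ := nat_lit 0xaf2ecdec5766db756a260c2ee8d5a97e953ad8e74312a81937a6489b2a84c336010d108c75e32049e2c11cd90401028f2e927e5234849f056a31cc82818b811e2d31c4b32c291a1e1506ebd6385689fb19eb639650d2e00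
noncomputable def c1atl0Q (u : ℕ) : ℕ := Nat.land (Nat.shiftRight c1atl0Qd (Nat.mul u (nat_lit 7))) (nat_lit 127)
noncomputable def c1atl0 : H16.Lev := ⟨100, 13, c1atl0D, c1atl0P, c1atl0Q⟩
noncomputable def c1atl1Dd : ℕ := nat_lit 0xccb66f25570b54170c34331f15281e1c120a08070600
noncomputable def c1atl1D (u : ℕ) : ℕ := Nat.land (Nat.shiftRight c1atl1Dd (Nat.mul u (nat_lit 8))) (nat_lit 255)
noncomputable def c1atl1Pd : ℕ := nat_lit 0x29cf9d4ab51b75ef59b962ed4a15715ac7830df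
noncomputable def c1atl1P (u : ℕ) : ℕ := Nat.land (Nat.shiftRight c1atl1Pd (Nat.mul u (nat_lit 7))) (nat_lit 127)
noncomputable def c1atl1Qd : ℕ := nat_lit 0x194220352b7918a744c8aca07a4c0000000000000000000000000000000000000000000000000000000000000000000000000000000000000000000000000
noncomputable def c1atl1Q (u : ℕ) : ℕ := Nat.land (Nat.shiftRight c1atl1Qd (Nat.mul u (nat_lit 5))) (nat_lit 31)
noncomputable def c1atl1 : H16.Lev := ⟨22, 11, c1atl1D, c1atl1P, c1atl1Q⟩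
noncomputable def c1atl2Dd : ℕ := nat_lit 0x5374a121c405928f24506131c2c506101c280
noncomputable def c1atl2D (u : ℕ) : ℕ := Nat.land (Nat.shiftRight c1atl2Dd (Nat.mul u (nat_lit 7))) (nat_lit 127)
noncomputable def c1atl2Pd : ℕ := nat_lit 0x105ec0d0f892d19c8e9091163052c0364dc0e
noncomputable def c1atl2P (u : ℕ) : ℕ := Nat.land (Nat.shiftRight c1atl2Pd (Nat.mul u (nat_lit 7))) (nat_lit 127)
noncomputable def c1atl2Qd : ℕ := nat_lit 0x700005800f000c4000000000100000000f29800000000000aa680000000c1c400000001251480000000000000000000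
noncomputable def c1atl2Q (u : ℕ) : ℕ := Nat.land (Nat.shiftRight c1atl2Qd (Nat.mul u (nat_lit 5))) (nat_lit 31)
noncomputable def c1atl2 : H16.Lev := ⟨21, 6, c1atl2D, c1atl2P, c1atl2Q⟩
noncomputable def c1atl3Dd : ℕ := nat_lit 0xfec49f3da2903082451c6100
noncomputable def c1atl3D (u : ℕ) : ℕ := Nat.land (Nat.shiftRight c1atl3Dd (Nat.mul u (nat_lit 6))) (nat_lit 63)
noncomputable def c1atl3Pd : ℕ := nat_lit 0xad6a9e0bd8e951c35e862a976e5b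
noncomputable def c1atl3P (u : ℕ) : ℕ := Nat.land (Nat.shiftRight c1atl3Pd (Nat.mul u (nat_lit 7))) (nat_lit 127)
noncomputable def c1atl3Qd : ℕ := nat_lit 0xa47c0b210e006f03d98500000000000000000000000000000000000000000000000000000000000000000000000000000000
noncomputable def c1atl3Q (u : ℕ) : ℕ := Nat.land (Nat.shiftRight c1atl3Qd (Nat.mul u (nat_lit 4))) (nat_lit 15)
noncomputable def c1atl3 : H16.Lev := ⟨16, 5, c1atl3D, c1atl3P, c1atl3Q⟩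
noncomputable def c1atl4Dd : ℕ := nat_lit 0xd6530
noncomputable def c1atl4D (u : ℕ) : ℕ := Nat.land (Nat.shiftRight c1atl4Dd (Nat.mul u (nat_lit 4))) (nat_lit 15)
noncomputable def c1atl4Pd : ℕ := nat_lit 0x2382bcd10
noncomputable def c1atl4P (u : ℕ) : ℕ := Nat.land (Nat.shiftRight c1atl4Pd (Nat.mul u (nat_lit 7))) (nat_lit 127)
noncomputable def c1atl4Qd : ℕ := nat_lit 0x18000000000000400000000800000040000000000000000000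
noncomputable def c1atl4Q (u : ℕ) : ℕ := Nat.land (Nat.shiftRight c1atl4Qd (Nat.mul u (nat_lit 3))) (nat_lit 7)
noncomputable def c1atl4 : H16.Lev := ⟨5, 4, c1atl4D, c1atl4P, c1atl4Q⟩
noncomputable def c1atl5Dd : ℕ := nat_lit 0x150
noncomputable def c1atl5D (u : ℕ) : ℕ := Nat.land (Nat.shiftRight c1atl5Dd (Nat.mul u (nat_lit 3))) (nat_lit 7)
noncomputable def c1atl5Pd : ℕ := nat_lit 0xc2225
noncomputable def c1atl5P (u : ℕ) : ℕ := Nat.land (Nat.shiftRight c1atl5Pd (Nat.mul u (nat_lit 7))) (nat_lit 127)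
noncomputable def c1atl5Qd : ℕ := nat_lit 0x10000000002000000000000000000000000
noncomputable def c1atl5Q (u : ℕ) : ℕ := Nat.land (Nat.shiftRight c1atl5Qd (Nat.mul u (nat_lit 2))) (nat_lit 3)
noncomputable def c1atl5 : H16.Lev := ⟨3, 3, c1atl5D, c1atl5P, c1atl5Q⟩
noncomputable def c1atl6Dd : ℕ := nat_lit 2
noncomputable def c1atl6D (u : ℕ) : ℕ := Nat.land (Nat.shiftRight c1atl6Dd (Nat.mul u (nat_lit 1))) (nat_lit 1)
noncomputable def c1atl6Pd : ℕ := nat_lit 0x2102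
noncomputable def c1atl6P (u : ℕ) : ℕ := Nat.land (Nat.shiftRight c1atl6Pd (Nat.mul u (nat_lit 7))) (nat_lit 127)
noncomputable def c1atl6Qd : ℕ := nat_lit 0x40000000000000000
noncomputable def c1atl6Q (u : ℕ) : ℕ := Nat.land (Nat.shiftRight c1atl6Qd (Nat.mul u (nat_lit 1))) (nat_lit 1)
noncomputable def c1atl6 : H16.Lev := ⟨2, 2, c1atl6D, c1atl6P, c1atl6Q⟩
noncomputable def c1atl7Dd : ℕ := nat_lit 0
noncomputable def c1atl7D (u : ℕ) : ℕ := Nat.land (Nat.shiftRight c1atl7Dd (Nat.mul u (nat_lit 1))) (nat_lit 1)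
noncomputable def c1atl7Pd : ℕ := nat_lit 0x801
noncomputable def c1atl7P (u : ℕ) : ℕ := Nat.land (Nat.shiftRight c1atl7Pd (Nat.mul u (nat_lit 6))) (nat_lit 63)
noncomputable def c1atl7Qd : ℕ := nat_lit 0x100000000
noncomputable def c1atl7Q (u : ℕ) : ℕ := Nat.land (Nat.shiftRight c1atl7Qd (Nat.mul u (nat_lit 1))) (nat_lit 1)
noncomputable def c1atl7 : H16.Lev := ⟨2, 1, c1atl7D, c1atl7P, c1atl7Q⟩
noncomputable def c1ace_W : List (List ℕ) := [[nat_lit 4, nat_lit 1, nat_lit 0, nat_lit 3, nat_lit 1, nat_lit 0, nat_lit 2, nat_lit 0, nat_lit 1, nat_lit 3, nat_lit 4, nat_lit 2, nat_lit 1, nat_lit 0, nat_lit 3, nat_lit 4],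
  [nat_lit 2, nat_lit 5, nat_lit 1, nat_lit 0, nat_lit 1, nat_lit 2, nat_lit 3, nat_lit 0, nat_lit 5, nat_lit 2, nat_lit 3, nat_lit 1, nat_lit 2],
  [nat_lit 1, nat_lit 0, nat_lit 3, nat_lit 0, nat_lit 4, nat_lit 2, nat_lit 0, nat_lit 1, nat_lit 2, nat_lit 4],
  [nat_lit 0, nat_lit 2, nat_lit 0, nat_lit 1, nat_lit 2, nat_lit 0, nat_lit 3, nat_lit 1, nat_lit 2, nat_lit 0, nat_lit 4, nat_lit 2, nat_lit 1, nat_lit 0, nat_lit 1],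
  [nat_lit 5, nat_lit 1, nat_lit 0, nat_lit 1, nat_lit 2, nat_lit 1, nat_lit 3, nat_lit 0, nat_lit 4, nat_lit 5, nat_lit 2, nat_lit 1, nat_lit 4],
  [nat_lit 2, nat_lit 1, nat_lit 0, nat_lit 2, nat_lit 1, nat_lit 0, nat_lit 3, nat_lit 1, nat_lit 0, nat_lit 2, nat_lit 0, nat_lit 1, nat_lit 5, nat_lit 2, nat_lit 1, nat_lit 4, nat_lit 5, nat_lit 0],
  [nat_lit 0, nat_lit 1, nat_lit 0, nat_lit 3, nat_lit 0, nat_lit 1, nat_lit 2, nat_lit 0, nat_lit 4, nat_lit 2, nat_lit 0, nat_lit 1, nat_lit 2, nat_lit 3, nat_lit 5]]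
noncomputable def c1ace_P : ℕ → ℕ → ℕ := wdsP H15.HS.P c1ace_W
noncomputable def c1acc7Dd : ℕ := nat_lit 0
noncomputable def c1acc7D (u : ℕ) : ℕ := Nat.land (Nat.shiftRight c1acc7Dd (Nat.mul u (nat_lit 1))) (nat_lit 1)
noncomputable def c1acc7Pd : ℕ := nat_lit 0x801
noncomputable def c1acc7P (u : ℕ) : ℕ := Nat.land (Nat.shiftRight c1acc7Pd (Nat.mul u (nat_lit 6))) (nat_lit 63)
noncomputable def c1acc7Qd : ℕ := nat_lit 0x100000000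
noncomputable def c1acc7Q (u : ℕ) : ℕ := Nat.land (Nat.shiftRight c1acc7Qd (Nat.mul u (nat_lit 1))) (nat_lit 1)
noncomputable def c1acc7 : H16.Lev := ⟨2, 1, c1acc7D, c1acc7P, c1acc7Q⟩
noncomputable def c1atn0Fd : ℕ := nat_lit 0
noncomputable def c1atn0F (u : ℕ) : ℕ := Nat.land (Nat.shiftRight c1atn0Fd (Nat.mul u (nat_lit 1))) (nat_lit 1)
noncomputable def c1atn0 : Nd := ⟨c1atn0F, (nat_lit 2), (nat_lit 1), [], [((nat_lit 0), [])], []⟩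
noncomputable def c1atn1y66_W : List (List ℕ) := [[nat_lit 1, nat_lit 0, nat_lit 2, nat_lit 1, nat_lit 0, nat_lit 2, nat_lit 1, nat_lit 3, nat_lit 0, nat_lit 2, nat_lit 1, nat_lit 3, nat_lit 4, nat_lit 2, nat_lit 0, nat_lit 3, nat_lit 1, nat_lit 2, nat_lit 0, nat_lit 5, nat_lit 2, nat_lit 3, nat_lit 1, nat_lit 4, nat_lit 2, nat_lit 1, nat_lit 5, nat_lit 2]]
noncomputable def c1atn1y66_P : ℕ → ℕ → ℕ := wdsP H15.HS.P c1atn1y66_W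
noncomputable def c1atr2k_W : List (List ℕ) := [[nat_lit 1, nat_lit 3, nat_lit 0, nat_lit 1, nat_lit 2, nat_lit 0, nat_lit 4, nat_lit 2, nat_lit 1, nat_lit 4, nat_lit 3, nat_lit 1],
  []]
noncomputable def c1atr2k_P : ℕ → ℕ → ℕ := wdsP H15.HS.P c1atr2k_W
noncomputable def c1atn2Fd : ℕ := nat_lit 9
noncomputable def c1atn2F (u : ℕ) : ℕ := Nat.land (Nat.shiftRight c1atn2Fd (Nat.mul u (nat_lit 2))) (nat_lit 3)
noncomputable def c1atn2 : Nd := ⟨c1atn2F, (nat_lit 2), (nat_lit 2), [], [((nat_lit 0), []), ((nat_lit 1), [nat_lit 0])], []⟩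
noncomputable def c1atn1Fd : ℕ := nat_lit 2
noncomputable def c1atn1F (u : ℕ) : ℕ := Nat.land (Nat.shiftRight c1atn1Fd (Nat.mul u (nat_lit 1))) (nat_lit 1)
noncomputable def c1atn1 : Nd := ⟨c1atn1F, (nat_lit 2), (nat_lit 1), [], [((nat_lit 0), [])], [((nat_lit 66), c1atn1y66_W)]⟩
noncomputable def c1atn3Fd : ℕ := nat_lit 6
noncomputable def c1atn3F (u : ℕ) : ℕ := Nat.land (Nat.shiftRight c1atn3Fd (Nat.mul u (nat_lit 1))) (nat_lit 1)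
noncomputable def c1atn3 : Nd := ⟨c1atn3F, (nat_lit 2), (nat_lit 1), [], [((nat_lit 0), []), ((nat_lit 1), [nat_lit 0])], []⟩
noncomputable def c1acc4Dd : ℕ := nat_lit 0x34
noncomputable def c1acc4D (u : ℕ) : ℕ := Nat.land (Nat.shiftRight c1acc4Dd (Nat.mul u (nat_lit 2))) (nat_lit 3)
noncomputable def c1acc4Pd : ℕ := nat_lit 0x104d10
noncomputable def c1acc4P (u : ℕ) : ℕ := Nat.land (Nat.shiftRight c1acc4Pd (Nat.mul u (nat_lit 7))) (nat_lit 127)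
noncomputable def c1acc4Qd : ℕ := nat_lit 0x800000000000000000010000000000000
noncomputable def c1acc4Q (u : ℕ) : ℕ := Nat.land (Nat.shiftRight c1acc4Qd (Nat.mul u (nat_lit 2))) (nat_lit 3)
noncomputable def c1acc4 : H16.Lev := ⟨3, 2, c1acc4D, c1acc4P, c1acc4Q⟩
noncomputable def c1atn4Fd : ℕ := nat_lit 0x210
noncomputable def c1atn4F (u : ℕ) : ℕ := Nat.land (Nat.shiftRight c1atn4Fd (Nat.mul u (nat_lit 2))) (nat_lit 3)
noncomputable def c1atn4 : Nd := ⟨c1atn4F, (nat_lit 2), (nat_lit 2), [], [((nat_lit 0), []), ((nat_lit 1), [nat_lit 0])], []⟩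
noncomputable def c1acc2Dd : ℕ := nat_lit 0x85335020c2470c4080
noncomputable def c1acc2D (u : ℕ) : ℕ := Nat.land (Nat.shiftRight c1acc2Dd (Nat.mul u (nat_lit 6))) (nat_lit 63)
noncomputable def c1acc2Pd : ℕ := nat_lit 0x22958b888907af80c118e
noncomputable def c1acc2P (u : ℕ) : ℕ := Nat.land (Nat.shiftRight c1acc2Pd (Nat.mul u (nat_lit 7))) (nat_lit 127)
noncomputable def c1acc2Qd : ℕ := nat_lit 0x7000300000008000000924000000000a6100000000000000000b05000000000000000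
noncomputable def c1acc2Q (u : ℕ) : ℕ := Nat.land (Nat.shiftRight c1acc2Qd (Nat.mul u (nat_lit 4))) (nat_lit 15)
noncomputable def c1acc2 : H16.Lev := ⟨12, 5, c1acc2D, c1acc2P, c1acc2Q⟩
noncomputable def c1atn5Fd : ℕ := nat_lit 0xb00900b0ce05007006100
noncomputable def c1atn5F (u : ℕ) : ℕ := Nat.land (Nat.shiftRight c1atn5Fd (Nat.mul u (nat_lit 4))) (nat_lit 15)
noncomputable def c1atn5 : Nd := ⟨c1atn5F, (nat_lit 5), (nat_lit 5), [], [((nat_lit 0), []), ((nat_lit 0), [nat_lit 0])], []⟩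
noncomputable def c1acc0Dd : ℕ := nat_lit 0x9fbe60875a5f452f5c37214a5d47401f4f48324127152c2517130c110d0e120a0f0b100809050600
noncomputable def c1acc0D (u : ℕ) : ℕ := Nat.land (Nat.shiftRight c1acc0Dd (Nat.mul u (nat_lit 8))) (nat_lit 255)
noncomputable def c1acc0Pd : ℕ := nat_lit 0xbf62b8db986859c4321b59ecd69b4136485444e39696da88302a561c4c422c1247cd00
noncomputable def c1acc0P (u : ℕ) : ℕ := Nat.land (Nat.shiftRight c1acc0Pd (Nat.mul u (nat_lit 7))) (nat_lit 127)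
noncomputable def c1acc0Qd : ℕ := nat_lit 0x1f8809c00230008269400000003616c05803c054044014074010000000000000000e70068000000064900028000700001301708000860100001000048300600091e0000000005003002c0
noncomputable def c1acc0Q (u : ℕ) : ℕ := Nat.land (Nat.shiftRight c1acc0Qd (Nat.mul u (nat_lit 6))) (nat_lit 63)
noncomputable def c1acc0 : H16.Lev := ⟨40, 7, c1acc0D, c1acc0P, c1acc0Q⟩
noncomputable def c1atn6Fd : ℕ := nat_lit 0x6c000069a6c001a00e6405940006c04006c00003c001700061445b31301189a4806cf6c86934905c040024a3c00182d25104165406d458f44038700044001200000000d01400e690001000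
noncomputable def c1atn6F (u : ℕ) : ℕ := Nat.land (Nat.shiftRight c1atn6Fd (Nat.mul u (nat_lit 6))) (nat_lit 63)
noncomputable def c1atn6 : Nd := ⟨c1atn6F, (nat_lit 7), (nat_lit 7), [], [((nat_lit 0), []), ((nat_lit 0), [nat_lit 0])], []⟩
noncomputable def c1w0_W : List (List ℕ) := [[nat_lit 0, nat_lit 2, nat_lit 0, nat_lit 1, nat_lit 3, nat_lit 0, nat_lit 2, nat_lit 1, nat_lit 0, nat_lit 1, nat_lit 3, nat_lit 4, nat_lit 2, nat_lit 1, nat_lit 0, nat_lit 5, nat_lit 2, nat_lit 3, nat_lit 1, nat_lit 4, nat_lit 2, nat_lit 1, nat_lit 5, nat_lit 3],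
  [nat_lit 1, nat_lit 3, nat_lit 1, nat_lit 0, nat_lit 2, nat_lit 4, nat_lit 2, nat_lit 0, nat_lit 1, nat_lit 3, nat_lit 5, nat_lit 2, nat_lit 3, nat_lit 4, nat_lit 1, nat_lit 4, nat_lit 5]]
noncomputable def c1w0_P : ℕ → ℕ → ℕ := wdsP H15.HS.P c1w0_W
noncomputable def c1y0x_W : List (List ℕ) := [[nat_lit 1, nat_lit 3, nat_lit 1, nat_lit 0, nat_lit 2, nat_lit 4, nat_lit 2, nat_lit 0, nat_lit 1, nat_lit 3, nat_lit 5, nat_lit 2, nat_lit 3, nat_lit 4, nat_lit 1, nat_lit 4, nat_lit 5]]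
noncomputable def c1y0x_P : ℕ → ℕ → ℕ := wdsP H15.HS.P c1y0x_W
noncomputable def c1y0th_W : List (List ℕ) := [[nat_lit 1, nat_lit 2, nat_lit 0, nat_lit 1, nat_lit 0, nat_lit 2, nat_lit 1, nat_lit 3],
  [nat_lit 1, nat_lit 0, nat_lit 2, nat_lit 0, nat_lit 1, nat_lit 2, nat_lit 3, nat_lit 1, nat_lit 0, nat_lit 2, nat_lit 0, nat_lit 1],
  [nat_lit 1, nat_lit 3, nat_lit 1, nat_lit 0, nat_lit 2, nat_lit 3, nat_lit 0, nat_lit 1, nat_lit 2, nat_lit 4, nat_lit 2, nat_lit 1],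
  [nat_lit 1, nat_lit 2, nat_lit 1, nat_lit 3, nat_lit 0, nat_lit 4, nat_lit 2, nat_lit 1, nat_lit 0, nat_lit 2, nat_lit 1, nat_lit 3, nat_lit 1],
  [nat_lit 2],
  [nat_lit 3],
  [nat_lit 0, nat_lit 1, nat_lit 0, nat_lit 1, nat_lit 2, nat_lit 3, nat_lit 0, nat_lit 2, nat_lit 4, nat_lit 2, nat_lit 1],
  [nat_lit 0],
  [nat_lit 1],
  [nat_lit 4],
  [nat_lit 3, nat_lit 0, nat_lit 1, nat_lit 0, nat_lit 2, nat_lit 1, nat_lit 0, nat_lit 2, nat_lit 3, nat_lit 1, nat_lit 0, nat_lit 2, nat_lit 4, nat_lit 0],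
  [nat_lit 5],
  [nat_lit 0, nat_lit 1, nat_lit 2, nat_lit 1, nat_lit 0, nat_lit 3, nat_lit 0, nat_lit 2, nat_lit 4, nat_lit 2, nat_lit 1, nat_lit 4, nat_lit 5, nat_lit 2, nat_lit 1, nat_lit 4, nat_lit 2, nat_lit 1]]
noncomputable def c1y0th_P : ℕ → ℕ → ℕ := wdsP H15.HS.P c1y0th_W
noncomputable def c1y0tl0Dd : ℕ := nat_lit 0xa0732a3ec6f81c205d3399828dfdb2b58696eb171b6e5ace153da6e1d8a447c3375d29a8f61d2110a04c21cf4661dd061812047cc3514d2801a4121d837c5f82a10024a1107f93d0a05586c0cc17e2687e0b106e05c6a07e0d00a85702d1461f4100891421c0320a00500702701b01815c2b04a0aa0400980f04e0380d02304407c0681402404405800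
noncomputable def c1y0tl0D (u : ℕ) : ℕ := Nat.land (Nat.shiftRight c1y0tl0Dd (Nat.mul u (nat_lit 11))) (nat_lit 2047)
noncomputable def c1y0tl0Pd : ℕ := nat_lit 0x9d7ae5ac38aaddbf6ea57b3829959f62b63726c08f0a4295006ea8bc568149d8425d98681cb2c6ac0894629cd4542e260d18aa0196c2a68b0ca1fb3965e532491a0a3048a18888b53253f1c9c8241072e3cbdeb77d24e00
noncomputable def c1y0tl0P (u : ℕ) : ℕ := Nat.land (Nat.shiftRight c1y0tl0Pd (Nat.mul u (nat_lit 7))) (nat_lit 127)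
noncomputable def c1y0tl0Qd : ℕ := nat_lit 0xa17afd6b78ae61b582bd2b146ed9ab262c8a78d2ad3e7410c1c698132afcca9420c2c47b1a7ae089dbbb40719b60c2093886aa0a2644481b30597c21e1e0019cc543c3ce6a341a2daca982562b4899f14748e58a8e5e680
noncomputable def c1y0tl0Q (u : ℕ) : ℕ := Nat.land (Nat.shiftRight c1y0tl0Qd (Nat.mul u (nat_lit 7))) (nat_lit 127)
noncomputable def c1y0tl0 : H16.Lev := ⟨100, 13, c1y0tl0D, c1y0tl0P, c1y0tl0Q⟩
noncomputable def c1y0tl1Dd : ℕ := nat_lit 0x2ba8e20c7ac928519f6507b0811314c7a59da70f5915450666d701684f3956f53d59494da5382e4b50d2b88f210792dc0e0442323018028581dc0d0b0941a89322060154401cc3f1c847084310580b0a41f0501d04c2506c1a0400f0240801c00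
noncomputable def c1y0tl1D (u : ℕ) : ℕ := Nat.land (Nat.shiftRight c1y0tl1Dd (Nat.mul u (nat_lit 10))) (nat_lit 1023)
noncomputable def c1y0tl1Pd : ℕ := nat_lit 0x31e6a5ab6108a39746c0862c8e5442031db82a9e0a540d82bf3b19ec826d1e076f148c050d66a944849181cb26248eb8b9e0828c9c050c5b15a2133364264be1aa979f
noncomputable def c1y0tl1P (u : ℕ) : ℕ := Nat.land (Nat.shiftRight c1y0tl1Pd (Nat.mul u (nat_lit 7))) (nat_lit 127)
noncomputable def c1y0tl1Qd : ℕ := nat_lit 0x109992f42ac2eb933c1d19aa460116a9730e2384ec912a101c647025859a90090236c25a187c7cf330051790852889c2afdbc556752bb966c1ba1a4830a5101893983e080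
noncomputable def c1y0tl1Q (u : ℕ) : ℕ := Nat.land (Nat.shiftRight c1y0tl1Qd (Nat.mul u (nat_lit 7))) (nat_lit 127)
noncomputable def c1y0tl1 : H16.Lev := ⟨77, 11, c1y0tl1D, c1y0tl1P, c1y0tl1Q⟩
noncomputable def c1y0tl2Dd : ℕ := nat_lit 0x84b398eb25aafd553977491c0792b2f56c4c64a4c742c3b9c0d2622a0892283411808c1e331647e381508c964a1b060782f1406c6a270e0444214050801a06060140800
noncomputable def c1y0tl2D (u : ℕ) : ℕ := Nat.land (Nat.shiftRight c1y0tl2Dd (Nat.mul u (nat_lit 9))) (nat_lit 511)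
noncomputable def c1y0tl2Pd : ℕ := nat_lit 0x3c9a3956e043c004b8b8608ccec47cbd68876e108d4ea890964c249c52d63119a821bd7e2884550665364a39239268d1480a58a03
noncomputable def c1y0tl2P (u : ℕ) : ℕ := Nat.land (Nat.shiftRight c1y0tl2Pd (Nat.mul u (nat_lit 7))) (nat_lit 127)
noncomputable def c1y0tl2Qd : ℕ := nat_lit 0x5c000d744e5942c5400344eb5009c0226dcc680b9f01eab2a400226cf8fa2c918595603bb5c000380c42e011e161100a900012828d700ef033d80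
noncomputable def c1y0tl2Q (u : ℕ) : ℕ := Nat.land (Nat.shiftRight c1y0tl2Qd (Nat.mul u (nat_lit 6))) (nat_lit 63)
noncomputable def c1y0tl2 : H16.Lev := ⟨60, 7, c1y0tl2D, c1y0tl2P, c1y0tl2Q⟩
noncomputable def c1y0tl3Dd : ℕ := nat_lit 0xdce8b524e629060
noncomputable def c1y0tl3D (u : ℕ) : ℕ := Nat.land (Nat.shiftRight c1y0tl3Dd (Nat.mul u (nat_lit 5))) (nat_lit 31)
noncomputable def c1y0tl3Pd : ℕ := nat_lit 0x4c5911e472504d1c20505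
noncomputable def c1y0tl3P (u : ℕ) : ℕ := Nat.land (Nat.shiftRight c1y0tl3Pd (Nat.mul u (nat_lit 7))) (nat_lit 127)
noncomputable def c1y0tl3Qd : ℕ := nat_lit 0x400060000000000000000000000000000000000b007905080000000a0000000300010200000000
noncomputable def c1y0tl3Q (u : ℕ) : ℕ := Nat.land (Nat.shiftRight c1y0tl3Qd (Nat.mul u (nat_lit 4))) (nat_lit 15)
noncomputable def c1y0tl3 : H16.Lev := ⟨12, 4, c1y0tl3D, c1y0tl3P, c1y0tl3Q⟩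
noncomputable def c1y0tl4Dd : ℕ := nat_lit 0xe8542100
noncomputable def c1y0tl4D (u : ℕ) : ℕ := Nat.land (Nat.shiftRight c1y0tl4Dd (Nat.mul u (nat_lit 4))) (nat_lit 15)
noncomputable def c1y0tl4Pd : ℕ := nat_lit 0x1a659c05310a81
noncomputable def c1y0tl4P (u : ℕ) : ℕ := Nat.land (Nat.shiftRight c1y0tl4Pd (Nat.mul u (nat_lit 7))) (nat_lit 127)
noncomputable def c1y0tl4Qd : ℕ := nat_lit 0x2004000000000a00000018000000000030008000038000000000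
noncomputable def c1y0tl4Q (u : ℕ) : ℕ := Nat.land (Nat.shiftRight c1y0tl4Qd (Nat.mul u (nat_lit 3))) (nat_lit 7)
noncomputable def c1y0tl4 : H16.Lev := ⟨8, 3, c1y0tl4D, c1y0tl4P, c1y0tl4Q⟩
noncomputable def c1y0ce_W : List (List ℕ) := [[nat_lit 0, nat_lit 1, nat_lit 2, nat_lit 0, nat_lit 1, nat_lit 0, nat_lit 3, nat_lit 0, nat_lit 1, nat_lit 0, nat_lit 2, nat_lit 0, nat_lit 4, nat_lit 5],
  [nat_lit 4, nat_lit 3, nat_lit 1, nat_lit 3, nat_lit 0, nat_lit 1, nat_lit 2, nat_lit 1, nat_lit 0, nat_lit 2, nat_lit 4, nat_lit 2, nat_lit 1, nat_lit 0, nat_lit 2, nat_lit 5, nat_lit 2]]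
noncomputable def c1y0ce_P : ℕ → ℕ → ℕ := wdsP H15.HS.P c1y0ce_W
noncomputable def c1y0cc0Dd : ℕ := nat_lit 0x8e17dd6d95d54d13cd2c91c50c1000
noncomputable def c1y0cc0D (u : ℕ) : ℕ := Nat.land (Nat.shiftRight c1y0cc0Dd (Nat.mul u (nat_lit 6))) (nat_lit 63)
noncomputable def c1y0cc0Pd : ℕ := nat_lit 0x8326c4536dabacb97ec813416883267ce00
noncomputable def c1y0cc0P (u : ℕ) : ℕ := Nat.land (Nat.shiftRight c1y0cc0Pd (Nat.mul u (nat_lit 7))) (nat_lit 127)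
noncomputable def c1y0cc0Qd : ℕ := nat_lit 0x5000b0013168000000a000000002400020000260000000000003800000000000c0000000000000001000179c0000000180000000000000000c020100
noncomputable def c1y0cc0Q (u : ℕ) : ℕ := Nat.land (Nat.shiftRight c1y0cc0Qd (Nat.mul u (nat_lit 5))) (nat_lit 31)
noncomputable def c1y0cc0 : H16.Lev := ⟨20, 2, c1y0cc0D, c1y0cc0P, c1y0cc0Q⟩
noncomputable def c1y0tn0Fd : ℕ := nat_lit 0x49c0f3956b03ea003527681673801500e6b0240d8bda57b6628be203962b5b4008c5b348c650092d49c457966f48c1328a69ad573044130c4a70856f08000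
noncomputable def c1y0tn0F (u : ℕ) : ℕ := Nat.land (Nat.shiftRight c1y0tn0Fd (Nat.mul u (nat_lit 5))) (nat_lit 31)
noncomputable def c1y0tn0 : Nd := ⟨c1y0tn0F, (nat_lit 2), (nat_lit 2), [], [((nat_lit 0), []), ((nat_lit 0), [nat_lit 0]), ((nat_lit 0), [nat_lit 0, nat_lit 0]), ((nat_lit 0), [nat_lit 0, nat_lit 0, nat_lit 0]), ((nat_lit 0), [nat_lit 0, nat_lit 0, nat_lit 0, nat_lit 0]), ((nat_lit 1), [nat_lit 0, nat_lit 0, nat_lit 0, nat_lit 0, nat_lit 0])], []⟩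

theorem md_b : ltAll 100 H15.HS.B = 0 ∧ 44352000 ≠ 0 := by decide +kernel
theorem p2t_lt : H16.allL (ltAll 6) p2t_W = true := by decide +kernel
theorem p2_r_a : allZ2 (resEnt p2t_P p2P p2E p2I (nat_lit 100) (nat_lit 72)) (nat_lit 9) (nat_lit 72) = true := by decide +kernel
theorem p2_b : neL H15.HS.B (p2B.map p2E) = 0 ∧ ltAll 72 p2B = 0 := by decide +kernel
theorem p2_p : allZ2 (pcEnt p2P (nat_lit 2) p2B p2C) 9 9 = true := by decide +kernel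
theorem p2_e : H16.allL (ltAll 9) p2e = true := by decide +kernel
theorem p2l0_e_0 : allZ (dent p2l0 (wdsP p2P p2e) (nat_lit 72)) (nat_lit 0) (nat_lit 7) = true := by decide +kernel
theorem p2l0_h : 0 < p2l0.n ∧ 0 < p2l0.K ∧ p2l0.Pt 0 < 72 ∧ p2l0.Q (p2l0.Pt 0) = 0 := by decide +kernel
theorem p2l1_e_0 : allZ (dent p2l1 (wdsP p2P p2e) (nat_lit 72)) (nat_lit 0) (nat_lit 3) = true := by decide +kernel
theorem p2l1_h : 0 < p2l1.n ∧ 0 < p2l1.K ∧ p2l1.Pt 0 < 72 ∧ p2l1.Q (p2l1.Pt 0) = 0 := by decide +kernel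
theorem p2l2_e_0 : allZ (dent p2l2 (wdsP p2P p2e) (nat_lit 72)) (nat_lit 0) (nat_lit 7) = true := by decide +kernel
theorem p2l2_h : 0 < p2l2.n ∧ 0 < p2l2.K ∧ p2l2.Pt 0 < 72 ∧ p2l2.Q (p2l2.Pt 0) = 0 := by decide +kernel
theorem p2l3_e_0 : allZ (dent p2l3 (wdsP p2P p2e) (nat_lit 72)) (nat_lit 0) (nat_lit 1) = true := by decide +kernel
theorem p2l3_h : 0 < p2l3.n ∧ 0 < p2l3.K ∧ p2l3.Pt 0 < 72 ∧ p2l3.Q (p2l3.Pt 0) = 0 := by decide +kernel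
theorem p2_f3 : (Nat.ble p2l3.K 44 && Nat.ble (topK []) p2l3.K && fixLetters (wdsP p2P p2e) (topK []) (p2l3.Pt 0)) = true := by decide +kernel
theorem p2_f2 : (Nat.ble p2l2.K 44 && Nat.ble (topK [p2l3]) p2l2.K && fixLetters (wdsP p2P p2e) (topK [p2l3]) (p2l2.Pt 0)) = true := by decide +kernel
theorem p2_f1 : (Nat.ble p2l1.K 44 && Nat.ble (topK [p2l2, p2l3]) p2l1.K && fixLetters (wdsP p2P p2e) (topK [p2l2, p2l3]) (p2l1.Pt 0)) = true := by decide +kernel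
theorem p2_f0 : (Nat.ble p2l0.K 44 && Nat.ble (topK [p2l1, p2l2, p2l3]) p2l0.K && fixLetters (wdsP p2P p2e) (topK [p2l1, p2l2, p2l3]) (p2l0.Pt 0)) = true := by decide +kernel
theorem p2_c : chainCard [p2l0, p2l1, p2l2, p2l3] = 2 ^ 9 ∧ ¬ 2 ^ (9 + 1) ∣ 44352000 := by decide +kernel
theorem covr_lt : H16.allL (ltAll 6) covr_W = true := by decide +kernel
theorem cov_c0 : (Nat.ble 9 9 && Nat.beq (ltAll 9 []) 0 && Nat.beq (covT0.chk H15.HS.P p2P covr_P p2E 6 9 2 2 2 p2B 9 [] 0) 0) = true := by decide +kernel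
theorem c0ax_lt : H16.allL (ltAll 6) c0ax_W = true := by decide +kernel
theorem c0ath_lt : H16.allL (ltAll 6) c0ath_W = true := by decide +kernel
theorem c0atl0_e_0 : allZ (dent c0atl0 c0ath_P (nat_lit 100)) (nat_lit 0) (nat_lit 99) = true := by decide +kernel
theorem c0atl0_h : 0 < c0atl0.n ∧ 0 < c0atl0.K ∧ c0atl0.Pt 0 < 100 ∧ c0atl0.Q (c0atl0.Pt 0) = 0 := by decide +kernel
theorem c0atl1_e_0 : allZ (dent c0atl1 c0ath_P (nat_lit 100)) (nat_lit 0) (nat_lit 21) = true := by decide +kernel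
theorem c0atl1_h : 0 < c0atl1.n ∧ 0 < c0atl1.K ∧ c0atl1.Pt 0 < 100 ∧ c0atl1.Q (c0atl1.Pt 0) = 0 := by decide +kernel
theorem c0atl2_e_0 : allZ (dent c0atl2 c0ath_P (nat_lit 100)) (nat_lit 0) (nat_lit 20) = true := by decide +kernel
theorem c0atl2_h : 0 < c0atl2.n ∧ 0 < c0atl2.K ∧ c0atl2.Pt 0 < 100 ∧ c0atl2.Q (c0atl2.Pt 0) = 0 := by decide +kernel
theorem c0atl3_e_0 : allZ (dent c0atl3 c0ath_P (nat_lit 100)) (nat_lit 0) (nat_lit 4) = true := by decide +kernel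
theorem c0atl3_h : 0 < c0atl3.n ∧ 0 < c0atl3.K ∧ c0atl3.Pt 0 < 100 ∧ c0atl3.Q (c0atl3.Pt 0) = 0 := by decide +kernel
theorem c0atl4_e_0 : allZ (dent c0atl4 c0ath_P (nat_lit 100)) (nat_lit 0) (nat_lit 3) = true := by decide +kernel
theorem c0atl4_h : 0 < c0atl4.n ∧ 0 < c0atl4.K ∧ c0atl4.Pt 0 < 100 ∧ c0atl4.Q (c0atl4.Pt 0) = 0 := by decide +kernel
theorem c0atl5_e_0 : allZ (dent c0atl5 c0ath_P (nat_lit 100)) (nat_lit 0) (nat_lit 3) = true := by decide +kernel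
theorem c0atl5_h : 0 < c0atl5.n ∧ 0 < c0atl5.K ∧ c0atl5.Pt 0 < 100 ∧ c0atl5.Q (c0atl5.Pt 0) = 0 := by decide +kernel
theorem c0atl6_e_0 : allZ (dent c0atl6 c0ath_P (nat_lit 100)) (nat_lit 0) (nat_lit 3) = true := by decide +kernel
theorem c0atl6_h : 0 < c0atl6.n ∧ 0 < c0atl6.K ∧ c0atl6.Pt 0 < 100 ∧ c0atl6.Q (c0atl6.Pt 0) = 0 := by decide +kernel
theorem c0atl7_e_0 : allZ (dent c0atl7 c0ath_P (nat_lit 100)) (nat_lit 0) (nat_lit 2) = true := by decide +kernel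
theorem c0atl7_h : 0 < c0atl7.n ∧ 0 < c0atl7.K ∧ c0atl7.Pt 0 < 100 ∧ c0atl7.Q (c0atl7.Pt 0) = 0 := by decide +kernel
theorem c0at_f7 : (Nat.ble c0atl7.K 12 && Nat.ble (topK []) c0atl7.K && fixLetters c0ath_P (topK []) (c0atl7.Pt 0)) = true := by decide +kernel
theorem c0at_f6 : (Nat.ble c0atl6.K 12 && Nat.ble (topK [c0atl7]) c0atl6.K && fixLetters c0ath_P (topK [c0atl7]) (c0atl6.Pt 0)) = true := by decide +kernel
theorem c0at_f5 : (Nat.ble c0atl5.K 12 && Nat.ble (topK [c0atl6, c0atl7]) c0atl5.K && fixLetters c0ath_P (topK [c0atl6, c0atl7]) (c0atl5.Pt 0)) = true := by decide +kernel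
theorem c0at_f4 : (Nat.ble c0atl4.K 12 && Nat.ble (topK [c0atl5, c0atl6, c0atl7]) c0atl4.K && fixLetters c0ath_P (topK [c0atl5, c0atl6, c0atl7]) (c0atl4.Pt 0)) = true := by decide +kernel
theorem c0at_f3 : (Nat.ble c0atl3.K 12 && Nat.ble (topK [c0atl4, c0atl5, c0atl6, c0atl7]) c0atl3.K && fixLetters c0ath_P (topK [c0atl4, c0atl5, c0atl6, c0atl7]) (c0atl3.Pt 0)) = true := by decide +kernel
theorem c0at_f2 : (Nat.ble c0atl2.K 12 && Nat.ble (topK [c0atl3, c0atl4, c0atl5, c0atl6, c0atl7]) c0atl2.K && fixLetters c0ath_P (topK [c0atl3, c0atl4, c0atl5, c0atl6, c0atl7]) (c0atl2.Pt 0)) = true := by decide +kernel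
theorem c0at_f1 : (Nat.ble c0atl1.K 12 && Nat.ble (topK [c0atl2, c0atl3, c0atl4, c0atl5, c0atl6, c0atl7]) c0atl1.K && fixLetters c0ath_P (topK [c0atl2, c0atl3, c0atl4, c0atl5, c0atl6, c0atl7]) (c0atl1.Pt 0)) = true := by decide +kernel
theorem c0at_f0 : (Nat.ble c0atl0.K 12 && Nat.ble (topK [c0atl1, c0atl2, c0atl3, c0atl4, c0atl5, c0atl6, c0atl7]) c0atl0.K && fixLetters c0ath_P (topK [c0atl1, c0atl2, c0atl3, c0atl4, c0atl5, c0atl6, c0atl7]) (c0atl0.Pt 0)) = true := by decide +kernel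
theorem c0at_c : chainCard [c0atl0, c0atl1, c0atl2, c0atl3, c0atl4, c0atl5, c0atl6, c0atl7] = 44352000 := by decide +kernel
theorem c0ace_lt : H16.allL (ltAll 6) c0ace_W = true := by decide +kernel
theorem c0acc7_e_0 : allZ (dent c0acc7 c0ace_P (nat_lit 100)) (nat_lit 0) (nat_lit 2) = true := by decide +kernel
theorem c0acc7_h : 0 < c0acc7.n ∧ 0 < c0acc7.K ∧ c0acc7.Pt 0 < 100 ∧ c0acc7.Q (c0acc7.Pt 0) = 0 := by decide +kernel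
theorem c0atn0_0 : (Nat.ble c0atl7.K 12 && Nat.beq (ltAll 100 [c0atl6.Pt 0, c0atl5.Pt 0, c0atl4.Pt 0, c0atl3.Pt 0, c0atl2.Pt 0, c0atl1.Pt 0, c0atl0.Pt 0]) 0 && kChk c0ace_P c0ax_P c0atn0.Kn 1 H15.HS.B [c0atl6.Pt 0, c0atl5.Pt 0, c0atl4.Pt 0, c0atl3.Pt 0, c0atl2.Pt 0, c0atl1.Pt 0, c0atl0.Pt 0] && H16.allL (ltAll 1) c0atn0.pre && planOK c0ath_P c0ax_P 1 (c0atl7.Pt 0) c0atn0.plan [c0atl7]) = true := by decide +kernel
theorem c0atn0_1_0 : allZ (c0atn0.ent H15.HS.P c0ath_P c0ax_P c0ax_P c0ace_P (nat_lit 6) (nat_lit 1) H15.HS.B c0atl7 [] (memO c0acc7)) (nat_lit 0) (nat_lit 3) = true := by decide +kernel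
theorem c0ac_f7 : (Nat.ble c0acc7.K 5 && Nat.ble (topK []) c0acc7.K && Nat.beq (c0acc7.Pt 0) (c0atl7.Pt 0) && Nat.beq (ltAll 100 [c0atl6.Pt 0, c0atl5.Pt 0, c0atl4.Pt 0, c0atl3.Pt 0, c0atl2.Pt 0, c0atl1.Pt 0, c0atl0.Pt 0]) 0 && kChk c0ace_P c0ax_P c0acc7.K 1 H15.HS.B [c0atl6.Pt 0, c0atl5.Pt 0, c0atl4.Pt 0, c0atl3.Pt 0, c0atl2.Pt 0, c0atl1.Pt 0, c0atl0.Pt 0]) = true := by decide +kernel
theorem c0ac_f6 : (Nat.ble c0atl6.K 12 && Nat.blt (nat_lit 79) 100 && fixLetters c0ath_P c0atl6.K (nat_lit 79) && Nat.beq (ltAll 1 [nat_lit 0]) 0 && Nat.beq (apW c0ax_P [nat_lit 0] (nat_lit 79)) (c0atl6.Pt 0)) = true := by decide +kernel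
theorem c0acc5_e_0 : allZ (dent c0acc5 c0ace_P (nat_lit 100)) (nat_lit 0) (nat_lit 3) = true := by decide +kernel
theorem c0acc5_h : 0 < c0acc5.n ∧ 0 < c0acc5.K ∧ c0acc5.Pt 0 < 100 ∧ c0acc5.Q (c0acc5.Pt 0) = 0 := by decide +kernel
theorem c0atn1_0 : (Nat.ble c0atl5.K 12 && Nat.beq (ltAll 100 [c0atl4.Pt 0, c0atl3.Pt 0, c0atl2.Pt 0, c0atl1.Pt 0, c0atl0.Pt 0]) 0 && kChk c0ace_P c0ax_P c0atn1.Kn 1 H15.HS.B [c0atl4.Pt 0, c0atl3.Pt 0, c0atl2.Pt 0, c0atl1.Pt 0, c0atl0.Pt 0] && H16.allL (ltAll 1) c0atn1.pre && planOK c0ath_P c0ax_P 1 (c0atl5.Pt 0) c0atn1.plan [c0atl5, c0atl6, c0atl7]) = true := by decide +kernel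
theorem c0atn1_1_0 : allZ (c0atn1.ent H15.HS.P c0ath_P c0ax_P c0ax_P c0ace_P (nat_lit 6) (nat_lit 1) H15.HS.B c0atl5 [c0atl6, c0atl7] (memO c0acc5)) (nat_lit 0) (nat_lit 4) = true := by decide +kernel
theorem c0ac_f5 : (Nat.ble c0acc5.K 5 && Nat.ble (topK [c0acc7]) c0acc5.K && Nat.beq (c0acc5.Pt 0) (c0atl5.Pt 0) && Nat.beq (ltAll 100 [c0atl4.Pt 0, c0atl3.Pt 0, c0atl2.Pt 0, c0atl1.Pt 0, c0atl0.Pt 0]) 0 && kChk c0ace_P c0ax_P c0acc5.K 1 H15.HS.B [c0atl4.Pt 0, c0atl3.Pt 0, c0atl2.Pt 0, c0atl1.Pt 0, c0atl0.Pt 0]) = true := by decide +kernel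
theorem c0ac_f4 : (Nat.ble c0atl4.K 12 && Nat.blt (nat_lit 8) 100 && fixLetters c0ath_P c0atl4.K (nat_lit 8) && Nat.beq (ltAll 1 [nat_lit 0]) 0 && Nat.beq (apW c0ax_P [nat_lit 0] (nat_lit 8)) (c0atl4.Pt 0)) = true := by decide +kernel
theorem c0acc3_e_0 : allZ (dent c0acc3 c0ace_P (nat_lit 100)) (nat_lit 0) (nat_lit 1) = true := by decide +kernel
theorem c0acc3_h : 0 < c0acc3.n ∧ 0 < c0acc3.K ∧ c0acc3.Pt 0 < 100 ∧ c0acc3.Q (c0acc3.Pt 0) = 0 := by decide +kernel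
theorem c0atn2_0 : (Nat.ble c0atl3.K 12 && Nat.beq (ltAll 100 [c0atl2.Pt 0, c0atl1.Pt 0, c0atl0.Pt 0]) 0 && kChk c0ace_P c0ax_P c0atn2.Kn 1 H15.HS.B [c0atl2.Pt 0, c0atl1.Pt 0, c0atl0.Pt 0] && H16.allL (ltAll 1) c0atn2.pre && planOK c0ath_P c0ax_P 1 (c0atl3.Pt 0) c0atn2.plan [c0atl3, c0atl4, c0atl5, c0atl6, c0atl7]) = true := by decide +kernel
theorem c0atn2_1_0 : allZ (c0atn2.ent H15.HS.P c0ath_P c0ax_P c0ax_P c0ace_P (nat_lit 6) (nat_lit 1) H15.HS.B c0atl3 [c0atl4, c0atl5, c0atl6, c0atl7] (memO c0acc3)) (nat_lit 0) (nat_lit 5) = true := by decide +kernel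
theorem c0ac_f3 : (Nat.ble c0acc3.K 5 && Nat.ble (topK [c0acc5, c0acc7]) c0acc3.K && Nat.beq (c0acc3.Pt 0) (c0atl3.Pt 0) && Nat.beq (ltAll 100 [c0atl2.Pt 0, c0atl1.Pt 0, c0atl0.Pt 0]) 0 && kChk c0ace_P c0ax_P c0acc3.K 1 H15.HS.B [c0atl2.Pt 0, c0atl1.Pt 0, c0atl0.Pt 0]) = true := by decide +kernel
theorem c0ac_f2 : (Nat.ble c0atl2.K 12 && Nat.blt (nat_lit 78) 100 && fixLetters c0ath_P c0atl2.K (nat_lit 78) && Nat.beq (ltAll 1 [nat_lit 0]) 0 && Nat.beq (apW c0ax_P [nat_lit 0] (nat_lit 78)) (c0atl2.Pt 0)) = true := by decide +kernel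
theorem c0acc1_e_0 : allZ (dent c0acc1 c0ace_P (nat_lit 100)) (nat_lit 0) (nat_lit 15) = true := by decide +kernel
theorem c0acc1_h : 0 < c0acc1.n ∧ 0 < c0acc1.K ∧ c0acc1.Pt 0 < 100 ∧ c0acc1.Q (c0acc1.Pt 0) = 0 := by decide +kernel
theorem c0atn3_0 : (Nat.ble c0atl1.K 12 && Nat.beq (ltAll 100 [c0atl0.Pt 0]) 0 && kChk c0ace_P c0ax_P c0atn3.Kn 1 H15.HS.B [c0atl0.Pt 0] && H16.allL (ltAll 1) c0atn3.pre && planOK c0ath_P c0ax_P 1 (c0atl1.Pt 0) c0atn3.plan [c0atl1, c0atl2, c0atl3, c0atl4, c0atl5, c0atl6, c0atl7]) = true := by decide +kernel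
theorem c0atn3_1_0 : allZ (c0atn3.ent H15.HS.P c0ath_P c0ax_P c0ax_P c0ace_P (nat_lit 6) (nat_lit 1) H15.HS.B c0atl1 [c0atl2, c0atl3, c0atl4, c0atl5, c0atl6, c0atl7] (memO c0acc1)) (nat_lit 0) (nat_lit 22) = true := by decide +kernel
theorem c0ac_f1 : (Nat.ble c0acc1.K 5 && Nat.ble (topK [c0acc3, c0acc5, c0acc7]) c0acc1.K && Nat.beq (c0acc1.Pt 0) (c0atl1.Pt 0) && Nat.beq (ltAll 100 [c0atl0.Pt 0]) 0 && kChk c0ace_P c0ax_P c0acc1.K 1 H15.HS.B [c0atl0.Pt 0]) = true := by decide +kernel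
theorem c0acc0_e_0 : allZ (dent c0acc0 c0ace_P (nat_lit 100)) (nat_lit 0) (nat_lit 19) = true := by decide +kernel
theorem c0acc0_h : 0 < c0acc0.n ∧ 0 < c0acc0.K ∧ c0acc0.Pt 0 < 100 ∧ c0acc0.Q (c0acc0.Pt 0) = 0 := by decide +kernel
theorem c0atn4_0 : (Nat.ble c0atl0.K 12 && Nat.beq (ltAll 100 []) 0 && kChk c0ace_P c0ax_P c0atn4.Kn 1 H15.HS.B [] && H16.allL (ltAll 1) c0atn4.pre && planOK c0ath_P c0ax_P 1 (c0atl0.Pt 0) c0atn4.plan [c0atl0, c0atl1, c0atl2, c0atl3, c0atl4, c0atl5, c0atl6, c0atl7]) = true := by decide +kernel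
theorem c0atn4_1_0 : allZ (c0atn4.ent H15.HS.P c0ath_P c0ax_P c0ax_P c0ace_P (nat_lit 6) (nat_lit 1) H15.HS.B c0atl0 [c0atl1, c0atl2, c0atl3, c0atl4, c0atl5, c0atl6, c0atl7] (memO c0acc0)) (nat_lit 0) (nat_lit 100) = true := by decide +kernel
theorem c0ac_f0 : (Nat.ble c0acc0.K 5 && Nat.ble (topK [c0acc1, c0acc3, c0acc5, c0acc7]) c0acc0.K && Nat.beq (c0acc0.Pt 0) (c0atl0.Pt 0) && Nat.beq (ltAll 100 []) 0 && kChk c0ace_P c0ax_P c0acc0.K 1 H15.HS.B []) = true := by decide +kernel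
theorem c0ac_c : chainCard [c0acc0, c0acc1, c0acc3, c0acc5, c0acc7] = 7680 ∧ topK [c0acc0, c0acc1, c0acc3, c0acc5, c0acc7] = 5 := by decide +kernel
theorem c0w0_lt : H16.allL (ltAll 6) c0w0_W = true := by decide +kernel
theorem c0y0x_lt : H16.allL (ltAll 6) c0y0x_W = true := by decide +kernel
theorem c0y0th_lt : H16.allL (ltAll 6) c0y0th_W = true := by decide +kernel
theorem c0y0tl0_e_0 : allZ (dent c0y0tl0 c0y0th_P (nat_lit 100)) (nat_lit 0) (nat_lit 99) = true := by decide +kernel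
theorem c0y0tl0_h : 0 < c0y0tl0.n ∧ 0 < c0y0tl0.K ∧ c0y0tl0.Pt 0 < 100 ∧ c0y0tl0.Q (c0y0tl0.Pt 0) = 0 := by decide +kernel
theorem c0y0tl1_e_0 : allZ (dent c0y0tl1 c0y0th_P (nat_lit 100)) (nat_lit 0) (nat_lit 21) = true := by decide +kernel
theorem c0y0tl1_h : 0 < c0y0tl1.n ∧ 0 < c0y0tl1.K ∧ c0y0tl1.Pt 0 < 100 ∧ c0y0tl1.Q (c0y0tl1.Pt 0) = 0 := by decide +kernel
theorem c0y0tl2_e_0 : allZ (dent c0y0tl2 c0y0th_P (nat_lit 100)) (nat_lit 0) (nat_lit 20) = true := by decide +kernel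
theorem c0y0tl2_h : 0 < c0y0tl2.n ∧ 0 < c0y0tl2.K ∧ c0y0tl2.Pt 0 < 100 ∧ c0y0tl2.Q (c0y0tl2.Pt 0) = 0 := by decide +kernel
theorem c0y0tl3_e_0 : allZ (dent c0y0tl3 c0y0th_P (nat_lit 100)) (nat_lit 0) (nat_lit 15) = true := by decide +kernel
theorem c0y0tl3_h : 0 < c0y0tl3.n ∧ 0 < c0y0tl3.K ∧ c0y0tl3.Pt 0 < 100 ∧ c0y0tl3.Q (c0y0tl3.Pt 0) = 0 := by decide +kernel
theorem c0y0tl4_e_0 : allZ (dent c0y0tl4 c0y0th_P (nat_lit 100)) (nat_lit 0) (nat_lit 5) = true := by decide +kernel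
theorem c0y0tl4_h : 0 < c0y0tl4.n ∧ 0 < c0y0tl4.K ∧ c0y0tl4.Pt 0 < 100 ∧ c0y0tl4.Q (c0y0tl4.Pt 0) = 0 := by decide +kernel
theorem c0y0tl5_e_0 : allZ (dent c0y0tl5 c0y0th_P (nat_lit 100)) (nat_lit 0) (nat_lit 4) = true := by decide +kernel
theorem c0y0tl5_h : 0 < c0y0tl5.n ∧ 0 < c0y0tl5.K ∧ c0y0tl5.Pt 0 < 100 ∧ c0y0tl5.Q (c0y0tl5.Pt 0) = 0 := by decide +kernel
theorem c0y0tl6_e_0 : allZ (dent c0y0tl6 c0y0th_P (nat_lit 100)) (nat_lit 0) (nat_lit 1) = true := by decide +kernel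
theorem c0y0tl6_h : 0 < c0y0tl6.n ∧ 0 < c0y0tl6.K ∧ c0y0tl6.Pt 0 < 100 ∧ c0y0tl6.Q (c0y0tl6.Pt 0) = 0 := by decide +kernel
theorem c0y0t_f6 : (Nat.ble c0y0tl6.K 11 && Nat.ble (topK []) c0y0tl6.K && fixLetters c0y0th_P (topK []) (c0y0tl6.Pt 0)) = true := by decide +kernel
theorem c0y0t_f5 : (Nat.ble c0y0tl5.K 11 && Nat.ble (topK [c0y0tl6]) c0y0tl5.K && fixLetters c0y0th_P (topK [c0y0tl6]) (c0y0tl5.Pt 0)) = true := by decide +kernel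
theorem c0y0t_f4 : (Nat.ble c0y0tl4.K 11 && Nat.ble (topK [c0y0tl5, c0y0tl6]) c0y0tl4.K && fixLetters c0y0th_P (topK [c0y0tl5, c0y0tl6]) (c0y0tl4.Pt 0)) = true := by decide +kernel
theorem c0y0t_f3 : (Nat.ble c0y0tl3.K 11 && Nat.ble (topK [c0y0tl4, c0y0tl5, c0y0tl6]) c0y0tl3.K && fixLetters c0y0th_P (topK [c0y0tl4, c0y0tl5, c0y0tl6]) (c0y0tl3.Pt 0)) = true := by decide +kernel
theorem c0y0t_f2 : (Nat.ble c0y0tl2.K 11 && Nat.ble (topK [c0y0tl3, c0y0tl4, c0y0tl5, c0y0tl6]) c0y0tl2.K && fixLetters c0y0th_P (topK [c0y0tl3, c0y0tl4, c0y0tl5, c0y0tl6]) (c0y0tl2.Pt 0)) = true := by decide +kernel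
theorem c0y0t_f1 : (Nat.ble c0y0tl1.K 11 && Nat.ble (topK [c0y0tl2, c0y0tl3, c0y0tl4, c0y0tl5, c0y0tl6]) c0y0tl1.K && fixLetters c0y0th_P (topK [c0y0tl2, c0y0tl3, c0y0tl4, c0y0tl5, c0y0tl6]) (c0y0tl1.Pt 0)) = true := by decide +kernel
theorem c0y0t_f0 : (Nat.ble c0y0tl0.K 11 && Nat.ble (topK [c0y0tl1, c0y0tl2, c0y0tl3, c0y0tl4, c0y0tl5, c0y0tl6]) c0y0tl0.K && fixLetters c0y0th_P (topK [c0y0tl1, c0y0tl2, c0y0tl3, c0y0tl4, c0y0tl5, c0y0tl6]) (c0y0tl0.Pt 0)) = true := by decide +kernel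
theorem c0y0t_c : chainCard [c0y0tl0, c0y0tl1, c0y0tl2, c0y0tl3, c0y0tl4, c0y0tl5, c0y0tl6] = 44352000 := by decide +kernel
theorem c0y0ce_lt : H16.allL (ltAll 6) c0y0ce_W = true := by decide +kernel
theorem c0y0c_f6 : (Nat.ble c0y0tl6.K 11 && Nat.blt (nat_lit 2) 100 && fixLetters c0y0th_P c0y0tl6.K (nat_lit 2) && Nat.beq (ltAll 1 [nat_lit 0]) 0 && Nat.beq (apW c0y0x_P [nat_lit 0] (nat_lit 2)) (c0y0tl6.Pt 0)) = true := by decide +kernel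
theorem c0y0cc5_e_0 : allZ (dent c0y0cc5 c0y0ce_P (nat_lit 100)) (nat_lit 0) (nat_lit 1) = true := by decide +kernel
theorem c0y0cc5_h : 0 < c0y0cc5.n ∧ 0 < c0y0cc5.K ∧ c0y0cc5.Pt 0 < 100 ∧ c0y0cc5.Q (c0y0cc5.Pt 0) = 0 := by decide +kernel
theorem c0y0tn0_0 : (Nat.ble c0y0tl5.K 11 && Nat.beq (ltAll 100 [c0y0tl4.Pt 0, c0y0tl3.Pt 0, c0y0tl2.Pt 0, c0y0tl1.Pt 0, c0y0tl0.Pt 0]) 0 && kChk c0y0ce_P c0y0x_P c0y0tn0.Kn 1 H15.HS.B [c0y0tl4.Pt 0, c0y0tl3.Pt 0, c0y0tl2.Pt 0, c0y0tl1.Pt 0, c0y0tl0.Pt 0] && H16.allL (ltAll 1) c0y0tn0.pre && planOK c0y0th_P c0y0x_P 1 (c0y0tl5.Pt 0) c0y0tn0.plan [c0y0tl5, c0y0tl6]) = true := by decide +kernel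
theorem c0y0tn0_1_0 : allZ (c0y0tn0.ent H15.HS.P c0y0th_P c0y0x_P c0y0x_P c0y0ce_P (nat_lit 6) (nat_lit 1) H15.HS.B c0y0tl5 [c0y0tl6] (memO c0y0cc5)) (nat_lit 0) (nat_lit 5) = true := by decide +kernel
theorem c0y0c_f5 : (Nat.ble c0y0cc5.K 2 && Nat.ble (topK []) c0y0cc5.K && Nat.beq (c0y0cc5.Pt 0) (c0y0tl5.Pt 0) && Nat.beq (ltAll 100 [c0y0tl4.Pt 0, c0y0tl3.Pt 0, c0y0tl2.Pt 0, c0y0tl1.Pt 0, c0y0tl0.Pt 0]) 0 && kChk c0y0ce_P c0y0x_P c0y0cc5.K 1 H15.HS.B [c0y0tl4.Pt 0, c0y0tl3.Pt 0, c0y0tl2.Pt 0, c0y0tl1.Pt 0, c0y0tl0.Pt 0]) = true := by decide +kernel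
theorem c0y0c_f4 : (Nat.ble c0y0tl4.K 11 && Nat.blt (nat_lit 0) 100 && fixLetters c0y0th_P c0y0tl4.K (nat_lit 0) && Nat.beq (ltAll 1 [nat_lit 0, nat_lit 0, nat_lit 0, nat_lit 0]) 0 && Nat.beq (apW c0y0x_P [nat_lit 0, nat_lit 0, nat_lit 0, nat_lit 0] (nat_lit 0)) (c0y0tl4.Pt 0)) = true := by decide +kernel
theorem c0y0c_f3 : (Nat.ble c0y0tl3.K 11 && Nat.blt (nat_lit 0) 100 && fixLetters c0y0th_P c0y0tl3.K (nat_lit 0) && Nat.beq (ltAll 1 [nat_lit 0, nat_lit 0, nat_lit 0]) 0 && Nat.beq (apW c0y0x_P [nat_lit 0, nat_lit 0, nat_lit 0] (nat_lit 0)) (c0y0tl3.Pt 0)) = true := by decide +kernel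
theorem c0y0c_f2 : (Nat.ble c0y0tl2.K 11 && Nat.blt (nat_lit 0) 100 && fixLetters c0y0th_P c0y0tl2.K (nat_lit 0) && Nat.beq (ltAll 1 [nat_lit 0, nat_lit 0]) 0 && Nat.beq (apW c0y0x_P [nat_lit 0, nat_lit 0] (nat_lit 0)) (c0y0tl2.Pt 0)) = true := by decide +kernel
theorem c0y0c_f1 : (Nat.ble c0y0tl1.K 11 && Nat.blt (nat_lit 0) 100 && fixLetters c0y0th_P c0y0tl1.K (nat_lit 0) && Nat.beq (ltAll 1 [nat_lit 0]) 0 && Nat.beq (apW c0y0x_P [nat_lit 0] (nat_lit 0)) (c0y0tl1.Pt 0)) = true := by decide +kernel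
theorem c0y0cc0_e_0 : allZ (dent c0y0cc0 c0y0ce_P (nat_lit 100)) (nat_lit 0) (nat_lit 9) = true := by decide +kernel
theorem c0y0cc0_h : 0 < c0y0cc0.n ∧ 0 < c0y0cc0.K ∧ c0y0cc0.Pt 0 < 100 ∧ c0y0cc0.Q (c0y0cc0.Pt 0) = 0 := by decide +kernel
theorem c0y0tn1_0 : (Nat.ble c0y0tl0.K 11 && Nat.beq (ltAll 100 []) 0 && kChk c0y0ce_P c0y0x_P c0y0tn1.Kn 1 H15.HS.B [] && H16.allL (ltAll 1) c0y0tn1.pre && planOK c0y0th_P c0y0x_P 1 (c0y0tl0.Pt 0) c0y0tn1.plan [c0y0tl0, c0y0tl1, c0y0tl2, c0y0tl3, c0y0tl4, c0y0tl5, c0y0tl6]) = true := by decide +kernel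
theorem c0y0tn1_1_0 : allZ (c0y0tn1.ent H15.HS.P c0y0th_P c0y0x_P c0y0x_P c0y0ce_P (nat_lit 6) (nat_lit 1) H15.HS.B c0y0tl0 [c0y0tl1, c0y0tl2, c0y0tl3, c0y0tl4, c0y0tl5, c0y0tl6] (memO c0y0cc0)) (nat_lit 0) (nat_lit 100) = true := by decide +kernel
theorem c0y0c_f0 : (Nat.ble c0y0cc0.K 2 && Nat.ble (topK [c0y0cc5]) c0y0cc0.K && Nat.beq (c0y0cc0.Pt 0) (c0y0tl0.Pt 0) && Nat.beq (ltAll 100 []) 0 && kChk c0y0ce_P c0y0x_P c0y0cc0.K 1 H15.HS.B []) = true := by decide +kernel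
theorem c0y0c_c : chainCard [c0y0cc0, c0y0cc5] = 20 ∧ topK [c0y0cc0, c0y0cc5] = 2 := by decide +kernel
theorem c0w0_k : eqL c0w0_P 2 H15.HS.B (List.replicate 5 1) [0] = 0 := by decide +kernel
theorem c0w0p_k : fixL c0w0_P 2 H15.HS.B (List.replicate 2 0) = 0 := by decide +kernel
theorem c0w0n_k : 0 < 100 ∧ ltAll 2 (List.replicate 2 1) = 0 ∧ ltAll 2 [] = 0 ∧ apW c0w0_P (List.replicate 2 1) 0 ≠ apW c0w0_P [] 0 := by decide +kernel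
theorem c1ax_lt : H16.allL (ltAll 6) c1ax_W = true := by decide +kernel
theorem c1ath_lt : H16.allL (ltAll 6) c1ath_W = true := by decide +kernel
theorem c1atl0_e_0 : allZ (dent c1atl0 c1ath_P (nat_lit 100)) (nat_lit 0) (nat_lit 99) = true := by decide +kernel
theorem c1atl0_h : 0 < c1atl0.n ∧ 0 < c1atl0.K ∧ c1atl0.Pt 0 < 100 ∧ c1atl0.Q (c1atl0.Pt 0) = 0 := by decide +kernel
theorem c1atl1_e_0 : allZ (dent c1atl1 c1ath_P (nat_lit 100)) (nat_lit 0) (nat_lit 21) = true := by decide +kernel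
theorem c1atl1_h : 0 < c1atl1.n ∧ 0 < c1atl1.K ∧ c1atl1.Pt 0 < 100 ∧ c1atl1.Q (c1atl1.Pt 0) = 0 := by decide +kernel
theorem c1atl2_e_0 : allZ (dent c1atl2 c1ath_P (nat_lit 100)) (nat_lit 0) (nat_lit 20) = true := by decide +kernel
theorem c1atl2_h : 0 < c1atl2.n ∧ 0 < c1atl2.K ∧ c1atl2.Pt 0 < 100 ∧ c1atl2.Q (c1atl2.Pt 0) = 0 := by decide +kernel
theorem c1atl3_e_0 : allZ (dent c1atl3 c1ath_P (nat_lit 100)) (nat_lit 0) (nat_lit 15) = true := by decide +kernel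
theorem c1atl3_h : 0 < c1atl3.n ∧ 0 < c1atl3.K ∧ c1atl3.Pt 0 < 100 ∧ c1atl3.Q (c1atl3.Pt 0) = 0 := by decide +kernel
theorem c1atl4_e_0 : allZ (dent c1atl4 c1ath_P (nat_lit 100)) (nat_lit 0) (nat_lit 4) = true := by decide +kernel
theorem c1atl4_h : 0 < c1atl4.n ∧ 0 < c1atl4.K ∧ c1atl4.Pt 0 < 100 ∧ c1atl4.Q (c1atl4.Pt 0) = 0 := by decide +kernel
theorem c1atl5_e_0 : allZ (dent c1atl5 c1ath_P (nat_lit 100)) (nat_lit 0) (nat_lit 2) = true := by decide +kernel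
theorem c1atl5_h : 0 < c1atl5.n ∧ 0 < c1atl5.K ∧ c1atl5.Pt 0 < 100 ∧ c1atl5.Q (c1atl5.Pt 0) = 0 := by decide +kernel
theorem c1atl6_e_0 : allZ (dent c1atl6 c1ath_P (nat_lit 100)) (nat_lit 0) (nat_lit 1) = true := by decide +kernel
theorem c1atl6_h : 0 < c1atl6.n ∧ 0 < c1atl6.K ∧ c1atl6.Pt 0 < 100 ∧ c1atl6.Q (c1atl6.Pt 0) = 0 := by decide +kernel
theorem c1atl7_e_0 : allZ (dent c1atl7 c1ath_P (nat_lit 100)) (nat_lit 0) (nat_lit 1) = true := by decide +kernel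
theorem c1atl7_h : 0 < c1atl7.n ∧ 0 < c1atl7.K ∧ c1atl7.Pt 0 < 100 ∧ c1atl7.Q (c1atl7.Pt 0) = 0 := by decide +kernel
theorem c1at_f7 : (Nat.ble c1atl7.K 13 && Nat.ble (topK []) c1atl7.K && fixLetters c1ath_P (topK []) (c1atl7.Pt 0)) = true := by decide +kernel
theorem c1at_f6 : (Nat.ble c1atl6.K 13 && Nat.ble (topK [c1atl7]) c1atl6.K && fixLetters c1ath_P (topK [c1atl7]) (c1atl6.Pt 0)) = true := by decide +kernel
theorem c1at_f5 : (Nat.ble c1atl5.K 13 && Nat.ble (topK [c1atl6, c1atl7]) c1atl5.K && fixLetters c1ath_P (topK [c1atl6, c1atl7]) (c1atl5.Pt 0)) = true := by decide +kernel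
theorem c1at_f4 : (Nat.ble c1atl4.K 13 && Nat.ble (topK [c1atl5, c1atl6, c1atl7]) c1atl4.K && fixLetters c1ath_P (topK [c1atl5, c1atl6, c1atl7]) (c1atl4.Pt 0)) = true := by decide +kernel
theorem c1at_f3 : (Nat.ble c1atl3.K 13 && Nat.ble (topK [c1atl4, c1atl5, c1atl6, c1atl7]) c1atl3.K && fixLetters c1ath_P (topK [c1atl4, c1atl5, c1atl6, c1atl7]) (c1atl3.Pt 0)) = true := by decide +kernel
theorem c1at_f2 : (Nat.ble c1atl2.K 13 && Nat.ble (topK [c1atl3, c1atl4, c1atl5, c1atl6, c1atl7]) c1atl2.K && fixLetters c1ath_P (topK [c1atl3, c1atl4, c1atl5, c1atl6, c1atl7]) (c1atl2.Pt 0)) = true := by decide +kernel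
theorem c1at_f1 : (Nat.ble c1atl1.K 13 && Nat.ble (topK [c1atl2, c1atl3, c1atl4, c1atl5, c1atl6, c1atl7]) c1atl1.K && fixLetters c1ath_P (topK [c1atl2, c1atl3, c1atl4, c1atl5, c1atl6, c1atl7]) (c1atl1.Pt 0)) = true := by decide +kernel
theorem c1at_f0 : (Nat.ble c1atl0.K 13 && Nat.ble (topK [c1atl1, c1atl2, c1atl3, c1atl4, c1atl5, c1atl6, c1atl7]) c1atl0.K && fixLetters c1ath_P (topK [c1atl1, c1atl2, c1atl3, c1atl4, c1atl5, c1atl6, c1atl7]) (c1atl0.Pt 0)) = true := by decide +kernel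
theorem c1at_c : chainCard [c1atl0, c1atl1, c1atl2, c1atl3, c1atl4, c1atl5, c1atl6, c1atl7] = 44352000 := by decide +kernel
theorem c1ace_lt : H16.allL (ltAll 6) c1ace_W = true := by decide +kernel
theorem c1acc7_e_0 : allZ (dent c1acc7 c1ace_P (nat_lit 100)) (nat_lit 0) (nat_lit 1) = true := by decide +kernel
theorem c1acc7_h : 0 < c1acc7.n ∧ 0 < c1acc7.K ∧ c1acc7.Pt 0 < 100 ∧ c1acc7.Q (c1acc7.Pt 0) = 0 := by decide +kernel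
theorem c1atn0_0 : (Nat.ble c1atl7.K 13 && Nat.beq (ltAll 100 [c1atl6.Pt 0, c1atl5.Pt 0, c1atl4.Pt 0, c1atl3.Pt 0, c1atl2.Pt 0, c1atl1.Pt 0, c1atl0.Pt 0]) 0 && kChk c1ace_P c1ax_P c1atn0.Kn 1 H15.HS.B [c1atl6.Pt 0, c1atl5.Pt 0, c1atl4.Pt 0, c1atl3.Pt 0, c1atl2.Pt 0, c1atl1.Pt 0, c1atl0.Pt 0] && H16.allL (ltAll 1) c1atn0.pre && planOK c1ath_P c1ax_P 1 (c1atl7.Pt 0) c1atn0.plan [c1atl7]) = true := by decide +kernel
theorem c1atn0_1_0 : allZ (c1atn0.ent H15.HS.P c1ath_P c1ax_P c1ax_P c1ace_P (nat_lit 6) (nat_lit 1) H15.HS.B c1atl7 [] (memO c1acc7)) (nat_lit 0) (nat_lit 2) = true := by decide +kernel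
theorem c1ac_f7 : (Nat.ble c1acc7.K 7 && Nat.ble (topK []) c1acc7.K && Nat.beq (c1acc7.Pt 0) (c1atl7.Pt 0) && Nat.beq (ltAll 100 [c1atl6.Pt 0, c1atl5.Pt 0, c1atl4.Pt 0, c1atl3.Pt 0, c1atl2.Pt 0, c1atl1.Pt 0, c1atl0.Pt 0]) 0 && kChk c1ace_P c1ax_P c1acc7.K 1 H15.HS.B [c1atl6.Pt 0, c1atl5.Pt 0, c1atl4.Pt 0, c1atl3.Pt 0, c1atl2.Pt 0, c1atl1.Pt 0, c1atl0.Pt 0]) = true := by decide +kernel
theorem c1atn1y66_lt : H16.allL (ltAll 6) c1atn1y66_W = true := by decide +kernel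
theorem c1atr2k_lt : H16.allL (ltAll 6) c1atr2k_W = true := by decide +kernel
theorem c1atn2_0 : (Nat.ble c1atl7.K 13 && Nat.beq (ltAll 100 [c1atl6.Pt 0, c1atl5.Pt 0, c1atl4.Pt 0, c1atl3.Pt 0, c1atl2.Pt 0, c1atl1.Pt 0, c1atl0.Pt 0]) 0 && kChk c1atr2k_P c1atn1y66_P c1atn2.Kn 1 H15.HS.B [c1atl6.Pt 0, c1atl5.Pt 0, c1atl4.Pt 0, c1atl3.Pt 0, c1atl2.Pt 0, c1atl1.Pt 0, c1atl0.Pt 0] && H16.allL (ltAll 1) c1atn2.pre && planOK c1ath_P c1ax_P 1 (c1atl7.Pt 0) c1atn2.plan [c1atl7]) = true := by decide +kernel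
theorem c1atn2_1_0 : allZ (c1atn2.ent H15.HS.P c1ath_P c1ax_P c1atn1y66_P c1atr2k_P (nat_lit 6) (nat_lit 1) H15.HS.B c1atl7 [] (fun _ => nat_lit 1)) (nat_lit 0) (nat_lit 2) = true := by decide +kernel
theorem c1atn1_0 : (Nat.ble c1atl6.K 13 && Nat.beq (ltAll 100 [c1atl5.Pt 0, c1atl4.Pt 0, c1atl3.Pt 0, c1atl2.Pt 0, c1atl1.Pt 0, c1atl0.Pt 0]) 0 && kChk c1ace_P c1ax_P c1atn1.Kn 1 H15.HS.B [c1atl5.Pt 0, c1atl4.Pt 0, c1atl3.Pt 0, c1atl2.Pt 0, c1atl1.Pt 0, c1atl0.Pt 0] && H16.allL (ltAll 1) c1atn1.pre && planOK c1ath_P c1ax_P 1 (c1atl6.Pt 0) c1atn1.plan [c1atl6, c1atl7]) = true := by decide +kernel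
theorem c1atn1_1_0 : allZ (c1atn1.ent H15.HS.P c1ath_P c1ax_P c1ax_P c1ace_P (nat_lit 6) (nat_lit 1) H15.HS.B c1atl6 [c1atl7] (fun w => Nat.xor w (c1atl6.Pt (nat_lit 0)))) (nat_lit 0) (nat_lit 2) = true := by decide +kernel
theorem c1atn3_0 : (Nat.ble c1atl5.K 13 && Nat.beq (ltAll 100 [c1atl4.Pt 0, c1atl3.Pt 0, c1atl2.Pt 0, c1atl1.Pt 0, c1atl0.Pt 0]) 0 && kChk c1ace_P c1ax_P c1atn3.Kn 1 H15.HS.B [c1atl4.Pt 0, c1atl3.Pt 0, c1atl2.Pt 0, c1atl1.Pt 0, c1atl0.Pt 0] && H16.allL (ltAll 1) c1atn3.pre && planOK c1ath_P c1ax_P 1 (c1atl5.Pt 0) c1atn3.plan [c1atl5, c1atl6, c1atl7]) = true := by decide +kernel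
theorem c1atn3_1_0 : allZ (c1atn3.ent H15.HS.P c1ath_P c1ax_P c1ax_P c1ace_P (nat_lit 6) (nat_lit 1) H15.HS.B c1atl5 [c1atl6, c1atl7] (fun w => Nat.xor w (c1atl5.Pt (nat_lit 0)))) (nat_lit 0) (nat_lit 3) = true := by decide +kernel
theorem c1acc4_e_0 : allZ (dent c1acc4 c1ace_P (nat_lit 100)) (nat_lit 0) (nat_lit 2) = true := by decide +kernel
theorem c1acc4_h : 0 < c1acc4.n ∧ 0 < c1acc4.K ∧ c1acc4.Pt 0 < 100 ∧ c1acc4.Q (c1acc4.Pt 0) = 0 := by decide +kernel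
theorem c1atn4_0 : (Nat.ble c1atl4.K 13 && Nat.beq (ltAll 100 [c1atl3.Pt 0, c1atl2.Pt 0, c1atl1.Pt 0, c1atl0.Pt 0]) 0 && kChk c1ace_P c1ax_P c1atn4.Kn 1 H15.HS.B [c1atl3.Pt 0, c1atl2.Pt 0, c1atl1.Pt 0, c1atl0.Pt 0] && H16.allL (ltAll 1) c1atn4.pre && planOK c1ath_P c1ax_P 1 (c1atl4.Pt 0) c1atn4.plan [c1atl4, c1atl5, c1atl6, c1atl7]) = true := by decide +kernel
theorem c1atn4_1_0 : allZ (c1atn4.ent H15.HS.P c1ath_P c1ax_P c1ax_P c1ace_P (nat_lit 6) (nat_lit 1) H15.HS.B c1atl4 [c1atl5, c1atl6, c1atl7] (memO c1acc4)) (nat_lit 0) (nat_lit 5) = true := by decide +kernel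
theorem c1ac_f4 : (Nat.ble c1acc4.K 7 && Nat.ble (topK [c1acc7]) c1acc4.K && Nat.beq (c1acc4.Pt 0) (c1atl4.Pt 0) && Nat.beq (ltAll 100 [c1atl3.Pt 0, c1atl2.Pt 0, c1atl1.Pt 0, c1atl0.Pt 0]) 0 && kChk c1ace_P c1ax_P c1acc4.K 1 H15.HS.B [c1atl3.Pt 0, c1atl2.Pt 0, c1atl1.Pt 0, c1atl0.Pt 0]) = true := by decide +kernel
theorem c1ac_f3 : (Nat.ble c1atl3.K 13 && Nat.blt (nat_lit 14) 100 && fixLetters c1ath_P c1atl3.K (nat_lit 14) && Nat.beq (ltAll 1 [nat_lit 0]) 0 && Nat.beq (apW c1ax_P [nat_lit 0] (nat_lit 14)) (c1atl3.Pt 0)) = true := by decide +kernel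
theorem c1acc2_e_0 : allZ (dent c1acc2 c1ace_P (nat_lit 100)) (nat_lit 0) (nat_lit 11) = true := by decide +kernel
theorem c1acc2_h : 0 < c1acc2.n ∧ 0 < c1acc2.K ∧ c1acc2.Pt 0 < 100 ∧ c1acc2.Q (c1acc2.Pt 0) = 0 := by decide +kernel
theorem c1atn5_0 : (Nat.ble c1atl2.K 13 && Nat.beq (ltAll 100 [c1atl1.Pt 0, c1atl0.Pt 0]) 0 && kChk c1ace_P c1ax_P c1atn5.Kn 1 H15.HS.B [c1atl1.Pt 0, c1atl0.Pt 0] && H16.allL (ltAll 1) c1atn5.pre && planOK c1ath_P c1ax_P 1 (c1atl2.Pt 0) c1atn5.plan [c1atl2, c1atl3, c1atl4, c1atl5, c1atl6, c1atl7]) = true := by decide +kernel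
theorem c1atn5_1_0 : allZ (c1atn5.ent H15.HS.P c1ath_P c1ax_P c1ax_P c1ace_P (nat_lit 6) (nat_lit 1) H15.HS.B c1atl2 [c1atl3, c1atl4, c1atl5, c1atl6, c1atl7] (memO c1acc2)) (nat_lit 0) (nat_lit 21) = true := by decide +kernel
theorem c1ac_f2 : (Nat.ble c1acc2.K 7 && Nat.ble (topK [c1acc4, c1acc7]) c1acc2.K && Nat.beq (c1acc2.Pt 0) (c1atl2.Pt 0) && Nat.beq (ltAll 100 [c1atl1.Pt 0, c1atl0.Pt 0]) 0 && kChk c1ace_P c1ax_P c1acc2.K 1 H15.HS.B [c1atl1.Pt 0, c1atl0.Pt 0]) = true := by decide +kernel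
theorem c1ac_f1 : (Nat.ble c1atl1.K 13 && Nat.blt (nat_lit 0) 100 && fixLetters c1ath_P c1atl1.K (nat_lit 0) && Nat.beq (ltAll 1 [nat_lit 0]) 0 && Nat.beq (apW c1ax_P [nat_lit 0] (nat_lit 0)) (c1atl1.Pt 0)) = true := by decide +kernel
theorem c1acc0_e_0 : allZ (dent c1acc0 c1ace_P (nat_lit 100)) (nat_lit 0) (nat_lit 39) = true := by decide +kernel
theorem c1acc0_h : 0 < c1acc0.n ∧ 0 < c1acc0.K ∧ c1acc0.Pt 0 < 100 ∧ c1acc0.Q (c1acc0.Pt 0) = 0 := by decide +kernel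
theorem c1atn6_0 : (Nat.ble c1atl0.K 13 && Nat.beq (ltAll 100 []) 0 && kChk c1ace_P c1ax_P c1atn6.Kn 1 H15.HS.B [] && H16.allL (ltAll 1) c1atn6.pre && planOK c1ath_P c1ax_P 1 (c1atl0.Pt 0) c1atn6.plan [c1atl0, c1atl1, c1atl2, c1atl3, c1atl4, c1atl5, c1atl6, c1atl7]) = true := by decide +kernel
theorem c1atn6_1_0 : allZ (c1atn6.ent H15.HS.P c1ath_P c1ax_P c1ax_P c1ace_P (nat_lit 6) (nat_lit 1) H15.HS.B c1atl0 [c1atl1, c1atl2, c1atl3, c1atl4, c1atl5, c1atl6, c1atl7] (memO c1acc0)) (nat_lit 0) (nat_lit 100) = true := by decide +kernel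
theorem c1ac_f0 : (Nat.ble c1acc0.K 7 && Nat.ble (topK [c1acc2, c1acc4, c1acc7]) c1acc0.K && Nat.beq (c1acc0.Pt 0) (c1atl0.Pt 0) && Nat.beq (ltAll 100 []) 0 && kChk c1ace_P c1ax_P c1acc0.K 1 H15.HS.B []) = true := by decide +kernel
theorem c1ac_c : chainCard [c1acc0, c1acc2, c1acc4, c1acc7] = 2880 ∧ topK [c1acc0, c1acc2, c1acc4, c1acc7] = 7 := by decide +kernel
theorem c1w0_lt : H16.allL (ltAll 6) c1w0_W = true := by decide +kernel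
theorem c1y0x_lt : H16.allL (ltAll 6) c1y0x_W = true := by decide +kernel
theorem c1y0th_lt : H16.allL (ltAll 6) c1y0th_W = true := by decide +kernel
theorem c1y0tl0_e_0 : allZ (dent c1y0tl0 c1y0th_P (nat_lit 100)) (nat_lit 0) (nat_lit 99) = true := by decide +kernel
theorem c1y0tl0_h : 0 < c1y0tl0.n ∧ 0 < c1y0tl0.K ∧ c1y0tl0.Pt 0 < 100 ∧ c1y0tl0.Q (c1y0tl0.Pt 0) = 0 := by decide +kernel
theorem c1y0tl1_e_0 : allZ (dent c1y0tl1 c1y0th_P (nat_lit 100)) (nat_lit 0) (nat_lit 76) = true := by decide +kernel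
theorem c1y0tl1_h : 0 < c1y0tl1.n ∧ 0 < c1y0tl1.K ∧ c1y0tl1.Pt 0 < 100 ∧ c1y0tl1.Q (c1y0tl1.Pt 0) = 0 := by decide +kernel
theorem c1y0tl2_e_0 : allZ (dent c1y0tl2 c1y0th_P (nat_lit 100)) (nat_lit 0) (nat_lit 59) = true := by decide +kernel
theorem c1y0tl2_h : 0 < c1y0tl2.n ∧ 0 < c1y0tl2.K ∧ c1y0tl2.Pt 0 < 100 ∧ c1y0tl2.Q (c1y0tl2.Pt 0) = 0 := by decide +kernel
theorem c1y0tl3_e_0 : allZ (dent c1y0tl3 c1y0th_P (nat_lit 100)) (nat_lit 0) (nat_lit 11) = true := by decide +kernel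
theorem c1y0tl3_h : 0 < c1y0tl3.n ∧ 0 < c1y0tl3.K ∧ c1y0tl3.Pt 0 < 100 ∧ c1y0tl3.Q (c1y0tl3.Pt 0) = 0 := by decide +kernel
theorem c1y0tl4_e_0 : allZ (dent c1y0tl4 c1y0th_P (nat_lit 100)) (nat_lit 0) (nat_lit 7) = true := by decide +kernel
theorem c1y0tl4_h : 0 < c1y0tl4.n ∧ 0 < c1y0tl4.K ∧ c1y0tl4.Pt 0 < 100 ∧ c1y0tl4.Q (c1y0tl4.Pt 0) = 0 := by decide +kernel
theorem c1y0t_f4 : (Nat.ble c1y0tl4.K 13 && Nat.ble (topK []) c1y0tl4.K && fixLetters c1y0th_P (topK []) (c1y0tl4.Pt 0)) = true := by decide +kernel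
theorem c1y0t_f3 : (Nat.ble c1y0tl3.K 13 && Nat.ble (topK [c1y0tl4]) c1y0tl3.K && fixLetters c1y0th_P (topK [c1y0tl4]) (c1y0tl3.Pt 0)) = true := by decide +kernel
theorem c1y0t_f2 : (Nat.ble c1y0tl2.K 13 && Nat.ble (topK [c1y0tl3, c1y0tl4]) c1y0tl2.K && fixLetters c1y0th_P (topK [c1y0tl3, c1y0tl4]) (c1y0tl2.Pt 0)) = true := by decide +kernel
theorem c1y0t_f1 : (Nat.ble c1y0tl1.K 13 && Nat.ble (topK [c1y0tl2, c1y0tl3, c1y0tl4]) c1y0tl1.K && fixLetters c1y0th_P (topK [c1y0tl2, c1y0tl3, c1y0tl4]) (c1y0tl1.Pt 0)) = true := by decide +kernel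
theorem c1y0t_f0 : (Nat.ble c1y0tl0.K 13 && Nat.ble (topK [c1y0tl1, c1y0tl2, c1y0tl3, c1y0tl4]) c1y0tl0.K && fixLetters c1y0th_P (topK [c1y0tl1, c1y0tl2, c1y0tl3, c1y0tl4]) (c1y0tl0.Pt 0)) = true := by decide +kernel
theorem c1y0t_c : chainCard [c1y0tl0, c1y0tl1, c1y0tl2, c1y0tl3, c1y0tl4] = 44352000 := by decide +kernel
theorem c1y0ce_lt : H16.allL (ltAll 6) c1y0ce_W = true := by decide +kernel
theorem c1y0c_f4 : (Nat.ble c1y0tl4.K 13 && Nat.blt (nat_lit 0) 100 && fixLetters c1y0th_P c1y0tl4.K (nat_lit 0) && Nat.beq (ltAll 1 [nat_lit 0, nat_lit 0, nat_lit 0, nat_lit 0]) 0 && Nat.beq (apW c1y0x_P [nat_lit 0, nat_lit 0, nat_lit 0, nat_lit 0] (nat_lit 0)) (c1y0tl4.Pt 0)) = true := by decide +kernel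
theorem c1y0c_f3 : (Nat.ble c1y0tl3.K 13 && Nat.blt (nat_lit 0) 100 && fixLetters c1y0th_P c1y0tl3.K (nat_lit 0) && Nat.beq (ltAll 1 [nat_lit 0, nat_lit 0, nat_lit 0]) 0 && Nat.beq (apW c1y0x_P [nat_lit 0, nat_lit 0, nat_lit 0] (nat_lit 0)) (c1y0tl3.Pt 0)) = true := by decide +kernel
theorem c1y0c_f2 : (Nat.ble c1y0tl2.K 13 && Nat.blt (nat_lit 0) 100 && fixLetters c1y0th_P c1y0tl2.K (nat_lit 0) && Nat.beq (ltAll 1 [nat_lit 0, nat_lit 0]) 0 && Nat.beq (apW c1y0x_P [nat_lit 0, nat_lit 0] (nat_lit 0)) (c1y0tl2.Pt 0)) = true := by decide +kernel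
theorem c1y0c_f1 : (Nat.ble c1y0tl1.K 13 && Nat.blt (nat_lit 0) 100 && fixLetters c1y0th_P c1y0tl1.K (nat_lit 0) && Nat.beq (ltAll 1 [nat_lit 0]) 0 && Nat.beq (apW c1y0x_P [nat_lit 0] (nat_lit 0)) (c1y0tl1.Pt 0)) = true := by decide +kernel
theorem c1y0cc0_e_0 : allZ (dent c1y0cc0 c1y0ce_P (nat_lit 100)) (nat_lit 0) (nat_lit 19) = true := by decide +kernel
theorem c1y0cc0_h : 0 < c1y0cc0.n ∧ 0 < c1y0cc0.K ∧ c1y0cc0.Pt 0 < 100 ∧ c1y0cc0.Q (c1y0cc0.Pt 0) = 0 := by decide +kernel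
theorem c1y0tn0_0 : (Nat.ble c1y0tl0.K 13 && Nat.beq (ltAll 100 []) 0 && kChk c1y0ce_P c1y0x_P c1y0tn0.Kn 1 H15.HS.B [] && H16.allL (ltAll 1) c1y0tn0.pre && planOK c1y0th_P c1y0x_P 1 (c1y0tl0.Pt 0) c1y0tn0.plan [c1y0tl0, c1y0tl1, c1y0tl2, c1y0tl3, c1y0tl4]) = true := by decide +kernel
theorem c1y0tn0_1_0 : allZ (c1y0tn0.ent H15.HS.P c1y0th_P c1y0x_P c1y0x_P c1y0ce_P (nat_lit 6) (nat_lit 1) H15.HS.B c1y0tl0 [c1y0tl1, c1y0tl2, c1y0tl3, c1y0tl4] (memO c1y0cc0)) (nat_lit 0) (nat_lit 100) = true := by decide +kernel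
theorem c1y0c_f0 : (Nat.ble c1y0cc0.K 2 && Nat.ble (topK []) c1y0cc0.K && Nat.beq (c1y0cc0.Pt 0) (c1y0tl0.Pt 0) && Nat.beq (ltAll 100 []) 0 && kChk c1y0ce_P c1y0x_P c1y0cc0.K 1 H15.HS.B []) = true := by decide +kernel
theorem c1y0c_c : chainCard [c1y0cc0] = 20 ∧ topK [c1y0cc0] = 2 := by decide +kernel
theorem c1w0_k : eqL c1w0_P 2 H15.HS.B (List.replicate 5 1) [0] = 0 := by decide +kernel
theorem c1w0p_k : fixL c1w0_P 2 H15.HS.B (List.replicate 2 0) = 0 := by decide +kernel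
theorem c1w0n_k : 0 < 100 ∧ ltAll 2 (List.replicate 2 1) = 0 ∧ ltAll 2 [] = 0 ∧ apW c1w0_P (List.replicate 2 1) 0 ≠ apW c1w0_P [] 0 := by decide +kernel

theorem md {G : Type*} [Group G] (e : gen H15.HS.g 6 ≃* G) :
    ∃ (_ : MulAction G (H15.Lam)) (g : ℕ → G), Md g H15.HS.pt H15.HS.P 100 6 H15.HS.B 44352000 ∧
      ∀ k < 6, (e.symm (g k)).1 = H15.HS.g k :=
  exists_md H15.HS.act H15.HS.inj H15.HS.card H15.HS.isBase md_b e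
theorem p2t_act {G Ω : Type*} [Group G] [MulAction G Ω] {g : ℕ → G} {pt : ℕ → Ω}
    (M : Md g pt H15.HS.P 100 6 H15.HS.B 44352000) : Act (wds g p2t_W) pt p2t_P 100 9 :=
  M.wact p2t_lt
theorem p2_r : ∀ k < 9, ∀ i < 72, (resEnt p2t_P p2P p2E p2I (nat_lit 100) (nat_lit 72)) k i = 0 := allZ2_sound p2_r_a
theorem p2_sm {G Ω : Type*} [Group G] [MulAction G Ω] {g : ℕ → G} {pt : ℕ → Ω}
    (M : Md g pt H15.HS.P 100 6 H15.HS.B 44352000) : Sm (wds g p2t_W) (fun i => pt (p2E i)) p2P 72 9 p2B ∧ ∀ i < 72, p2E i < 100 :=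
  M.res (p2t_act M) (by decide) p2_r p2_b
theorem p2l0_e : ∀ i < 7, (dent p2l0 (wdsP p2P p2e) (nat_lit 72)) i = 0 := allZ_sound0 p2l0_e_0
theorem p2l0_ok : DOK p2l0 (wdsP p2P p2e) 72 := ⟨p2l0_h, p2l0_e⟩
theorem p2l1_e : ∀ i < 3, (dent p2l1 (wdsP p2P p2e) (nat_lit 72)) i = 0 := allZ_sound0 p2l1_e_0
theorem p2l1_ok : DOK p2l1 (wdsP p2P p2e) 72 := ⟨p2l1_h, p2l1_e⟩
theorem p2l2_e : ∀ i < 7, (dent p2l2 (wdsP p2P p2e) (nat_lit 72)) i = 0 := allZ_sound0 p2l2_e_0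
theorem p2l2_ok : DOK p2l2 (wdsP p2P p2e) 72 := ⟨p2l2_h, p2l2_e⟩
theorem p2l3_e : ∀ i < 1, (dent p2l3 (wdsP p2P p2e) (nat_lit 72)) i = 0 := allZ_sound0 p2l3_e_0
theorem p2l3_ok : DOK p2l3 (wdsP p2P p2e) 72 := ⟨p2l3_h, p2l3_e⟩
theorem p2_low {G Ω : Type*} [Group G] [MulAction G Ω] {g : ℕ → G} {pt : ℕ → Ω}
    (M : Md g pt H15.HS.P 100 6 H15.HS.B 44352000) : SLow (gi (wds (wds g p2t_W) p2e)) (fun i => pt (p2E i)) 72 [p2l0, p2l1, p2l2, p2l3] :=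
  ((((SLow.nil).cons p2l3_ok ((p2_sm M).1.act.wds p2_e 44) p2_f3).cons p2l2_ok ((p2_sm M).1.act.wds p2_e 44) p2_f2).cons p2l1_ok ((p2_sm M).1.act.wds p2_e 44) p2_f1).cons p2l0_ok ((p2_sm M).1.act.wds p2_e 44) p2_f0
theorem p2_pc {G Ω : Type*} [Group G] [MulAction G Ω] {g : ℕ → G} {pt : ℕ → Ω}
    (M : Md g pt H15.HS.P 100 6 H15.HS.B 44352000) : PC (wds g p2t_W) 9 2 :=
  have := M.fin
  ((p2_sm M).1.pc0 (by decide) p2_p).pc (p2_low M) (p2_sm M).1.inj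
    (fun k => evA_mem_gen _ (nth_lt p2_e k)) M.card ⟨by decide, p2_c⟩
theorem covr_act {G Ω : Type*} [Group G] [MulAction G Ω] {g : ℕ → G} {pt : ℕ → Ω}
    (M : Md g pt H15.HS.P 100 6 H15.HS.B 44352000) : Act (wds g covr_W) pt covr_P 100 2 :=
  M.wact covr_lt
theorem cov_0 {G Ω : Type*} [Group G] [MulAction G Ω] {g : ℕ → G} {pt : ℕ → Ω}
    (M : Md g pt H15.HS.P 100 6 H15.HS.B 44352000) : H0.TR.Cov (wds g p2t_W) (wds g covr_W) 2 2 9 (evA (wds g p2t_W) []) :=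
  have := M.fin
  covT0.cov M (p2_sm M).1 (p2_sm M).2 (covr_act M) (p2_pc M) _ _ cov_c0
theorem cov {G Ω : Type*} [Group G] [MulAction G Ω] {g : ℕ → G} {pt : ℕ → Ω}
    (M : Md g pt H15.HS.P 100 6 H15.HS.B 44352000) {y : G} {e : ℕ} (hy : y ^ 2 ^ e = 1) (hq : y ^ 2 = 1) : Good (wds g covr_W) 2 y :=
  have := M.fin
  H0.TR.Cov.all (p2_pc M) (cov_0 M) hy hq
theorem c0ax_act {G Ω : Type*} [Group G] [MulAction G Ω] {g : ℕ → G} {pt : ℕ → Ω}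
    (M : Md g pt H15.HS.P 100 6 H15.HS.B 44352000) : Act (wds g c0ax_W) pt c0ax_P 100 1 :=
  M.wact c0ax_lt
theorem c0ath_act {G Ω : Type*} [Group G] [MulAction G Ω] {g : ℕ → G} {pt : ℕ → Ω}
    (M : Md g pt H15.HS.P 100 6 H15.HS.B 44352000) : Act (wds g c0ath_W) pt c0ath_P 100 12 :=
  M.wact c0ath_lt
theorem c0atl0_e : ∀ i < 99, (dent c0atl0 c0ath_P (nat_lit 100)) i = 0 := allZ_sound0 c0atl0_e_0
theorem c0atl0_ok : DOK c0atl0 c0ath_P 100 := ⟨c0atl0_h, c0atl0_e⟩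
theorem c0atl1_e : ∀ i < 21, (dent c0atl1 c0ath_P (nat_lit 100)) i = 0 := allZ_sound0 c0atl1_e_0
theorem c0atl1_ok : DOK c0atl1 c0ath_P 100 := ⟨c0atl1_h, c0atl1_e⟩
theorem c0atl2_e : ∀ i < 20, (dent c0atl2 c0ath_P (nat_lit 100)) i = 0 := allZ_sound0 c0atl2_e_0
theorem c0atl2_ok : DOK c0atl2 c0ath_P 100 := ⟨c0atl2_h, c0atl2_e⟩
theorem c0atl3_e : ∀ i < 4, (dent c0atl3 c0ath_P (nat_lit 100)) i = 0 := allZ_sound0 c0atl3_e_0
theorem c0atl3_ok : DOK c0atl3 c0ath_P 100 := ⟨c0atl3_h, c0atl3_e⟩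
theorem c0atl4_e : ∀ i < 3, (dent c0atl4 c0ath_P (nat_lit 100)) i = 0 := allZ_sound0 c0atl4_e_0
theorem c0atl4_ok : DOK c0atl4 c0ath_P 100 := ⟨c0atl4_h, c0atl4_e⟩
theorem c0atl5_e : ∀ i < 3, (dent c0atl5 c0ath_P (nat_lit 100)) i = 0 := allZ_sound0 c0atl5_e_0
theorem c0atl5_ok : DOK c0atl5 c0ath_P 100 := ⟨c0atl5_h, c0atl5_e⟩
theorem c0atl6_e : ∀ i < 3, (dent c0atl6 c0ath_P (nat_lit 100)) i = 0 := allZ_sound0 c0atl6_e_0
theorem c0atl6_ok : DOK c0atl6 c0ath_P 100 := ⟨c0atl6_h, c0atl6_e⟩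
theorem c0atl7_e : ∀ i < 2, (dent c0atl7 c0ath_P (nat_lit 100)) i = 0 := allZ_sound0 c0atl7_e_0
theorem c0atl7_ok : DOK c0atl7 c0ath_P 100 := ⟨c0atl7_h, c0atl7_e⟩
theorem c0at_low {G Ω : Type*} [Group G] [MulAction G Ω] {g : ℕ → G} {pt : ℕ → Ω}
    (M : Md g pt H15.HS.P 100 6 H15.HS.B 44352000) : SLow (gi (wds g c0ath_W)) pt 100 [c0atl0, c0atl1, c0atl2, c0atl3, c0atl4, c0atl5, c0atl6, c0atl7] :=
  ((((((((SLow.nil).cons c0atl7_ok (c0ath_act M) c0at_f7).cons c0atl6_ok (c0ath_act M) c0at_f6).cons c0atl5_ok (c0ath_act M) c0at_f5).cons c0atl4_ok (c0ath_act M) c0at_f4).cons c0atl3_ok (c0ath_act M) c0at_f3).cons c0atl2_ok (c0ath_act M) c0at_f2).cons c0atl1_ok (c0ath_act M) c0at_f1).cons c0atl0_ok (c0ath_act M) c0at_f0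
theorem c0at_S0 {G Ω : Type*} [Group G] [MulAction G Ω] {g : ℕ → G} {pt : ℕ → Ω}
    (M : Md g pt H15.HS.P 100 6 H15.HS.B 44352000) : Stage ⊤ (wds g c0ath_W) pt 100 [c0atl0, c0atl1, c0atl2, c0atl3, c0atl4, c0atl5, c0atl6, c0atl7] [] :=
  M.stage (c0at_low M) c0at_c
theorem c0at_S1 {G Ω : Type*} [Group G] [MulAction G Ω] {g : ℕ → G} {pt : ℕ → Ω}
    (M : Md g pt H15.HS.P 100 6 H15.HS.B 44352000) : Stage ⊤ (wds g c0ath_W) pt 100 [c0atl1, c0atl2, c0atl3, c0atl4, c0atl5, c0atl6, c0atl7] [c0atl0.Pt 0] :=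
  (c0at_S0 M).next
theorem c0at_S2 {G Ω : Type*} [Group G] [MulAction G Ω] {g : ℕ → G} {pt : ℕ → Ω}
    (M : Md g pt H15.HS.P 100 6 H15.HS.B 44352000) : Stage ⊤ (wds g c0ath_W) pt 100 [c0atl2, c0atl3, c0atl4, c0atl5, c0atl6, c0atl7] [c0atl1.Pt 0, c0atl0.Pt 0] :=
  (c0at_S1 M).next
theorem c0at_S3 {G Ω : Type*} [Group G] [MulAction G Ω] {g : ℕ → G} {pt : ℕ → Ω}
    (M : Md g pt H15.HS.P 100 6 H15.HS.B 44352000) : Stage ⊤ (wds g c0ath_W) pt 100 [c0atl3, c0atl4, c0atl5, c0atl6, c0atl7] [c0atl2.Pt 0, c0atl1.Pt 0, c0atl0.Pt 0] :=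
  (c0at_S2 M).next
theorem c0at_S4 {G Ω : Type*} [Group G] [MulAction G Ω] {g : ℕ → G} {pt : ℕ → Ω}
    (M : Md g pt H15.HS.P 100 6 H15.HS.B 44352000) : Stage ⊤ (wds g c0ath_W) pt 100 [c0atl4, c0atl5, c0atl6, c0atl7] [c0atl3.Pt 0, c0atl2.Pt 0, c0atl1.Pt 0, c0atl0.Pt 0] :=
  (c0at_S3 M).next
theorem c0at_S5 {G Ω : Type*} [Group G] [MulAction G Ω] {g : ℕ → G} {pt : ℕ → Ω}
    (M : Md g pt H15.HS.P 100 6 H15.HS.B 44352000) : Stage ⊤ (wds g c0ath_W) pt 100 [c0atl5, c0atl6, c0atl7] [c0atl4.Pt 0, c0atl3.Pt 0, c0atl2.Pt 0, c0atl1.Pt 0, c0atl0.Pt 0] :=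
  (c0at_S4 M).next
theorem c0at_S6 {G Ω : Type*} [Group G] [MulAction G Ω] {g : ℕ → G} {pt : ℕ → Ω}
    (M : Md g pt H15.HS.P 100 6 H15.HS.B 44352000) : Stage ⊤ (wds g c0ath_W) pt 100 [c0atl6, c0atl7] [c0atl5.Pt 0, c0atl4.Pt 0, c0atl3.Pt 0, c0atl2.Pt 0, c0atl1.Pt 0, c0atl0.Pt 0] :=
  (c0at_S5 M).next
theorem c0at_S7 {G Ω : Type*} [Group G] [MulAction G Ω] {g : ℕ → G} {pt : ℕ → Ω}
    (M : Md g pt H15.HS.P 100 6 H15.HS.B 44352000) : Stage ⊤ (wds g c0ath_W) pt 100 [c0atl7] [c0atl6.Pt 0, c0atl5.Pt 0, c0atl4.Pt 0, c0atl3.Pt 0, c0atl2.Pt 0, c0atl1.Pt 0, c0atl0.Pt 0] :=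
  (c0at_S6 M).next
theorem c0at_S8 {G Ω : Type*} [Group G] [MulAction G Ω] {g : ℕ → G} {pt : ℕ → Ω}
    (M : Md g pt H15.HS.P 100 6 H15.HS.B 44352000) : Stage ⊤ (wds g c0ath_W) pt 100 [] [c0atl7.Pt 0, c0atl6.Pt 0, c0atl5.Pt 0, c0atl4.Pt 0, c0atl3.Pt 0, c0atl2.Pt 0, c0atl1.Pt 0, c0atl0.Pt 0] :=
  (c0at_S7 M).next
theorem c0ace_act {G Ω : Type*} [Group G] [MulAction G Ω] {g : ℕ → G} {pt : ℕ → Ω}
    (M : Md g pt H15.HS.P 100 6 H15.HS.B 44352000) : Act (wds g c0ace_W) pt c0ace_P 100 5 :=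
  M.wact c0ace_lt
theorem c0acc7_e : ∀ i < 2, (dent c0acc7 c0ace_P (nat_lit 100)) i = 0 := allZ_sound0 c0acc7_e_0
theorem c0acc7_ok : DOK c0acc7 c0ace_P 100 := ⟨c0acc7_h, c0acc7_e⟩
theorem c0atn0_1 : ∀ i < 3, (c0atn0.ent H15.HS.P c0ath_P c0ax_P c0ax_P c0ace_P (nat_lit 6) (nat_lit 1) H15.HS.B c0atl7 [] (memO c0acc7)) i = 0 := allZ_sound0 c0atn0_1_0
theorem c0atn0_t {G Ω : Type*} [Group G] [MulAction G Ω] {g : ℕ → G} {pt : ℕ → Ω}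
    (M : Md g pt H15.HS.P 100 6 H15.HS.B 44352000) : TrO (gen (wds g c0ath_W) c0atl7.K) (wds g c0ax_W) (wds g c0ax_W) 1 pt 100 (c0atl7.Pt 0) (memO c0acc7) :=
  node M (c0at_S7 M) (c0ath_act M) (c0ax_act M) (c0ax_act M) c0atn0 ((c0ace_act M).mono (by decide)) (fun _ _ => trivial) c0atn0_0 c0atn0_1 (List.forall_mem_nil _)
theorem c0acc5_e : ∀ i < 3, (dent c0acc5 c0ace_P (nat_lit 100)) i = 0 := allZ_sound0 c0acc5_e_0
theorem c0acc5_ok : DOK c0acc5 c0ace_P 100 := ⟨c0acc5_h, c0acc5_e⟩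
theorem c0atn1_1 : ∀ i < 4, (c0atn1.ent H15.HS.P c0ath_P c0ax_P c0ax_P c0ace_P (nat_lit 6) (nat_lit 1) H15.HS.B c0atl5 [c0atl6, c0atl7] (memO c0acc5)) i = 0 := allZ_sound0 c0atn1_1_0
theorem c0atn1_t {G Ω : Type*} [Group G] [MulAction G Ω] {g : ℕ → G} {pt : ℕ → Ω}
    (M : Md g pt H15.HS.P 100 6 H15.HS.B 44352000) : TrO (gen (wds g c0ath_W) c0atl5.K) (wds g c0ax_W) (wds g c0ax_W) 1 pt 100 (c0atl5.Pt 0) (memO c0acc5) :=
  node M (c0at_S5 M) (c0ath_act M) (c0ax_act M) (c0ax_act M) c0atn1 ((c0ace_act M).mono (by decide)) (fun _ _ => trivial) c0atn1_0 c0atn1_1 (List.forall_mem_nil _)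
theorem c0acc3_e : ∀ i < 1, (dent c0acc3 c0ace_P (nat_lit 100)) i = 0 := allZ_sound0 c0acc3_e_0
theorem c0acc3_ok : DOK c0acc3 c0ace_P 100 := ⟨c0acc3_h, c0acc3_e⟩
theorem c0atn2_1 : ∀ i < 5, (c0atn2.ent H15.HS.P c0ath_P c0ax_P c0ax_P c0ace_P (nat_lit 6) (nat_lit 1) H15.HS.B c0atl3 [c0atl4, c0atl5, c0atl6, c0atl7] (memO c0acc3)) i = 0 := allZ_sound0 c0atn2_1_0
theorem c0atn2_t {G Ω : Type*} [Group G] [MulAction G Ω] {g : ℕ → G} {pt : ℕ → Ω}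
    (M : Md g pt H15.HS.P 100 6 H15.HS.B 44352000) : TrO (gen (wds g c0ath_W) c0atl3.K) (wds g c0ax_W) (wds g c0ax_W) 1 pt 100 (c0atl3.Pt 0) (memO c0acc3) :=
  node M (c0at_S3 M) (c0ath_act M) (c0ax_act M) (c0ax_act M) c0atn2 ((c0ace_act M).mono (by decide)) (fun _ _ => trivial) c0atn2_0 c0atn2_1 (List.forall_mem_nil _)
theorem c0acc1_e : ∀ i < 15, (dent c0acc1 c0ace_P (nat_lit 100)) i = 0 := allZ_sound0 c0acc1_e_0
theorem c0acc1_ok : DOK c0acc1 c0ace_P 100 := ⟨c0acc1_h, c0acc1_e⟩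
theorem c0atn3_1 : ∀ i < 22, (c0atn3.ent H15.HS.P c0ath_P c0ax_P c0ax_P c0ace_P (nat_lit 6) (nat_lit 1) H15.HS.B c0atl1 [c0atl2, c0atl3, c0atl4, c0atl5, c0atl6, c0atl7] (memO c0acc1)) i = 0 := allZ_sound0 c0atn3_1_0
theorem c0atn3_t {G Ω : Type*} [Group G] [MulAction G Ω] {g : ℕ → G} {pt : ℕ → Ω}
    (M : Md g pt H15.HS.P 100 6 H15.HS.B 44352000) : TrO (gen (wds g c0ath_W) c0atl1.K) (wds g c0ax_W) (wds g c0ax_W) 1 pt 100 (c0atl1.Pt 0) (memO c0acc1) :=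
  node M (c0at_S1 M) (c0ath_act M) (c0ax_act M) (c0ax_act M) c0atn3 ((c0ace_act M).mono (by decide)) (fun _ _ => trivial) c0atn3_0 c0atn3_1 (List.forall_mem_nil _)
theorem c0acc0_e : ∀ i < 19, (dent c0acc0 c0ace_P (nat_lit 100)) i = 0 := allZ_sound0 c0acc0_e_0
theorem c0acc0_ok : DOK c0acc0 c0ace_P 100 := ⟨c0acc0_h, c0acc0_e⟩
theorem c0atn4_1 : ∀ i < 100, (c0atn4.ent H15.HS.P c0ath_P c0ax_P c0ax_P c0ace_P (nat_lit 6) (nat_lit 1) H15.HS.B c0atl0 [c0atl1, c0atl2, c0atl3, c0atl4, c0atl5, c0atl6, c0atl7] (memO c0acc0)) i = 0 := allZ_sound0 c0atn4_1_0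
theorem c0atn4_t {G Ω : Type*} [Group G] [MulAction G Ω] {g : ℕ → G} {pt : ℕ → Ω}
    (M : Md g pt H15.HS.P 100 6 H15.HS.B 44352000) : TrO (gen (wds g c0ath_W) c0atl0.K) (wds g c0ax_W) (wds g c0ax_W) 1 pt 100 (c0atl0.Pt 0) (memO c0acc0) :=
  node M (c0at_S0 M) (c0ath_act M) (c0ax_act M) (c0ax_act M) c0atn4 ((c0ace_act M).mono (by decide)) (fun _ _ => trivial) c0atn4_0 c0atn4_1 (List.forall_mem_nil _)
theorem c0ac {G Ω : Type*} [Group G] [MulAction G Ω] {g : ℕ → G} {pt : ℕ → Ω}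
    (M : Md g pt H15.HS.P 100 6 H15.HS.B 44352000) : Cen ⊤ (wds g c0ax_W) 1 (wds g c0ace_W) pt 100 [c0acc0, c0acc1, c0acc3, c0acc5, c0acc7] :=
  (c0at_S0 M).top ▸ Cen.lev M (c0at_S0 M) (Cen.lev M (c0at_S1 M) (Cen.triv (c0at_S2 M) (Cen.lev M (c0at_S3 M) (Cen.triv (c0at_S4 M) (Cen.lev M (c0at_S5 M) (Cen.triv (c0at_S6 M) (Cen.lev M (c0at_S7 M) (Cen.bot) (c0atn0_t M) (c0ax_act M) (c0ace_act M) (fun _ _ => trivial) c0acc7_ok c0ac_f7) (forced (c0at_S6 M) (c0ath_act M) (c0ax_act M) _ _ c0ac_f6)) (c0atn1_t M) (c0ax_act M) (c0ace_act M) (fun _ _ => trivial) c0acc5_ok c0ac_f5) (forced (c0at_S4 M) (c0ath_act M) (c0ax_act M) _ _ c0ac_f4)) (c0atn2_t M) (c0ax_act M) (c0ace_act M) (fun _ _ => trivial) c0acc3_ok c0ac_f3) (forced (c0at_S2 M) (c0ath_act M) (c0ax_act M) _ _ c0ac_f2)) (c0atn3_t M) (c0ax_act M) (c0ace_act M) (fun _ _ => trivial) c0acc1_ok c0ac_f1)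 (c0atn4_t M) (c0ax_act M) (c0ace_act M) (fun _ _ => trivial) c0acc0_ok c0ac_f0
theorem c0ac_card {G Ω : Type*} [Group G] [MulAction G Ω] {g : ℕ → G} {pt : ℕ → Ω}
    (M : Md g pt H15.HS.P 100 6 H15.HS.B 44352000) : Nat.card (Subgroup.centralizer {(wds g c0ax_W) 0}) = 7680 :=
  (c0ac M).card_cent1 M.inj c0ac_c.1
theorem c0ac_eq {G Ω : Type*} [Group G] [MulAction G Ω] {g : ℕ → G} {pt : ℕ → Ω}
    (M : Md g pt H15.HS.P 100 6 H15.HS.B 44352000) : Subgroup.centralizer (gen (wds g c0ax_W) 1) = gen (wds g c0ace_W) 5 ∧ Nat.card (gen (wds g c0ace_W) 5) = 7680 :=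
  c0ac_c.1 ▸ c0ac_c.2 ▸ ⟨(c0ac M).cent, (c0ac M).card M.inj⟩
theorem c0w0_act {G Ω : Type*} [Group G] [MulAction G Ω] {g : ℕ → G} {pt : ℕ → Ω}
    (M : Md g pt H15.HS.P 100 6 H15.HS.B 44352000) : Act (wds g c0w0_W) pt c0w0_P 100 2 :=
  M.wact c0w0_lt
theorem c0y0x_act {G Ω : Type*} [Group G] [MulAction G Ω] {g : ℕ → G} {pt : ℕ → Ω}
    (M : Md g pt H15.HS.P 100 6 H15.HS.B 44352000) : Act (wds g c0y0x_W) pt c0y0x_P 100 1 :=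
  M.wact c0y0x_lt
theorem c0y0th_act {G Ω : Type*} [Group G] [MulAction G Ω] {g : ℕ → G} {pt : ℕ → Ω}
    (M : Md g pt H15.HS.P 100 6 H15.HS.B 44352000) : Act (wds g c0y0th_W) pt c0y0th_P 100 11 :=
  M.wact c0y0th_lt
theorem c0y0tl0_e : ∀ i < 99, (dent c0y0tl0 c0y0th_P (nat_lit 100)) i = 0 := allZ_sound0 c0y0tl0_e_0
theorem c0y0tl0_ok : DOK c0y0tl0 c0y0th_P 100 := ⟨c0y0tl0_h, c0y0tl0_e⟩
theorem c0y0tl1_e : ∀ i < 21, (dent c0y0tl1 c0y0th_P (nat_lit 100)) i = 0 := allZ_sound0 c0y0tl1_e_0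
theorem c0y0tl1_ok : DOK c0y0tl1 c0y0th_P 100 := ⟨c0y0tl1_h, c0y0tl1_e⟩
theorem c0y0tl2_e : ∀ i < 20, (dent c0y0tl2 c0y0th_P (nat_lit 100)) i = 0 := allZ_sound0 c0y0tl2_e_0
theorem c0y0tl2_ok : DOK c0y0tl2 c0y0th_P 100 := ⟨c0y0tl2_h, c0y0tl2_e⟩
theorem c0y0tl3_e : ∀ i < 15, (dent c0y0tl3 c0y0th_P (nat_lit 100)) i = 0 := allZ_sound0 c0y0tl3_e_0
theorem c0y0tl3_ok : DOK c0y0tl3 c0y0th_P 100 := ⟨c0y0tl3_h, c0y0tl3_e⟩
theorem c0y0tl4_e : ∀ i < 5, (dent c0y0tl4 c0y0th_P (nat_lit 100)) i = 0 := allZ_sound0 c0y0tl4_e_0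
theorem c0y0tl4_ok : DOK c0y0tl4 c0y0th_P 100 := ⟨c0y0tl4_h, c0y0tl4_e⟩
theorem c0y0tl5_e : ∀ i < 4, (dent c0y0tl5 c0y0th_P (nat_lit 100)) i = 0 := allZ_sound0 c0y0tl5_e_0
theorem c0y0tl5_ok : DOK c0y0tl5 c0y0th_P 100 := ⟨c0y0tl5_h, c0y0tl5_e⟩
theorem c0y0tl6_e : ∀ i < 1, (dent c0y0tl6 c0y0th_P (nat_lit 100)) i = 0 := allZ_sound0 c0y0tl6_e_0
theorem c0y0tl6_ok : DOK c0y0tl6 c0y0th_P 100 := ⟨c0y0tl6_h, c0y0tl6_e⟩
theorem c0y0t_low {G Ω : Type*} [Group G] [MulAction G Ω] {g : ℕ → G} {pt : ℕ → Ω}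
    (M : Md g pt H15.HS.P 100 6 H15.HS.B 44352000) : SLow (gi (wds g c0y0th_W)) pt 100 [c0y0tl0, c0y0tl1, c0y0tl2, c0y0tl3, c0y0tl4, c0y0tl5, c0y0tl6] :=
  (((((((SLow.nil).cons c0y0tl6_ok (c0y0th_act M) c0y0t_f6).cons c0y0tl5_ok (c0y0th_act M) c0y0t_f5).cons c0y0tl4_ok (c0y0th_act M) c0y0t_f4).cons c0y0tl3_ok (c0y0th_act M) c0y0t_f3).cons c0y0tl2_ok (c0y0th_act M) c0y0t_f2).cons c0y0tl1_ok (c0y0th_act M) c0y0t_f1).cons c0y0tl0_ok (c0y0th_act M) c0y0t_f0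
theorem c0y0t_S0 {G Ω : Type*} [Group G] [MulAction G Ω] {g : ℕ → G} {pt : ℕ → Ω}
    (M : Md g pt H15.HS.P 100 6 H15.HS.B 44352000) : Stage ⊤ (wds g c0y0th_W) pt 100 [c0y0tl0, c0y0tl1, c0y0tl2, c0y0tl3, c0y0tl4, c0y0tl5, c0y0tl6] [] :=
  M.stage (c0y0t_low M) c0y0t_c
theorem c0y0t_S1 {G Ω : Type*} [Group G] [MulAction G Ω] {g : ℕ → G} {pt : ℕ → Ω}
    (M : Md g pt H15.HS.P 100 6 H15.HS.B 44352000) : Stage ⊤ (wds g c0y0th_W) pt 100 [c0y0tl1, c0y0tl2, c0y0tl3, c0y0tl4, c0y0tl5, c0y0tl6] [c0y0tl0.Pt 0] :=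
  (c0y0t_S0 M).next
theorem c0y0t_S2 {G Ω : Type*} [Group G] [MulAction G Ω] {g : ℕ → G} {pt : ℕ → Ω}
    (M : Md g pt H15.HS.P 100 6 H15.HS.B 44352000) : Stage ⊤ (wds g c0y0th_W) pt 100 [c0y0tl2, c0y0tl3, c0y0tl4, c0y0tl5, c0y0tl6] [c0y0tl1.Pt 0, c0y0tl0.Pt 0] :=
  (c0y0t_S1 M).next
theorem c0y0t_S3 {G Ω : Type*} [Group G] [MulAction G Ω] {g : ℕ → G} {pt : ℕ → Ω}
    (M : Md g pt H15.HS.P 100 6 H15.HS.B 44352000) : Stage ⊤ (wds g c0y0th_W) pt 100 [c0y0tl3, c0y0tl4, c0y0tl5, c0y0tl6] [c0y0tl2.Pt 0, c0y0tl1.Pt 0, c0y0tl0.Pt 0] :=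
  (c0y0t_S2 M).next
theorem c0y0t_S4 {G Ω : Type*} [Group G] [MulAction G Ω] {g : ℕ → G} {pt : ℕ → Ω}
    (M : Md g pt H15.HS.P 100 6 H15.HS.B 44352000) : Stage ⊤ (wds g c0y0th_W) pt 100 [c0y0tl4, c0y0tl5, c0y0tl6] [c0y0tl3.Pt 0, c0y0tl2.Pt 0, c0y0tl1.Pt 0, c0y0tl0.Pt 0] :=
  (c0y0t_S3 M).next
theorem c0y0t_S5 {G Ω : Type*} [Group G] [MulAction G Ω] {g : ℕ → G} {pt : ℕ → Ω}
    (M : Md g pt H15.HS.P 100 6 H15.HS.B 44352000) : Stage ⊤ (wds g c0y0th_W) pt 100 [c0y0tl5, c0y0tl6] [c0y0tl4.Pt 0, c0y0tl3.Pt 0, c0y0tl2.Pt 0, c0y0tl1.Pt 0, c0y0tl0.Pt 0] :=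
  (c0y0t_S4 M).next
theorem c0y0t_S6 {G Ω : Type*} [Group G] [MulAction G Ω] {g : ℕ → G} {pt : ℕ → Ω}
    (M : Md g pt H15.HS.P 100 6 H15.HS.B 44352000) : Stage ⊤ (wds g c0y0th_W) pt 100 [c0y0tl6] [c0y0tl5.Pt 0, c0y0tl4.Pt 0, c0y0tl3.Pt 0, c0y0tl2.Pt 0, c0y0tl1.Pt 0, c0y0tl0.Pt 0] :=
  (c0y0t_S5 M).next
theorem c0y0t_S7 {G Ω : Type*} [Group G] [MulAction G Ω] {g : ℕ → G} {pt : ℕ → Ω}
    (M : Md g pt H15.HS.P 100 6 H15.HS.B 44352000) : Stage ⊤ (wds g c0y0th_W) pt 100 [] [c0y0tl6.Pt 0, c0y0tl5.Pt 0, c0y0tl4.Pt 0, c0y0tl3.Pt 0, c0y0tl2.Pt 0, c0y0tl1.Pt 0, c0y0tl0.Pt 0] :=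
  (c0y0t_S6 M).next
theorem c0y0ce_act {G Ω : Type*} [Group G] [MulAction G Ω] {g : ℕ → G} {pt : ℕ → Ω}
    (M : Md g pt H15.HS.P 100 6 H15.HS.B 44352000) : Act (wds g c0y0ce_W) pt c0y0ce_P 100 2 :=
  M.wact c0y0ce_lt
theorem c0y0cc5_e : ∀ i < 1, (dent c0y0cc5 c0y0ce_P (nat_lit 100)) i = 0 := allZ_sound0 c0y0cc5_e_0
theorem c0y0cc5_ok : DOK c0y0cc5 c0y0ce_P 100 := ⟨c0y0cc5_h, c0y0cc5_e⟩
theorem c0y0tn0_1 : ∀ i < 5, (c0y0tn0.ent H15.HS.P c0y0th_P c0y0x_P c0y0x_P c0y0ce_P (nat_lit 6) (nat_lit 1) H15.HS.B c0y0tl5 [c0y0tl6] (memO c0y0cc5)) i = 0 := allZ_sound0 c0y0tn0_1_0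
theorem c0y0tn0_t {G Ω : Type*} [Group G] [MulAction G Ω] {g : ℕ → G} {pt : ℕ → Ω}
    (M : Md g pt H15.HS.P 100 6 H15.HS.B 44352000) : TrO (gen (wds g c0y0th_W) c0y0tl5.K) (wds g c0y0x_W) (wds g c0y0x_W) 1 pt 100 (c0y0tl5.Pt 0) (memO c0y0cc5) :=
  node M (c0y0t_S5 M) (c0y0th_act M) (c0y0x_act M) (c0y0x_act M) c0y0tn0 ((c0y0ce_act M).mono (by decide)) (fun _ _ => trivial) c0y0tn0_0 c0y0tn0_1 (List.forall_mem_nil _)
theorem c0y0cc0_e : ∀ i < 9, (dent c0y0cc0 c0y0ce_P (nat_lit 100)) i = 0 := allZ_sound0 c0y0cc0_e_0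
theorem c0y0cc0_ok : DOK c0y0cc0 c0y0ce_P 100 := ⟨c0y0cc0_h, c0y0cc0_e⟩
theorem c0y0tn1_1 : ∀ i < 100, (c0y0tn1.ent H15.HS.P c0y0th_P c0y0x_P c0y0x_P c0y0ce_P (nat_lit 6) (nat_lit 1) H15.HS.B c0y0tl0 [c0y0tl1, c0y0tl2, c0y0tl3, c0y0tl4, c0y0tl5, c0y0tl6] (memO c0y0cc0)) i = 0 := allZ_sound0 c0y0tn1_1_0
theorem c0y0tn1_t {G Ω : Type*} [Group G] [MulAction G Ω] {g : ℕ → G} {pt : ℕ → Ω}
    (M : Md g pt H15.HS.P 100 6 H15.HS.B 44352000) : TrO (gen (wds g c0y0th_W) c0y0tl0.K) (wds g c0y0x_W) (wds g c0y0x_W) 1 pt 100 (c0y0tl0.Pt 0) (memO c0y0cc0) :=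
  node M (c0y0t_S0 M) (c0y0th_act M) (c0y0x_act M) (c0y0x_act M) c0y0tn1 ((c0y0ce_act M).mono (by decide)) (fun _ _ => trivial) c0y0tn1_0 c0y0tn1_1 (List.forall_mem_nil _)
theorem c0y0c {G Ω : Type*} [Group G] [MulAction G Ω] {g : ℕ → G} {pt : ℕ → Ω}
    (M : Md g pt H15.HS.P 100 6 H15.HS.B 44352000) : Cen ⊤ (wds g c0y0x_W) 1 (wds g c0y0ce_W) pt 100 [c0y0cc0, c0y0cc5] :=
  (c0y0t_S0 M).top ▸ Cen.lev M (c0y0t_S0 M) (Cen.triv (c0y0t_S1 M) (Cen.triv (c0y0t_S2 M) (Cen.triv (c0y0t_S3 M) (Cen.triv (c0y0t_S4 M) (Cen.lev M (c0y0t_S5 M) (Cen.triv (c0y0t_S6 M) (Cen.bot) (forced (c0y0t_S6 M) (c0y0th_act M) (c0y0x_act M) _ _ c0y0c_f6)) (c0y0tn0_t M) (c0y0x_act M) (c0y0ce_act M) (fun _ _ => trivial) c0y0cc5_ok c0y0c_f5) (forced (c0y0t_S4 M) (c0y0th_act M) (c0y0x_act M) _ _ c0y0c_f4)) (forced (c0y0t_S3 M) (c0y0th_act M) (c0y0x_act M) _ _ c0y0c_f3)) (forced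 (c0y0t_S2 M) (c0y0th_act M) (c0y0x_act M) _ _ c0y0c_f2)) (forced (c0y0t_S1 M) (c0y0th_act M) (c0y0x_act M) _ _ c0y0c_f1)) (c0y0tn1_t M) (c0y0x_act M) (c0y0ce_act M) (fun _ _ => trivial) c0y0cc0_ok c0y0c_f0
theorem c0y0c_card {G Ω : Type*} [Group G] [MulAction G Ω] {g : ℕ → G} {pt : ℕ → Ω}
    (M : Md g pt H15.HS.P 100 6 H15.HS.B 44352000) : Nat.card (Subgroup.centralizer {(wds g c0y0x_W) 0}) = 20 :=
  (c0y0c M).card_cent1 M.inj c0y0c_c.1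
theorem c0y0c_eq {G Ω : Type*} [Group G] [MulAction G Ω] {g : ℕ → G} {pt : ℕ → Ω}
    (M : Md g pt H15.HS.P 100 6 H15.HS.B 44352000) : Subgroup.centralizer (gen (wds g c0y0x_W) 1) = gen (wds g c0y0ce_W) 2 ∧ Nat.card (gen (wds g c0y0ce_W) 2) = 20 :=
  c0y0c_c.1 ▸ c0y0c_c.2 ▸ ⟨(c0y0c M).cent, (c0y0c M).card M.inj⟩
theorem c0w0p {G Ω : Type*} [Group G] [MulAction G Ω] {g : ℕ → G} {pt : ℕ → Ω}
    (M : Md g pt H15.HS.P 100 6 H15.HS.B 44352000) : (wds g c0w0_W) 0 ^ 2 = 1 :=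
  M.pw (c0w0_act M) c0w0p_k
theorem c0w0n {G Ω : Type*} [Group G] [MulAction G Ω] {g : ℕ → G} {pt : ℕ → Ω}
    (M : Md g pt H15.HS.P 100 6 H15.HS.B 44352000) : (wds g c0w0_W) 1 ^ 2 ≠ 1 :=
  M.npw (c0w0_act M) _ c0w0n_k
theorem c0W0 {G Ω : Type*} [Group G] [MulAction G Ω] {g : ℕ → G} {pt : ℕ → Ω}
    (M : Md g pt H15.HS.P 100 6 H15.HS.B 44352000) : Wit (H27.IC.Ce ((wds g covr_W) 0)) 5 20 :=
  have := M.fin
  wit_w (x := (wds g c0w0_W)) (k := 2) (by norm_num) (M.eq_of (c0w0_act M) c0w0_k) (c0w0p M) (c0w0n M) (c0ac_card M) (by decide +kernel) (c0y0c_card M)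
theorem c0 {G Ω : Type*} [Group G] [MulAction G Ω] {g : ℕ → G} {pt : ℕ → Ω}
    (M : Md g pt H15.HS.P 100 6 H15.HS.B 44352000) : OK (H27.IC.Ce ((wds g covr_W) 0)) :=
  have := M.fin
  ok_num (n := 7680) (ws := []) 9 (c0ac_card M) (c0W0 M) (List.forall_mem_nil _) (by decide +kernel)
theorem c1ax_act {G Ω : Type*} [Group G] [MulAction G Ω] {g : ℕ → G} {pt : ℕ → Ω}
    (M : Md g pt H15.HS.P 100 6 H15.HS.B 44352000) : Act (wds g c1ax_W) pt c1ax_P 100 1 :=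
  M.wact c1ax_lt
theorem c1ath_act {G Ω : Type*} [Group G] [MulAction G Ω] {g : ℕ → G} {pt : ℕ → Ω}
    (M : Md g pt H15.HS.P 100 6 H15.HS.B 44352000) : Act (wds g c1ath_W) pt c1ath_P 100 13 :=
  M.wact c1ath_lt
theorem c1atl0_e : ∀ i < 99, (dent c1atl0 c1ath_P (nat_lit 100)) i = 0 := allZ_sound0 c1atl0_e_0
theorem c1atl0_ok : DOK c1atl0 c1ath_P 100 := ⟨c1atl0_h, c1atl0_e⟩
theorem c1atl1_e : ∀ i < 21, (dent c1atl1 c1ath_P (nat_lit 100)) i = 0 := allZ_sound0 c1atl1_e_0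
theorem c1atl1_ok : DOK c1atl1 c1ath_P 100 := ⟨c1atl1_h, c1atl1_e⟩
theorem c1atl2_e : ∀ i < 20, (dent c1atl2 c1ath_P (nat_lit 100)) i = 0 := allZ_sound0 c1atl2_e_0
theorem c1atl2_ok : DOK c1atl2 c1ath_P 100 := ⟨c1atl2_h, c1atl2_e⟩
theorem c1atl3_e : ∀ i < 15, (dent c1atl3 c1ath_P (nat_lit 100)) i = 0 := allZ_sound0 c1atl3_e_0
theorem c1atl3_ok : DOK c1atl3 c1ath_P 100 := ⟨c1atl3_h, c1atl3_e⟩
theorem c1atl4_e : ∀ i < 4, (dent c1atl4 c1ath_P (nat_lit 100)) i = 0 := allZ_sound0 c1atl4_e_0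
theorem c1atl4_ok : DOK c1atl4 c1ath_P 100 := ⟨c1atl4_h, c1atl4_e⟩
theorem c1atl5_e : ∀ i < 2, (dent c1atl5 c1ath_P (nat_lit 100)) i = 0 := allZ_sound0 c1atl5_e_0
theorem c1atl5_ok : DOK c1atl5 c1ath_P 100 := ⟨c1atl5_h, c1atl5_e⟩
theorem c1atl6_e : ∀ i < 1, (dent c1atl6 c1ath_P (nat_lit 100)) i = 0 := allZ_sound0 c1atl6_e_0
theorem c1atl6_ok : DOK c1atl6 c1ath_P 100 := ⟨c1atl6_h, c1atl6_e⟩
theorem c1atl7_e : ∀ i < 1, (dent c1atl7 c1ath_P (nat_lit 100)) i = 0 := allZ_sound0 c1atl7_e_0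
theorem c1atl7_ok : DOK c1atl7 c1ath_P 100 := ⟨c1atl7_h, c1atl7_e⟩
theorem c1at_low {G Ω : Type*} [Group G] [MulAction G Ω] {g : ℕ → G} {pt : ℕ → Ω}
    (M : Md g pt H15.HS.P 100 6 H15.HS.B 44352000) : SLow (gi (wds g c1ath_W)) pt 100 [c1atl0, c1atl1, c1atl2, c1atl3, c1atl4, c1atl5, c1atl6, c1atl7] :=
  ((((((((SLow.nil).cons c1atl7_ok (c1ath_act M) c1at_f7).cons c1atl6_ok (c1ath_act M) c1at_f6).cons c1atl5_ok (c1ath_act M) c1at_f5).cons c1atl4_ok (c1ath_act M) c1at_f4).cons c1atl3_ok (c1ath_act M) c1at_f3).cons c1atl2_ok (c1ath_act M) c1at_f2).cons c1atl1_ok (c1ath_act M) c1at_f1).cons c1atl0_ok (c1ath_act M) c1at_f0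
theorem c1at_S0 {G Ω : Type*} [Group G] [MulAction G Ω] {g : ℕ → G} {pt : ℕ → Ω}
    (M : Md g pt H15.HS.P 100 6 H15.HS.B 44352000) : Stage ⊤ (wds g c1ath_W) pt 100 [c1atl0, c1atl1, c1atl2, c1atl3, c1atl4, c1atl5, c1atl6, c1atl7] [] :=
  M.stage (c1at_low M) c1at_c
theorem c1at_S1 {G Ω : Type*} [Group G] [MulAction G Ω] {g : ℕ → G} {pt : ℕ → Ω}
    (M : Md g pt H15.HS.P 100 6 H15.HS.B 44352000) : Stage ⊤ (wds g c1ath_W) pt 100 [c1atl1, c1atl2, c1atl3, c1atl4, c1atl5, c1atl6, c1atl7] [c1atl0.Pt 0] :=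
  (c1at_S0 M).next
theorem c1at_S2 {G Ω : Type*} [Group G] [MulAction G Ω] {g : ℕ → G} {pt : ℕ → Ω}
    (M : Md g pt H15.HS.P 100 6 H15.HS.B 44352000) : Stage ⊤ (wds g c1ath_W) pt 100 [c1atl2, c1atl3, c1atl4, c1atl5, c1atl6, c1atl7] [c1atl1.Pt 0, c1atl0.Pt 0] :=
  (c1at_S1 M).next
theorem c1at_S3 {G Ω : Type*} [Group G] [MulAction G Ω] {g : ℕ → G} {pt : ℕ → Ω}
    (M : Md g pt H15.HS.P 100 6 H15.HS.B 44352000) : Stage ⊤ (wds g c1ath_W) pt 100 [c1atl3, c1atl4, c1atl5, c1atl6, c1atl7] [c1atl2.Pt 0, c1atl1.Pt 0, c1atl0.Pt 0] :=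
  (c1at_S2 M).next
theorem c1at_S4 {G Ω : Type*} [Group G] [MulAction G Ω] {g : ℕ → G} {pt : ℕ → Ω}
    (M : Md g pt H15.HS.P 100 6 H15.HS.B 44352000) : Stage ⊤ (wds g c1ath_W) pt 100 [c1atl4, c1atl5, c1atl6, c1atl7] [c1atl3.Pt 0, c1atl2.Pt 0, c1atl1.Pt 0, c1atl0.Pt 0] :=
  (c1at_S3 M).next
theorem c1at_S5 {G Ω : Type*} [Group G] [MulAction G Ω] {g : ℕ → G} {pt : ℕ → Ω}
    (M : Md g pt H15.HS.P 100 6 H15.HS.B 44352000) : Stage ⊤ (wds g c1ath_W) pt 100 [c1atl5, c1atl6, c1atl7] [c1atl4.Pt 0, c1atl3.Pt 0, c1atl2.Pt 0, c1atl1.Pt 0, c1atl0.Pt 0] :=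
  (c1at_S4 M).next
theorem c1at_S6 {G Ω : Type*} [Group G] [MulAction G Ω] {g : ℕ → G} {pt : ℕ → Ω}
    (M : Md g pt H15.HS.P 100 6 H15.HS.B 44352000) : Stage ⊤ (wds g c1ath_W) pt 100 [c1atl6, c1atl7] [c1atl5.Pt 0, c1atl4.Pt 0, c1atl3.Pt 0, c1atl2.Pt 0, c1atl1.Pt 0, c1atl0.Pt 0] :=
  (c1at_S5 M).next
theorem c1at_S7 {G Ω : Type*} [Group G] [MulAction G Ω] {g : ℕ → G} {pt : ℕ → Ω}
    (M : Md g pt H15.HS.P 100 6 H15.HS.B 44352000) : Stage ⊤ (wds g c1ath_W) pt 100 [c1atl7] [c1atl6.Pt 0, c1atl5.Pt 0, c1atl4.Pt 0, c1atl3.Pt 0, c1atl2.Pt 0, c1atl1.Pt 0, c1atl0.Pt 0] :=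
  (c1at_S6 M).next
theorem c1at_S8 {G Ω : Type*} [Group G] [MulAction G Ω] {g : ℕ → G} {pt : ℕ → Ω}
    (M : Md g pt H15.HS.P 100 6 H15.HS.B 44352000) : Stage ⊤ (wds g c1ath_W) pt 100 [] [c1atl7.Pt 0, c1atl6.Pt 0, c1atl5.Pt 0, c1atl4.Pt 0, c1atl3.Pt 0, c1atl2.Pt 0, c1atl1.Pt 0, c1atl0.Pt 0] :=
  (c1at_S7 M).next
theorem c1ace_act {G Ω : Type*} [Group G] [MulAction G Ω] {g : ℕ → G} {pt : ℕ → Ω}
    (M : Md g pt H15.HS.P 100 6 H15.HS.B 44352000) : Act (wds g c1ace_W) pt c1ace_P 100 7 :=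
  M.wact c1ace_lt
theorem c1acc7_e : ∀ i < 1, (dent c1acc7 c1ace_P (nat_lit 100)) i = 0 := allZ_sound0 c1acc7_e_0
theorem c1acc7_ok : DOK c1acc7 c1ace_P 100 := ⟨c1acc7_h, c1acc7_e⟩
theorem c1atn0_1 : ∀ i < 2, (c1atn0.ent H15.HS.P c1ath_P c1ax_P c1ax_P c1ace_P (nat_lit 6) (nat_lit 1) H15.HS.B c1atl7 [] (memO c1acc7)) i = 0 := allZ_sound0 c1atn0_1_0
theorem c1atn0_t {G Ω : Type*} [Group G] [MulAction G Ω] {g : ℕ → G} {pt : ℕ → Ω}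
    (M : Md g pt H15.HS.P 100 6 H15.HS.B 44352000) : TrO (gen (wds g c1ath_W) c1atl7.K) (wds g c1ax_W) (wds g c1ax_W) 1 pt 100 (c1atl7.Pt 0) (memO c1acc7) :=
  node M (c1at_S7 M) (c1ath_act M) (c1ax_act M) (c1ax_act M) c1atn0 ((c1ace_act M).mono (by decide)) (fun _ _ => trivial) c1atn0_0 c1atn0_1 (List.forall_mem_nil _)
theorem c1atn1y66_act {G Ω : Type*} [Group G] [MulAction G Ω] {g : ℕ → G} {pt : ℕ → Ω}
    (M : Md g pt H15.HS.P 100 6 H15.HS.B 44352000) : Act (wds g c1atn1y66_W) pt c1atn1y66_P 100 1 :=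
  M.wact c1atn1y66_lt
theorem c1atr2k_act {G Ω : Type*} [Group G] [MulAction G Ω] {g : ℕ → G} {pt : ℕ → Ω}
    (M : Md g pt H15.HS.P 100 6 H15.HS.B 44352000) : Act (wds g c1atr2k_W) pt c1atr2k_P 100 2 :=
  M.wact c1atr2k_lt
theorem c1atn2_1 : ∀ i < 2, (c1atn2.ent H15.HS.P c1ath_P c1ax_P c1atn1y66_P c1atr2k_P (nat_lit 6) (nat_lit 1) H15.HS.B c1atl7 [] (fun _ => nat_lit 1)) i = 0 := allZ_sound0 c1atn2_1_0
theorem c1atn2_t {G Ω : Type*} [Group G] [MulAction G Ω] {g : ℕ → G} {pt : ℕ → Ω}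
    (M : Md g pt H15.HS.P 100 6 H15.HS.B 44352000) : TrO (gen (wds g c1ath_W) c1atl7.K) (wds g c1ax_W) (wds g c1atn1y66_W) 1 pt 100 (c1atl7.Pt 0) (fun _ => nat_lit 1) :=
  node M (c1at_S7 M) (c1ath_act M) (c1ax_act M) (c1atn1y66_act M) c1atn2 ((c1atr2k_act M).mono (by decide)) (fun _ _ => trivial) c1atn2_0 c1atn2_1 (List.forall_mem_nil _)
theorem c1atr2 {G Ω : Type*} [Group G] [MulAction G Ω] {g : ℕ → G} {pt : ℕ → Ω}
    (M : Md g pt H15.HS.P 100 6 H15.HS.B 44352000) : Ref (gen (wds g c1ath_W) (topK [c1atl7])) (wds g c1ax_W) (wds g c1atn1y66_W) 1 :=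
  (c1atn2_t M).ref
theorem c1atn1_1 : ∀ i < 2, (c1atn1.ent H15.HS.P c1ath_P c1ax_P c1ax_P c1ace_P (nat_lit 6) (nat_lit 1) H15.HS.B c1atl6 [c1atl7] (fun w => Nat.xor w (c1atl6.Pt (nat_lit 0)))) i = 0 := allZ_sound0 c1atn1_1_0
theorem c1atn1_t {G Ω : Type*} [Group G] [MulAction G Ω] {g : ℕ → G} {pt : ℕ → Ω}
    (M : Md g pt H15.HS.P 100 6 H15.HS.B 44352000) : TrO (gen (wds g c1ath_W) c1atl6.K) (wds g c1ax_W) (wds g c1ax_W) 1 pt 100 (c1atl6.Pt 0) (fun w => Nat.xor w (c1atl6.Pt (nat_lit 0))) :=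
  node M (c1at_S6 M) (c1ath_act M) (c1ax_act M) (c1ax_act M) c1atn1 ((c1ace_act M).mono (by decide)) (fun _ _ => trivial) c1atn1_0 c1atn1_1 (List.forall_mem_cons.2 ⟨c1atr2 M, List.forall_mem_nil _⟩)
theorem c1atn3_1 : ∀ i < 3, (c1atn3.ent H15.HS.P c1ath_P c1ax_P c1ax_P c1ace_P (nat_lit 6) (nat_lit 1) H15.HS.B c1atl5 [c1atl6, c1atl7] (fun w => Nat.xor w (c1atl5.Pt (nat_lit 0)))) i = 0 := allZ_sound0 c1atn3_1_0
theorem c1atn3_t {G Ω : Type*} [Group G] [MulAction G Ω] {g : ℕ → G} {pt : ℕ → Ω}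
    (M : Md g pt H15.HS.P 100 6 H15.HS.B 44352000) : TrO (gen (wds g c1ath_W) c1atl5.K) (wds g c1ax_W) (wds g c1ax_W) 1 pt 100 (c1atl5.Pt 0) (fun w => Nat.xor w (c1atl5.Pt (nat_lit 0))) :=
  node M (c1at_S5 M) (c1ath_act M) (c1ax_act M) (c1ax_act M) c1atn3 ((c1ace_act M).mono (by decide)) (fun _ _ => trivial) c1atn3_0 c1atn3_1 (List.forall_mem_nil _)
theorem c1acc4_e : ∀ i < 2, (dent c1acc4 c1ace_P (nat_lit 100)) i = 0 := allZ_sound0 c1acc4_e_0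
theorem c1acc4_ok : DOK c1acc4 c1ace_P 100 := ⟨c1acc4_h, c1acc4_e⟩
theorem c1atn4_1 : ∀ i < 5, (c1atn4.ent H15.HS.P c1ath_P c1ax_P c1ax_P c1ace_P (nat_lit 6) (nat_lit 1) H15.HS.B c1atl4 [c1atl5, c1atl6, c1atl7] (memO c1acc4)) i = 0 := allZ_sound0 c1atn4_1_0
theorem c1atn4_t {G Ω : Type*} [Group G] [MulAction G Ω] {g : ℕ → G} {pt : ℕ → Ω}
    (M : Md g pt H15.HS.P 100 6 H15.HS.B 44352000) : TrO (gen (wds g c1ath_W) c1atl4.K) (wds g c1ax_W) (wds g c1ax_W) 1 pt 100 (c1atl4.Pt 0) (memO c1acc4) :=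
  node M (c1at_S4 M) (c1ath_act M) (c1ax_act M) (c1ax_act M) c1atn4 ((c1ace_act M).mono (by decide)) (fun _ _ => trivial) c1atn4_0 c1atn4_1 (List.forall_mem_nil _)
theorem c1acc2_e : ∀ i < 11, (dent c1acc2 c1ace_P (nat_lit 100)) i = 0 := allZ_sound0 c1acc2_e_0
theorem c1acc2_ok : DOK c1acc2 c1ace_P 100 := ⟨c1acc2_h, c1acc2_e⟩
theorem c1atn5_1 : ∀ i < 21, (c1atn5.ent H15.HS.P c1ath_P c1ax_P c1ax_P c1ace_P (nat_lit 6) (nat_lit 1) H15.HS.B c1atl2 [c1atl3, c1atl4, c1atl5, c1atl6, c1atl7] (memO c1acc2)) i = 0 := allZ_sound0 c1atn5_1_0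
theorem c1atn5_t {G Ω : Type*} [Group G] [MulAction G Ω] {g : ℕ → G} {pt : ℕ → Ω}
    (M : Md g pt H15.HS.P 100 6 H15.HS.B 44352000) : TrO (gen (wds g c1ath_W) c1atl2.K) (wds g c1ax_W) (wds g c1ax_W) 1 pt 100 (c1atl2.Pt 0) (memO c1acc2) :=
  node M (c1at_S2 M) (c1ath_act M) (c1ax_act M) (c1ax_act M) c1atn5 ((c1ace_act M).mono (by decide)) (fun _ _ => trivial) c1atn5_0 c1atn5_1 (List.forall_mem_nil _)
theorem c1acc0_e : ∀ i < 39, (dent c1acc0 c1ace_P (nat_lit 100)) i = 0 := allZ_sound0 c1acc0_e_0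
theorem c1acc0_ok : DOK c1acc0 c1ace_P 100 := ⟨c1acc0_h, c1acc0_e⟩
theorem c1atn6_1 : ∀ i < 100, (c1atn6.ent H15.HS.P c1ath_P c1ax_P c1ax_P c1ace_P (nat_lit 6) (nat_lit 1) H15.HS.B c1atl0 [c1atl1, c1atl2, c1atl3, c1atl4, c1atl5, c1atl6, c1atl7] (memO c1acc0)) i = 0 := allZ_sound0 c1atn6_1_0
theorem c1atn6_t {G Ω : Type*} [Group G] [MulAction G Ω] {g : ℕ → G} {pt : ℕ → Ω}
    (M : Md g pt H15.HS.P 100 6 H15.HS.B 44352000) : TrO (gen (wds g c1ath_W) c1atl0.K) (wds g c1ax_W) (wds g c1ax_W) 1 pt 100 (c1atl0.Pt 0) (memO c1acc0) :=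
  node M (c1at_S0 M) (c1ath_act M) (c1ax_act M) (c1ax_act M) c1atn6 ((c1ace_act M).mono (by decide)) (fun _ _ => trivial) c1atn6_0 c1atn6_1 (List.forall_mem_nil _)
theorem c1ac {G Ω : Type*} [Group G] [MulAction G Ω] {g : ℕ → G} {pt : ℕ → Ω}
    (M : Md g pt H15.HS.P 100 6 H15.HS.B 44352000) : Cen ⊤ (wds g c1ax_W) 1 (wds g c1ace_W) pt 100 [c1acc0, c1acc2, c1acc4, c1acc7] :=
  (c1at_S0 M).top ▸ Cen.lev M (c1at_S0 M) (Cen.triv (c1at_S1 M) (Cen.lev M (c1at_S2 M) (Cen.triv (c1at_S3 M) (Cen.lev M (c1at_S4 M) (Cen.triv (c1at_S5 M) (Cen.triv (c1at_S6 M) (Cen.lev M (c1at_S7 M) (Cen.bot) (c1atn0_t M) (c1ax_act M) (c1ace_act M) (fun _ _ => trivial) c1acc7_ok c1ac_f7) (c1atn1_t M)) (c1atn3_t M)) (c1atn4_t M) (c1ax_act M) (c1ace_act M) (fun _ _ => trivial) c1acc4_ok c1ac_f4) (forced (c1at_S3 M) (c1ath_act M) (c1ax_act M) _ _ c1ac_f3)) (c1atn5_t M) (c1ax_act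 M) (c1ace_act M) (fun _ _ => trivial) c1acc2_ok c1ac_f2) (forced (c1at_S1 M) (c1ath_act M) (c1ax_act M) _ _ c1ac_f1)) (c1atn6_t M) (c1ax_act M) (c1ace_act M) (fun _ _ => trivial) c1acc0_ok c1ac_f0
theorem c1ac_card {G Ω : Type*} [Group G] [MulAction G Ω] {g : ℕ → G} {pt : ℕ → Ω}
    (M : Md g pt H15.HS.P 100 6 H15.HS.B 44352000) : Nat.card (Subgroup.centralizer {(wds g c1ax_W) 0}) = 2880 :=
  (c1ac M).card_cent1 M.inj c1ac_c.1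
theorem c1ac_eq {G Ω : Type*} [Group G] [MulAction G Ω] {g : ℕ → G} {pt : ℕ → Ω}
    (M : Md g pt H15.HS.P 100 6 H15.HS.B 44352000) : Subgroup.centralizer (gen (wds g c1ax_W) 1) = gen (wds g c1ace_W) 7 ∧ Nat.card (gen (wds g c1ace_W) 7) = 2880 :=
  c1ac_c.1 ▸ c1ac_c.2 ▸ ⟨(c1ac M).cent, (c1ac M).card M.inj⟩
theorem c1w0_act {G Ω : Type*} [Group G] [MulAction G Ω] {g : ℕ → G} {pt : ℕ → Ω}
    (M : Md g pt H15.HS.P 100 6 H15.HS.B 44352000) : Act (wds g c1w0_W) pt c1w0_P 100 2 :=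
  M.wact c1w0_lt
theorem c1y0x_act {G Ω : Type*} [Group G] [MulAction G Ω] {g : ℕ → G} {pt : ℕ → Ω}
    (M : Md g pt H15.HS.P 100 6 H15.HS.B 44352000) : Act (wds g c1y0x_W) pt c1y0x_P 100 1 :=
  M.wact c1y0x_lt
theorem c1y0th_act {G Ω : Type*} [Group G] [MulAction G Ω] {g : ℕ → G} {pt : ℕ → Ω}
    (M : Md g pt H15.HS.P 100 6 H15.HS.B 44352000) : Act (wds g c1y0th_W) pt c1y0th_P 100 13 :=
  M.wact c1y0th_lt
theorem c1y0tl0_e : ∀ i < 99, (dent c1y0tl0 c1y0th_P (nat_lit 100)) i = 0 := allZ_sound0 c1y0tl0_e_0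
theorem c1y0tl0_ok : DOK c1y0tl0 c1y0th_P 100 := ⟨c1y0tl0_h, c1y0tl0_e⟩
theorem c1y0tl1_e : ∀ i < 76, (dent c1y0tl1 c1y0th_P (nat_lit 100)) i = 0 := allZ_sound0 c1y0tl1_e_0
theorem c1y0tl1_ok : DOK c1y0tl1 c1y0th_P 100 := ⟨c1y0tl1_h, c1y0tl1_e⟩
theorem c1y0tl2_e : ∀ i < 59, (dent c1y0tl2 c1y0th_P (nat_lit 100)) i = 0 := allZ_sound0 c1y0tl2_e_0
theorem c1y0tl2_ok : DOK c1y0tl2 c1y0th_P 100 := ⟨c1y0tl2_h, c1y0tl2_e⟩
theorem c1y0tl3_e : ∀ i < 11, (dent c1y0tl3 c1y0th_P (nat_lit 100)) i = 0 := allZ_sound0 c1y0tl3_e_0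
theorem c1y0tl3_ok : DOK c1y0tl3 c1y0th_P 100 := ⟨c1y0tl3_h, c1y0tl3_e⟩
theorem c1y0tl4_e : ∀ i < 7, (dent c1y0tl4 c1y0th_P (nat_lit 100)) i = 0 := allZ_sound0 c1y0tl4_e_0
theorem c1y0tl4_ok : DOK c1y0tl4 c1y0th_P 100 := ⟨c1y0tl4_h, c1y0tl4_e⟩
theorem c1y0t_low {G Ω : Type*} [Group G] [MulAction G Ω] {g : ℕ → G} {pt : ℕ → Ω}
    (M : Md g pt H15.HS.P 100 6 H15.HS.B 44352000) : SLow (gi (wds g c1y0th_W)) pt 100 [c1y0tl0, c1y0tl1, c1y0tl2, c1y0tl3, c1y0tl4] :=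
  (((((SLow.nil).cons c1y0tl4_ok (c1y0th_act M) c1y0t_f4).cons c1y0tl3_ok (c1y0th_act M) c1y0t_f3).cons c1y0tl2_ok (c1y0th_act M) c1y0t_f2).cons c1y0tl1_ok (c1y0th_act M) c1y0t_f1).cons c1y0tl0_ok (c1y0th_act M) c1y0t_f0
theorem c1y0t_S0 {G Ω : Type*} [Group G] [MulAction G Ω] {g : ℕ → G} {pt : ℕ → Ω}
    (M : Md g pt H15.HS.P 100 6 H15.HS.B 44352000) : Stage ⊤ (wds g c1y0th_W) pt 100 [c1y0tl0, c1y0tl1, c1y0tl2, c1y0tl3, c1y0tl4] [] :=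
  M.stage (c1y0t_low M) c1y0t_c
theorem c1y0t_S1 {G Ω : Type*} [Group G] [MulAction G Ω] {g : ℕ → G} {pt : ℕ → Ω}
    (M : Md g pt H15.HS.P 100 6 H15.HS.B 44352000) : Stage ⊤ (wds g c1y0th_W) pt 100 [c1y0tl1, c1y0tl2, c1y0tl3, c1y0tl4] [c1y0tl0.Pt 0] :=
  (c1y0t_S0 M).next
theorem c1y0t_S2 {G Ω : Type*} [Group G] [MulAction G Ω] {g : ℕ → G} {pt : ℕ → Ω}
    (M : Md g pt H15.HS.P 100 6 H15.HS.B 44352000) : Stage ⊤ (wds g c1y0th_W) pt 100 [c1y0tl2, c1y0tl3, c1y0tl4] [c1y0tl1.Pt 0, c1y0tl0.Pt 0] :=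
  (c1y0t_S1 M).next
theorem c1y0t_S3 {G Ω : Type*} [Group G] [MulAction G Ω] {g : ℕ → G} {pt : ℕ → Ω}
    (M : Md g pt H15.HS.P 100 6 H15.HS.B 44352000) : Stage ⊤ (wds g c1y0th_W) pt 100 [c1y0tl3, c1y0tl4] [c1y0tl2.Pt 0, c1y0tl1.Pt 0, c1y0tl0.Pt 0] :=
  (c1y0t_S2 M).next
theorem c1y0t_S4 {G Ω : Type*} [Group G] [MulAction G Ω] {g : ℕ → G} {pt : ℕ → Ω}
    (M : Md g pt H15.HS.P 100 6 H15.HS.B 44352000) : Stage ⊤ (wds g c1y0th_W) pt 100 [c1y0tl4] [c1y0tl3.Pt 0, c1y0tl2.Pt 0, c1y0tl1.Pt 0, c1y0tl0.Pt 0] :=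
  (c1y0t_S3 M).next
theorem c1y0t_S5 {G Ω : Type*} [Group G] [MulAction G Ω] {g : ℕ → G} {pt : ℕ → Ω}
    (M : Md g pt H15.HS.P 100 6 H15.HS.B 44352000) : Stage ⊤ (wds g c1y0th_W) pt 100 [] [c1y0tl4.Pt 0, c1y0tl3.Pt 0, c1y0tl2.Pt 0, c1y0tl1.Pt 0, c1y0tl0.Pt 0] :=
  (c1y0t_S4 M).next
theorem c1y0ce_act {G Ω : Type*} [Group G] [MulAction G Ω] {g : ℕ → G} {pt : ℕ → Ω}
    (M : Md g pt H15.HS.P 100 6 H15.HS.B 44352000) : Act (wds g c1y0ce_W) pt c1y0ce_P 100 2 :=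
  M.wact c1y0ce_lt
theorem c1y0cc0_e : ∀ i < 19, (dent c1y0cc0 c1y0ce_P (nat_lit 100)) i = 0 := allZ_sound0 c1y0cc0_e_0
theorem c1y0cc0_ok : DOK c1y0cc0 c1y0ce_P 100 := ⟨c1y0cc0_h, c1y0cc0_e⟩
theorem c1y0tn0_1 : ∀ i < 100, (c1y0tn0.ent H15.HS.P c1y0th_P c1y0x_P c1y0x_P c1y0ce_P (nat_lit 6) (nat_lit 1) H15.HS.B c1y0tl0 [c1y0tl1, c1y0tl2, c1y0tl3, c1y0tl4] (memO c1y0cc0)) i = 0 := allZ_sound0 c1y0tn0_1_0
theorem c1y0tn0_t {G Ω : Type*} [Group G] [MulAction G Ω] {g : ℕ → G} {pt : ℕ → Ω}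
    (M : Md g pt H15.HS.P 100 6 H15.HS.B 44352000) : TrO (gen (wds g c1y0th_W) c1y0tl0.K) (wds g c1y0x_W) (wds g c1y0x_W) 1 pt 100 (c1y0tl0.Pt 0) (memO c1y0cc0) :=
  node M (c1y0t_S0 M) (c1y0th_act M) (c1y0x_act M) (c1y0x_act M) c1y0tn0 ((c1y0ce_act M).mono (by decide)) (fun _ _ => trivial) c1y0tn0_0 c1y0tn0_1 (List.forall_mem_nil _)
theorem c1y0c {G Ω : Type*} [Group G] [MulAction G Ω] {g : ℕ → G} {pt : ℕ → Ω}
    (M : Md g pt H15.HS.P 100 6 H15.HS.B 44352000) : Cen ⊤ (wds g c1y0x_W) 1 (wds g c1y0ce_W) pt 100 [c1y0cc0] :=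
  (c1y0t_S0 M).top ▸ Cen.lev M (c1y0t_S0 M) (Cen.triv (c1y0t_S1 M) (Cen.triv (c1y0t_S2 M) (Cen.triv (c1y0t_S3 M) (Cen.triv (c1y0t_S4 M) (Cen.bot) (forced (c1y0t_S4 M) (c1y0th_act M) (c1y0x_act M) _ _ c1y0c_f4)) (forced (c1y0t_S3 M) (c1y0th_act M) (c1y0x_act M) _ _ c1y0c_f3)) (forced (c1y0t_S2 M) (c1y0th_act M) (c1y0x_act M) _ _ c1y0c_f2)) (forced (c1y0t_S1 M) (c1y0th_act M) (c1y0x_act M) _ _ c1y0c_f1)) (c1y0tn0_t M) (c1y0x_act M) (c1y0ce_act M) (fun _ _ => trivial) c1y0cc0_ok c1y0c_f0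
theorem c1y0c_card {G Ω : Type*} [Group G] [MulAction G Ω] {g : ℕ → G} {pt : ℕ → Ω}
    (M : Md g pt H15.HS.P 100 6 H15.HS.B 44352000) : Nat.card (Subgroup.centralizer {(wds g c1y0x_W) 0}) = 20 :=
  (c1y0c M).card_cent1 M.inj c1y0c_c.1
theorem c1y0c_eq {G Ω : Type*} [Group G] [MulAction G Ω] {g : ℕ → G} {pt : ℕ → Ω}
    (M : Md g pt H15.HS.P 100 6 H15.HS.B 44352000) : Subgroup.centralizer (gen (wds g c1y0x_W) 1) = gen (wds g c1y0ce_W) 2 ∧ Nat.card (gen (wds g c1y0ce_W) 2) = 20 :=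
  c1y0c_c.1 ▸ c1y0c_c.2 ▸ ⟨(c1y0c M).cent, (c1y0c M).card M.inj⟩
theorem c1w0p {G Ω : Type*} [Group G] [MulAction G Ω] {g : ℕ → G} {pt : ℕ → Ω}
    (M : Md g pt H15.HS.P 100 6 H15.HS.B 44352000) : (wds g c1w0_W) 0 ^ 2 = 1 :=
  M.pw (c1w0_act M) c1w0p_k
theorem c1w0n {G Ω : Type*} [Group G] [MulAction G Ω] {g : ℕ → G} {pt : ℕ → Ω}
    (M : Md g pt H15.HS.P 100 6 H15.HS.B 44352000) : (wds g c1w0_W) 1 ^ 2 ≠ 1 :=
  M.npw (c1w0_act M) _ c1w0n_k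
theorem c1W0 {G Ω : Type*} [Group G] [MulAction G Ω] {g : ℕ → G} {pt : ℕ → Ω}
    (M : Md g pt H15.HS.P 100 6 H15.HS.B 44352000) : Wit (H27.IC.Ce ((wds g covr_W) 1)) 5 20 :=
  have := M.fin
  wit_w (x := (wds g c1w0_W)) (k := 2) (by norm_num) (M.eq_of (c1w0_act M) c1w0_k) (c1w0p M) (c1w0n M) (c1ac_card M) (by decide +kernel) (c1y0c_card M)
theorem c1 {G Ω : Type*} [Group G] [MulAction G Ω] {g : ℕ → G} {pt : ℕ → Ω}
    (M : Md g pt H15.HS.P 100 6 H15.HS.B 44352000) : OK (H27.IC.Ce ((wds g covr_W) 1)) :=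
  have := M.fin
  ok_num (n := 2880) (ws := []) 6 (c1ac_card M) (c1W0 M) (List.forall_mem_nil _) (by decide +kernel)
theorem both {G Ω : Type*} [Group G] [MulAction G Ω] {g : ℕ → G} {pt : ℕ → Ω}
    (M : Md g pt H15.HS.P 100 6 H15.HS.B 44352000) : Both G :=
  have := M.fin
  both_reps (wds g covr_W) 2 (fun _ hy => cov M (e := 1) hy hy) fun i hi => match i, hi with
    | 0, _ => c0 M
    | 1, _ => c1 M

theorem spor : Both Cfsg.Spor.HS := by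
  obtain ⟨_, g, M, -⟩ := md H15.hsGen
  exact both M

end H15.IC.HS
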