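import Cfsg.Agent.H15.IC.P
import Cfsg.Agent.H15.J2

/-! Generated by tools/h0/tr.py. -/

set_option maxRecDepth 100000
set_option maxHeartbeats 0

namespace H15.IC.J2
open H16 H0.TR
open scoped commutatorElement

noncomputable def p2t_W : List (List ℕ) := [[nat_lit 4, nat_lit 2, nat_lit 1, nat_lit 1, nat_lit 3, nat_lit 2, nat_lit 4],
  [nat_lit 2, nat_lit 0, nat_lit 2, nat_lit 1, nat_lit 1, nat_lit 4, nat_lit 2, nat_lit 1, nat_lit 2],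
  [nat_lit 1, nat_lit 1, nat_lit 2, nat_lit 1, nat_lit 2, nat_lit 4, nat_lit 2, nat_lit 0, nat_lit 2, nat_lit 1, nat_lit 1, nat_lit 3],
  [nat_lit 4, nat_lit 3, nat_lit 2, nat_lit 0, nat_lit 2, nat_lit 0, nat_lit 2, nat_lit 1, nat_lit 1, nat_lit 3, nat_lit 2, nat_lit 4, nat_lit 2, nat_lit 0, nat_lit 2, nat_lit 0, nat_lit 4, nat_lit 2],
  [nat_lit 2, nat_lit 0, nat_lit 2, nat_lit 1, nat_lit 1, nat_lit 4, nat_lit 2, nat_lit 1, nat_lit 2, nat_lit 3],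
  [nat_lit 2, nat_lit 1, nat_lit 2, nat_lit 3, nat_lit 4, nat_lit 2, nat_lit 0, nat_lit 3, nat_lit 2, nat_lit 1, nat_lit 2, nat_lit 3, nat_lit 4],
  [nat_lit 0, nat_lit 3, nat_lit 2, nat_lit 0, nat_lit 3, nat_lit 2, nat_lit 0, nat_lit 2, nat_lit 1, nat_lit 4, nat_lit 2, nat_lit 1, nat_lit 2, nat_lit 0, nat_lit 4]]
noncomputable def p2t_P : ℕ → ℕ → ℕ := wdsP H16.J2.P p2t_W
noncomputable def p2Pd : List ℕ := [nat_lit 0xa74a8d095165c49b3e1c0830a74c931a3c8748de3d4afdb3770e42a9304cb2858b572f2809a304875da77c688971e213121a8883340c45ab64710993e00d842a1c31e1425a8c02a818e,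
  nat_lit 0xa74a8d09f3a5c49b2a1c08f1a2cc930a0c83a49430049818f3e055b3688853c1a8489b6a94c3d40e951738c97276e65fa3584cf29481c48534f9688703178e0cc4a902c2ca0072edb04,
  nat_lit 0xa74a8d0831a1c8931e6c49f16140973a54c46fcb3156f9a1920a5536029de8a0c302094a15c872648a32748071a107ce262a5db8344f06bb48740383c445ad36a178f60b012e66d4c21,
  nat_lit 0xa54e8518b3e64b893a443851e54d8106349501d31d34c00090c393915a0893f32ccc1040c90ba0af113514eda14166deb1109562e5670f9754594af2ae4f031ef9b8d46e1201084c636,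
  nat_lit 0xa74a85199362ca9d1214191265cf8d0e047501cea60ac009b1a0ddb3525ce3f3e4508f5450c3a34f5aa2149d7325825e166e905b42648c8240c56955e11c0e20f8406467928072adb0c,
  nat_lit 0xa54e8d097123c2833654e87026469f224c53c3c69b5c20d263a880174eccaaf14aca07188502c02656833ea42b9748c83862d09246c2de8430dda9c7e08b25781983e12a073b64449aa,
  nat_lit 0xa3429539b122ca9d2e347872264f85024c106a47000c05e2576f578a2c3d70c4e48e24362c38432e449068dd18854adb1840e02b13cb498d3ecdf350498bbf6445114426963a505581d]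
noncomputable def p2P (k u : ℕ) : ℕ := Nat.land (Nat.shiftRight (nth (nat_lit 0) p2Pd k) (Nat.mul u (nat_lit 7))) (nat_lit 127)
noncomputable def p2Ed : ℕ := nat_lit 0xc0fdd25b95aad07cf1db95cad5263044282c786fdebb6ed58af529d29f3a6cc972a4c88f162407ad9ab464c17ad58a5427488d121407cf1d386cd192e58a94264880e1a3058a121c180
noncomputable def p2E (u : ℕ) : ℕ := Nat.land (Nat.shiftRight p2Ed (Nat.mul u (nat_lit 7))) (nat_lit 127)
noncomputable def p2Id : ℕ := nat_lit 0x7e01f537af1dcf74e40386f3a6b66ad004c66c98b05eb96ac56015290000028a52d3ca934640000992a4008c022431d01f8d14f1d391281b3464c172c54a1324448431e3868c162a10900203860a1018004020800300000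
noncomputable def p2I (u : ℕ) : ℕ := Nat.land (Nat.shiftRight p2Id (Nat.mul u (nat_lit 7))) (nat_lit 127)
noncomputable def p2B : List ℕ := [nat_lit 0, nat_lit 63, nat_lit 83, nat_lit 73]
noncomputable def p2C : List (List (List ℕ)) := [[[],
  [],
  [],
  [],
  [],
  [],
  []], [[],
  [],
  [],
  [],
  [nat_lit 0],
  [nat_lit 0],
  [nat_lit 0]], [[],
  [],
  [nat_lit 0],
  [nat_lit 0],
  [nat_lit 0],
  [],
  [nat_lit 1]], [[],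
  [],
  [],
  [nat_lit 0],
  [],
  [nat_lit 1],
  []], [[],
  [],
  [],
  [],
  [nat_lit 0],
  [nat_lit 0, nat_lit 2],
  [nat_lit 1, nat_lit 3]], [[],
  [],
  [],
  [],
  [],
  [nat_lit 2],
  [nat_lit 0, nat_lit 1, nat_lit 2, nat_lit 3]], [[],
  [],
  [],
  [],
  [],
  [],
  [nat_lit 3]]]
noncomputable def p2e : List (List ℕ) := [[],
  [],
  [],
  [],
  [],
  [],
  [],
  [],
  [],
  [],
  [],
  [],
  [],
  [],
  [],
  [],
  [],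
  [],
  [],
  [],
  [],
  [],
  [],
  [],
  [],
  [],
  [],
  [],
  [],
  [nat_lit 1, nat_lit 4],
  [nat_lit 0, nat_lit 4],
  [nat_lit 1, nat_lit 4],
  [nat_lit 0, nat_lit 1, nat_lit 6],
  [nat_lit 2, nat_lit 5]]
noncomputable def p2l0Dd : ℕ := nat_lit 0xb255c6744c694920a303b6728dc99730c8baeddda3b372adcdb836f612a994221f3f8658ba1fd3f47e4ed9b932e650c99752a44c0870ec1942a0a995029e3b4658a910c21c420830c8108328620c210c2003f0400840f000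
noncomputable def p2l0D (u : ℕ) : ℕ := Nat.land (Nat.shiftRight p2l0Dd (Nat.mul u (nat_lit 11))) (nat_lit 2047)
noncomputable def p2l0Pd : ℕ := nat_lit 0x629ce2ca75f4824e4124b73e4a3195fd629a5130c77f879998db1bc5020fc3cd6e46daa5dafe9ddfd86b17b384a02300
noncomputable def p2l0P (u : ℕ) : ℕ := Nat.land (Nat.shiftRight p2l0Pd (Nat.mul u (nat_lit 6))) (nat_lit 63)
noncomputable def p2l0Qd : ℕ := nat_lit 0xaf029618dd622cf578f7b6d739449d211f83e9f436bbc2778e133172883fe6ab279af4da605781ca9cd992d1c4942d00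
noncomputable def p2l0Q (u : ℕ) : ℕ := Nat.land (Nat.shiftRight p2l0Qd (Nat.mul u (nat_lit 6))) (nat_lit 63)
noncomputable def p2l0 : H16.Lev := ⟨64, 34, p2l0D, p2l0P, p2l0Q⟩
noncomputable def p2l1Dd : ℕ := nat_lit 0x3a0
noncomputable def p2l1D (u : ℕ) : ℕ := Nat.land (Nat.shiftRight p2l1Dd (Nat.mul u (nat_lit 5))) (nat_lit 31)
noncomputable def p2l1Pd : ℕ := nat_lit 0xd
noncomputable def p2l1P (u : ℕ) : ℕ := Nat.land (Nat.shiftRight p2l1Pd (Nat.mul u (nat_lit 2))) (nat_lit 3)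
noncomputable def p2l1Qd : ℕ := nat_lit 8
noncomputable def p2l1Q (u : ℕ) : ℕ := Nat.land (Nat.shiftRight p2l1Qd (Nat.mul u (nat_lit 1))) (nat_lit 1)
noncomputable def p2l1 : H16.Lev := ⟨2, 30, p2l1D, p2l1P, p2l1Q⟩
noncomputable def covr_W : List (List ℕ) := [[nat_lit 4, nat_lit 2, nat_lit 1, nat_lit 1, nat_lit 3, nat_lit 2, nat_lit 4],
  [nat_lit 2, nat_lit 4, nat_lit 0, nat_lit 0, nat_lit 2, nat_lit 1, nat_lit 3, nat_lit 2, nat_lit 0, nat_lit 2, nat_lit 4, nat_lit 2, nat_lit 0, nat_lit 3, nat_lit 2, nat_lit 3]]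
noncomputable def covr_P : ℕ → ℕ → ℕ := wdsP H16.J2.P covr_W
noncomputable def covT0 : H0.TR.CT := (.split (.more (.split (.more (.split (.more (.split (.more (.split (.more (.split (.more (.split (.more .one (.more (.leaf (nat_lit 0) []) .one))) (.more (.fuse [nat_lit 4] [] (.leaf (nat_lit 0) [nat_lit 2, nat_lit 0, nat_lit 2, nat_lit 0, nat_lit 2, nat_lit 3, nat_lit 2, nat_lit 1, nat_lit 1, nat_lit 2])) .one))) (.more (.fuse [nat_lit 6] [] (.fuse [nat_lit 3] [] (.prune (nat_lit 0) (nat_lit 1) []))) .one))) (.more (.split (.more (.fuse [nat_lit 5] [] (.fuse [nat_lit 2] [] (.prune (nat_lit 0) (nat_lit 1) []))) (.more (.fuse [nat_lit 5] [] (.fuse [nat_lit 2] [] (.prune (nat_lit 0) (nat_lit 1) []))) .one))) .one))) (.more (.fuse [nat_lit 6] [nat_lit 0, nat_lit 1] (.fuse [nat_lit 5] [] (.split (.more (.fuse [nat_lit 1] [] (.prune (nat_lit 0) (nat_lit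 1) [])) (.more (.fuse [nat_lit 1] [] (.leaf (nat_lit 0) [nat_lit 3, nat_lit 0, nat_lit 2, nat_lit 1, nat_lit 2, nat_lit 1, nat_lit 2, nat_lit 0, nat_lit 2, nat_lit 0, nat_lit 4])) .one))))) .one))) (.more (.split (.more (.fuse [nat_lit 6] [nat_lit 0, nat_lit 2] (.fuse [nat_lit 4] [] (.prune (nat_lit 2) (nat_lit 1) []))) (.more (.split (.more (.fuse [nat_lit 4] [nat_lit 0] (.fuse [nat_lit 3] [] (.fuse [nat_lit 2] [] (.leaf (nat_lit 1) [])))) (.more (.fuse [nat_lit 4] [] (.fuse [nat_lit 3] [] (.prune (nat_lit 1) (nat_lit 1) [nat_lit 0]))) .one))) .one))) .one))) (.more (.split (.more (.split (.more (.fuse [nat_lit 4] [nat_lit 1] (.prune (nat_lit 3) (nat_lit 1) [])) (.more (.fuse [nat_lit 4] [nat_lit 0, nat_lit 1] (.split (.more (.fuse [nat_lit 2] [nat_lit 0] (.prune (nat_lit 1) (nat_lit 1) [])) (.more (.fuse [nat_lit 2] [nat_lit 0] (.fuse [nat_lit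 3] [] (.leaf (nat_lit 1) [nat_lit 3, nat_lit 2, nat_lit 0, nat_lit 4, nat_lit 2, nat_lit 4, nat_lit 2, nat_lit 3, nat_lit 2, nat_lit 3]))) .one)))) .one))) (.more (.split (.more (.fuse [nat_lit 4] [nat_lit 2] (.split (.more (.fuse [nat_lit 2] [] (.fuse [nat_lit 2, nat_lit 3] [] (.leaf (nat_lit 1) [nat_lit 2, nat_lit 1, nat_lit 2, nat_lit 0, nat_lit 2, nat_lit 3]))) (.more (.fuse [nat_lit 2] [] (.prune (nat_lit 1) (nat_lit 1) [nat_lit 0])) .one)))) (.more (.fuse [nat_lit 4] [nat_lit 0, nat_lit 2] (.prune (nat_lit 3) (nat_lit 1) [nat_lit 0, nat_lit 2])) .one))) .one))) .one)))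
noncomputable def c0ax_W : List (List ℕ) := [[nat_lit 4, nat_lit 2, nat_lit 1, nat_lit 1, nat_lit 3, nat_lit 2, nat_lit 4]]
noncomputable def c0ax_P : ℕ → ℕ → ℕ := wdsP H16.J2.P c0ax_W
noncomputable def c0ath_W : List (List ℕ) := [[nat_lit 2, nat_lit 0, nat_lit 3, nat_lit 2, nat_lit 1, nat_lit 2, nat_lit 0, nat_lit 2, nat_lit 1, nat_lit 2, nat_lit 3, nat_lit 2],
  [nat_lit 3],
  [nat_lit 1, nat_lit 1],
  [nat_lit 0],
  [nat_lit 1],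
  [nat_lit 2, nat_lit 1, nat_lit 2, nat_lit 0, nat_lit 3, nat_lit 2, nat_lit 1, nat_lit 2, nat_lit 0],
  [nat_lit 2],
  [nat_lit 2, nat_lit 0, nat_lit 2, nat_lit 0, nat_lit 2, nat_lit 1, nat_lit 1],
  [nat_lit 4],
  [nat_lit 2, nat_lit 3, nat_lit 2, nat_lit 1, nat_lit 2, nat_lit 0, nat_lit 2, nat_lit 1, nat_lit 2, nat_lit 4, nat_lit 2]]
noncomputable def c0ath_P : ℕ → ℕ → ℕ := wdsP H16.J2.P c0ath_W
noncomputable def c0atl0Dd : ℕ := nat_lit 0xab6a58b769c9aba18e74abaa49f1fc8da2c862981cd7093e454f9b24a9b1408f812cee105885b0da341af6255666d6b55d303b0c64b8bc644b22a173279692e9414b4de464df2709422862374ad2207e050741a81b2fc562184e2388423c851704c174420b84a16c481244703c0a088200442102418058170541002000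
noncomputable def c0atl0D (u : ℕ) : ℕ := Nat.land (Nat.shiftRight c0atl0Dd (Nat.mul u (nat_lit 10))) (nat_lit 1023)
noncomputable def c0atl0Pd : ℕ := nat_lit 0xc77ad4f852714aa885c3f6f5e45272cde2c5712ec3611e8a85d5adbb214e724a17d1974c556a07d019614560c353354e3d8a7ee2a98ea6cb4e44b1d2832cb41b04d3124d9288143d49b5e3a360122c9863c0c3840a08080
noncomputable def c0atl0P (u : ℕ) : ℕ := Nat.land (Nat.shiftRight c0atl0Pd (Nat.mul u (nat_lit 7))) (nat_lit 127)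
noncomputable def c0atl0Qd : ℕ := nat_lit 0xc775a0c7d8a6a98b84eb2ad1975b85524bfc1052a74972f5594355ce997cd36b0dd651889a9d9ae5981ca4d4c4b1f1dcd09ea08c846ecac07aced38541d02d20657b17885d1f125d1432438d9e144c5940a201840c08080
noncomputable def c0atl0Q (u : ℕ) : ℕ := Nat.land (Nat.shiftRight c0atl0Qd (Nat.mul u (nat_lit 7))) (nat_lit 127)
noncomputable def c0atl0 : H16.Lev := ⟨100, 10, c0atl0D, c0atl0P, c0atl0Q⟩
noncomputable def c0atl1Dd : ℕ := nat_lit 0x7451f74b955af773a3606793b8642a16471fc258cbe5d08154943f21124764124c3e83082a4c8622d150a453041849c461f03cb2361e0e8762e0f0e428120384c180a058240c00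
noncomputable def c0atl1D (u : ℕ) : ℕ := Nat.land (Nat.shiftRight c0atl1Dd (Nat.mul u (nat_lit 9))) (nat_lit 511)
noncomputable def c0atl1Pd : ℕ := nat_lit 0xf3061ac9a34e62d65d89b55e9db332dc14e4929bbe357ba3479b0e2650bad490e2c45264501463cc08a34e90c22b8202720c305121c596
noncomputable def c0atl1P (u : ℕ) : ℕ := Nat.land (Nat.shiftRight c0atl1Pd (Nat.mul u (nat_lit 7))) (nat_lit 127)
noncomputable def c0atl1Qd : ℕ := nat_lit 0xf3d9c0000b40bf403bc8038d3c0038ceed40000039658680b00000c7e0241c0021d80000dc094a7000005c0afaa5b4c0000022c00a2359174001e7ea2c04a098c0550d0085109188500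
noncomputable def c0atl1Q (u : ℕ) : ℕ := Nat.land (Nat.shiftRight c0atl1Qd (Nat.mul u (nat_lit 6))) (nat_lit 63)
noncomputable def c0atl1 : H16.Lev := ⟨63, 8, c0atl1D, c0atl1P, c0atl1Q⟩
noncomputable def c0atl2Dd : ℕ := nat_lit 0xa5e71a6d53cb1850c0
noncomputable def c0atl2D (u : ℕ) : ℕ := Nat.land (Nat.shiftRight c0atl2Dd (Nat.mul u (nat_lit 6))) (nat_lit 63)
noncomputable def c0atl2Pd : ℕ := nat_lit 0x85699c97f3ea4a6f89c21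
noncomputable def c0atl2P (u : ℕ) : ℕ := Nat.land (Nat.shiftRight c0atl2Pd (Nat.mul u (nat_lit 7))) (nat_lit 127)
noncomputable def c0atl2Qd : ℕ := nat_lit 0x20000000a00000500006000048000000b007000000130009000000000000000000000000000000000000000000000000000
noncomputable def c0atl2Q (u : ℕ) : ℕ := Nat.land (Nat.shiftRight c0atl2Qd (Nat.mul u (nat_lit 4))) (nat_lit 15)
noncomputable def c0atl2 : H16.Lev := ⟨12, 6, c0atl2D, c0atl2P, c0atl2Q⟩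
noncomputable def c0atl3Dd : ℕ := nat_lit 8
noncomputable def c0atl3D (u : ℕ) : ℕ := Nat.land (Nat.shiftRight c0atl3Dd (Nat.mul u (nat_lit 2))) (nat_lit 3)
noncomputable def c0atl3Pd : ℕ := nat_lit 0x2549
noncomputable def c0atl3P (u : ℕ) : ℕ := Nat.land (Nat.shiftRight c0atl3Pd (Nat.mul u (nat_lit 7))) (nat_lit 127)
noncomputable def c0atl3Qd : ℕ := nat_lit 0x4000000000000000000
noncomputable def c0atl3Q (u : ℕ) : ℕ := Nat.land (Nat.shiftRight c0atl3Qd (Nat.mul u (nat_lit 1))) (nat_lit 1)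
noncomputable def c0atl3 : H16.Lev := ⟨2, 3, c0atl3D, c0atl3P, c0atl3Q⟩
noncomputable def c0atl4Dd : ℕ := nat_lit 2
noncomputable def c0atl4D (u : ℕ) : ℕ := Nat.land (Nat.shiftRight c0atl4Dd (Nat.mul u (nat_lit 1))) (nat_lit 1)
noncomputable def c0atl4Pd : ℕ := nat_lit 0x311
noncomputable def c0atl4P (u : ℕ) : ℕ := Nat.land (Nat.shiftRight c0atl4Pd (Nat.mul u (nat_lit 5))) (nat_lit 31)
noncomputable def c0atl4Qd : ℕ := nat_lit 0x1000000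
noncomputable def c0atl4Q (u : ℕ) : ℕ := Nat.land (Nat.shiftRight c0atl4Qd (Nat.mul u (nat_lit 1))) (nat_lit 1)
noncomputable def c0atl4 : H16.Lev := ⟨2, 2, c0atl4D, c0atl4P, c0atl4Q⟩
noncomputable def c0atl5Dd : ℕ := nat_lit 0
noncomputable def c0atl5D (u : ℕ) : ℕ := Nat.land (Nat.shiftRight c0atl5Dd (Nat.mul u (nat_lit 1))) (nat_lit 1)
noncomputable def c0atl5Pd : ℕ := nat_lit 0xeeb
noncomputable def c0atl5P (u : ℕ) : ℕ := Nat.land (Nat.shiftRight c0atl5Pd (Nat.mul u (nat_lit 6))) (nat_lit 63)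
noncomputable def c0atl5Qd : ℕ := nat_lit 0x800000000000000
noncomputable def c0atl5Q (u : ℕ) : ℕ := Nat.land (Nat.shiftRight c0atl5Qd (Nat.mul u (nat_lit 1))) (nat_lit 1)
noncomputable def c0atl5 : H16.Lev := ⟨2, 1, c0atl5D, c0atl5P, c0atl5Q⟩
noncomputable def c0ace_W : List (List ℕ) := [[nat_lit 3],
  [nat_lit 1, nat_lit 1, nat_lit 2, nat_lit 0, nat_lit 3, nat_lit 2, nat_lit 1, nat_lit 2, nat_lit 0, nat_lit 2, nat_lit 1, nat_lit 2, nat_lit 3, nat_lit 2],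
  [nat_lit 0, nat_lit 2, nat_lit 1, nat_lit 2, nat_lit 0, nat_lit 3, nat_lit 2, nat_lit 1, nat_lit 2, nat_lit 0],
  [nat_lit 2, nat_lit 1, nat_lit 2, nat_lit 1, nat_lit 2, nat_lit 3, nat_lit 2, nat_lit 0, nat_lit 4, nat_lit 2, nat_lit 1, nat_lit 2, nat_lit 3],
  [nat_lit 0, nat_lit 2, nat_lit 0, nat_lit 2, nat_lit 0, nat_lit 3, nat_lit 2, nat_lit 1, nat_lit 4, nat_lit 2, nat_lit 1, nat_lit 1],
  [nat_lit 2, nat_lit 3, nat_lit 2, nat_lit 1, nat_lit 1, nat_lit 4, nat_lit 2, nat_lit 1, nat_lit 2, nat_lit 1]]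
noncomputable def c0ace_P : ℕ → ℕ → ℕ := wdsP H16.J2.P c0ace_W
noncomputable def c0acc4Dd : ℕ := nat_lit 0
noncomputable def c0acc4D (u : ℕ) : ℕ := Nat.land (Nat.shiftRight c0acc4Dd (Nat.mul u (nat_lit 1))) (nat_lit 1)
noncomputable def c0acc4Pd : ℕ := nat_lit 0x311
noncomputable def c0acc4P (u : ℕ) : ℕ := Nat.land (Nat.shiftRight c0acc4Pd (Nat.mul u (nat_lit 5))) (nat_lit 31)
noncomputable def c0acc4Qd : ℕ := nat_lit 0x1000000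
noncomputable def c0acc4Q (u : ℕ) : ℕ := Nat.land (Nat.shiftRight c0acc4Qd (Nat.mul u (nat_lit 1))) (nat_lit 1)
noncomputable def c0acc4 : H16.Lev := ⟨2, 1, c0acc4D, c0acc4P, c0acc4Q⟩
noncomputable def c0atn0Fd : ℕ := nat_lit 0
noncomputable def c0atn0F (u : ℕ) : ℕ := Nat.land (Nat.shiftRight c0atn0Fd (Nat.mul u (nat_lit 1))) (nat_lit 1)
noncomputable def c0atn0 : Nd := ⟨c0atn0F, (nat_lit 2), (nat_lit 1), [], [((nat_lit 0), [])], []⟩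
noncomputable def c0acc3Dd : ℕ := nat_lit 2
noncomputable def c0acc3D (u : ℕ) : ℕ := Nat.land (Nat.shiftRight c0acc3Dd (Nat.mul u (nat_lit 1))) (nat_lit 1)
noncomputable def c0acc3Pd : ℕ := nat_lit 0x2549
noncomputable def c0acc3P (u : ℕ) : ℕ := Nat.land (Nat.shiftRight c0acc3Pd (Nat.mul u (nat_lit 7))) (nat_lit 127)
noncomputable def c0acc3Qd : ℕ := nat_lit 0x4000000000000000000
noncomputable def c0acc3Q (u : ℕ) : ℕ := Nat.land (Nat.shiftRight c0acc3Qd (Nat.mul u (nat_lit 1))) (nat_lit 1)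
noncomputable def c0acc3 : H16.Lev := ⟨2, 2, c0acc3D, c0acc3P, c0acc3Q⟩
noncomputable def c0atn1Fd : ℕ := nat_lit 0
noncomputable def c0atn1F (u : ℕ) : ℕ := Nat.land (Nat.shiftRight c0atn1Fd (Nat.mul u (nat_lit 1))) (nat_lit 1)
noncomputable def c0atn1 : Nd := ⟨c0atn1F, (nat_lit 2), (nat_lit 2), [], [((nat_lit 0), [])], []⟩
noncomputable def c0acc2Dd : ℕ := nat_lit 0xe74520
noncomputable def c0acc2D (u : ℕ) : ℕ := Nat.land (Nat.shiftRight c0acc2Dd (Nat.mul u (nat_lit 4))) (nat_lit 15)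
noncomputable def c0acc2Pd : ℕ := nat_lit 0x27c9b52aa21
noncomputable def c0acc2P (u : ℕ) : ℕ := Nat.land (Nat.shiftRight c0acc2Pd (Nat.mul u (nat_lit 7))) (nat_lit 127)
noncomputable def c0acc2Qd : ℕ := nat_lit 0xc0001000a000a0000000000000000000000000000000000000000000000000000000
noncomputable def c0acc2Q (u : ℕ) : ℕ := Nat.land (Nat.shiftRight c0acc2Qd (Nat.mul u (nat_lit 3))) (nat_lit 7)
noncomputable def c0acc2 : H16.Lev := ⟨6, 3, c0acc2D, c0acc2P, c0acc2Q⟩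
noncomputable def c0atn2Fd : ℕ := nat_lit 0x807050004b10
noncomputable def c0atn2F (u : ℕ) : ℕ := Nat.land (Nat.shiftRight c0atn2Fd (Nat.mul u (nat_lit 4))) (nat_lit 15)
noncomputable def c0atn2 : Nd := ⟨c0atn2F, (nat_lit 3), (nat_lit 3), [[nat_lit 0]], [((nat_lit 0), [])], []⟩
noncomputable def c0acc0Dd : ℕ := nat_lit 0xb52d73ca64d250de694acc8d46496124e30e358fc8639491187a4d200dd0c801d0d1d474208ec5a5c158d45c3e178c9449012a10fc213c088d86014864901c098581e101e0744c171001c220a0d02c280e040481806018100a00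
noncomputable def c0acc0D (u : ℕ) : ℕ := Nat.land (Nat.shiftRight c0acc0Dd (Nat.mul u (nat_lit 9))) (nat_lit 511)
noncomputable def c0acc0Pd : ℕ := nat_lit 0x4270cb4a93edc90e8863d417ed4730da9ca9c4558b9869e4b20c2f505eeeea78b6135cc64ab2da49269f80ca42aaaa4ea3885f0a82b5c4be5c4cb351ab01b936287022878280
noncomputable def c0acc0P (u : ℕ) : ℕ := Nat.land (Nat.shiftRight c0acc0Pd (Nat.mul u (nat_lit 7))) (nat_lit 127)
noncomputable def c0acc0Qd : ℕ := nat_lit 0x4e00a8084c56a8930402a2494dcb7a8c03094ed0b768f241d8001597000001f00422355c0040000f864c00780325e3d20a7270d1458a4022311a7c34008cce0eda6bf2c349831c99d3300145c570188808e000801210000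
noncomputable def c0acc0Q (u : ℕ) : ℕ := Nat.land (Nat.shiftRight c0acc0Qd (Nat.mul u (nat_lit 7))) (nat_lit 127)
noncomputable def c0acc0 : H16.Lev := ⟨80, 6, c0acc0D, c0acc0P, c0acc0Q⟩
noncomputable def c0atn3Fd : ℕ := nat_lit 0x48220001cf58000038000000d0020000000000000000000000000000000000000000000300000000001c0038080015204000001e7000110000f00020
noncomputable def c0atn3F (u : ℕ) : ℕ := Nat.land (Nat.shiftRight c0atn3Fd (Nat.mul u (nat_lit 5))) (nat_lit 31)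
noncomputable def c0atn3 : Nd := ⟨c0atn3F, (nat_lit 6), (nat_lit 6), [[nat_lit 0]], [((nat_lit 0), [])], []⟩
noncomputable def c0w0_W : List (List ℕ) := [[nat_lit 4, nat_lit 2, nat_lit 1, nat_lit 1, nat_lit 3, nat_lit 2, nat_lit 4],
  [nat_lit 2, nat_lit 4, nat_lit 1, nat_lit 1, nat_lit 1, nat_lit 2, nat_lit 0, nat_lit 3, nat_lit 2, nat_lit 0, nat_lit 2, nat_lit 1]]
noncomputable def c0w0_P : ℕ → ℕ → ℕ := wdsP H16.J2.P c0w0_W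
noncomputable def c0y0x_W : List (List ℕ) := [[nat_lit 2, nat_lit 4, nat_lit 1, nat_lit 1, nat_lit 1, nat_lit 2, nat_lit 0, nat_lit 3, nat_lit 2, nat_lit 0, nat_lit 2, nat_lit 1]]
noncomputable def c0y0x_P : ℕ → ℕ → ℕ := wdsP H16.J2.P c0y0x_W
noncomputable def c0y0th_W : List (List ℕ) := [[nat_lit 3, nat_lit 1, nat_lit 2, nat_lit 1, nat_lit 2, nat_lit 0, nat_lit 2, nat_lit 0, nat_lit 3],
  [nat_lit 2, nat_lit 1, nat_lit 3, nat_lit 2, nat_lit 1, nat_lit 2, nat_lit 1, nat_lit 1, nat_lit 3, nat_lit 2],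
  [nat_lit 2, nat_lit 1, nat_lit 2, nat_lit 0, nat_lit 2, nat_lit 1, nat_lit 1],
  [nat_lit 2, nat_lit 0, nat_lit 2, nat_lit 3, nat_lit 2, nat_lit 0, nat_lit 2, nat_lit 0, nat_lit 3],
  [nat_lit 0],
  [nat_lit 1],
  [nat_lit 2],
  [nat_lit 3],
  [nat_lit 0, nat_lit 2, nat_lit 3, nat_lit 2, nat_lit 1],
  [nat_lit 4],
  [nat_lit 1, nat_lit 1, nat_lit 2, nat_lit 3, nat_lit 2, nat_lit 0, nat_lit 2, nat_lit 4, nat_lit 2, nat_lit 4, nat_lit 3]]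
noncomputable def c0y0th_P : ℕ → ℕ → ℕ := wdsP H16.J2.P c0y0th_W
noncomputable def c0y0tl0Dd : ℕ := nat_lit 0xd8bade3376d2a1826483d7ae7a690888a17705b66297f5d16942a21859534f5323a571544bb5691a43cfb53d1939484270c424503198202e464140ae1acec2608d154432dc383802d2ac9622cd5328a02fc24108aa0dc440b094224740b85605454178171201e0f4510584609c180c0250740e0301306c1a0341102400
noncomputable def c0y0tl0D (u : ℕ) : ℕ := Nat.land (Nat.shiftRight c0y0tl0Dd (Nat.mul u (nat_lit 10))) (nat_lit 1023)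
noncomputable def c0y0tl0Pd : ℕ := nat_lit 0xc75dbe2bd3ea4893090da80d1f323e8115d70fd9ca76c2945b7129b658ae5b58f0d7103ae6ad054f70dc3c6541cad614e082ea6a73660b961c3d7d9a37d225353a61546508b118b44138c2c90d0ef028914181844c08080
noncomputable def c0y0tl0P (u : ℕ) : ℕ := Nat.land (Nat.shiftRight c0y0tl0Pd (Nat.mul u (nat_lit 7))) (nat_lit 127)
noncomputable def c0y0tl0Qd : ℕ := nat_lit 0xc781aac3d7e8348f6102ec4bdcdd8b24fb8bc694998332ddc7e3e4467d695d79d55b0a96a9d4fc3120569b50a4a42f494384dd6b1500ce1d2f46cd2a6cddb04e6d9264a90c162034abc448c6131c1c41116184840a08080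
noncomputable def c0y0tl0Q (u : ℕ) : ℕ := Nat.land (Nat.shiftRight c0y0tl0Qd (Nat.mul u (nat_lit 7))) (nat_lit 127)
noncomputable def c0y0tl0 : H16.Lev := ⟨100, 11, c0y0tl0D, c0y0tl0P, c0y0tl0Q⟩
noncomputable def c0y0tl1Dd : ℕ := nat_lit 0x3b0de497d0dd9a3e8da8175005427dca8d32a11b8d34aabc709d13894d41c391604660270f4d01a2b11436672a8ec68120e90c74330485016190408030100f83c1a07030140800
noncomputable def c0y0tl1D (u : ℕ) : ℕ := Nat.land (Nat.shiftRight c0y0tl1Dd (Nat.mul u (nat_lit 9))) (nat_lit 511)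
noncomputable def c0y0tl1Pd : ℕ := nat_lit 0x16f0812e0a2581b0c73c9b7eb4c5d2c2a36cb47b95e0c39e083041b35143264956709234891d311a8bd6b80b0a16c4ca5b34d3938251d29
noncomputable def c0y0tl1P (u : ℕ) : ℕ := Nat.land (Nat.shiftRight c0y0tl1Pd (Nat.mul u (nat_lit 7))) (nat_lit 127)
noncomputable def c0y0tl1Qd : ℕ := nat_lit 0xf4ec80000f801f8031680196440019cf0b800000127b9d800c0000434001a0002b3c00002809efa8000000015c21bb0000002450081f253ecd0021155c0a75de22cc62195db639baf00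
noncomputable def c0y0tl1Q (u : ℕ) : ℕ := Nat.land (Nat.shiftRight c0y0tl1Qd (Nat.mul u (nat_lit 6))) (nat_lit 63)
noncomputable def c0y0tl1 : H16.Lev := ⟨63, 9, c0y0tl1D, c0y0tl1P, c0y0tl1Q⟩
noncomputable def c0y0tl2Dd : ℕ := nat_lit 0xf32aa78df8174d441648f38b248287183080
noncomputable def c0y0tl2D (u : ℕ) : ℕ := Nat.land (Nat.shiftRight c0y0tl2Dd (Nat.mul u (nat_lit 6))) (nat_lit 63)
noncomputable def c0y0tl2Pd : ℕ := nat_lit 0xae8ae3b84e31216efcab481423e37ccd95a608251f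
noncomputable def c0y0tl2P (u : ℕ) : ℕ := Nat.land (Nat.shiftRight c0y0tl2Pd (Nat.mul u (nat_lit 7))) (nat_lit 127)
noncomputable def c0y0tl2Qd : ℕ := nat_lit 0x444000001501000b80000000a00000004004800004c0b71c00a00127800c3140300000000000000005a020000000000001a00000000000000000000000000
noncomputable def c0y0tl2Q (u : ℕ) : ℕ := Nat.land (Nat.shiftRight c0y0tl2Qd (Nat.mul u (nat_lit 5))) (nat_lit 31)
noncomputable def c0y0tl2 : H16.Lev := ⟨24, 4, c0y0tl2D, c0y0tl2P, c0y0tl2Q⟩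
noncomputable def c0y0tl3Dd : ℕ := nat_lit 0xd0
noncomputable def c0y0tl3D (u : ℕ) : ℕ := Nat.land (Nat.shiftRight c0y0tl3Dd (Nat.mul u (nat_lit 2))) (nat_lit 3)
noncomputable def c0y0tl3Pd : ℕ := nat_lit 0x9786da3
noncomputable def c0y0tl3P (u : ℕ) : ℕ := Nat.land (Nat.shiftRight c0y0tl3Pd (Nat.mul u (nat_lit 7))) (nat_lit 127)
noncomputable def c0y0tl3Qd : ℕ := nat_lit 0x80040000000c0000000000000000000000000000000000000
noncomputable def c0y0tl3Q (u : ℕ) : ℕ := Nat.land (Nat.shiftRight c0y0tl3Qd (Nat.mul u (nat_lit 2))) (nat_lit 3)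
noncomputable def c0y0tl3 : H16.Lev := ⟨4, 2, c0y0tl3D, c0y0tl3P, c0y0tl3Q⟩
noncomputable def c0y0ce_W : List (List ℕ) := [[nat_lit 0, nat_lit 2, nat_lit 1, nat_lit 2, nat_lit 1, nat_lit 3, nat_lit 2, nat_lit 1, nat_lit 4, nat_lit 2]]
noncomputable def c0y0ce_P : ℕ → ℕ → ℕ := wdsP H16.J2.P c0y0ce_W
noncomputable def c0y0cc0Dd : ℕ := nat_lit 0x8765432100
noncomputable def c0y0cc0D (u : ℕ) : ℕ := Nat.land (Nat.shiftRight c0y0cc0Dd (Nat.mul u (nat_lit 4))) (nat_lit 15)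
noncomputable def c0y0cc0Pd : ℕ := nat_lit 0x1309a38b39467d480
noncomputable def c0y0cc0P (u : ℕ) : ℕ := Nat.land (Nat.shiftRight c0y0cc0Pd (Nat.mul u (nat_lit 7))) (nat_lit 127)
noncomputable def c0y0cc0Qd : ℕ := nat_lit 0x700000000000000000004000000008000000100000300020000000050000000600000000000900
noncomputable def c0y0cc0Q (u : ℕ) : ℕ := Nat.land (Nat.shiftRight c0y0cc0Qd (Nat.mul u (nat_lit 4))) (nat_lit 15)
noncomputable def c0y0cc0 : H16.Lev := ⟨10, 1, c0y0cc0D, c0y0cc0P, c0y0cc0Q⟩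
noncomputable def c0y0tn0Fd : ℕ := nat_lit 0x81108431ce9084471206019c8408c86018a30a02328929114a400ca43a1211192938063080680a00020443498162082028240c04c099c40a02a0902108020
noncomputable def c0y0tn0F (u : ℕ) : ℕ := Nat.land (Nat.shiftRight c0y0tn0Fd (Nat.mul u (nat_lit 5))) (nat_lit 31)
noncomputable def c0y0tn0 : Nd := ⟨c0y0tn0F, (nat_lit 2), (nat_lit 1), [[nat_lit 0, nat_lit 0, nat_lit 0, nat_lit 0, nat_lit 0]], [((nat_lit 0), []), ((nat_lit 0), [nat_lit 0]), ((nat_lit 0), [nat_lit 0, nat_lit 0]), ((nat_lit 0), [nat_lit 0, nat_lit 0, nat_lit 0]), ((nat_lit 1), [nat_lit 0, nat_lit 0, nat_lit 0, nat_lit 0])], []⟩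
noncomputable def c1ax_W : List (List ℕ) := [[nat_lit 2, nat_lit 4, nat_lit 0, nat_lit 0, nat_lit 2, nat_lit 1, nat_lit 3, nat_lit 2, nat_lit 0, nat_lit 2, nat_lit 4, nat_lit 2, nat_lit 0, nat_lit 3, nat_lit 2, nat_lit 3]]
noncomputable def c1ax_P : ℕ → ℕ → ℕ := wdsP H16.J2.P c1ax_W
noncomputable def c1ath_W : List (List ℕ) := [[nat_lit 0, nat_lit 2, nat_lit 1, nat_lit 2, nat_lit 1, nat_lit 2, nat_lit 0, nat_lit 2, nat_lit 0, nat_lit 2],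
  [nat_lit 0, nat_lit 2, nat_lit 0, nat_lit 2, nat_lit 1, nat_lit 2, nat_lit 0, nat_lit 3, nat_lit 2, nat_lit 0, nat_lit 2, nat_lit 1, nat_lit 2, nat_lit 1],
  [nat_lit 1, nat_lit 3],
  [nat_lit 2, nat_lit 0, nat_lit 2, nat_lit 1, nat_lit 2],
  [nat_lit 2, nat_lit 1, nat_lit 2, nat_lit 0, nat_lit 3, nat_lit 2, nat_lit 0, nat_lit 2],
  [nat_lit 0],
  [nat_lit 1],
  [nat_lit 2],
  [nat_lit 3],
  [nat_lit 1, nat_lit 1, nat_lit 2, nat_lit 0, nat_lit 3, nat_lit 2, nat_lit 0, nat_lit 2, nat_lit 0, nat_lit 2],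
  [nat_lit 4],
  [nat_lit 3, nat_lit 4, nat_lit 2, nat_lit 0, nat_lit 3, nat_lit 2, nat_lit 4, nat_lit 2, nat_lit 0, nat_lit 2, nat_lit 0, nat_lit 4, nat_lit 2, nat_lit 3]]
noncomputable def c1ath_P : ℕ → ℕ → ℕ := wdsP H16.J2.P c1ath_W
noncomputable def c1atl0Dd : ℕ := nat_lit 0x814e2dbf9e079cb4d63ad746e7d817a3c5da4903c9a23e4798c798a2cc125272362844d89d91e2463e8771a61e64cc711042ac49c8798e17c5d8b51311ee4346f8ea18e4044f89a11c458850e917624c1a0171a20c0460a319c228230890ce12c140860b61101987a0860700c04206e1040a83607c0c81102b03602c1002903c0740801a01e04c05000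
noncomputable def c1atl0D (u : ℕ) : ℕ := Nat.land (Nat.shiftRight c1atl0Dd (Nat.mul u (nat_lit 11))) (nat_lit 2047)
noncomputable def c1atl0Pd : ℕ := nat_lit 0xc6cdc4a9f8aa2192fddac577a128bf75baa68b65c03941347b489253c0a505574f8b906135b598b10c192d86d9f2b1a8a34af2c5ca4f4a0c86499139938f2710360d762bab2f223dc8b341c30e15202b50610d893a08080
noncomputable def c1atl0P (u : ℕ) : ℕ := Nat.land (Nat.shiftRight c1atl0Pd (Nat.mul u (nat_lit 7))) (nat_lit 127)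
noncomputable def c1atl0Qd : ℕ := nat_lit 0xc779943a75a928631dc29305605d889d6cabe79d1f9b82d8a90b9bb64754cccb4f932ab2fc8e1a2e444fc484bbb285a758af4215439255c5591ae4160741cb0a3da357acd7a540889bc2430d24202c21b1c344860e08080
noncomputable def c1atl0Q (u : ℕ) : ℕ := Nat.land (Nat.shiftRight c1atl0Qd (Nat.mul u (nat_lit 7))) (nat_lit 127)
noncomputable def c1atl0 : H16.Lev := ⟨100, 12, c1atl0D, c1atl0P, c1atl0Q⟩
noncomputable def c1atl1Dd : ℕ := nat_lit 0x1173f5b410ce3c1f71b658c545e3898af274310e2cd448d858de5ca2180a50aa443c7451188a68438180be4d1a97074390c0505c25168381224150802e1c0686832110b01c0a00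
noncomputable def c1atl1D (u : ℕ) : ℕ := Nat.land (Nat.shiftRight c1atl1Dd (Nat.mul u (nat_lit 9))) (nat_lit 511)
noncomputable def c1atl1Pd : ℕ := nat_lit 0xba8c5a50c617829efe016522090b60b2672b698a06465b132bc31bb2e92181a4c90208a5ebcb61c44634791d51f592b6038670e9b30eb5
noncomputable def c1atl1P (u : ℕ) : ℕ := Nat.land (Nat.shiftRight c1atl1Pd (Nat.mul u (nat_lit 7))) (nat_lit 127)
noncomputable def c1atl1Qd : ℕ := nat_lit 0x1b4d400004c07ee00a300a7bf400050c2940000010f31e80dc000055401eac00080000009008bea80000580dac25d34000000e04080f8dce2d0326999802c46f9ce8c114a1bd79d81c0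
noncomputable def c1atl1Q (u : ℕ) : ℕ := Nat.land (Nat.shiftRight c1atl1Qd (Nat.mul u (nat_lit 6))) (nat_lit 63)
noncomputable def c1atl1 : H16.Lev := ⟨63, 10, c1atl1D, c1atl1P, c1atl1Q⟩
noncomputable def c1atl2Dd : ℕ := nat_lit 0x2c961060
noncomputable def c1atl2D (u : ℕ) : ℕ := Nat.land (Nat.shiftRight c1atl2Dd (Nat.mul u (nat_lit 5))) (nat_lit 31)
noncomputable def c1atl2Pd : ℕ := nat_lit 0x11ed6fa1
noncomputable def c1atl2P (u : ℕ) : ℕ := Nat.land (Nat.shiftRight c1atl2Pd (Nat.mul u (nat_lit 5))) (nat_lit 31)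
noncomputable def c1atl2Qd : ℕ := nat_lit 0x1084c0000000000005000000
noncomputable def c1atl2Q (u : ℕ) : ℕ := Nat.land (Nat.shiftRight c1atl2Qd (Nat.mul u (nat_lit 3))) (nat_lit 7)
noncomputable def c1atl2 : H16.Lev := ⟨6, 5, c1atl2D, c1atl2P, c1atl2Q⟩
noncomputable def c1atl3Dd : ℕ := nat_lit 0x8520
noncomputable def c1atl3D (u : ℕ) : ℕ := Nat.land (Nat.shiftRight c1atl3Dd (Nat.mul u (nat_lit 4))) (nat_lit 15)
noncomputable def c1atl3Pd : ℕ := nat_lit 0xf6b68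
noncomputable def c1atl3P (u : ℕ) : ℕ := Nat.land (Nat.shiftRight c1atl3Pd (Nat.mul u (nat_lit 5))) (nat_lit 31)
noncomputable def c1atl3Qd : ℕ := nat_lit 0x3060000000000000
noncomputable def c1atl3Q (u : ℕ) : ℕ := Nat.land (Nat.shiftRight c1atl3Qd (Nat.mul u (nat_lit 2))) (nat_lit 3)
noncomputable def c1atl3 : H16.Lev := ⟨4, 3, c1atl3D, c1atl3P, c1atl3Q⟩
noncomputable def c1atl4Dd : ℕ := nat_lit 2
noncomputable def c1atl4D (u : ℕ) : ℕ := Nat.land (Nat.shiftRight c1atl4Dd (Nat.mul u (nat_lit 1))) (nat_lit 1)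
noncomputable def c1atl4Pd : ℕ := nat_lit 0x3fc
noncomputable def c1atl4P (u : ℕ) : ℕ := Nat.land (Nat.shiftRight c1atl4Pd (Nat.mul u (nat_lit 5))) (nat_lit 31)
noncomputable def c1atl4Qd : ℕ := nat_lit 0x80000000
noncomputable def c1atl4Q (u : ℕ) : ℕ := Nat.land (Nat.shiftRight c1atl4Qd (Nat.mul u (nat_lit 1))) (nat_lit 1)
noncomputable def c1atl4 : H16.Lev := ⟨2, 2, c1atl4D, c1atl4P, c1atl4Q⟩
noncomputable def c1atl5Dd : ℕ := nat_lit 0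
noncomputable def c1atl5D (u : ℕ) : ℕ := Nat.land (Nat.shiftRight c1atl5Dd (Nat.mul u (nat_lit 1))) (nat_lit 1)
noncomputable def c1atl5Pd : ℕ := nat_lit 0x2b02
noncomputable def c1atl5P (u : ℕ) : ℕ := Nat.land (Nat.shiftRight c1atl5Pd (Nat.mul u (nat_lit 7))) (nat_lit 127)
noncomputable def c1atl5Qd : ℕ := nat_lit 0x4000000000000000000000
noncomputable def c1atl5Q (u : ℕ) : ℕ := Nat.land (Nat.shiftRight c1atl5Qd (Nat.mul u (nat_lit 1))) (nat_lit 1)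
noncomputable def c1atl5 : H16.Lev := ⟨2, 1, c1atl5D, c1atl5P, c1atl5Q⟩
noncomputable def c1ace_W : List (List ℕ) := [[nat_lit 0, nat_lit 2, nat_lit 1, nat_lit 2, nat_lit 1, nat_lit 2, nat_lit 0, nat_lit 2, nat_lit 0, nat_lit 2],
  [nat_lit 3, nat_lit 0, nat_lit 2, nat_lit 0, nat_lit 2, nat_lit 1, nat_lit 2, nat_lit 1, nat_lit 3],
  [nat_lit 2, nat_lit 1, nat_lit 1, nat_lit 4, nat_lit 2, nat_lit 0, nat_lit 2, nat_lit 1, nat_lit 3, nat_lit 4],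
  [nat_lit 1, nat_lit 2, nat_lit 3, nat_lit 2, nat_lit 1, nat_lit 2, nat_lit 0, nat_lit 2, nat_lit 4, nat_lit 2, nat_lit 1, nat_lit 1],
  [nat_lit 4, nat_lit 1, nat_lit 2, nat_lit 1, nat_lit 2, nat_lit 1, nat_lit 2, nat_lit 0, nat_lit 2, nat_lit 1, nat_lit 3, nat_lit 2, nat_lit 1, nat_lit 4, nat_lit 0]]
noncomputable def c1ace_P : ℕ → ℕ → ℕ := wdsP H16.J2.P c1ace_W
noncomputable def c1acc5Dd : ℕ := nat_lit 0
noncomputable def c1acc5D (u : ℕ) : ℕ := Nat.land (Nat.shiftRight c1acc5Dd (Nat.mul u (nat_lit 1))) (nat_lit 1)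
noncomputable def c1acc5Pd : ℕ := nat_lit 0x2b02
noncomputable def c1acc5P (u : ℕ) : ℕ := Nat.land (Nat.shiftRight c1acc5Pd (Nat.mul u (nat_lit 7))) (nat_lit 127)
noncomputable def c1acc5Qd : ℕ := nat_lit 0x4000000000000000000000
noncomputable def c1acc5Q (u : ℕ) : ℕ := Nat.land (Nat.shiftRight c1acc5Qd (Nat.mul u (nat_lit 1))) (nat_lit 1)
noncomputable def c1acc5 : H16.Lev := ⟨2, 1, c1acc5D, c1acc5P, c1acc5Q⟩
noncomputable def c1atn0Fd : ℕ := nat_lit 0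
noncomputable def c1atn0F (u : ℕ) : ℕ := Nat.land (Nat.shiftRight c1atn0Fd (Nat.mul u (nat_lit 1))) (nat_lit 1)
noncomputable def c1atn0 : Nd := ⟨c1atn0F, (nat_lit 2), (nat_lit 1), [], [((nat_lit 0), [])], []⟩
noncomputable def c1atn1y31_W : List (List ℕ) := [[nat_lit 4, nat_lit 3, nat_lit 2, nat_lit 0, nat_lit 3, nat_lit 2, nat_lit 0, nat_lit 2, nat_lit 0, nat_lit 3, nat_lit 2, nat_lit 1, nat_lit 4, nat_lit 2, nat_lit 0, nat_lit 2]]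
noncomputable def c1atn1y31_P : ℕ → ℕ → ℕ := wdsP H16.J2.P c1atn1y31_W
noncomputable def c1atr2k_W : List (List ℕ) := [[nat_lit 0, nat_lit 2, nat_lit 1, nat_lit 2, nat_lit 1, nat_lit 2, nat_lit 0, nat_lit 2, nat_lit 0, nat_lit 2],
  [nat_lit 0, nat_lit 2, nat_lit 1, nat_lit 2, nat_lit 1, nat_lit 2, nat_lit 0, nat_lit 2, nat_lit 0, nat_lit 2]]
noncomputable def c1atr2k_P : ℕ → ℕ → ℕ := wdsP H16.J2.P c1atr2k_W
noncomputable def c1atn2Fd : ℕ := nat_lit 9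
noncomputable def c1atn2F (u : ℕ) : ℕ := Nat.land (Nat.shiftRight c1atn2Fd (Nat.mul u (nat_lit 2))) (nat_lit 3)
noncomputable def c1atn2 : Nd := ⟨c1atn2F, (nat_lit 2), (nat_lit 2), [], [((nat_lit 0), []), ((nat_lit 1), [nat_lit 0])], []⟩
noncomputable def c1atn1Fd : ℕ := nat_lit 2
noncomputable def c1atn1F (u : ℕ) : ℕ := Nat.land (Nat.shiftRight c1atn1Fd (Nat.mul u (nat_lit 1))) (nat_lit 1)
noncomputable def c1atn1 : Nd := ⟨c1atn1F, (nat_lit 2), (nat_lit 1), [], [((nat_lit 0), [])], [((nat_lit 31), c1atn1y31_W)]⟩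
noncomputable def c1acc2Dd : ℕ := nat_lit 2
noncomputable def c1acc2D (u : ℕ) : ℕ := Nat.land (Nat.shiftRight c1acc2Dd (Nat.mul u (nat_lit 1))) (nat_lit 1)
noncomputable def c1acc2Pd : ℕ := nat_lit 0x3a1
noncomputable def c1acc2P (u : ℕ) : ℕ := Nat.land (Nat.shiftRight c1acc2Pd (Nat.mul u (nat_lit 5))) (nat_lit 31)
noncomputable def c1acc2Qd : ℕ := nat_lit 0x20000000
noncomputable def c1acc2Q (u : ℕ) : ℕ := Nat.land (Nat.shiftRight c1acc2Qd (Nat.mul u (nat_lit 1))) (nat_lit 1)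
noncomputable def c1acc2 : H16.Lev := ⟨2, 2, c1acc2D, c1acc2P, c1acc2Q⟩
noncomputable def c1atn3y26_W : List (List ℕ) := [[nat_lit 2, nat_lit 3, nat_lit 1, nat_lit 2, nat_lit 1, nat_lit 2, nat_lit 1, nat_lit 2, nat_lit 1, nat_lit 3, nat_lit 2, nat_lit 4, nat_lit 2, nat_lit 0, nat_lit 2, nat_lit 1, nat_lit 2, nat_lit 0]]
noncomputable def c1atn3y26_P : ℕ → ℕ → ℕ := wdsP H16.J2.P c1atn3y26_W
noncomputable def c1atr4k_W : List (List ℕ) := [[],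
  [nat_lit 0, nat_lit 2, nat_lit 1, nat_lit 2, nat_lit 1, nat_lit 2, nat_lit 0, nat_lit 2, nat_lit 0, nat_lit 2]]
noncomputable def c1atr4k_P : ℕ → ℕ → ℕ := wdsP H16.J2.P c1atr4k_W
noncomputable def c1atn4Fd : ℕ := nat_lit 3
noncomputable def c1atn4F (u : ℕ) : ℕ := Nat.land (Nat.shiftRight c1atn4Fd (Nat.mul u (nat_lit 1))) (nat_lit 1)
noncomputable def c1atn4 : Nd := ⟨c1atn4F, (nat_lit 2), (nat_lit 2), [], [((nat_lit 0), []), ((nat_lit 1), [nat_lit 0])], []⟩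
noncomputable def c1atn3Fd : ℕ := nat_lit 0xd50
noncomputable def c1atn3F (u : ℕ) : ℕ := Nat.land (Nat.shiftRight c1atn3Fd (Nat.mul u (nat_lit 2))) (nat_lit 3)
noncomputable def c1atn3 : Nd := ⟨c1atn3F, (nat_lit 2), (nat_lit 2), [], [((nat_lit 0), []), ((nat_lit 0), [nat_lit 0])], [((nat_lit 26), c1atn3y26_W)]⟩
noncomputable def c1acc0Dd : ℕ := nat_lit 0xadbbb67b8e6c926282705d6661524e4931442c56514b3e4c391841422637212d2a1c2e2520231e1f1614120e11090d0f100c080a0b07050604030200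
noncomputable def c1acc0D (u : ℕ) : ℕ := Nat.land (Nat.shiftRight c1acc0Dd (Nat.mul u (nat_lit 8))) (nat_lit 255)
noncomputable def c1acc0Pd : ℕ := nat_lit 0x3888fa7bcd62d70911bba7a86790197cbc07eb44e1400cc8a9a3a0a361389a53760a0624d2eac876a8961a7a90762a7132c132a00
noncomputable def c1acc0P (u : ℕ) : ℕ := Nat.land (Nat.shiftRight c1acc0Pd (Nat.mul u (nat_lit 7))) (nat_lit 127)
noncomputable def c1acc0Qd : ℕ := nat_lit 0x5903ab744000e016d00001009340b5a7c2000000000d723c07689c0bc0030000c40d920041db000990000180e0060073aba3e4a03b5c0840a4c01565302c01e2eb020940214033880000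
noncomputable def c1acc0Q (u : ℕ) : ℕ := Nat.land (Nat.shiftRight c1acc0Qd (Nat.mul u (nat_lit 6))) (nat_lit 63)
noncomputable def c1acc0 : H16.Lev := ⟨60, 5, c1acc0D, c1acc0P, c1acc0Q⟩
noncomputable def c1atn5Fd : ℕ := nat_lit 0x63a4f0000090220a82350000f001e005df1001cf0000d040000024b001e0002006440002c0d000000000000000900000354862a707000005ac00000031c20
noncomputable def c1atn5F (u : ℕ) : ℕ := Nat.land (Nat.shiftRight c1atn5Fd (Nat.mul u (nat_lit 5))) (nat_lit 31)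
noncomputable def c1atn5 : Nd := ⟨c1atn5F, (nat_lit 5), (nat_lit 5), [], [((nat_lit 0), []), ((nat_lit 0), [nat_lit 0])], []⟩
noncomputable def c1w0_W : List (List ℕ) := [[nat_lit 2, nat_lit 4, nat_lit 0, nat_lit 0, nat_lit 2, nat_lit 1, nat_lit 3, nat_lit 2, nat_lit 0, nat_lit 2, nat_lit 4, nat_lit 2, nat_lit 0, nat_lit 3, nat_lit 2, nat_lit 3],
  [nat_lit 4, nat_lit 1, nat_lit 2, nat_lit 0, nat_lit 2, nat_lit 3, nat_lit 2, nat_lit 1, nat_lit 1, nat_lit 4, nat_lit 2, nat_lit 1, nat_lit 2, nat_lit 0, nat_lit 2, nat_lit 0]]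
noncomputable def c1w0_P : ℕ → ℕ → ℕ := wdsP H16.J2.P c1w0_W
noncomputable def c1y0x_W : List (List ℕ) := [[nat_lit 4, nat_lit 1, nat_lit 2, nat_lit 0, nat_lit 2, nat_lit 3, nat_lit 2, nat_lit 1, nat_lit 1, nat_lit 4, nat_lit 2, nat_lit 1, nat_lit 2, nat_lit 0, nat_lit 2, nat_lit 0]]
noncomputable def c1y0x_P : ℕ → ℕ → ℕ := wdsP H16.J2.P c1y0x_W
noncomputable def c1y0th_W : List (List ℕ) := [[nat_lit 1, nat_lit 1, nat_lit 2, nat_lit 3, nat_lit 2, nat_lit 1, nat_lit 1],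
  [nat_lit 0, nat_lit 2, nat_lit 0, nat_lit 2, nat_lit 1, nat_lit 3, nat_lit 4, nat_lit 2, nat_lit 1, nat_lit 2, nat_lit 1],
  [nat_lit 1, nat_lit 2, nat_lit 3, nat_lit 2, nat_lit 1, nat_lit 2, nat_lit 1, nat_lit 3, nat_lit 4, nat_lit 2, nat_lit 0, nat_lit 2, nat_lit 0, nat_lit 4],
  [nat_lit 0, nat_lit 2, nat_lit 0, nat_lit 3, nat_lit 2, nat_lit 4, nat_lit 2, nat_lit 0, nat_lit 3, nat_lit 2, nat_lit 1, nat_lit 2, nat_lit 1],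
  [nat_lit 2],
  [nat_lit 0],
  [nat_lit 1],
  [nat_lit 3],
  [nat_lit 4],
  [nat_lit 4, nat_lit 1, nat_lit 1, nat_lit 3, nat_lit 2, nat_lit 1, nat_lit 2, nat_lit 4, nat_lit 2, nat_lit 1, nat_lit 2, nat_lit 3]]
noncomputable def c1y0th_P : ℕ → ℕ → ℕ := wdsP H16.J2.P c1y0th_W
noncomputable def c1y0tl0Dd : ℕ := nat_lit 0xce210b7a545a1e5501db71da01e46f4101d6f1644f533540513482a6518a6016d42d7656145368d053833318164e91d33cbc05cc52588c030bb310823a8c31e06e330b90a4af1905a07c751b0620549a2406b02c861a84e1106910c3a178551303912c380a037078140bc260701b0482c044220600f0380801c0601400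
noncomputable def c1y0tl0D (u : ℕ) : ℕ := Nat.land (Nat.shiftRight c1y0tl0Dd (Nat.mul u (nat_lit 10))) (nat_lit 1023)
noncomputable def c1y0tl0Pd : ℕ := nat_lit 0xc171b4731326b86b3a780b28eed20b2d78dc7560967a44f5f18f2d8862b62a4020d11aa0e47896e821c6bd11a614270ee22eceb29169e899a618da60561287563abda94ca4905cc2a4828e89402611f427eecf8a58a1515
noncomputable def c1y0tl0P (u : ℕ) : ℕ := Nat.land (Nat.shiftRight c1y0tl0Pd (Nat.mul u (nat_lit 7))) (nat_lit 127)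
noncomputable def c1y0tl0Qd : ℕ := nat_lit 0x9eb186390ceae28a62b9e32a671147512bbb36aedea45ca90c0d20b26a2268c0e265c60c39d5c6f86db1545a192a24e10336054024c80ec0acf57b60b256ae42f125f573000f1636514726a8474e11c44388a98a7c7dfd8
noncomputable def c1y0tl0Q (u : ℕ) : ℕ := Nat.land (Nat.shiftRight c1y0tl0Qd (Nat.mul u (nat_lit 7))) (nat_lit 127)
noncomputable def c1y0tl0 : H16.Lev := ⟨100, 10, c1y0tl0D, c1y0tl0P, c1y0tl0Q⟩
noncomputable def c1y0tl1Dd : ℕ := nat_lit 0x8a716c444c697c77634b412526544f4a24213b1f1c171115100d1e140f130e0708060400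
noncomputable def c1y0tl1D (u : ℕ) : ℕ := Nat.land (Nat.shiftRight c1y0tl1Dd (Nat.mul u (nat_lit 8))) (nat_lit 255)
noncomputable def c1y0tl1Pd : ℕ := nat_lit 0xf6110560999be224b09caf7a6d31372eca8ce89cfc4007b430521c03348f36
noncomputable def c1y0tl1P (u : ℕ) : ℕ := Nat.land (Nat.shiftRight c1y0tl1Pd (Nat.mul u (nat_lit 7))) (nat_lit 127)
noncomputable def c1y0tl1Qd : ℕ := nat_lit 0xb6400164520000225c000050200030054001000000f00014000401c00000e00000000874001f00000000000001e0000210000010180000c700000635a6c02400000004c08c080000000a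
noncomputable def c1y0tl1Q (u : ℕ) : ℕ := Nat.land (Nat.shiftRight c1y0tl1Qd (Nat.mul u (nat_lit 6))) (nat_lit 63)
noncomputable def c1y0tl1 : H16.Lev := ⟨36, 5, c1y0tl1D, c1y0tl1P, c1y0tl1Q⟩
noncomputable def c1y0tl2Dd : ℕ := nat_lit 0x454b29060
noncomputable def c1y0tl2D (u : ℕ) : ℕ := Nat.land (Nat.shiftRight c1y0tl2Dd (Nat.mul u (nat_lit 5))) (nat_lit 31)
noncomputable def c1y0tl2Pd : ℕ := nat_lit 0x1788d3b0f9987
noncomputable def c1y0tl2P (u : ℕ) : ℕ := Nat.land (Nat.shiftRight c1y0tl2Pd (Nat.mul u (nat_lit 7))) (nat_lit 127)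
noncomputable def c1y0tl2Qd : ℕ := nat_lit 0x180003000800000000000000080000000200000000000000000000000028000000000000
noncomputable def c1y0tl2Q (u : ℕ) : ℕ := Nat.land (Nat.shiftRight c1y0tl2Qd (Nat.mul u (nat_lit 3))) (nat_lit 7)
noncomputable def c1y0tl2 : H16.Lev := ⟨7, 4, c1y0tl2D, c1y0tl2P, c1y0tl2Q⟩
noncomputable def c1y0tl3Dd : ℕ := nat_lit 0xb10
noncomputable def c1y0tl3D (u : ℕ) : ℕ := Nat.land (Nat.shiftRight c1y0tl3Dd (Nat.mul u (nat_lit 3))) (nat_lit 7)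
noncomputable def c1y0tl3Pd : ℕ := nat_lit 0x4d36e22
noncomputable def c1y0tl3P (u : ℕ) : ℕ := Nat.land (Nat.shiftRight c1y0tl3Pd (Nat.mul u (nat_lit 7))) (nat_lit 127)
noncomputable def c1y0tl3Qd : ℕ := nat_lit 0x10000000800000000000000000030000000000000000000
noncomputable def c1y0tl3Q (u : ℕ) : ℕ := Nat.land (Nat.shiftRight c1y0tl3Qd (Nat.mul u (nat_lit 2))) (nat_lit 3)
noncomputable def c1y0tl3 : H16.Lev := ⟨4, 3, c1y0tl3D, c1y0tl3P, c1y0tl3Q⟩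
noncomputable def c1y0tl4Dd : ℕ := nat_lit 0x24
noncomputable def c1y0tl4D (u : ℕ) : ℕ := Nat.land (Nat.shiftRight c1y0tl4Dd (Nat.mul u (nat_lit 2))) (nat_lit 3)
noncomputable def c1y0tl4Pd : ℕ := nat_lit 0xf99d8
noncomputable def c1y0tl4P (u : ℕ) : ℕ := Nat.land (Nat.shiftRight c1y0tl4Pd (Nat.mul u (nat_lit 7))) (nat_lit 127)
noncomputable def c1y0tl4Qd : ℕ := nat_lit 0x20000040000000000000000000000000
noncomputable def c1y0tl4Q (u : ℕ) : ℕ := Nat.land (Nat.shiftRight c1y0tl4Qd (Nat.mul u (nat_lit 2))) (nat_lit 3)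
noncomputable def c1y0tl4 : H16.Lev := ⟨3, 2, c1y0tl4D, c1y0tl4P, c1y0tl4Q⟩
noncomputable def c1y0tl5Dd : ℕ := nat_lit 0
noncomputable def c1y0tl5D (u : ℕ) : ℕ := Nat.land (Nat.shiftRight c1y0tl5Dd (Nat.mul u (nat_lit 1))) (nat_lit 1)
noncomputable def c1y0tl5Pd : ℕ := nat_lit 0x1f4
noncomputable def c1y0tl5P (u : ℕ) : ℕ := Nat.land (Nat.shiftRight c1y0tl5Pd (Nat.mul u (nat_lit 5))) (nat_lit 31)
noncomputable def c1y0tl5Qd : ℕ := nat_lit 0x8000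
noncomputable def c1y0tl5Q (u : ℕ) : ℕ := Nat.land (Nat.shiftRight c1y0tl5Qd (Nat.mul u (nat_lit 1))) (nat_lit 1)
noncomputable def c1y0tl5 : H16.Lev := ⟨2, 1, c1y0tl5D, c1y0tl5P, c1y0tl5Q⟩
noncomputable def c1y0ce_W : List (List ℕ) := [[nat_lit 1, nat_lit 2, nat_lit 0, nat_lit 2, nat_lit 1, nat_lit 2, nat_lit 1, nat_lit 1, nat_lit 3, nat_lit 2, nat_lit 0, nat_lit 4, nat_lit 2, nat_lit 1, nat_lit 2, nat_lit 0],
  [nat_lit 3, nat_lit 2, nat_lit 0, nat_lit 3, nat_lit 2, nat_lit 0, nat_lit 2, nat_lit 1, nat_lit 2, nat_lit 1, nat_lit 4, nat_lit 2, nat_lit 4, nat_lit 2, nat_lit 0],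
  [nat_lit 2, nat_lit 0, nat_lit 2, nat_lit 1, nat_lit 2, nat_lit 0, nat_lit 2, nat_lit 0, nat_lit 3, nat_lit 4, nat_lit 2, nat_lit 4, nat_lit 2, nat_lit 1, nat_lit 1]]
noncomputable def c1y0ce_P : ℕ → ℕ → ℕ := wdsP H16.J2.P c1y0ce_W
noncomputable def c1y0cc2Dd : ℕ := nat_lit 4
noncomputable def c1y0cc2D (u : ℕ) : ℕ := Nat.land (Nat.shiftRight c1y0cc2Dd (Nat.mul u (nat_lit 1))) (nat_lit 1)
noncomputable def c1y0cc2Pd : ℕ := nat_lit 0x162f07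
noncomputable def c1y0cc2P (u : ℕ) : ℕ := Nat.land (Nat.shiftRight c1y0cc2Pd (Nat.mul u (nat_lit 7))) (nat_lit 127)
noncomputable def c1y0cc2Qd : ℕ := nat_lit 0x100200000000000000000000000000000000000000000000
noncomputable def c1y0cc2Q (u : ℕ) : ℕ := Nat.land (Nat.shiftRight c1y0cc2Qd (Nat.mul u (nat_lit 2))) (nat_lit 3)
noncomputable def c1y0cc2 : H16.Lev := ⟨3, 1, c1y0cc2D, c1y0cc2P, c1y0cc2Q⟩
noncomputable def c1y0tn0Fd : ℕ := nat_lit 0x11108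
noncomputable def c1y0tn0F (u : ℕ) : ℕ := Nat.land (Nat.shiftRight c1y0tn0Fd (Nat.mul u (nat_lit 3))) (nat_lit 7)
noncomputable def c1y0tn0 : Nd := ⟨c1y0tn0F, (nat_lit 2), (nat_lit 1), [[nat_lit 0, nat_lit 0]], [((nat_lit 0), []), ((nat_lit 0), [nat_lit 0])], []⟩
noncomputable def c1y0cc0Dd : ℕ := nat_lit 0xa88
noncomputable def c1y0cc0D (u : ℕ) : ℕ := Nat.land (Nat.shiftRight c1y0cc0Dd (Nat.mul u (nat_lit 3))) (nat_lit 7)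
noncomputable def c1y0cc0Pd : ℕ := nat_lit 0x954db15
noncomputable def c1y0cc0P (u : ℕ) : ℕ := Nat.land (Nat.shiftRight c1y0cc0Pd (Nat.mul u (nat_lit 7))) (nat_lit 127)
noncomputable def c1y0cc0Qd : ℕ := nat_lit 0x800030000000001000000000000000000000000000
noncomputable def c1y0cc0Q (u : ℕ) : ℕ := Nat.land (Nat.shiftRight c1y0cc0Qd (Nat.mul u (nat_lit 2))) (nat_lit 3)
noncomputable def c1y0cc0 : H16.Lev := ⟨4, 3, c1y0cc0D, c1y0cc0P, c1y0cc0Q⟩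
noncomputable def c1y0tn1Fd : ℕ := nat_lit 0xa80b47734ee3784ea4ba787358b6853b353ab8358ae85be645ebb8eba5668b6704bb368ae7a8088b78561816bbb411141110
noncomputable def c1y0tn1F (u : ℕ) : ℕ := Nat.land (Nat.shiftRight c1y0tn1Fd (Nat.mul u (nat_lit 4))) (nat_lit 15)
noncomputable def c1y0tn1 : Nd := ⟨c1y0tn1F, (nat_lit 3), (nat_lit 3), [[nat_lit 0, nat_lit 0]], [((nat_lit 0), [])], []⟩

theorem md_b : ltAll 100 H16.J2.B = 0 ∧ 604800 ≠ 0 := by decide +kernel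
theorem p2t_lt : H16.allL (ltAll 5) p2t_W = true := by decide +kernel
theorem p2_r_a : allZ2 (resEnt p2t_P p2P p2E p2I (nat_lit 100) (nat_lit 84)) (nat_lit 7) (nat_lit 84) = true := by decide +kernel
theorem p2_b : neL H16.J2.B (p2B.map p2E) = 0 ∧ ltAll 84 p2B = 0 := by decide +kernel
theorem p2_p : allZ2 (pcEnt p2P (nat_lit 2) p2B p2C) 7 7 = true := by decide +kernel
theorem p2_e : H16.allL (ltAll 7) p2e = true := by decide +kernel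
theorem p2l0_e_0 : allZ (dent p2l0 (wdsP p2P p2e) (nat_lit 84)) (nat_lit 0) (nat_lit 63) = true := by decide +kernel
theorem p2l0_h : 0 < p2l0.n ∧ 0 < p2l0.K ∧ p2l0.Pt 0 < 84 ∧ p2l0.Q (p2l0.Pt 0) = 0 := by decide +kernel
theorem p2l1_e_0 : allZ (dent p2l1 (wdsP p2P p2e) (nat_lit 84)) (nat_lit 0) (nat_lit 1) = true := by decide +kernel
theorem p2l1_h : 0 < p2l1.n ∧ 0 < p2l1.K ∧ p2l1.Pt 0 < 84 ∧ p2l1.Q (p2l1.Pt 0) = 0 := by decide +kernel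
theorem p2_f1 : (Nat.ble p2l1.K 34 && Nat.ble (topK []) p2l1.K && fixLetters (wdsP p2P p2e) (topK []) (p2l1.Pt 0)) = true := by decide +kernel
theorem p2_f0 : (Nat.ble p2l0.K 34 && Nat.ble (topK [p2l1]) p2l0.K && fixLetters (wdsP p2P p2e) (topK [p2l1]) (p2l0.Pt 0)) = true := by decide +kernel
theorem p2_c : chainCard [p2l0, p2l1] = 2 ^ 7 ∧ ¬ 2 ^ (7 + 1) ∣ 604800 := by decide +kernel
theorem covr_lt : H16.allL (ltAll 5) covr_W = true := by decide +kernel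
theorem cov_c0 : (Nat.ble 7 7 && Nat.beq (ltAll 7 []) 0 && Nat.beq (covT0.chk H16.J2.P p2P covr_P p2E 5 7 2 2 2 p2B 7 [] 0) 0) = true := by decide +kernel
theorem c0ax_lt : H16.allL (ltAll 5) c0ax_W = true := by decide +kernel
theorem c0ath_lt : H16.allL (ltAll 5) c0ath_W = true := by decide +kernel
theorem c0atl0_e_0 : allZ (dent c0atl0 c0ath_P (nat_lit 100)) (nat_lit 0) (nat_lit 99) = true := by decide +kernel
theorem c0atl0_h : 0 < c0atl0.n ∧ 0 < c0atl0.K ∧ c0atl0.Pt 0 < 100 ∧ c0atl0.Q (c0atl0.Pt 0) = 0 := by decide +kernel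
theorem c0atl1_e_0 : allZ (dent c0atl1 c0ath_P (nat_lit 100)) (nat_lit 0) (nat_lit 62) = true := by decide +kernel
theorem c0atl1_h : 0 < c0atl1.n ∧ 0 < c0atl1.K ∧ c0atl1.Pt 0 < 100 ∧ c0atl1.Q (c0atl1.Pt 0) = 0 := by decide +kernel
theorem c0atl2_e_0 : allZ (dent c0atl2 c0ath_P (nat_lit 100)) (nat_lit 0) (nat_lit 11) = true := by decide +kernel
theorem c0atl2_h : 0 < c0atl2.n ∧ 0 < c0atl2.K ∧ c0atl2.Pt 0 < 100 ∧ c0atl2.Q (c0atl2.Pt 0) = 0 := by decide +kernel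
theorem c0atl3_e_0 : allZ (dent c0atl3 c0ath_P (nat_lit 100)) (nat_lit 0) (nat_lit 1) = true := by decide +kernel
theorem c0atl3_h : 0 < c0atl3.n ∧ 0 < c0atl3.K ∧ c0atl3.Pt 0 < 100 ∧ c0atl3.Q (c0atl3.Pt 0) = 0 := by decide +kernel
theorem c0atl4_e_0 : allZ (dent c0atl4 c0ath_P (nat_lit 100)) (nat_lit 0) (nat_lit 1) = true := by decide +kernel
theorem c0atl4_h : 0 < c0atl4.n ∧ 0 < c0atl4.K ∧ c0atl4.Pt 0 < 100 ∧ c0atl4.Q (c0atl4.Pt 0) = 0 := by decide +kernel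
theorem c0atl5_e_0 : allZ (dent c0atl5 c0ath_P (nat_lit 100)) (nat_lit 0) (nat_lit 1) = true := by decide +kernel
theorem c0atl5_h : 0 < c0atl5.n ∧ 0 < c0atl5.K ∧ c0atl5.Pt 0 < 100 ∧ c0atl5.Q (c0atl5.Pt 0) = 0 := by decide +kernel
theorem c0at_f5 : (Nat.ble c0atl5.K 10 && Nat.ble (topK []) c0atl5.K && fixLetters c0ath_P (topK []) (c0atl5.Pt 0)) = true := by decide +kernel
theorem c0at_f4 : (Nat.ble c0atl4.K 10 && Nat.ble (topK [c0atl5]) c0atl4.K && fixLetters c0ath_P (topK [c0atl5]) (c0atl4.Pt 0)) = true := by decide +kernel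
theorem c0at_f3 : (Nat.ble c0atl3.K 10 && Nat.ble (topK [c0atl4, c0atl5]) c0atl3.K && fixLetters c0ath_P (topK [c0atl4, c0atl5]) (c0atl3.Pt 0)) = true := by decide +kernel
theorem c0at_f2 : (Nat.ble c0atl2.K 10 && Nat.ble (topK [c0atl3, c0atl4, c0atl5]) c0atl2.K && fixLetters c0ath_P (topK [c0atl3, c0atl4, c0atl5]) (c0atl2.Pt 0)) = true := by decide +kernel
theorem c0at_f1 : (Nat.ble c0atl1.K 10 && Nat.ble (topK [c0atl2, c0atl3, c0atl4, c0atl5]) c0atl1.K && fixLetters c0ath_P (topK [c0atl2, c0atl3, c0atl4, c0atl5]) (c0atl1.Pt 0)) = true := by decide +kernel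
theorem c0at_f0 : (Nat.ble c0atl0.K 10 && Nat.ble (topK [c0atl1, c0atl2, c0atl3, c0atl4, c0atl5]) c0atl0.K && fixLetters c0ath_P (topK [c0atl1, c0atl2, c0atl3, c0atl4, c0atl5]) (c0atl0.Pt 0)) = true := by decide +kernel
theorem c0at_c : chainCard [c0atl0, c0atl1, c0atl2, c0atl3, c0atl4, c0atl5] = 604800 := by decide +kernel
theorem c0ace_lt : H16.allL (ltAll 5) c0ace_W = true := by decide +kernel
theorem c0ac_f5 : (Nat.ble c0atl5.K 10 && Nat.blt (nat_lit 17) 100 && fixLetters c0ath_P c0atl5.K (nat_lit 17) && Nat.beq (ltAll 1 [nat_lit 0]) 0 && Nat.beq (apW c0ax_P [nat_lit 0] (nat_lit 17)) (c0atl5.Pt 0)) = true := by decide +kernel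
theorem c0acc4_e_0 : allZ (dent c0acc4 c0ace_P (nat_lit 100)) (nat_lit 0) (nat_lit 1) = true := by decide +kernel
theorem c0acc4_h : 0 < c0acc4.n ∧ 0 < c0acc4.K ∧ c0acc4.Pt 0 < 100 ∧ c0acc4.Q (c0acc4.Pt 0) = 0 := by decide +kernel
theorem c0atn0_0 : (Nat.ble c0atl4.K 10 && Nat.beq (ltAll 100 [c0atl3.Pt 0, c0atl2.Pt 0, c0atl1.Pt 0, c0atl0.Pt 0]) 0 && kChk c0ace_P c0ax_P c0atn0.Kn 1 H16.J2.B [c0atl3.Pt 0, c0atl2.Pt 0, c0atl1.Pt 0, c0atl0.Pt 0] && H16.allL (ltAll 1) c0atn0.pre && planOK c0ath_P c0ax_P 1 (c0atl4.Pt 0) c0atn0.plan [c0atl4, c0atl5]) = true := by decide +kernel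
theorem c0atn0_1_0 : allZ (c0atn0.ent H16.J2.P c0ath_P c0ax_P c0ax_P c0ace_P (nat_lit 5) (nat_lit 1) H16.J2.B c0atl4 [c0atl5] (memO c0acc4)) (nat_lit 0) (nat_lit 2) = true := by decide +kernel
theorem c0ac_f4 : (Nat.ble c0acc4.K 6 && Nat.ble (topK []) c0acc4.K && Nat.beq (c0acc4.Pt 0) (c0atl4.Pt 0) && Nat.beq (ltAll 100 [c0atl3.Pt 0, c0atl2.Pt 0, c0atl1.Pt 0, c0atl0.Pt 0]) 0 && kChk c0ace_P c0ax_P c0acc4.K 1 H16.J2.B [c0atl3.Pt 0, c0atl2.Pt 0, c0atl1.Pt 0, c0atl0.Pt 0]) = true := by decide +kernel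
theorem c0acc3_e_0 : allZ (dent c0acc3 c0ace_P (nat_lit 100)) (nat_lit 0) (nat_lit 1) = true := by decide +kernel
theorem c0acc3_h : 0 < c0acc3.n ∧ 0 < c0acc3.K ∧ c0acc3.Pt 0 < 100 ∧ c0acc3.Q (c0acc3.Pt 0) = 0 := by decide +kernel
theorem c0atn1_0 : (Nat.ble c0atl3.K 10 && Nat.beq (ltAll 100 [c0atl2.Pt 0, c0atl1.Pt 0, c0atl0.Pt 0]) 0 && kChk c0ace_P c0ax_P c0atn1.Kn 1 H16.J2.B [c0atl2.Pt 0, c0atl1.Pt 0, c0atl0.Pt 0] && H16.allL (ltAll 1) c0atn1.pre && planOK c0ath_P c0ax_P 1 (c0atl3.Pt 0) c0atn1.plan [c0atl3, c0atl4, c0atl5]) = true := by decide +kernel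
theorem c0atn1_1_0 : allZ (c0atn1.ent H16.J2.P c0ath_P c0ax_P c0ax_P c0ace_P (nat_lit 5) (nat_lit 1) H16.J2.B c0atl3 [c0atl4, c0atl5] (memO c0acc3)) (nat_lit 0) (nat_lit 2) = true := by decide +kernel
theorem c0ac_f3 : (Nat.ble c0acc3.K 6 && Nat.ble (topK [c0acc4]) c0acc3.K && Nat.beq (c0acc3.Pt 0) (c0atl3.Pt 0) && Nat.beq (ltAll 100 [c0atl2.Pt 0, c0atl1.Pt 0, c0atl0.Pt 0]) 0 && kChk c0ace_P c0ax_P c0acc3.K 1 H16.J2.B [c0atl2.Pt 0, c0atl1.Pt 0, c0atl0.Pt 0]) = true := by decide +kernel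
theorem c0acc2_e_0 : allZ (dent c0acc2 c0ace_P (nat_lit 100)) (nat_lit 0) (nat_lit 5) = true := by decide +kernel
theorem c0acc2_h : 0 < c0acc2.n ∧ 0 < c0acc2.K ∧ c0acc2.Pt 0 < 100 ∧ c0acc2.Q (c0acc2.Pt 0) = 0 := by decide +kernel
theorem c0atn2_0 : (Nat.ble c0atl2.K 10 && Nat.beq (ltAll 100 [c0atl1.Pt 0, c0atl0.Pt 0]) 0 && kChk c0ace_P c0ax_P c0atn2.Kn 1 H16.J2.B [c0atl1.Pt 0, c0atl0.Pt 0] && H16.allL (ltAll 1) c0atn2.pre && planOK c0ath_P c0ax_P 1 (c0atl2.Pt 0) c0atn2.plan [c0atl2, c0atl3, c0atl4, c0atl5]) = true := by decide +kernel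
theorem c0atn2_1_0 : allZ (c0atn2.ent H16.J2.P c0ath_P c0ax_P c0ax_P c0ace_P (nat_lit 5) (nat_lit 1) H16.J2.B c0atl2 [c0atl3, c0atl4, c0atl5] (memO c0acc2)) (nat_lit 0) (nat_lit 12) = true := by decide +kernel
theorem c0ac_f2 : (Nat.ble c0acc2.K 6 && Nat.ble (topK [c0acc3, c0acc4]) c0acc2.K && Nat.beq (c0acc2.Pt 0) (c0atl2.Pt 0) && Nat.beq (ltAll 100 [c0atl1.Pt 0, c0atl0.Pt 0]) 0 && kChk c0ace_P c0ax_P c0acc2.K 1 H16.J2.B [c0atl1.Pt 0, c0atl0.Pt 0]) = true := by decide +kernel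
theorem c0ac_f1 : (Nat.ble c0atl1.K 10 && Nat.blt (nat_lit 0) 100 && fixLetters c0ath_P c0atl1.K (nat_lit 0) && Nat.beq (ltAll 1 [nat_lit 0]) 0 && Nat.beq (apW c0ax_P [nat_lit 0] (nat_lit 0)) (c0atl1.Pt 0)) = true := by decide +kernel
theorem c0acc0_e_0 : allZ (dent c0acc0 c0ace_P (nat_lit 100)) (nat_lit 0) (nat_lit 79) = true := by decide +kernel
theorem c0acc0_h : 0 < c0acc0.n ∧ 0 < c0acc0.K ∧ c0acc0.Pt 0 < 100 ∧ c0acc0.Q (c0acc0.Pt 0) = 0 := by decide +kernel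
theorem c0atn3_0 : (Nat.ble c0atl0.K 10 && Nat.beq (ltAll 100 []) 0 && kChk c0ace_P c0ax_P c0atn3.Kn 1 H16.J2.B [] && H16.allL (ltAll 1) c0atn3.pre && planOK c0ath_P c0ax_P 1 (c0atl0.Pt 0) c0atn3.plan [c0atl0, c0atl1, c0atl2, c0atl3, c0atl4, c0atl5]) = true := by decide +kernel
theorem c0atn3_1_0 : allZ (c0atn3.ent H16.J2.P c0ath_P c0ax_P c0ax_P c0ace_P (nat_lit 5) (nat_lit 1) H16.J2.B c0atl0 [c0atl1, c0atl2, c0atl3, c0atl4, c0atl5] (memO c0acc0)) (nat_lit 0) (nat_lit 100) = true := by decide +kernel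
theorem c0ac_f0 : (Nat.ble c0acc0.K 6 && Nat.ble (topK [c0acc2, c0acc3, c0acc4]) c0acc0.K && Nat.beq (c0acc0.Pt 0) (c0atl0.Pt 0) && Nat.beq (ltAll 100 []) 0 && kChk c0ace_P c0ax_P c0acc0.K 1 H16.J2.B []) = true := by decide +kernel
theorem c0ac_c : chainCard [c0acc0, c0acc2, c0acc3, c0acc4] = 1920 ∧ topK [c0acc0, c0acc2, c0acc3, c0acc4] = 6 := by decide +kernel
theorem c0w0_lt : H16.allL (ltAll 5) c0w0_W = true := by decide +kernel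
theorem c0y0x_lt : H16.allL (ltAll 5) c0y0x_W = true := by decide +kernel
theorem c0y0th_lt : H16.allL (ltAll 5) c0y0th_W = true := by decide +kernel
theorem c0y0tl0_e_0 : allZ (dent c0y0tl0 c0y0th_P (nat_lit 100)) (nat_lit 0) (nat_lit 99) = true := by decide +kernel
theorem c0y0tl0_h : 0 < c0y0tl0.n ∧ 0 < c0y0tl0.K ∧ c0y0tl0.Pt 0 < 100 ∧ c0y0tl0.Q (c0y0tl0.Pt 0) = 0 := by decide +kernel
theorem c0y0tl1_e_0 : allZ (dent c0y0tl1 c0y0th_P (nat_lit 100)) (nat_lit 0) (nat_lit 62) = true := by decide +kernel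
theorem c0y0tl1_h : 0 < c0y0tl1.n ∧ 0 < c0y0tl1.K ∧ c0y0tl1.Pt 0 < 100 ∧ c0y0tl1.Q (c0y0tl1.Pt 0) = 0 := by decide +kernel
theorem c0y0tl2_e_0 : allZ (dent c0y0tl2 c0y0th_P (nat_lit 100)) (nat_lit 0) (nat_lit 23) = true := by decide +kernel
theorem c0y0tl2_h : 0 < c0y0tl2.n ∧ 0 < c0y0tl2.K ∧ c0y0tl2.Pt 0 < 100 ∧ c0y0tl2.Q (c0y0tl2.Pt 0) = 0 := by decide +kernel
theorem c0y0tl3_e_0 : allZ (dent c0y0tl3 c0y0th_P (nat_lit 100)) (nat_lit 0) (nat_lit 3) = true := by decide +kernel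
theorem c0y0tl3_h : 0 < c0y0tl3.n ∧ 0 < c0y0tl3.K ∧ c0y0tl3.Pt 0 < 100 ∧ c0y0tl3.Q (c0y0tl3.Pt 0) = 0 := by decide +kernel
theorem c0y0t_f3 : (Nat.ble c0y0tl3.K 11 && Nat.ble (topK []) c0y0tl3.K && fixLetters c0y0th_P (topK []) (c0y0tl3.Pt 0)) = true := by decide +kernel
theorem c0y0t_f2 : (Nat.ble c0y0tl2.K 11 && Nat.ble (topK [c0y0tl3]) c0y0tl2.K && fixLetters c0y0th_P (topK [c0y0tl3]) (c0y0tl2.Pt 0)) = true := by decide +kernel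
theorem c0y0t_f1 : (Nat.ble c0y0tl1.K 11 && Nat.ble (topK [c0y0tl2, c0y0tl3]) c0y0tl1.K && fixLetters c0y0th_P (topK [c0y0tl2, c0y0tl3]) (c0y0tl1.Pt 0)) = true := by decide +kernel
theorem c0y0t_f0 : (Nat.ble c0y0tl0.K 11 && Nat.ble (topK [c0y0tl1, c0y0tl2, c0y0tl3]) c0y0tl0.K && fixLetters c0y0th_P (topK [c0y0tl1, c0y0tl2, c0y0tl3]) (c0y0tl0.Pt 0)) = true := by decide +kernel
theorem c0y0t_c : chainCard [c0y0tl0, c0y0tl1, c0y0tl2, c0y0tl3] = 604800 := by decide +kernel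
theorem c0y0ce_lt : H16.allL (ltAll 5) c0y0ce_W = true := by decide +kernel
theorem c0y0c_f3 : (Nat.ble c0y0tl3.K 11 && Nat.blt (nat_lit 0) 100 && fixLetters c0y0th_P c0y0tl3.K (nat_lit 0) && Nat.beq (ltAll 1 [nat_lit 0, nat_lit 0, nat_lit 0]) 0 && Nat.beq (apW c0y0x_P [nat_lit 0, nat_lit 0, nat_lit 0] (nat_lit 0)) (c0y0tl3.Pt 0)) = true := by decide +kernel
theorem c0y0c_f2 : (Nat.ble c0y0tl2.K 11 && Nat.blt (nat_lit 0) 100 && fixLetters c0y0th_P c0y0tl2.K (nat_lit 0) && Nat.beq (ltAll 1 [nat_lit 0, nat_lit 0]) 0 && Nat.beq (apW c0y0x_P [nat_lit 0, nat_lit 0] (nat_lit 0)) (c0y0tl2.Pt 0)) = true := by decide +kernel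
theorem c0y0c_f1 : (Nat.ble c0y0tl1.K 11 && Nat.blt (nat_lit 0) 100 && fixLetters c0y0th_P c0y0tl1.K (nat_lit 0) && Nat.beq (ltAll 1 [nat_lit 0]) 0 && Nat.beq (apW c0y0x_P [nat_lit 0] (nat_lit 0)) (c0y0tl1.Pt 0)) = true := by decide +kernel
theorem c0y0cc0_e_0 : allZ (dent c0y0cc0 c0y0ce_P (nat_lit 100)) (nat_lit 0) (nat_lit 9) = true := by decide +kernel
theorem c0y0cc0_h : 0 < c0y0cc0.n ∧ 0 < c0y0cc0.K ∧ c0y0cc0.Pt 0 < 100 ∧ c0y0cc0.Q (c0y0cc0.Pt 0) = 0 := by decide +kernel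
theorem c0y0tn0_0 : (Nat.ble c0y0tl0.K 11 && Nat.beq (ltAll 100 []) 0 && kChk c0y0ce_P c0y0x_P c0y0tn0.Kn 1 H16.J2.B [] && H16.allL (ltAll 1) c0y0tn0.pre && planOK c0y0th_P c0y0x_P 1 (c0y0tl0.Pt 0) c0y0tn0.plan [c0y0tl0, c0y0tl1, c0y0tl2, c0y0tl3]) = true := by decide +kernel
theorem c0y0tn0_1_0 : allZ (c0y0tn0.ent H16.J2.P c0y0th_P c0y0x_P c0y0x_P c0y0ce_P (nat_lit 5) (nat_lit 1) H16.J2.B c0y0tl0 [c0y0tl1, c0y0tl2, c0y0tl3] (memO c0y0cc0)) (nat_lit 0) (nat_lit 100) = true := by decide +kernel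
theorem c0y0c_f0 : (Nat.ble c0y0cc0.K 1 && Nat.ble (topK []) c0y0cc0.K && Nat.beq (c0y0cc0.Pt 0) (c0y0tl0.Pt 0) && Nat.beq (ltAll 100 []) 0 && kChk c0y0ce_P c0y0x_P c0y0cc0.K 1 H16.J2.B []) = true := by decide +kernel
theorem c0y0c_c : chainCard [c0y0cc0] = 10 ∧ topK [c0y0cc0] = 1 := by decide +kernel
theorem c0w0_k : eqL c0w0_P 2 H16.J2.B (List.replicate 5 1) [0] = 0 := by decide +kernel
theorem c0w0p_k : fixL c0w0_P 2 H16.J2.B (List.replicate 2 0) = 0 := by decide +kernel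
theorem c0w0n_k : 0 < 100 ∧ ltAll 2 (List.replicate 2 1) = 0 ∧ ltAll 2 [] = 0 ∧ apW c0w0_P (List.replicate 2 1) 0 ≠ apW c0w0_P [] 0 := by decide +kernel
theorem c1ax_lt : H16.allL (ltAll 5) c1ax_W = true := by decide +kernel
theorem c1ath_lt : H16.allL (ltAll 5) c1ath_W = true := by decide +kernel
theorem c1atl0_e_0 : allZ (dent c1atl0 c1ath_P (nat_lit 100)) (nat_lit 0) (nat_lit 99) = true := by decide +kernel
theorem c1atl0_h : 0 < c1atl0.n ∧ 0 < c1atl0.K ∧ c1atl0.Pt 0 < 100 ∧ c1atl0.Q (c1atl0.Pt 0) = 0 := by decide +kernel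
theorem c1atl1_e_0 : allZ (dent c1atl1 c1ath_P (nat_lit 100)) (nat_lit 0) (nat_lit 62) = true := by decide +kernel
theorem c1atl1_h : 0 < c1atl1.n ∧ 0 < c1atl1.K ∧ c1atl1.Pt 0 < 100 ∧ c1atl1.Q (c1atl1.Pt 0) = 0 := by decide +kernel
theorem c1atl2_e_0 : allZ (dent c1atl2 c1ath_P (nat_lit 100)) (nat_lit 0) (nat_lit 5) = true := by decide +kernel
theorem c1atl2_h : 0 < c1atl2.n ∧ 0 < c1atl2.K ∧ c1atl2.Pt 0 < 100 ∧ c1atl2.Q (c1atl2.Pt 0) = 0 := by decide +kernel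
theorem c1atl3_e_0 : allZ (dent c1atl3 c1ath_P (nat_lit 100)) (nat_lit 0) (nat_lit 3) = true := by decide +kernel
theorem c1atl3_h : 0 < c1atl3.n ∧ 0 < c1atl3.K ∧ c1atl3.Pt 0 < 100 ∧ c1atl3.Q (c1atl3.Pt 0) = 0 := by decide +kernel
theorem c1atl4_e_0 : allZ (dent c1atl4 c1ath_P (nat_lit 100)) (nat_lit 0) (nat_lit 1) = true := by decide +kernel
theorem c1atl4_h : 0 < c1atl4.n ∧ 0 < c1atl4.K ∧ c1atl4.Pt 0 < 100 ∧ c1atl4.Q (c1atl4.Pt 0) = 0 := by decide +kernel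
theorem c1atl5_e_0 : allZ (dent c1atl5 c1ath_P (nat_lit 100)) (nat_lit 0) (nat_lit 1) = true := by decide +kernel
theorem c1atl5_h : 0 < c1atl5.n ∧ 0 < c1atl5.K ∧ c1atl5.Pt 0 < 100 ∧ c1atl5.Q (c1atl5.Pt 0) = 0 := by decide +kernel
theorem c1at_f5 : (Nat.ble c1atl5.K 12 && Nat.ble (topK []) c1atl5.K && fixLetters c1ath_P (topK []) (c1atl5.Pt 0)) = true := by decide +kernel
theorem c1at_f4 : (Nat.ble c1atl4.K 12 && Nat.ble (topK [c1atl5]) c1atl4.K && fixLetters c1ath_P (topK [c1atl5]) (c1atl4.Pt 0)) = true := by decide +kernel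
theorem c1at_f3 : (Nat.ble c1atl3.K 12 && Nat.ble (topK [c1atl4, c1atl5]) c1atl3.K && fixLetters c1ath_P (topK [c1atl4, c1atl5]) (c1atl3.Pt 0)) = true := by decide +kernel
theorem c1at_f2 : (Nat.ble c1atl2.K 12 && Nat.ble (topK [c1atl3, c1atl4, c1atl5]) c1atl2.K && fixLetters c1ath_P (topK [c1atl3, c1atl4, c1atl5]) (c1atl2.Pt 0)) = true := by decide +kernel
theorem c1at_f1 : (Nat.ble c1atl1.K 12 && Nat.ble (topK [c1atl2, c1atl3, c1atl4, c1atl5]) c1atl1.K && fixLetters c1ath_P (topK [c1atl2, c1atl3, c1atl4, c1atl5]) (c1atl1.Pt 0)) = true := by decide +kernel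
theorem c1at_f0 : (Nat.ble c1atl0.K 12 && Nat.ble (topK [c1atl1, c1atl2, c1atl3, c1atl4, c1atl5]) c1atl0.K && fixLetters c1ath_P (topK [c1atl1, c1atl2, c1atl3, c1atl4, c1atl5]) (c1atl0.Pt 0)) = true := by decide +kernel
theorem c1at_c : chainCard [c1atl0, c1atl1, c1atl2, c1atl3, c1atl4, c1atl5] = 604800 := by decide +kernel
theorem c1ace_lt : H16.allL (ltAll 5) c1ace_W = true := by decide +kernel
theorem c1acc5_e_0 : allZ (dent c1acc5 c1ace_P (nat_lit 100)) (nat_lit 0) (nat_lit 1) = true := by decide +kernel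
theorem c1acc5_h : 0 < c1acc5.n ∧ 0 < c1acc5.K ∧ c1acc5.Pt 0 < 100 ∧ c1acc5.Q (c1acc5.Pt 0) = 0 := by decide +kernel
theorem c1atn0_0 : (Nat.ble c1atl5.K 12 && Nat.beq (ltAll 100 [c1atl4.Pt 0, c1atl3.Pt 0, c1atl2.Pt 0, c1atl1.Pt 0, c1atl0.Pt 0]) 0 && kChk c1ace_P c1ax_P c1atn0.Kn 1 H16.J2.B [c1atl4.Pt 0, c1atl3.Pt 0, c1atl2.Pt 0, c1atl1.Pt 0, c1atl0.Pt 0] && H16.allL (ltAll 1) c1atn0.pre && planOK c1ath_P c1ax_P 1 (c1atl5.Pt 0) c1atn0.plan [c1atl5]) = true := by decide +kernel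
theorem c1atn0_1_0 : allZ (c1atn0.ent H16.J2.P c1ath_P c1ax_P c1ax_P c1ace_P (nat_lit 5) (nat_lit 1) H16.J2.B c1atl5 [] (memO c1acc5)) (nat_lit 0) (nat_lit 2) = true := by decide +kernel
theorem c1ac_f5 : (Nat.ble c1acc5.K 5 && Nat.ble (topK []) c1acc5.K && Nat.beq (c1acc5.Pt 0) (c1atl5.Pt 0) && Nat.beq (ltAll 100 [c1atl4.Pt 0, c1atl3.Pt 0, c1atl2.Pt 0, c1atl1.Pt 0, c1atl0.Pt 0]) 0 && kChk c1ace_P c1ax_P c1acc5.K 1 H16.J2.B [c1atl4.Pt 0, c1atl3.Pt 0, c1atl2.Pt 0, c1atl1.Pt 0, c1atl0.Pt 0]) = true := by decide +kernel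
theorem c1atn1y31_lt : H16.allL (ltAll 5) c1atn1y31_W = true := by decide +kernel
theorem c1atr2k_lt : H16.allL (ltAll 5) c1atr2k_W = true := by decide +kernel
theorem c1atn2_0 : (Nat.ble c1atl5.K 12 && Nat.beq (ltAll 100 [c1atl4.Pt 0, c1atl3.Pt 0, c1atl2.Pt 0, c1atl1.Pt 0, c1atl0.Pt 0]) 0 && kChk c1atr2k_P c1atn1y31_P c1atn2.Kn 1 H16.J2.B [c1atl4.Pt 0, c1atl3.Pt 0, c1atl2.Pt 0, c1atl1.Pt 0, c1atl0.Pt 0] && H16.allL (ltAll 1) c1atn2.pre && planOK c1ath_P c1ax_P 1 (c1atl5.Pt 0) c1atn2.plan [c1atl5]) = true := by decide +kernel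
theorem c1atn2_1_0 : allZ (c1atn2.ent H16.J2.P c1ath_P c1ax_P c1atn1y31_P c1atr2k_P (nat_lit 5) (nat_lit 1) H16.J2.B c1atl5 [] (fun _ => nat_lit 1)) (nat_lit 0) (nat_lit 2) = true := by decide +kernel
theorem c1atn1_0 : (Nat.ble c1atl4.K 12 && Nat.beq (ltAll 100 [c1atl3.Pt 0, c1atl2.Pt 0, c1atl1.Pt 0, c1atl0.Pt 0]) 0 && kChk c1ace_P c1ax_P c1atn1.Kn 1 H16.J2.B [c1atl3.Pt 0, c1atl2.Pt 0, c1atl1.Pt 0, c1atl0.Pt 0] && H16.allL (ltAll 1) c1atn1.pre && planOK c1ath_P c1ax_P 1 (c1atl4.Pt 0) c1atn1.plan [c1atl4, c1atl5]) = true := by decide +kernel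
theorem c1atn1_1_0 : allZ (c1atn1.ent H16.J2.P c1ath_P c1ax_P c1ax_P c1ace_P (nat_lit 5) (nat_lit 1) H16.J2.B c1atl4 [c1atl5] (fun w => Nat.xor w (c1atl4.Pt (nat_lit 0)))) (nat_lit 0) (nat_lit 2) = true := by decide +kernel
theorem c1ac_f3 : (Nat.ble c1atl3.K 12 && Nat.blt (nat_lit 1) 100 && fixLetters c1ath_P c1atl3.K (nat_lit 1) && Nat.beq (ltAll 1 [nat_lit 0]) 0 && Nat.beq (apW c1ax_P [nat_lit 0] (nat_lit 1)) (c1atl3.Pt 0)) = true := by decide +kernel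
theorem c1acc2_e_0 : allZ (dent c1acc2 c1ace_P (nat_lit 100)) (nat_lit 0) (nat_lit 1) = true := by decide +kernel
theorem c1acc2_h : 0 < c1acc2.n ∧ 0 < c1acc2.K ∧ c1acc2.Pt 0 < 100 ∧ c1acc2.Q (c1acc2.Pt 0) = 0 := by decide +kernel
theorem c1atn3y26_lt : H16.allL (ltAll 5) c1atn3y26_W = true := by decide +kernel
theorem c1atr4k_lt : H16.allL (ltAll 5) c1atr4k_W = true := by decide +kernel
theorem c1atn4_0 : (Nat.ble c1atl4.K 12 && Nat.beq (ltAll 100 [c1atl3.Pt 0, c1atl2.Pt 0, c1atl1.Pt 0, c1atl0.Pt 0]) 0 && kChk c1atr4k_P c1atn3y26_P c1atn4.Kn 1 H16.J2.B [c1atl3.Pt 0, c1atl2.Pt 0, c1atl1.Pt 0, c1atl0.Pt 0] && H16.allL (ltAll 1) c1atn4.pre && planOK c1ath_P c1ax_P 1 (c1atl4.Pt 0) c1atn4.plan [c1atl4, c1atl5]) = true := by decide +kernel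
theorem c1atn4_1_0 : allZ (c1atn4.ent H16.J2.P c1ath_P c1ax_P c1atn3y26_P c1atr4k_P (nat_lit 5) (nat_lit 1) H16.J2.B c1atl4 [c1atl5] (fun _ => nat_lit 1)) (nat_lit 0) (nat_lit 2) = true := by decide +kernel
theorem c1atn3_0 : (Nat.ble c1atl2.K 12 && Nat.beq (ltAll 100 [c1atl1.Pt 0, c1atl0.Pt 0]) 0 && kChk c1ace_P c1ax_P c1atn3.Kn 1 H16.J2.B [c1atl1.Pt 0, c1atl0.Pt 0] && H16.allL (ltAll 1) c1atn3.pre && planOK c1ath_P c1ax_P 1 (c1atl2.Pt 0) c1atn3.plan [c1atl2, c1atl3, c1atl4, c1atl5]) = true := by decide +kernel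
theorem c1atn3_1_0 : allZ (c1atn3.ent H16.J2.P c1ath_P c1ax_P c1ax_P c1ace_P (nat_lit 5) (nat_lit 1) H16.J2.B c1atl2 [c1atl3, c1atl4, c1atl5] (memO c1acc2)) (nat_lit 0) (nat_lit 6) = true := by decide +kernel
theorem c1ac_f2 : (Nat.ble c1acc2.K 5 && Nat.ble (topK [c1acc5]) c1acc2.K && Nat.beq (c1acc2.Pt 0) (c1atl2.Pt 0) && Nat.beq (ltAll 100 [c1atl1.Pt 0, c1atl0.Pt 0]) 0 && kChk c1ace_P c1ax_P c1acc2.K 1 H16.J2.B [c1atl1.Pt 0, c1atl0.Pt 0]) = true := by decide +kernel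
theorem c1ac_f1 : (Nat.ble c1atl1.K 12 && Nat.blt (nat_lit 0) 100 && fixLetters c1ath_P c1atl1.K (nat_lit 0) && Nat.beq (ltAll 1 [nat_lit 0]) 0 && Nat.beq (apW c1ax_P [nat_lit 0] (nat_lit 0)) (c1atl1.Pt 0)) = true := by decide +kernel
theorem c1acc0_e_0 : allZ (dent c1acc0 c1ace_P (nat_lit 100)) (nat_lit 0) (nat_lit 59) = true := by decide +kernel
theorem c1acc0_h : 0 < c1acc0.n ∧ 0 < c1acc0.K ∧ c1acc0.Pt 0 < 100 ∧ c1acc0.Q (c1acc0.Pt 0) = 0 := by decide +kernel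
theorem c1atn5_0 : (Nat.ble c1atl0.K 12 && Nat.beq (ltAll 100 []) 0 && kChk c1ace_P c1ax_P c1atn5.Kn 1 H16.J2.B [] && H16.allL (ltAll 1) c1atn5.pre && planOK c1ath_P c1ax_P 1 (c1atl0.Pt 0) c1atn5.plan [c1atl0, c1atl1, c1atl2, c1atl3, c1atl4, c1atl5]) = true := by decide +kernel
theorem c1atn5_1_0 : allZ (c1atn5.ent H16.J2.P c1ath_P c1ax_P c1ax_P c1ace_P (nat_lit 5) (nat_lit 1) H16.J2.B c1atl0 [c1atl1, c1atl2, c1atl3, c1atl4, c1atl5] (memO c1acc0)) (nat_lit 0) (nat_lit 100) = true := by decide +kernel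
theorem c1ac_f0 : (Nat.ble c1acc0.K 5 && Nat.ble (topK [c1acc2, c1acc5]) c1acc0.K && Nat.beq (c1acc0.Pt 0) (c1atl0.Pt 0) && Nat.beq (ltAll 100 []) 0 && kChk c1ace_P c1ax_P c1acc0.K 1 H16.J2.B []) = true := by decide +kernel
theorem c1ac_c : chainCard [c1acc0, c1acc2, c1acc5] = 240 ∧ topK [c1acc0, c1acc2, c1acc5] = 5 := by decide +kernel
theorem c1w0_lt : H16.allL (ltAll 5) c1w0_W = true := by decide +kernel
theorem c1y0x_lt : H16.allL (ltAll 5) c1y0x_W = true := by decide +kernel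
theorem c1y0th_lt : H16.allL (ltAll 5) c1y0th_W = true := by decide +kernel
theorem c1y0tl0_e_0 : allZ (dent c1y0tl0 c1y0th_P (nat_lit 100)) (nat_lit 0) (nat_lit 99) = true := by decide +kernel
theorem c1y0tl0_h : 0 < c1y0tl0.n ∧ 0 < c1y0tl0.K ∧ c1y0tl0.Pt 0 < 100 ∧ c1y0tl0.Q (c1y0tl0.Pt 0) = 0 := by decide +kernel
theorem c1y0tl1_e_0 : allZ (dent c1y0tl1 c1y0th_P (nat_lit 100)) (nat_lit 0) (nat_lit 35) = true := by decide +kernel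
theorem c1y0tl1_h : 0 < c1y0tl1.n ∧ 0 < c1y0tl1.K ∧ c1y0tl1.Pt 0 < 100 ∧ c1y0tl1.Q (c1y0tl1.Pt 0) = 0 := by decide +kernel
theorem c1y0tl2_e_0 : allZ (dent c1y0tl2 c1y0th_P (nat_lit 100)) (nat_lit 0) (nat_lit 6) = true := by decide +kernel
theorem c1y0tl2_h : 0 < c1y0tl2.n ∧ 0 < c1y0tl2.K ∧ c1y0tl2.Pt 0 < 100 ∧ c1y0tl2.Q (c1y0tl2.Pt 0) = 0 := by decide +kernel
theorem c1y0tl3_e_0 : allZ (dent c1y0tl3 c1y0th_P (nat_lit 100)) (nat_lit 0) (nat_lit 3) = true := by decide +kernel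
theorem c1y0tl3_h : 0 < c1y0tl3.n ∧ 0 < c1y0tl3.K ∧ c1y0tl3.Pt 0 < 100 ∧ c1y0tl3.Q (c1y0tl3.Pt 0) = 0 := by decide +kernel
theorem c1y0tl4_e_0 : allZ (dent c1y0tl4 c1y0th_P (nat_lit 100)) (nat_lit 0) (nat_lit 2) = true := by decide +kernel
theorem c1y0tl4_h : 0 < c1y0tl4.n ∧ 0 < c1y0tl4.K ∧ c1y0tl4.Pt 0 < 100 ∧ c1y0tl4.Q (c1y0tl4.Pt 0) = 0 := by decide +kernel
theorem c1y0tl5_e_0 : allZ (dent c1y0tl5 c1y0th_P (nat_lit 100)) (nat_lit 0) (nat_lit 1) = true := by decide +kernel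
theorem c1y0tl5_h : 0 < c1y0tl5.n ∧ 0 < c1y0tl5.K ∧ c1y0tl5.Pt 0 < 100 ∧ c1y0tl5.Q (c1y0tl5.Pt 0) = 0 := by decide +kernel
theorem c1y0t_f5 : (Nat.ble c1y0tl5.K 10 && Nat.ble (topK []) c1y0tl5.K && fixLetters c1y0th_P (topK []) (c1y0tl5.Pt 0)) = true := by decide +kernel
theorem c1y0t_f4 : (Nat.ble c1y0tl4.K 10 && Nat.ble (topK [c1y0tl5]) c1y0tl4.K && fixLetters c1y0th_P (topK [c1y0tl5]) (c1y0tl4.Pt 0)) = true := by decide +kernel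
theorem c1y0t_f3 : (Nat.ble c1y0tl3.K 10 && Nat.ble (topK [c1y0tl4, c1y0tl5]) c1y0tl3.K && fixLetters c1y0th_P (topK [c1y0tl4, c1y0tl5]) (c1y0tl3.Pt 0)) = true := by decide +kernel
theorem c1y0t_f2 : (Nat.ble c1y0tl2.K 10 && Nat.ble (topK [c1y0tl3, c1y0tl4, c1y0tl5]) c1y0tl2.K && fixLetters c1y0th_P (topK [c1y0tl3, c1y0tl4, c1y0tl5]) (c1y0tl2.Pt 0)) = true := by decide +kernel
theorem c1y0t_f1 : (Nat.ble c1y0tl1.K 10 && Nat.ble (topK [c1y0tl2, c1y0tl3, c1y0tl4, c1y0tl5]) c1y0tl1.K && fixLetters c1y0th_P (topK [c1y0tl2, c1y0tl3, c1y0tl4, c1y0tl5]) (c1y0tl1.Pt 0)) = true := by decide +kernel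
theorem c1y0t_f0 : (Nat.ble c1y0tl0.K 10 && Nat.ble (topK [c1y0tl1, c1y0tl2, c1y0tl3, c1y0tl4, c1y0tl5]) c1y0tl0.K && fixLetters c1y0th_P (topK [c1y0tl1, c1y0tl2, c1y0tl3, c1y0tl4, c1y0tl5]) (c1y0tl0.Pt 0)) = true := by decide +kernel
theorem c1y0t_c : chainCard [c1y0tl0, c1y0tl1, c1y0tl2, c1y0tl3, c1y0tl4, c1y0tl5] = 604800 := by decide +kernel
theorem c1y0ce_lt : H16.allL (ltAll 5) c1y0ce_W = true := by decide +kernel
theorem c1y0c_f5 : (Nat.ble c1y0tl5.K 10 && Nat.blt (nat_lit 7) 100 && fixLetters c1y0th_P c1y0tl5.K (nat_lit 7) && Nat.beq (ltAll 1 [nat_lit 0, nat_lit 0, nat_lit 0]) 0 && Nat.beq (apW c1y0x_P [nat_lit 0, nat_lit 0, nat_lit 0] (nat_lit 7)) (c1y0tl5.Pt 0)) = true := by decide +kernel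
theorem c1y0c_f4 : (Nat.ble c1y0tl4.K 10 && Nat.blt (nat_lit 7) 100 && fixLetters c1y0th_P c1y0tl4.K (nat_lit 7) && Nat.beq (ltAll 1 [nat_lit 0, nat_lit 0]) 0 && Nat.beq (apW c1y0x_P [nat_lit 0, nat_lit 0] (nat_lit 7)) (c1y0tl4.Pt 0)) = true := by decide +kernel
theorem c1y0c_f3 : (Nat.ble c1y0tl3.K 10 && Nat.blt (nat_lit 7) 100 && fixLetters c1y0th_P c1y0tl3.K (nat_lit 7) && Nat.beq (ltAll 1 [nat_lit 0]) 0 && Nat.beq (apW c1y0x_P [nat_lit 0] (nat_lit 7)) (c1y0tl3.Pt 0)) = true := by decide +kernel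
theorem c1y0cc2_e_0 : allZ (dent c1y0cc2 c1y0ce_P (nat_lit 100)) (nat_lit 0) (nat_lit 2) = true := by decide +kernel
theorem c1y0cc2_h : 0 < c1y0cc2.n ∧ 0 < c1y0cc2.K ∧ c1y0cc2.Pt 0 < 100 ∧ c1y0cc2.Q (c1y0cc2.Pt 0) = 0 := by decide +kernel
theorem c1y0tn0_0 : (Nat.ble c1y0tl2.K 10 && Nat.beq (ltAll 100 [c1y0tl1.Pt 0, c1y0tl0.Pt 0]) 0 && kChk c1y0ce_P c1y0x_P c1y0tn0.Kn 1 H16.J2.B [c1y0tl1.Pt 0, c1y0tl0.Pt 0] && H16.allL (ltAll 1) c1y0tn0.pre && planOK c1y0th_P c1y0x_P 1 (c1y0tl2.Pt 0) c1y0tn0.plan [c1y0tl2, c1y0tl3, c1y0tl4, c1y0tl5]) = true := by decide +kernel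
theorem c1y0tn0_1_0 : allZ (c1y0tn0.ent H16.J2.P c1y0th_P c1y0x_P c1y0x_P c1y0ce_P (nat_lit 5) (nat_lit 1) H16.J2.B c1y0tl2 [c1y0tl3, c1y0tl4, c1y0tl5] (memO c1y0cc2)) (nat_lit 0) (nat_lit 7) = true := by decide +kernel
theorem c1y0c_f2 : (Nat.ble c1y0cc2.K 3 && Nat.ble (topK []) c1y0cc2.K && Nat.beq (c1y0cc2.Pt 0) (c1y0tl2.Pt 0) && Nat.beq (ltAll 100 [c1y0tl1.Pt 0, c1y0tl0.Pt 0]) 0 && kChk c1y0ce_P c1y0x_P c1y0cc2.K 1 H16.J2.B [c1y0tl1.Pt 0, c1y0tl0.Pt 0]) = true := by decide +kernel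
theorem c1y0c_f1 : (Nat.ble c1y0tl1.K 10 && Nat.blt (nat_lit 21) 100 && fixLetters c1y0th_P c1y0tl1.K (nat_lit 21) && Nat.beq (ltAll 1 [nat_lit 0]) 0 && Nat.beq (apW c1y0x_P [nat_lit 0] (nat_lit 21)) (c1y0tl1.Pt 0)) = true := by decide +kernel
theorem c1y0cc0_e_0 : allZ (dent c1y0cc0 c1y0ce_P (nat_lit 100)) (nat_lit 0) (nat_lit 3) = true := by decide +kernel
theorem c1y0cc0_h : 0 < c1y0cc0.n ∧ 0 < c1y0cc0.K ∧ c1y0cc0.Pt 0 < 100 ∧ c1y0cc0.Q (c1y0cc0.Pt 0) = 0 := by decide +kernel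
theorem c1y0tn1_0 : (Nat.ble c1y0tl0.K 10 && Nat.beq (ltAll 100 []) 0 && kChk c1y0ce_P c1y0x_P c1y0tn1.Kn 1 H16.J2.B [] && H16.allL (ltAll 1) c1y0tn1.pre && planOK c1y0th_P c1y0x_P 1 (c1y0tl0.Pt 0) c1y0tn1.plan [c1y0tl0, c1y0tl1, c1y0tl2, c1y0tl3, c1y0tl4, c1y0tl5]) = true := by decide +kernel
theorem c1y0tn1_1_0 : allZ (c1y0tn1.ent H16.J2.P c1y0th_P c1y0x_P c1y0x_P c1y0ce_P (nat_lit 5) (nat_lit 1) H16.J2.B c1y0tl0 [c1y0tl1, c1y0tl2, c1y0tl3, c1y0tl4, c1y0tl5] (memO c1y0cc0)) (nat_lit 0) (nat_lit 100) = true := by decide +kernel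
theorem c1y0c_f0 : (Nat.ble c1y0cc0.K 3 && Nat.ble (topK [c1y0cc2]) c1y0cc0.K && Nat.beq (c1y0cc0.Pt 0) (c1y0tl0.Pt 0) && Nat.beq (ltAll 100 []) 0 && kChk c1y0ce_P c1y0x_P c1y0cc0.K 1 H16.J2.B []) = true := by decide +kernel
theorem c1y0c_c : chainCard [c1y0cc0, c1y0cc2] = 12 ∧ topK [c1y0cc0, c1y0cc2] = 3 := by decide +kernel
theorem c1w0_k : eqL c1w0_P 2 H16.J2.B (List.replicate 3 1) [0] = 0 := by decide +kernel
theorem c1w0p_k : fixL c1w0_P 2 H16.J2.B (List.replicate 2 0) = 0 := by decide +kernel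
theorem c1w0n_k : 0 < 100 ∧ ltAll 2 (List.replicate 2 1) = 0 ∧ ltAll 2 [] = 0 ∧ apW c1w0_P (List.replicate 2 1) 0 ≠ apW c1w0_P [] 0 := by decide +kernel

theorem md {G : Type*} [Group G] (e : gen H16.J2.g 5 ≃* G) :
    ∃ (_ : MulAction G (Fin 100)) (g : ℕ → G), Md g (ptF 100) H16.J2.P 100 5 H16.J2.B 604800 ∧
      ∀ k < 5, (e.symm (g k)).1 = H16.J2.g k :=
  exists_md H16.J2.act (ptF_inj 100) H16.J2.card H16.J2.isBase md_b e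
theorem p2t_act {G Ω : Type*} [Group G] [MulAction G Ω] {g : ℕ → G} {pt : ℕ → Ω}
    (M : Md g pt H16.J2.P 100 5 H16.J2.B 604800) : Act (wds g p2t_W) pt p2t_P 100 7 :=
  M.wact p2t_lt
theorem p2_r : ∀ k < 7, ∀ i < 84, (resEnt p2t_P p2P p2E p2I (nat_lit 100) (nat_lit 84)) k i = 0 := allZ2_sound p2_r_a
theorem p2_sm {G Ω : Type*} [Group G] [MulAction G Ω] {g : ℕ → G} {pt : ℕ → Ω}
    (M : Md g pt H16.J2.P 100 5 H16.J2.B 604800) : Sm (wds g p2t_W) (fun i => pt (p2E i)) p2P 84 7 p2B ∧ ∀ i < 84, p2E i < 100 :=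
  M.res (p2t_act M) (by decide) p2_r p2_b
theorem p2l0_e : ∀ i < 63, (dent p2l0 (wdsP p2P p2e) (nat_lit 84)) i = 0 := allZ_sound0 p2l0_e_0
theorem p2l0_ok : DOK p2l0 (wdsP p2P p2e) 84 := ⟨p2l0_h, p2l0_e⟩
theorem p2l1_e : ∀ i < 1, (dent p2l1 (wdsP p2P p2e) (nat_lit 84)) i = 0 := allZ_sound0 p2l1_e_0
theorem p2l1_ok : DOK p2l1 (wdsP p2P p2e) 84 := ⟨p2l1_h, p2l1_e⟩
theorem p2_low {G Ω : Type*} [Group G] [MulAction G Ω] {g : ℕ → G} {pt : ℕ → Ω}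
    (M : Md g pt H16.J2.P 100 5 H16.J2.B 604800) : SLow (gi (wds (wds g p2t_W) p2e)) (fun i => pt (p2E i)) 84 [p2l0, p2l1] :=
  ((SLow.nil).cons p2l1_ok ((p2_sm M).1.act.wds p2_e 34) p2_f1).cons p2l0_ok ((p2_sm M).1.act.wds p2_e 34) p2_f0
theorem p2_pc {G Ω : Type*} [Group G] [MulAction G Ω] {g : ℕ → G} {pt : ℕ → Ω}
    (M : Md g pt H16.J2.P 100 5 H16.J2.B 604800) : PC (wds g p2t_W) 7 2 :=
  have := M.fin
  ((p2_sm M).1.pc0 (by decide) p2_p).pc (p2_low M) (p2_sm M).1.inj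
    (fun k => evA_mem_gen _ (nth_lt p2_e k)) M.card ⟨by decide, p2_c⟩
theorem covr_act {G Ω : Type*} [Group G] [MulAction G Ω] {g : ℕ → G} {pt : ℕ → Ω}
    (M : Md g pt H16.J2.P 100 5 H16.J2.B 604800) : Act (wds g covr_W) pt covr_P 100 2 :=
  M.wact covr_lt
theorem cov_0 {G Ω : Type*} [Group G] [MulAction G Ω] {g : ℕ → G} {pt : ℕ → Ω}
    (M : Md g pt H16.J2.P 100 5 H16.J2.B 604800) : H0.TR.Cov (wds g p2t_W) (wds g covr_W) 2 2 7 (evA (wds g p2t_W) []) :=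
  have := M.fin
  covT0.cov M (p2_sm M).1 (p2_sm M).2 (covr_act M) (p2_pc M) _ _ cov_c0
theorem cov {G Ω : Type*} [Group G] [MulAction G Ω] {g : ℕ → G} {pt : ℕ → Ω}
    (M : Md g pt H16.J2.P 100 5 H16.J2.B 604800) {y : G} {e : ℕ} (hy : y ^ 2 ^ e = 1) (hq : y ^ 2 = 1) : Good (wds g covr_W) 2 y :=
  have := M.fin
  H0.TR.Cov.all (p2_pc M) (cov_0 M) hy hq
theorem c0ax_act {G Ω : Type*} [Group G] [MulAction G Ω] {g : ℕ → G} {pt : ℕ → Ω}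
    (M : Md g pt H16.J2.P 100 5 H16.J2.B 604800) : Act (wds g c0ax_W) pt c0ax_P 100 1 :=
  M.wact c0ax_lt
theorem c0ath_act {G Ω : Type*} [Group G] [MulAction G Ω] {g : ℕ → G} {pt : ℕ → Ω}
    (M : Md g pt H16.J2.P 100 5 H16.J2.B 604800) : Act (wds g c0ath_W) pt c0ath_P 100 10 :=
  M.wact c0ath_lt
theorem c0atl0_e : ∀ i < 99, (dent c0atl0 c0ath_P (nat_lit 100)) i = 0 := allZ_sound0 c0atl0_e_0
theorem c0atl0_ok : DOK c0atl0 c0ath_P 100 := ⟨c0atl0_h, c0atl0_e⟩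
theorem c0atl1_e : ∀ i < 62, (dent c0atl1 c0ath_P (nat_lit 100)) i = 0 := allZ_sound0 c0atl1_e_0
theorem c0atl1_ok : DOK c0atl1 c0ath_P 100 := ⟨c0atl1_h, c0atl1_e⟩
theorem c0atl2_e : ∀ i < 11, (dent c0atl2 c0ath_P (nat_lit 100)) i = 0 := allZ_sound0 c0atl2_e_0
theorem c0atl2_ok : DOK c0atl2 c0ath_P 100 := ⟨c0atl2_h, c0atl2_e⟩
theorem c0atl3_e : ∀ i < 1, (dent c0atl3 c0ath_P (nat_lit 100)) i = 0 := allZ_sound0 c0atl3_e_0
theorem c0atl3_ok : DOK c0atl3 c0ath_P 100 := ⟨c0atl3_h, c0atl3_e⟩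
theorem c0atl4_e : ∀ i < 1, (dent c0atl4 c0ath_P (nat_lit 100)) i = 0 := allZ_sound0 c0atl4_e_0
theorem c0atl4_ok : DOK c0atl4 c0ath_P 100 := ⟨c0atl4_h, c0atl4_e⟩
theorem c0atl5_e : ∀ i < 1, (dent c0atl5 c0ath_P (nat_lit 100)) i = 0 := allZ_sound0 c0atl5_e_0
theorem c0atl5_ok : DOK c0atl5 c0ath_P 100 := ⟨c0atl5_h, c0atl5_e⟩
theorem c0at_low {G Ω : Type*} [Group G] [MulAction G Ω] {g : ℕ → G} {pt : ℕ → Ω}
    (M : Md g pt H16.J2.P 100 5 H16.J2.B 604800) : SLow (gi (wds g c0ath_W)) pt 100 [c0atl0, c0atl1, c0atl2, c0atl3, c0atl4, c0atl5] :=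
  ((((((SLow.nil).cons c0atl5_ok (c0ath_act M) c0at_f5).cons c0atl4_ok (c0ath_act M) c0at_f4).cons c0atl3_ok (c0ath_act M) c0at_f3).cons c0atl2_ok (c0ath_act M) c0at_f2).cons c0atl1_ok (c0ath_act M) c0at_f1).cons c0atl0_ok (c0ath_act M) c0at_f0
theorem c0at_S0 {G Ω : Type*} [Group G] [MulAction G Ω] {g : ℕ → G} {pt : ℕ → Ω}
    (M : Md g pt H16.J2.P 100 5 H16.J2.B 604800) : Stage ⊤ (wds g c0ath_W) pt 100 [c0atl0, c0atl1, c0atl2, c0atl3, c0atl4, c0atl5] [] :=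
  M.stage (c0at_low M) c0at_c
theorem c0at_S1 {G Ω : Type*} [Group G] [MulAction G Ω] {g : ℕ → G} {pt : ℕ → Ω}
    (M : Md g pt H16.J2.P 100 5 H16.J2.B 604800) : Stage ⊤ (wds g c0ath_W) pt 100 [c0atl1, c0atl2, c0atl3, c0atl4, c0atl5] [c0atl0.Pt 0] :=
  (c0at_S0 M).next
theorem c0at_S2 {G Ω : Type*} [Group G] [MulAction G Ω] {g : ℕ → G} {pt : ℕ → Ω}
    (M : Md g pt H16.J2.P 100 5 H16.J2.B 604800) : Stage ⊤ (wds g c0ath_W) pt 100 [c0atl2, c0atl3, c0atl4, c0atl5] [c0atl1.Pt 0, c0atl0.Pt 0] :=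
  (c0at_S1 M).next
theorem c0at_S3 {G Ω : Type*} [Group G] [MulAction G Ω] {g : ℕ → G} {pt : ℕ → Ω}
    (M : Md g pt H16.J2.P 100 5 H16.J2.B 604800) : Stage ⊤ (wds g c0ath_W) pt 100 [c0atl3, c0atl4, c0atl5] [c0atl2.Pt 0, c0atl1.Pt 0, c0atl0.Pt 0] :=
  (c0at_S2 M).next
theorem c0at_S4 {G Ω : Type*} [Group G] [MulAction G Ω] {g : ℕ → G} {pt : ℕ → Ω}
    (M : Md g pt H16.J2.P 100 5 H16.J2.B 604800) : Stage ⊤ (wds g c0ath_W) pt 100 [c0atl4, c0atl5] [c0atl3.Pt 0, c0atl2.Pt 0, c0atl1.Pt 0, c0atl0.Pt 0] :=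
  (c0at_S3 M).next
theorem c0at_S5 {G Ω : Type*} [Group G] [MulAction G Ω] {g : ℕ → G} {pt : ℕ → Ω}
    (M : Md g pt H16.J2.P 100 5 H16.J2.B 604800) : Stage ⊤ (wds g c0ath_W) pt 100 [c0atl5] [c0atl4.Pt 0, c0atl3.Pt 0, c0atl2.Pt 0, c0atl1.Pt 0, c0atl0.Pt 0] :=
  (c0at_S4 M).next
theorem c0at_S6 {G Ω : Type*} [Group G] [MulAction G Ω] {g : ℕ → G} {pt : ℕ → Ω}
    (M : Md g pt H16.J2.P 100 5 H16.J2.B 604800) : Stage ⊤ (wds g c0ath_W) pt 100 [] [c0atl5.Pt 0, c0atl4.Pt 0, c0atl3.Pt 0, c0atl2.Pt 0, c0atl1.Pt 0, c0atl0.Pt 0] :=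
  (c0at_S5 M).next
theorem c0ace_act {G Ω : Type*} [Group G] [MulAction G Ω] {g : ℕ → G} {pt : ℕ → Ω}
    (M : Md g pt H16.J2.P 100 5 H16.J2.B 604800) : Act (wds g c0ace_W) pt c0ace_P 100 6 :=
  M.wact c0ace_lt
theorem c0acc4_e : ∀ i < 1, (dent c0acc4 c0ace_P (nat_lit 100)) i = 0 := allZ_sound0 c0acc4_e_0
theorem c0acc4_ok : DOK c0acc4 c0ace_P 100 := ⟨c0acc4_h, c0acc4_e⟩
theorem c0atn0_1 : ∀ i < 2, (c0atn0.ent H16.J2.P c0ath_P c0ax_P c0ax_P c0ace_P (nat_lit 5) (nat_lit 1) H16.J2.B c0atl4 [c0atl5] (memO c0acc4)) i = 0 := allZ_sound0 c0atn0_1_0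
theorem c0atn0_t {G Ω : Type*} [Group G] [MulAction G Ω] {g : ℕ → G} {pt : ℕ → Ω}
    (M : Md g pt H16.J2.P 100 5 H16.J2.B 604800) : TrO (gen (wds g c0ath_W) c0atl4.K) (wds g c0ax_W) (wds g c0ax_W) 1 pt 100 (c0atl4.Pt 0) (memO c0acc4) :=
  node M (c0at_S4 M) (c0ath_act M) (c0ax_act M) (c0ax_act M) c0atn0 ((c0ace_act M).mono (by decide)) (fun _ _ => trivial) c0atn0_0 c0atn0_1 (List.forall_mem_nil _)
theorem c0acc3_e : ∀ i < 1, (dent c0acc3 c0ace_P (nat_lit 100)) i = 0 := allZ_sound0 c0acc3_e_0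
theorem c0acc3_ok : DOK c0acc3 c0ace_P 100 := ⟨c0acc3_h, c0acc3_e⟩
theorem c0atn1_1 : ∀ i < 2, (c0atn1.ent H16.J2.P c0ath_P c0ax_P c0ax_P c0ace_P (nat_lit 5) (nat_lit 1) H16.J2.B c0atl3 [c0atl4, c0atl5] (memO c0acc3)) i = 0 := allZ_sound0 c0atn1_1_0
theorem c0atn1_t {G Ω : Type*} [Group G] [MulAction G Ω] {g : ℕ → G} {pt : ℕ → Ω}
    (M : Md g pt H16.J2.P 100 5 H16.J2.B 604800) : TrO (gen (wds g c0ath_W) c0atl3.K) (wds g c0ax_W) (wds g c0ax_W) 1 pt 100 (c0atl3.Pt 0) (memO c0acc3) :=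
  node M (c0at_S3 M) (c0ath_act M) (c0ax_act M) (c0ax_act M) c0atn1 ((c0ace_act M).mono (by decide)) (fun _ _ => trivial) c0atn1_0 c0atn1_1 (List.forall_mem_nil _)
theorem c0acc2_e : ∀ i < 5, (dent c0acc2 c0ace_P (nat_lit 100)) i = 0 := allZ_sound0 c0acc2_e_0
theorem c0acc2_ok : DOK c0acc2 c0ace_P 100 := ⟨c0acc2_h, c0acc2_e⟩
theorem c0atn2_1 : ∀ i < 12, (c0atn2.ent H16.J2.P c0ath_P c0ax_P c0ax_P c0ace_P (nat_lit 5) (nat_lit 1) H16.J2.B c0atl2 [c0atl3, c0atl4, c0atl5] (memO c0acc2)) i = 0 := allZ_sound0 c0atn2_1_0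
theorem c0atn2_t {G Ω : Type*} [Group G] [MulAction G Ω] {g : ℕ → G} {pt : ℕ → Ω}
    (M : Md g pt H16.J2.P 100 5 H16.J2.B 604800) : TrO (gen (wds g c0ath_W) c0atl2.K) (wds g c0ax_W) (wds g c0ax_W) 1 pt 100 (c0atl2.Pt 0) (memO c0acc2) :=
  node M (c0at_S2 M) (c0ath_act M) (c0ax_act M) (c0ax_act M) c0atn2 ((c0ace_act M).mono (by decide)) (fun _ _ => trivial) c0atn2_0 c0atn2_1 (List.forall_mem_nil _)
theorem c0acc0_e : ∀ i < 79, (dent c0acc0 c0ace_P (nat_lit 100)) i = 0 := allZ_sound0 c0acc0_e_0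
theorem c0acc0_ok : DOK c0acc0 c0ace_P 100 := ⟨c0acc0_h, c0acc0_e⟩
theorem c0atn3_1 : ∀ i < 100, (c0atn3.ent H16.J2.P c0ath_P c0ax_P c0ax_P c0ace_P (nat_lit 5) (nat_lit 1) H16.J2.B c0atl0 [c0atl1, c0atl2, c0atl3, c0atl4, c0atl5] (memO c0acc0)) i = 0 := allZ_sound0 c0atn3_1_0
theorem c0atn3_t {G Ω : Type*} [Group G] [MulAction G Ω] {g : ℕ → G} {pt : ℕ → Ω}
    (M : Md g pt H16.J2.P 100 5 H16.J2.B 604800) : TrO (gen (wds g c0ath_W) c0atl0.K) (wds g c0ax_W) (wds g c0ax_W) 1 pt 100 (c0atl0.Pt 0) (memO c0acc0) :=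
  node M (c0at_S0 M) (c0ath_act M) (c0ax_act M) (c0ax_act M) c0atn3 ((c0ace_act M).mono (by decide)) (fun _ _ => trivial) c0atn3_0 c0atn3_1 (List.forall_mem_nil _)
theorem c0ac {G Ω : Type*} [Group G] [MulAction G Ω] {g : ℕ → G} {pt : ℕ → Ω}
    (M : Md g pt H16.J2.P 100 5 H16.J2.B 604800) : Cen ⊤ (wds g c0ax_W) 1 (wds g c0ace_W) pt 100 [c0acc0, c0acc2, c0acc3, c0acc4] :=
  (c0at_S0 M).top ▸ Cen.lev M (c0at_S0 M) (Cen.triv (c0at_S1 M) (Cen.lev M (c0at_S2 M) (Cen.lev M (c0at_S3 M) (Cen.lev M (c0at_S4 M) (Cen.triv (c0at_S5 M) (Cen.bot) (forced (c0at_S5 M) (c0ath_act M) (c0ax_act M) _ _ c0ac_f5)) (c0atn0_t M) (c0ax_act M) (c0ace_act M) (fun _ _ => trivial) c0acc4_ok c0ac_f4) (c0atn1_t M) (c0ax_act M) (c0ace_act M) (fun _ _ => trivial) c0acc3_ok c0ac_f3) (c0atn2_t M) (c0ax_act M) (c0ace_act M) (fun _ _ => trivial) c0acc2_ok c0ac_f2) (forced (c0at_S1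 M) (c0ath_act M) (c0ax_act M) _ _ c0ac_f1)) (c0atn3_t M) (c0ax_act M) (c0ace_act M) (fun _ _ => trivial) c0acc0_ok c0ac_f0
theorem c0ac_card {G Ω : Type*} [Group G] [MulAction G Ω] {g : ℕ → G} {pt : ℕ → Ω}
    (M : Md g pt H16.J2.P 100 5 H16.J2.B 604800) : Nat.card (Subgroup.centralizer {(wds g c0ax_W) 0}) = 1920 :=
  (c0ac M).card_cent1 M.inj c0ac_c.1
theorem c0ac_eq {G Ω : Type*} [Group G] [MulAction G Ω] {g : ℕ → G} {pt : ℕ → Ω}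
    (M : Md g pt H16.J2.P 100 5 H16.J2.B 604800) : Subgroup.centralizer (gen (wds g c0ax_W) 1) = gen (wds g c0ace_W) 6 ∧ Nat.card (gen (wds g c0ace_W) 6) = 1920 :=
  c0ac_c.1 ▸ c0ac_c.2 ▸ ⟨(c0ac M).cent, (c0ac M).card M.inj⟩
theorem c0w0_act {G Ω : Type*} [Group G] [MulAction G Ω] {g : ℕ → G} {pt : ℕ → Ω}
    (M : Md g pt H16.J2.P 100 5 H16.J2.B 604800) : Act (wds g c0w0_W) pt c0w0_P 100 2 :=
  M.wact c0w0_lt
theorem c0y0x_act {G Ω : Type*} [Group G] [MulAction G Ω] {g : ℕ → G} {pt : ℕ → Ω}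
    (M : Md g pt H16.J2.P 100 5 H16.J2.B 604800) : Act (wds g c0y0x_W) pt c0y0x_P 100 1 :=
  M.wact c0y0x_lt
theorem c0y0th_act {G Ω : Type*} [Group G] [MulAction G Ω] {g : ℕ → G} {pt : ℕ → Ω}
    (M : Md g pt H16.J2.P 100 5 H16.J2.B 604800) : Act (wds g c0y0th_W) pt c0y0th_P 100 11 :=
  M.wact c0y0th_lt
theorem c0y0tl0_e : ∀ i < 99, (dent c0y0tl0 c0y0th_P (nat_lit 100)) i = 0 := allZ_sound0 c0y0tl0_e_0
theorem c0y0tl0_ok : DOK c0y0tl0 c0y0th_P 100 := ⟨c0y0tl0_h, c0y0tl0_e⟩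
theorem c0y0tl1_e : ∀ i < 62, (dent c0y0tl1 c0y0th_P (nat_lit 100)) i = 0 := allZ_sound0 c0y0tl1_e_0
theorem c0y0tl1_ok : DOK c0y0tl1 c0y0th_P 100 := ⟨c0y0tl1_h, c0y0tl1_e⟩
theorem c0y0tl2_e : ∀ i < 23, (dent c0y0tl2 c0y0th_P (nat_lit 100)) i = 0 := allZ_sound0 c0y0tl2_e_0
theorem c0y0tl2_ok : DOK c0y0tl2 c0y0th_P 100 := ⟨c0y0tl2_h, c0y0tl2_e⟩
theorem c0y0tl3_e : ∀ i < 3, (dent c0y0tl3 c0y0th_P (nat_lit 100)) i = 0 := allZ_sound0 c0y0tl3_e_0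
theorem c0y0tl3_ok : DOK c0y0tl3 c0y0th_P 100 := ⟨c0y0tl3_h, c0y0tl3_e⟩
theorem c0y0t_low {G Ω : Type*} [Group G] [MulAction G Ω] {g : ℕ → G} {pt : ℕ → Ω}
    (M : Md g pt H16.J2.P 100 5 H16.J2.B 604800) : SLow (gi (wds g c0y0th_W)) pt 100 [c0y0tl0, c0y0tl1, c0y0tl2, c0y0tl3] :=
  ((((SLow.nil).cons c0y0tl3_ok (c0y0th_act M) c0y0t_f3).cons c0y0tl2_ok (c0y0th_act M) c0y0t_f2).cons c0y0tl1_ok (c0y0th_act M) c0y0t_f1).cons c0y0tl0_ok (c0y0th_act M) c0y0t_f0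
theorem c0y0t_S0 {G Ω : Type*} [Group G] [MulAction G Ω] {g : ℕ → G} {pt : ℕ → Ω}
    (M : Md g pt H16.J2.P 100 5 H16.J2.B 604800) : Stage ⊤ (wds g c0y0th_W) pt 100 [c0y0tl0, c0y0tl1, c0y0tl2, c0y0tl3] [] :=
  M.stage (c0y0t_low M) c0y0t_c
theorem c0y0t_S1 {G Ω : Type*} [Group G] [MulAction G Ω] {g : ℕ → G} {pt : ℕ → Ω}
    (M : Md g pt H16.J2.P 100 5 H16.J2.B 604800) : Stage ⊤ (wds g c0y0th_W) pt 100 [c0y0tl1, c0y0tl2, c0y0tl3] [c0y0tl0.Pt 0] :=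
  (c0y0t_S0 M).next
theorem c0y0t_S2 {G Ω : Type*} [Group G] [MulAction G Ω] {g : ℕ → G} {pt : ℕ → Ω}
    (M : Md g pt H16.J2.P 100 5 H16.J2.B 604800) : Stage ⊤ (wds g c0y0th_W) pt 100 [c0y0tl2, c0y0tl3] [c0y0tl1.Pt 0, c0y0tl0.Pt 0] :=
  (c0y0t_S1 M).next
theorem c0y0t_S3 {G Ω : Type*} [Group G] [MulAction G Ω] {g : ℕ → G} {pt : ℕ → Ω}
    (M : Md g pt H16.J2.P 100 5 H16.J2.B 604800) : Stage ⊤ (wds g c0y0th_W) pt 100 [c0y0tl3] [c0y0tl2.Pt 0, c0y0tl1.Pt 0, c0y0tl0.Pt 0] :=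
  (c0y0t_S2 M).next
theorem c0y0t_S4 {G Ω : Type*} [Group G] [MulAction G Ω] {g : ℕ → G} {pt : ℕ → Ω}
    (M : Md g pt H16.J2.P 100 5 H16.J2.B 604800) : Stage ⊤ (wds g c0y0th_W) pt 100 [] [c0y0tl3.Pt 0, c0y0tl2.Pt 0, c0y0tl1.Pt 0, c0y0tl0.Pt 0] :=
  (c0y0t_S3 M).next
theorem c0y0ce_act {G Ω : Type*} [Group G] [MulAction G Ω] {g : ℕ → G} {pt : ℕ → Ω}
    (M : Md g pt H16.J2.P 100 5 H16.J2.B 604800) : Act (wds g c0y0ce_W) pt c0y0ce_P 100 1 :=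
  M.wact c0y0ce_lt
theorem c0y0cc0_e : ∀ i < 9, (dent c0y0cc0 c0y0ce_P (nat_lit 100)) i = 0 := allZ_sound0 c0y0cc0_e_0
theorem c0y0cc0_ok : DOK c0y0cc0 c0y0ce_P 100 := ⟨c0y0cc0_h, c0y0cc0_e⟩
theorem c0y0tn0_1 : ∀ i < 100, (c0y0tn0.ent H16.J2.P c0y0th_P c0y0x_P c0y0x_P c0y0ce_P (nat_lit 5) (nat_lit 1) H16.J2.B c0y0tl0 [c0y0tl1, c0y0tl2, c0y0tl3] (memO c0y0cc0)) i = 0 := allZ_sound0 c0y0tn0_1_0
theorem c0y0tn0_t {G Ω : Type*} [Group G] [MulAction G Ω] {g : ℕ → G} {pt : ℕ → Ω}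
    (M : Md g pt H16.J2.P 100 5 H16.J2.B 604800) : TrO (gen (wds g c0y0th_W) c0y0tl0.K) (wds g c0y0x_W) (wds g c0y0x_W) 1 pt 100 (c0y0tl0.Pt 0) (memO c0y0cc0) :=
  node M (c0y0t_S0 M) (c0y0th_act M) (c0y0x_act M) (c0y0x_act M) c0y0tn0 ((c0y0ce_act M).mono (by decide)) (fun _ _ => trivial) c0y0tn0_0 c0y0tn0_1 (List.forall_mem_nil _)
theorem c0y0c {G Ω : Type*} [Group G] [MulAction G Ω] {g : ℕ → G} {pt : ℕ → Ω}
    (M : Md g pt H16.J2.P 100 5 H16.J2.B 604800) : Cen ⊤ (wds g c0y0x_W) 1 (wds g c0y0ce_W) pt 100 [c0y0cc0] :=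
  (c0y0t_S0 M).top ▸ Cen.lev M (c0y0t_S0 M) (Cen.triv (c0y0t_S1 M) (Cen.triv (c0y0t_S2 M) (Cen.triv (c0y0t_S3 M) (Cen.bot) (forced (c0y0t_S3 M) (c0y0th_act M) (c0y0x_act M) _ _ c0y0c_f3)) (forced (c0y0t_S2 M) (c0y0th_act M) (c0y0x_act M) _ _ c0y0c_f2)) (forced (c0y0t_S1 M) (c0y0th_act M) (c0y0x_act M) _ _ c0y0c_f1)) (c0y0tn0_t M) (c0y0x_act M) (c0y0ce_act M) (fun _ _ => trivial) c0y0cc0_ok c0y0c_f0
theorem c0y0c_card {G Ω : Type*} [Group G] [MulAction G Ω] {g : ℕ → G} {pt : ℕ → Ω}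
    (M : Md g pt H16.J2.P 100 5 H16.J2.B 604800) : Nat.card (Subgroup.centralizer {(wds g c0y0x_W) 0}) = 10 :=
  (c0y0c M).card_cent1 M.inj c0y0c_c.1
theorem c0y0c_eq {G Ω : Type*} [Group G] [MulAction G Ω] {g : ℕ → G} {pt : ℕ → Ω}
    (M : Md g pt H16.J2.P 100 5 H16.J2.B 604800) : Subgroup.centralizer (gen (wds g c0y0x_W) 1) = gen (wds g c0y0ce_W) 1 ∧ Nat.card (gen (wds g c0y0ce_W) 1) = 10 :=
  c0y0c_c.1 ▸ c0y0c_c.2 ▸ ⟨(c0y0c M).cent, (c0y0c M).card M.inj⟩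
theorem c0w0p {G Ω : Type*} [Group G] [MulAction G Ω] {g : ℕ → G} {pt : ℕ → Ω}
    (M : Md g pt H16.J2.P 100 5 H16.J2.B 604800) : (wds g c0w0_W) 0 ^ 2 = 1 :=
  M.pw (c0w0_act M) c0w0p_k
theorem c0w0n {G Ω : Type*} [Group G] [MulAction G Ω] {g : ℕ → G} {pt : ℕ → Ω}
    (M : Md g pt H16.J2.P 100 5 H16.J2.B 604800) : (wds g c0w0_W) 1 ^ 2 ≠ 1 :=
  M.npw (c0w0_act M) _ c0w0n_k
theorem c0W0 {G Ω : Type*} [Group G] [MulAction G Ω] {g : ℕ → G} {pt : ℕ → Ω}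
    (M : Md g pt H16.J2.P 100 5 H16.J2.B 604800) : Wit (H27.IC.Ce ((wds g covr_W) 0)) 5 10 :=
  have := M.fin
  wit_w (x := (wds g c0w0_W)) (k := 2) (by norm_num) (M.eq_of (c0w0_act M) c0w0_k) (c0w0p M) (c0w0n M) (c0ac_card M) (by decide +kernel) (c0y0c_card M)
theorem c0 {G Ω : Type*} [Group G] [MulAction G Ω] {g : ℕ → G} {pt : ℕ → Ω}
    (M : Md g pt H16.J2.P 100 5 H16.J2.B 604800) : OK (H27.IC.Ce ((wds g covr_W) 0)) :=
  have := M.fin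
  ok_num (n := 1920) (ws := []) 7 (c0ac_card M) (c0W0 M) (List.forall_mem_nil _) (by decide +kernel)
theorem c1ax_act {G Ω : Type*} [Group G] [MulAction G Ω] {g : ℕ → G} {pt : ℕ → Ω}
    (M : Md g pt H16.J2.P 100 5 H16.J2.B 604800) : Act (wds g c1ax_W) pt c1ax_P 100 1 :=
  M.wact c1ax_lt
theorem c1ath_act {G Ω : Type*} [Group G] [MulAction G Ω] {g : ℕ → G} {pt : ℕ → Ω}
    (M : Md g pt H16.J2.P 100 5 H16.J2.B 604800) : Act (wds g c1ath_W) pt c1ath_P 100 12 :=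
  M.wact c1ath_lt
theorem c1atl0_e : ∀ i < 99, (dent c1atl0 c1ath_P (nat_lit 100)) i = 0 := allZ_sound0 c1atl0_e_0
theorem c1atl0_ok : DOK c1atl0 c1ath_P 100 := ⟨c1atl0_h, c1atl0_e⟩
theorem c1atl1_e : ∀ i < 62, (dent c1atl1 c1ath_P (nat_lit 100)) i = 0 := allZ_sound0 c1atl1_e_0
theorem c1atl1_ok : DOK c1atl1 c1ath_P 100 := ⟨c1atl1_h, c1atl1_e⟩
theorem c1atl2_e : ∀ i < 5, (dent c1atl2 c1ath_P (nat_lit 100)) i = 0 := allZ_sound0 c1atl2_e_0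
theorem c1atl2_ok : DOK c1atl2 c1ath_P 100 := ⟨c1atl2_h, c1atl2_e⟩
theorem c1atl3_e : ∀ i < 3, (dent c1atl3 c1ath_P (nat_lit 100)) i = 0 := allZ_sound0 c1atl3_e_0
theorem c1atl3_ok : DOK c1atl3 c1ath_P 100 := ⟨c1atl3_h, c1atl3_e⟩
theorem c1atl4_e : ∀ i < 1, (dent c1atl4 c1ath_P (nat_lit 100)) i = 0 := allZ_sound0 c1atl4_e_0
theorem c1atl4_ok : DOK c1atl4 c1ath_P 100 := ⟨c1atl4_h, c1atl4_e⟩
theorem c1atl5_e : ∀ i < 1, (dent c1atl5 c1ath_P (nat_lit 100)) i = 0 := allZ_sound0 c1atl5_e_0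
theorem c1atl5_ok : DOK c1atl5 c1ath_P 100 := ⟨c1atl5_h, c1atl5_e⟩
theorem c1at_low {G Ω : Type*} [Group G] [MulAction G Ω] {g : ℕ → G} {pt : ℕ → Ω}
    (M : Md g pt H16.J2.P 100 5 H16.J2.B 604800) : SLow (gi (wds g c1ath_W)) pt 100 [c1atl0, c1atl1, c1atl2, c1atl3, c1atl4, c1atl5] :=
  ((((((SLow.nil).cons c1atl5_ok (c1ath_act M) c1at_f5).cons c1atl4_ok (c1ath_act M) c1at_f4).cons c1atl3_ok (c1ath_act M) c1at_f3).cons c1atl2_ok (c1ath_act M) c1at_f2).cons c1atl1_ok (c1ath_act M) c1at_f1).cons c1atl0_ok (c1ath_act M) c1at_f0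
theorem c1at_S0 {G Ω : Type*} [Group G] [MulAction G Ω] {g : ℕ → G} {pt : ℕ → Ω}
    (M : Md g pt H16.J2.P 100 5 H16.J2.B 604800) : Stage ⊤ (wds g c1ath_W) pt 100 [c1atl0, c1atl1, c1atl2, c1atl3, c1atl4, c1atl5] [] :=
  M.stage (c1at_low M) c1at_c
theorem c1at_S1 {G Ω : Type*} [Group G] [MulAction G Ω] {g : ℕ → G} {pt : ℕ → Ω}
    (M : Md g pt H16.J2.P 100 5 H16.J2.B 604800) : Stage ⊤ (wds g c1ath_W) pt 100 [c1atl1, c1atl2, c1atl3, c1atl4, c1atl5] [c1atl0.Pt 0] :=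
  (c1at_S0 M).next
theorem c1at_S2 {G Ω : Type*} [Group G] [MulAction G Ω] {g : ℕ → G} {pt : ℕ → Ω}
    (M : Md g pt H16.J2.P 100 5 H16.J2.B 604800) : Stage ⊤ (wds g c1ath_W) pt 100 [c1atl2, c1atl3, c1atl4, c1atl5] [c1atl1.Pt 0, c1atl0.Pt 0] :=
  (c1at_S1 M).next
theorem c1at_S3 {G Ω : Type*} [Group G] [MulAction G Ω] {g : ℕ → G} {pt : ℕ → Ω}
    (M : Md g pt H16.J2.P 100 5 H16.J2.B 604800) : Stage ⊤ (wds g c1ath_W) pt 100 [c1atl3, c1atl4, c1atl5] [c1atl2.Pt 0, c1atl1.Pt 0, c1atl0.Pt 0] :=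
  (c1at_S2 M).next
theorem c1at_S4 {G Ω : Type*} [Group G] [MulAction G Ω] {g : ℕ → G} {pt : ℕ → Ω}
    (M : Md g pt H16.J2.P 100 5 H16.J2.B 604800) : Stage ⊤ (wds g c1ath_W) pt 100 [c1atl4, c1atl5] [c1atl3.Pt 0, c1atl2.Pt 0, c1atl1.Pt 0, c1atl0.Pt 0] :=
  (c1at_S3 M).next
theorem c1at_S5 {G Ω : Type*} [Group G] [MulAction G Ω] {g : ℕ → G} {pt : ℕ → Ω}
    (M : Md g pt H16.J2.P 100 5 H16.J2.B 604800) : Stage ⊤ (wds g c1ath_W) pt 100 [c1atl5] [c1atl4.Pt 0, c1atl3.Pt 0, c1atl2.Pt 0, c1atl1.Pt 0, c1atl0.Pt 0] :=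
  (c1at_S4 M).next
theorem c1at_S6 {G Ω : Type*} [Group G] [MulAction G Ω] {g : ℕ → G} {pt : ℕ → Ω}
    (M : Md g pt H16.J2.P 100 5 H16.J2.B 604800) : Stage ⊤ (wds g c1ath_W) pt 100 [] [c1atl5.Pt 0, c1atl4.Pt 0, c1atl3.Pt 0, c1atl2.Pt 0, c1atl1.Pt 0, c1atl0.Pt 0] :=
  (c1at_S5 M).next
theorem c1ace_act {G Ω : Type*} [Group G] [MulAction G Ω] {g : ℕ → G} {pt : ℕ → Ω}
    (M : Md g pt H16.J2.P 100 5 H16.J2.B 604800) : Act (wds g c1ace_W) pt c1ace_P 100 5 :=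
  M.wact c1ace_lt
theorem c1acc5_e : ∀ i < 1, (dent c1acc5 c1ace_P (nat_lit 100)) i = 0 := allZ_sound0 c1acc5_e_0
theorem c1acc5_ok : DOK c1acc5 c1ace_P 100 := ⟨c1acc5_h, c1acc5_e⟩
theorem c1atn0_1 : ∀ i < 2, (c1atn0.ent H16.J2.P c1ath_P c1ax_P c1ax_P c1ace_P (nat_lit 5) (nat_lit 1) H16.J2.B c1atl5 [] (memO c1acc5)) i = 0 := allZ_sound0 c1atn0_1_0
theorem c1atn0_t {G Ω : Type*} [Group G] [MulAction G Ω] {g : ℕ → G} {pt : ℕ → Ω}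
    (M : Md g pt H16.J2.P 100 5 H16.J2.B 604800) : TrO (gen (wds g c1ath_W) c1atl5.K) (wds g c1ax_W) (wds g c1ax_W) 1 pt 100 (c1atl5.Pt 0) (memO c1acc5) :=
  node M (c1at_S5 M) (c1ath_act M) (c1ax_act M) (c1ax_act M) c1atn0 ((c1ace_act M).mono (by decide)) (fun _ _ => trivial) c1atn0_0 c1atn0_1 (List.forall_mem_nil _)
theorem c1atn1y31_act {G Ω : Type*} [Group G] [MulAction G Ω] {g : ℕ → G} {pt : ℕ → Ω}
    (M : Md g pt H16.J2.P 100 5 H16.J2.B 604800) : Act (wds g c1atn1y31_W) pt c1atn1y31_P 100 1 :=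
  M.wact c1atn1y31_lt
theorem c1atr2k_act {G Ω : Type*} [Group G] [MulAction G Ω] {g : ℕ → G} {pt : ℕ → Ω}
    (M : Md g pt H16.J2.P 100 5 H16.J2.B 604800) : Act (wds g c1atr2k_W) pt c1atr2k_P 100 2 :=
  M.wact c1atr2k_lt
theorem c1atn2_1 : ∀ i < 2, (c1atn2.ent H16.J2.P c1ath_P c1ax_P c1atn1y31_P c1atr2k_P (nat_lit 5) (nat_lit 1) H16.J2.B c1atl5 [] (fun _ => nat_lit 1)) i = 0 := allZ_sound0 c1atn2_1_0
theorem c1atn2_t {G Ω : Type*} [Group G] [MulAction G Ω] {g : ℕ → G} {pt : ℕ → Ω}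
    (M : Md g pt H16.J2.P 100 5 H16.J2.B 604800) : TrO (gen (wds g c1ath_W) c1atl5.K) (wds g c1ax_W) (wds g c1atn1y31_W) 1 pt 100 (c1atl5.Pt 0) (fun _ => nat_lit 1) :=
  node M (c1at_S5 M) (c1ath_act M) (c1ax_act M) (c1atn1y31_act M) c1atn2 ((c1atr2k_act M).mono (by decide)) (fun _ _ => trivial) c1atn2_0 c1atn2_1 (List.forall_mem_nil _)
theorem c1atr2 {G Ω : Type*} [Group G] [MulAction G Ω] {g : ℕ → G} {pt : ℕ → Ω}
    (M : Md g pt H16.J2.P 100 5 H16.J2.B 604800) : Ref (gen (wds g c1ath_W) (topK [c1atl5])) (wds g c1ax_W) (wds g c1atn1y31_W) 1 :=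
  (c1atn2_t M).ref
theorem c1atn1_1 : ∀ i < 2, (c1atn1.ent H16.J2.P c1ath_P c1ax_P c1ax_P c1ace_P (nat_lit 5) (nat_lit 1) H16.J2.B c1atl4 [c1atl5] (fun w => Nat.xor w (c1atl4.Pt (nat_lit 0)))) i = 0 := allZ_sound0 c1atn1_1_0
theorem c1atn1_t {G Ω : Type*} [Group G] [MulAction G Ω] {g : ℕ → G} {pt : ℕ → Ω}
    (M : Md g pt H16.J2.P 100 5 H16.J2.B 604800) : TrO (gen (wds g c1ath_W) c1atl4.K) (wds g c1ax_W) (wds g c1ax_W) 1 pt 100 (c1atl4.Pt 0) (fun w => Nat.xor w (c1atl4.Pt (nat_lit 0))) :=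
  node M (c1at_S4 M) (c1ath_act M) (c1ax_act M) (c1ax_act M) c1atn1 ((c1ace_act M).mono (by decide)) (fun _ _ => trivial) c1atn1_0 c1atn1_1 (List.forall_mem_cons.2 ⟨c1atr2 M, List.forall_mem_nil _⟩)
theorem c1acc2_e : ∀ i < 1, (dent c1acc2 c1ace_P (nat_lit 100)) i = 0 := allZ_sound0 c1acc2_e_0
theorem c1acc2_ok : DOK c1acc2 c1ace_P 100 := ⟨c1acc2_h, c1acc2_e⟩
theorem c1atn3y26_act {G Ω : Type*} [Group G] [MulAction G Ω] {g : ℕ → G} {pt : ℕ → Ω}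
    (M : Md g pt H16.J2.P 100 5 H16.J2.B 604800) : Act (wds g c1atn3y26_W) pt c1atn3y26_P 100 1 :=
  M.wact c1atn3y26_lt
theorem c1atr4k_act {G Ω : Type*} [Group G] [MulAction G Ω] {g : ℕ → G} {pt : ℕ → Ω}
    (M : Md g pt H16.J2.P 100 5 H16.J2.B 604800) : Act (wds g c1atr4k_W) pt c1atr4k_P 100 2 :=
  M.wact c1atr4k_lt
theorem c1atn4_1 : ∀ i < 2, (c1atn4.ent H16.J2.P c1ath_P c1ax_P c1atn3y26_P c1atr4k_P (nat_lit 5) (nat_lit 1) H16.J2.B c1atl4 [c1atl5] (fun _ => nat_lit 1)) i = 0 := allZ_sound0 c1atn4_1_0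
theorem c1atn4_t {G Ω : Type*} [Group G] [MulAction G Ω] {g : ℕ → G} {pt : ℕ → Ω}
    (M : Md g pt H16.J2.P 100 5 H16.J2.B 604800) : TrO (gen (wds g c1ath_W) c1atl4.K) (wds g c1ax_W) (wds g c1atn3y26_W) 1 pt 100 (c1atl4.Pt 0) (fun _ => nat_lit 1) :=
  node M (c1at_S4 M) (c1ath_act M) (c1ax_act M) (c1atn3y26_act M) c1atn4 ((c1atr4k_act M).mono (by decide)) (fun _ _ => trivial) c1atn4_0 c1atn4_1 (List.forall_mem_nil _)
theorem c1atr4 {G Ω : Type*} [Group G] [MulAction G Ω] {g : ℕ → G} {pt : ℕ → Ω}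
    (M : Md g pt H16.J2.P 100 5 H16.J2.B 604800) : Ref (gen (wds g c1ath_W) (topK [c1atl4, c1atl5])) (wds g c1ax_W) (wds g c1atn3y26_W) 1 :=
  (c1atn4_t M).ref
theorem c1atn3_1 : ∀ i < 6, (c1atn3.ent H16.J2.P c1ath_P c1ax_P c1ax_P c1ace_P (nat_lit 5) (nat_lit 1) H16.J2.B c1atl2 [c1atl3, c1atl4, c1atl5] (memO c1acc2)) i = 0 := allZ_sound0 c1atn3_1_0
theorem c1atn3_t {G Ω : Type*} [Group G] [MulAction G Ω] {g : ℕ → G} {pt : ℕ → Ω}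
    (M : Md g pt H16.J2.P 100 5 H16.J2.B 604800) : TrO (gen (wds g c1ath_W) c1atl2.K) (wds g c1ax_W) (wds g c1ax_W) 1 pt 100 (c1atl2.Pt 0) (memO c1acc2) :=
  node M (c1at_S2 M) (c1ath_act M) (c1ax_act M) (c1ax_act M) c1atn3 ((c1ace_act M).mono (by decide)) (fun _ _ => trivial) c1atn3_0 c1atn3_1 (List.forall_mem_cons.2 ⟨c1atr4 M, List.forall_mem_nil _⟩)
theorem c1acc0_e : ∀ i < 59, (dent c1acc0 c1ace_P (nat_lit 100)) i = 0 := allZ_sound0 c1acc0_e_0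
theorem c1acc0_ok : DOK c1acc0 c1ace_P 100 := ⟨c1acc0_h, c1acc0_e⟩
theorem c1atn5_1 : ∀ i < 100, (c1atn5.ent H16.J2.P c1ath_P c1ax_P c1ax_P c1ace_P (nat_lit 5) (nat_lit 1) H16.J2.B c1atl0 [c1atl1, c1atl2, c1atl3, c1atl4, c1atl5] (memO c1acc0)) i = 0 := allZ_sound0 c1atn5_1_0
theorem c1atn5_t {G Ω : Type*} [Group G] [MulAction G Ω] {g : ℕ → G} {pt : ℕ → Ω}
    (M : Md g pt H16.J2.P 100 5 H16.J2.B 604800) : TrO (gen (wds g c1ath_W) c1atl0.K) (wds g c1ax_W) (wds g c1ax_W) 1 pt 100 (c1atl0.Pt 0) (memO c1acc0) :=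
  node M (c1at_S0 M) (c1ath_act M) (c1ax_act M) (c1ax_act M) c1atn5 ((c1ace_act M).mono (by decide)) (fun _ _ => trivial) c1atn5_0 c1atn5_1 (List.forall_mem_nil _)
theorem c1ac {G Ω : Type*} [Group G] [MulAction G Ω] {g : ℕ → G} {pt : ℕ → Ω}
    (M : Md g pt H16.J2.P 100 5 H16.J2.B 604800) : Cen ⊤ (wds g c1ax_W) 1 (wds g c1ace_W) pt 100 [c1acc0, c1acc2, c1acc5] :=
  (c1at_S0 M).top ▸ Cen.lev M (c1at_S0 M) (Cen.triv (c1at_S1 M) (Cen.lev M (c1at_S2 M) (Cen.triv (c1at_S3 M) (Cen.triv (c1at_S4 M) (Cen.lev M (c1at_S5 M) (Cen.bot) (c1atn0_t M) (c1ax_act M) (c1ace_act M) (fun _ _ => trivial) c1acc5_ok c1ac_f5) (c1atn1_t M)) (forced (c1at_S3 M) (c1ath_act M) (c1ax_act M) _ _ c1ac_f3)) (c1atn3_t M) (c1ax_act M) (c1ace_act M) (fun _ _ => trivial) c1acc2_ok c1ac_f2) (forced (c1at_S1 M) (c1ath_act M) (c1ax_act M) _ _ c1ac_f1)) (c1atn5_t M) (c1ax_act M) (c1ace_act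 M) (fun _ _ => trivial) c1acc0_ok c1ac_f0
theorem c1ac_card {G Ω : Type*} [Group G] [MulAction G Ω] {g : ℕ → G} {pt : ℕ → Ω}
    (M : Md g pt H16.J2.P 100 5 H16.J2.B 604800) : Nat.card (Subgroup.centralizer {(wds g c1ax_W) 0}) = 240 :=
  (c1ac M).card_cent1 M.inj c1ac_c.1
theorem c1ac_eq {G Ω : Type*} [Group G] [MulAction G Ω] {g : ℕ → G} {pt : ℕ → Ω}
    (M : Md g pt H16.J2.P 100 5 H16.J2.B 604800) : Subgroup.centralizer (gen (wds g c1ax_W) 1) = gen (wds g c1ace_W) 5 ∧ Nat.card (gen (wds g c1ace_W) 5) = 240 :=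
  c1ac_c.1 ▸ c1ac_c.2 ▸ ⟨(c1ac M).cent, (c1ac M).card M.inj⟩
theorem c1w0_act {G Ω : Type*} [Group G] [MulAction G Ω] {g : ℕ → G} {pt : ℕ → Ω}
    (M : Md g pt H16.J2.P 100 5 H16.J2.B 604800) : Act (wds g c1w0_W) pt c1w0_P 100 2 :=
  M.wact c1w0_lt
theorem c1y0x_act {G Ω : Type*} [Group G] [MulAction G Ω] {g : ℕ → G} {pt : ℕ → Ω}
    (M : Md g pt H16.J2.P 100 5 H16.J2.B 604800) : Act (wds g c1y0x_W) pt c1y0x_P 100 1 :=
  M.wact c1y0x_lt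
theorem c1y0th_act {G Ω : Type*} [Group G] [MulAction G Ω] {g : ℕ → G} {pt : ℕ → Ω}
    (M : Md g pt H16.J2.P 100 5 H16.J2.B 604800) : Act (wds g c1y0th_W) pt c1y0th_P 100 10 :=
  M.wact c1y0th_lt
theorem c1y0tl0_e : ∀ i < 99, (dent c1y0tl0 c1y0th_P (nat_lit 100)) i = 0 := allZ_sound0 c1y0tl0_e_0
theorem c1y0tl0_ok : DOK c1y0tl0 c1y0th_P 100 := ⟨c1y0tl0_h, c1y0tl0_e⟩
theorem c1y0tl1_e : ∀ i < 35, (dent c1y0tl1 c1y0th_P (nat_lit 100)) i = 0 := allZ_sound0 c1y0tl1_e_0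
theorem c1y0tl1_ok : DOK c1y0tl1 c1y0th_P 100 := ⟨c1y0tl1_h, c1y0tl1_e⟩
theorem c1y0tl2_e : ∀ i < 6, (dent c1y0tl2 c1y0th_P (nat_lit 100)) i = 0 := allZ_sound0 c1y0tl2_e_0
theorem c1y0tl2_ok : DOK c1y0tl2 c1y0th_P 100 := ⟨c1y0tl2_h, c1y0tl2_e⟩
theorem c1y0tl3_e : ∀ i < 3, (dent c1y0tl3 c1y0th_P (nat_lit 100)) i = 0 := allZ_sound0 c1y0tl3_e_0
theorem c1y0tl3_ok : DOK c1y0tl3 c1y0th_P 100 := ⟨c1y0tl3_h, c1y0tl3_e⟩
theorem c1y0tl4_e : ∀ i < 2, (dent c1y0tl4 c1y0th_P (nat_lit 100)) i = 0 := allZ_sound0 c1y0tl4_e_0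
theorem c1y0tl4_ok : DOK c1y0tl4 c1y0th_P 100 := ⟨c1y0tl4_h, c1y0tl4_e⟩
theorem c1y0tl5_e : ∀ i < 1, (dent c1y0tl5 c1y0th_P (nat_lit 100)) i = 0 := allZ_sound0 c1y0tl5_e_0
theorem c1y0tl5_ok : DOK c1y0tl5 c1y0th_P 100 := ⟨c1y0tl5_h, c1y0tl5_e⟩
theorem c1y0t_low {G Ω : Type*} [Group G] [MulAction G Ω] {g : ℕ → G} {pt : ℕ → Ω}
    (M : Md g pt H16.J2.P 100 5 H16.J2.B 604800) : SLow (gi (wds g c1y0th_W)) pt 100 [c1y0tl0, c1y0tl1, c1y0tl2, c1y0tl3, c1y0tl4, c1y0tl5] :=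
  ((((((SLow.nil).cons c1y0tl5_ok (c1y0th_act M) c1y0t_f5).cons c1y0tl4_ok (c1y0th_act M) c1y0t_f4).cons c1y0tl3_ok (c1y0th_act M) c1y0t_f3).cons c1y0tl2_ok (c1y0th_act M) c1y0t_f2).cons c1y0tl1_ok (c1y0th_act M) c1y0t_f1).cons c1y0tl0_ok (c1y0th_act M) c1y0t_f0
theorem c1y0t_S0 {G Ω : Type*} [Group G] [MulAction G Ω] {g : ℕ → G} {pt : ℕ → Ω}
    (M : Md g pt H16.J2.P 100 5 H16.J2.B 604800) : Stage ⊤ (wds g c1y0th_W) pt 100 [c1y0tl0, c1y0tl1, c1y0tl2, c1y0tl3, c1y0tl4, c1y0tl5] [] :=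
  M.stage (c1y0t_low M) c1y0t_c
theorem c1y0t_S1 {G Ω : Type*} [Group G] [MulAction G Ω] {g : ℕ → G} {pt : ℕ → Ω}
    (M : Md g pt H16.J2.P 100 5 H16.J2.B 604800) : Stage ⊤ (wds g c1y0th_W) pt 100 [c1y0tl1, c1y0tl2, c1y0tl3, c1y0tl4, c1y0tl5] [c1y0tl0.Pt 0] :=
  (c1y0t_S0 M).next
theorem c1y0t_S2 {G Ω : Type*} [Group G] [MulAction G Ω] {g : ℕ → G} {pt : ℕ → Ω}
    (M : Md g pt H16.J2.P 100 5 H16.J2.B 604800) : Stage ⊤ (wds g c1y0th_W) pt 100 [c1y0tl2, c1y0tl3, c1y0tl4, c1y0tl5] [c1y0tl1.Pt 0, c1y0tl0.Pt 0] :=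
  (c1y0t_S1 M).next
theorem c1y0t_S3 {G Ω : Type*} [Group G] [MulAction G Ω] {g : ℕ → G} {pt : ℕ → Ω}
    (M : Md g pt H16.J2.P 100 5 H16.J2.B 604800) : Stage ⊤ (wds g c1y0th_W) pt 100 [c1y0tl3, c1y0tl4, c1y0tl5] [c1y0tl2.Pt 0, c1y0tl1.Pt 0, c1y0tl0.Pt 0] :=
  (c1y0t_S2 M).next
theorem c1y0t_S4 {G Ω : Type*} [Group G] [MulAction G Ω] {g : ℕ → G} {pt : ℕ → Ω}
    (M : Md g pt H16.J2.P 100 5 H16.J2.B 604800) : Stage ⊤ (wds g c1y0th_W) pt 100 [c1y0tl4, c1y0tl5] [c1y0tl3.Pt 0, c1y0tl2.Pt 0, c1y0tl1.Pt 0, c1y0tl0.Pt 0] :=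
  (c1y0t_S3 M).next
theorem c1y0t_S5 {G Ω : Type*} [Group G] [MulAction G Ω] {g : ℕ → G} {pt : ℕ → Ω}
    (M : Md g pt H16.J2.P 100 5 H16.J2.B 604800) : Stage ⊤ (wds g c1y0th_W) pt 100 [c1y0tl5] [c1y0tl4.Pt 0, c1y0tl3.Pt 0, c1y0tl2.Pt 0, c1y0tl1.Pt 0, c1y0tl0.Pt 0] :=
  (c1y0t_S4 M).next
theorem c1y0t_S6 {G Ω : Type*} [Group G] [MulAction G Ω] {g : ℕ → G} {pt : ℕ → Ω}
    (M : Md g pt H16.J2.P 100 5 H16.J2.B 604800) : Stage ⊤ (wds g c1y0th_W) pt 100 [] [c1y0tl5.Pt 0, c1y0tl4.Pt 0, c1y0tl3.Pt 0, c1y0tl2.Pt 0, c1y0tl1.Pt 0, c1y0tl0.Pt 0] :=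
  (c1y0t_S5 M).next
theorem c1y0ce_act {G Ω : Type*} [Group G] [MulAction G Ω] {g : ℕ → G} {pt : ℕ → Ω}
    (M : Md g pt H16.J2.P 100 5 H16.J2.B 604800) : Act (wds g c1y0ce_W) pt c1y0ce_P 100 3 :=
  M.wact c1y0ce_lt
theorem c1y0cc2_e : ∀ i < 2, (dent c1y0cc2 c1y0ce_P (nat_lit 100)) i = 0 := allZ_sound0 c1y0cc2_e_0
theorem c1y0cc2_ok : DOK c1y0cc2 c1y0ce_P 100 := ⟨c1y0cc2_h, c1y0cc2_e⟩
theorem c1y0tn0_1 : ∀ i < 7, (c1y0tn0.ent H16.J2.P c1y0th_P c1y0x_P c1y0x_P c1y0ce_P (nat_lit 5) (nat_lit 1) H16.J2.B c1y0tl2 [c1y0tl3, c1y0tl4, c1y0tl5] (memO c1y0cc2)) i = 0 := allZ_sound0 c1y0tn0_1_0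
theorem c1y0tn0_t {G Ω : Type*} [Group G] [MulAction G Ω] {g : ℕ → G} {pt : ℕ → Ω}
    (M : Md g pt H16.J2.P 100 5 H16.J2.B 604800) : TrO (gen (wds g c1y0th_W) c1y0tl2.K) (wds g c1y0x_W) (wds g c1y0x_W) 1 pt 100 (c1y0tl2.Pt 0) (memO c1y0cc2) :=
  node M (c1y0t_S2 M) (c1y0th_act M) (c1y0x_act M) (c1y0x_act M) c1y0tn0 ((c1y0ce_act M).mono (by decide)) (fun _ _ => trivial) c1y0tn0_0 c1y0tn0_1 (List.forall_mem_nil _)
theorem c1y0cc0_e : ∀ i < 3, (dent c1y0cc0 c1y0ce_P (nat_lit 100)) i = 0 := allZ_sound0 c1y0cc0_e_0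
theorem c1y0cc0_ok : DOK c1y0cc0 c1y0ce_P 100 := ⟨c1y0cc0_h, c1y0cc0_e⟩
theorem c1y0tn1_1 : ∀ i < 100, (c1y0tn1.ent H16.J2.P c1y0th_P c1y0x_P c1y0x_P c1y0ce_P (nat_lit 5) (nat_lit 1) H16.J2.B c1y0tl0 [c1y0tl1, c1y0tl2, c1y0tl3, c1y0tl4, c1y0tl5] (memO c1y0cc0)) i = 0 := allZ_sound0 c1y0tn1_1_0
theorem c1y0tn1_t {G Ω : Type*} [Group G] [MulAction G Ω] {g : ℕ → G} {pt : ℕ → Ω}
    (M : Md g pt H16.J2.P 100 5 H16.J2.B 604800) : TrO (gen (wds g c1y0th_W) c1y0tl0.K) (wds g c1y0x_W) (wds g c1y0x_W) 1 pt 100 (c1y0tl0.Pt 0) (memO c1y0cc0) :=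
  node M (c1y0t_S0 M) (c1y0th_act M) (c1y0x_act M) (c1y0x_act M) c1y0tn1 ((c1y0ce_act M).mono (by decide)) (fun _ _ => trivial) c1y0tn1_0 c1y0tn1_1 (List.forall_mem_nil _)
theorem c1y0c {G Ω : Type*} [Group G] [MulAction G Ω] {g : ℕ → G} {pt : ℕ → Ω}
    (M : Md g pt H16.J2.P 100 5 H16.J2.B 604800) : Cen ⊤ (wds g c1y0x_W) 1 (wds g c1y0ce_W) pt 100 [c1y0cc0, c1y0cc2] :=
  (c1y0t_S0 M).top ▸ Cen.lev M (c1y0t_S0 M) (Cen.triv (c1y0t_S1 M) (Cen.lev M (c1y0t_S2 M) (Cen.triv (c1y0t_S3 M) (Cen.triv (c1y0t_S4 M) (Cen.triv (c1y0t_S5 M) (Cen.bot) (forced (c1y0t_S5 M) (c1y0th_act M) (c1y0x_act M) _ _ c1y0c_f5)) (forced (c1y0t_S4 M) (c1y0th_act M) (c1y0x_act M) _ _ c1y0c_f4)) (forced (c1y0t_S3 M) (c1y0th_act M) (c1y0x_act M) _ _ c1y0c_f3)) (c1y0tn0_t M) (c1y0x_act M) (c1y0ce_act M) (fun _ _ => trivial) c1y0cc2_ok c1y0c_f2) (forced (c1y0t_S1 M) (c1y0th_act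 M) (c1y0x_act M) _ _ c1y0c_f1)) (c1y0tn1_t M) (c1y0x_act M) (c1y0ce_act M) (fun _ _ => trivial) c1y0cc0_ok c1y0c_f0
theorem c1y0c_card {G Ω : Type*} [Group G] [MulAction G Ω] {g : ℕ → G} {pt : ℕ → Ω}
    (M : Md g pt H16.J2.P 100 5 H16.J2.B 604800) : Nat.card (Subgroup.centralizer {(wds g c1y0x_W) 0}) = 12 :=
  (c1y0c M).card_cent1 M.inj c1y0c_c.1
theorem c1y0c_eq {G Ω : Type*} [Group G] [MulAction G Ω] {g : ℕ → G} {pt : ℕ → Ω}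
    (M : Md g pt H16.J2.P 100 5 H16.J2.B 604800) : Subgroup.centralizer (gen (wds g c1y0x_W) 1) = gen (wds g c1y0ce_W) 3 ∧ Nat.card (gen (wds g c1y0ce_W) 3) = 12 :=
  c1y0c_c.1 ▸ c1y0c_c.2 ▸ ⟨(c1y0c M).cent, (c1y0c M).card M.inj⟩
theorem c1w0p {G Ω : Type*} [Group G] [MulAction G Ω] {g : ℕ → G} {pt : ℕ → Ω}
    (M : Md g pt H16.J2.P 100 5 H16.J2.B 604800) : (wds g c1w0_W) 0 ^ 2 = 1 :=
  M.pw (c1w0_act M) c1w0p_k
theorem c1w0n {G Ω : Type*} [Group G] [MulAction G Ω] {g : ℕ → G} {pt : ℕ → Ω}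
    (M : Md g pt H16.J2.P 100 5 H16.J2.B 604800) : (wds g c1w0_W) 1 ^ 2 ≠ 1 :=
  M.npw (c1w0_act M) _ c1w0n_k
theorem c1W0 {G Ω : Type*} [Group G] [MulAction G Ω] {g : ℕ → G} {pt : ℕ → Ω}
    (M : Md g pt H16.J2.P 100 5 H16.J2.B 604800) : Wit (H27.IC.Ce ((wds g covr_W) 1)) 3 12 :=
  have := M.fin
  wit_w (x := (wds g c1w0_W)) (k := 1) (by norm_num) (M.eq_of (c1w0_act M) c1w0_k) (c1w0p M) (c1w0n M) (c1ac_card M) (by decide +kernel) (c1y0c_card M)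
theorem c1 {G Ω : Type*} [Group G] [MulAction G Ω] {g : ℕ → G} {pt : ℕ → Ω}
    (M : Md g pt H16.J2.P 100 5 H16.J2.B 604800) : OK (H27.IC.Ce ((wds g covr_W) 1)) :=
  have := M.fin
  ok_num (n := 240) (ws := []) 4 (c1ac_card M) (c1W0 M) (List.forall_mem_nil _) (by decide +kernel)
theorem both {G Ω : Type*} [Group G] [MulAction G Ω] {g : ℕ → G} {pt : ℕ → Ω}
    (M : Md g pt H16.J2.P 100 5 H16.J2.B 604800) : Both G :=
  have := M.fin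
  both_reps (wds g covr_W) 2 (fun _ hy => cov M (e := 1) hy hy) fun i hi => match i, hi with
    | 0, _ => c0 M
    | 1, _ => c1 M

theorem spor : Both Cfsg.Spor.J2 := by
  obtain ⟨_, g, M, -⟩ := md H15.J2L.equiv.symm
  exact both M

end H15.IC.J2
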