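import Cfsg.Agent.H15.IC.P
import Cfsg.Agent.H15.M.M12

/-! Generated by tools/h0/tr.py. -/

set_option maxRecDepth 100000
set_option maxHeartbeats 0

namespace H15.IC.M12
open H16 H0.TR
open scoped commutatorElement

noncomputable def p2t_W : List (List ℕ) := [[nat_lit 3, nat_lit 5, nat_lit 6, nat_lit 2],
  [nat_lit 1, nat_lit 2, nat_lit 4, nat_lit 1, nat_lit 5, nat_lit 1, nat_lit 6, nat_lit 0, nat_lit 7, nat_lit 4, nat_lit 7],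
  [nat_lit 1, nat_lit 2, nat_lit 4, nat_lit 5, nat_lit 7, nat_lit 4, nat_lit 7],
  [nat_lit 0, nat_lit 5, nat_lit 1, nat_lit 4, nat_lit 7],
  [nat_lit 1, nat_lit 5, nat_lit 2, nat_lit 6, nat_lit 1, nat_lit 7, nat_lit 4, nat_lit 7],
  [nat_lit 2, nat_lit 5, nat_lit 6, nat_lit 2, nat_lit 7]]
noncomputable def p2t_P : ℕ → ℕ → ℕ := wdsP H15.MM12.P p2t_W
noncomputable def p2Pd : List ℕ := [nat_lit 0x5746a8b93210,
  nat_lit 0x697b458a1032,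
  nat_lit 0x5a9678b41032,
  nat_lit 0x78b964a50321,
  nat_lit 0x6a457b893012,
  nat_lit 0x5a4876b92301]
noncomputable def p2P (k u : ℕ) : ℕ := Nat.land (Nat.shiftRight (nth (nat_lit 0) p2Pd k) (Nat.mul u (nat_lit 4))) (nat_lit 15)
noncomputable def p2Ed : ℕ := nat_lit 0x941ac4904141860
noncomputable def p2E (u : ℕ) : ℕ := Nat.land (Nat.shiftRight p2Ed (Nat.mul u (nat_lit 5))) (nat_lit 31)
noncomputable def p2Id : ℕ := nat_lit 0xb0a0098007302061540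
noncomputable def p2I (u : ℕ) : ℕ := Nat.land (Nat.shiftRight p2Id (Nat.mul u (nat_lit 4))) (nat_lit 15)
noncomputable def p2B : List ℕ := [nat_lit 0, nat_lit 4, nat_lit 5, nat_lit 1, nat_lit 6]
noncomputable def p2C : List (List (List ℕ)) := [[[],
  [],
  [],
  [],
  [],
  []], [[],
  [nat_lit 0],
  [],
  [],
  [nat_lit 0],
  [nat_lit 0]], [[],
  [],
  [],
  [nat_lit 0],
  [],
  []], [[],
  [],
  [],
  [nat_lit 1],
  [nat_lit 0, nat_lit 1],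
  [nat_lit 0, nat_lit 2]], [[],
  [],
  [],
  [],
  [],
  [nat_lit 2]], [[],
  [],
  [],
  [],
  [],
  []]]
noncomputable def p2e : List (List ℕ) := [[],
  [nat_lit 0],
  [nat_lit 0],
  [],
  [nat_lit 0],
  [nat_lit 0],
  [nat_lit 0],
  [],
  [],
  [],
  [nat_lit 0],
  [],
  [],
  [],
  [],
  [nat_lit 0],
  [],
  [],
  [],
  [nat_lit 1, nat_lit 2],
  [nat_lit 0],
  [],
  [],
  [],
  [nat_lit 0, nat_lit 1, nat_lit 2],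
  [nat_lit 1, nat_lit 2],
  [nat_lit 1, nat_lit 2],
  [],
  [],
  [],
  [nat_lit 1, nat_lit 2],
  [nat_lit 0],
  [],
  [],
  [nat_lit 0],
  [],
  [],
  [],
  [],
  [],
  [],
  [nat_lit 0],
  [nat_lit 1, nat_lit 2],
  [nat_lit 1, nat_lit 2],
  [nat_lit 0],
  [nat_lit 0],
  [],
  [nat_lit 0],
  [],
  [nat_lit 3, nat_lit 4, nat_lit 5],
  [nat_lit 1, nat_lit 2],
  [nat_lit 3, nat_lit 5],
  [nat_lit 1],
  [nat_lit 0],
  [nat_lit 5]]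
noncomputable def p2l0Dd : ℕ := nat_lit 0xdad9a00
noncomputable def p2l0D (u : ℕ) : ℕ := Nat.land (Nat.shiftRight p2l0Dd (Nat.mul u (nat_lit 7))) (nat_lit 127)
noncomputable def p2l0Pd : ℕ := nat_lit 0xd8
noncomputable def p2l0P (u : ℕ) : ℕ := Nat.land (Nat.shiftRight p2l0Pd (Nat.mul u (nat_lit 2))) (nat_lit 3)
noncomputable def p2l0Qd : ℕ := nat_lit 0xd8
noncomputable def p2l0Q (u : ℕ) : ℕ := Nat.land (Nat.shiftRight p2l0Qd (Nat.mul u (nat_lit 2))) (nat_lit 3)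
noncomputable def p2l0 : H16.Lev := ⟨4, 55, p2l0D, p2l0P, p2l0Q⟩
noncomputable def p2l1Dd : ℕ := nat_lit 0xcc0
noncomputable def p2l1D (u : ℕ) : ℕ := Nat.land (Nat.shiftRight p2l1Dd (Nat.mul u (nat_lit 6))) (nat_lit 63)
noncomputable def p2l1Pd : ℕ := nat_lit 0xd
noncomputable def p2l1P (u : ℕ) : ℕ := Nat.land (Nat.shiftRight p2l1Pd (Nat.mul u (nat_lit 2))) (nat_lit 3)
noncomputable def p2l1Qd : ℕ := nat_lit 8
noncomputable def p2l1Q (u : ℕ) : ℕ := Nat.land (Nat.shiftRight p2l1Qd (Nat.mul u (nat_lit 1))) (nat_lit 1)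
noncomputable def p2l1 : H16.Lev := ⟨2, 52, p2l1D, p2l1P, p2l1Q⟩
noncomputable def p2l2Dd : ℕ := nat_lit 0xdb95633118130100
noncomputable def p2l2D (u : ℕ) : ℕ := Nat.land (Nat.shiftRight p2l2Dd (Nat.mul u (nat_lit 8))) (nat_lit 255)
noncomputable def p2l2Pd : ℕ := nat_lit 0x5b86a794
noncomputable def p2l2P (u : ℕ) : ℕ := Nat.land (Nat.shiftRight p2l2Pd (Nat.mul u (nat_lit 4))) (nat_lit 15)
noncomputable def p2l2Qd : ℕ := nat_lit 0xccd538000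
noncomputable def p2l2Q (u : ℕ) : ℕ := Nat.land (Nat.shiftRight p2l2Qd (Nat.mul u (nat_lit 3))) (nat_lit 7)
noncomputable def p2l2 : H16.Lev := ⟨8, 50, p2l2D, p2l2P, p2l2Q⟩
noncomputable def covr_W : List (List ℕ) := [[nat_lit 3, nat_lit 5, nat_lit 6, nat_lit 2],
  [nat_lit 7, nat_lit 5, nat_lit 3, nat_lit 6]]
noncomputable def covr_P : ℕ → ℕ → ℕ := wdsP H15.MM12.P covr_W
noncomputable def covT0 : H0.TR.CT := (.split (.more (.split (.more (.split (.more (.split (.more (.split (.more (.split (.more .one (.more (.leaf (nat_lit 0) []) .one))) (.more (.fuse [nat_lit 4] [] (.prune (nat_lit 0) (nat_lit 1) [])) .one))) (.more (.split (.more (.fuse [nat_lit 3] [] (.leaf (nat_lit 0) [nat_lit 4, nat_lit 1, nat_lit 6, nat_lit 1, nat_lit 2, nat_lit 7, nat_lit 4])) (.more (.fuse [nat_lit 3] [] (.prune (nat_lit 0) (nat_lit 1) [])) .one))) .one)))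 (.more (.fuse [nat_lit 5] [] (.fuse [nat_lit 4] [nat_lit 0] (.prune (nat_lit 1) (nat_lit 1) []))) .one))) (.more (.split (.more (.fuse [nat_lit 5] [] (.fuse [nat_lit 3] [nat_lit 0] (.fuse [nat_lit 1] [] (.leaf (nat_lit 0) [nat_lit 4, nat_lit 2, nat_lit 5, nat_lit 0, nat_lit 7, nat_lit 4])))) (.more (.split (.more (.fuse [nat_lit 3] [nat_lit 0] (.fuse [nat_lit 1] [] (.leaf (nat_lit 1) []))) (.more (.fuse [nat_lit 3] [] (.fuse [nat_lit 1] [] (.prune (nat_lit 0) (nat_lit 1) []))) .one))) .one))) .one))) (.more (.split (.more (.split (.more (.fuse [nat_lit 3] [nat_lit 0] (.split (.more (.fuse [nat_lit 1] [] (.leaf (nat_lit 0) [nat_lit 4, nat_lit 1, nat_lit 7, nat_lit 4])) (.more (.fuse [nat_lit 1] [] (.leaf (nat_lit 1) [nat_lit 5, nat_lit 2, nat_lit 6, nat_lit 3, nat_lit 7, nat_lit 4, nat_lit 2])) .one)))) (.more (.fuse [nat_lit 3] []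 (.prune (nat_lit 2) (nat_lit 1) [nat_lit 0, nat_lit 1])) .one))) (.more (.split (.more (.fuse [nat_lit 3] [nat_lit 1] (.prune (nat_lit 2) (nat_lit 1) [])) (.more (.fuse [nat_lit 3] [nat_lit 0, nat_lit 1] (.split (.more (.fuse [nat_lit 2] [] (.prune (nat_lit 0) (nat_lit 1) [])) (.more (.fuse [nat_lit 2] [] (.leaf (nat_lit 1) [nat_lit 1, nat_lit 1, nat_lit 4, nat_lit 1, nat_lit 2, nat_lit 5, nat_lit 2])) .one)))) .one))) .one))) .one)))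
noncomputable def c0ax_W : List (List ℕ) := [[nat_lit 3, nat_lit 5, nat_lit 6, nat_lit 2]]
noncomputable def c0ax_P : ℕ → ℕ → ℕ := wdsP H15.MM12.P c0ax_W
noncomputable def c0ath_W : List (List ℕ) := [[nat_lit 3, nat_lit 0, nat_lit 5, nat_lit 6, nat_lit 1, nat_lit 1, nat_lit 7, nat_lit 5, nat_lit 6],
  [nat_lit 3, nat_lit 4, nat_lit 7, nat_lit 4, nat_lit 2, nat_lit 7],
  [nat_lit 4, nat_lit 2, nat_lit 1, nat_lit 2, nat_lit 7, nat_lit 4, nat_lit 1, nat_lit 1, nat_lit 7],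
  [nat_lit 7, nat_lit 0, nat_lit 0, nat_lit 4, nat_lit 7, nat_lit 4, nat_lit 3, nat_lit 1],
  [nat_lit 4, nat_lit 1, nat_lit 2, nat_lit 5, nat_lit 0],
  [nat_lit 0],
  [nat_lit 1],
  [nat_lit 2],
  [nat_lit 3],
  [nat_lit 4],
  [nat_lit 5],
  [nat_lit 6],
  [nat_lit 7]]
noncomputable def c0ath_P : ℕ → ℕ → ℕ := wdsP H15.MM12.P c0ath_W
noncomputable def c0atl0Dd : ℕ := nat_lit 0xa1035e39551348c2c0
noncomputable def c0atl0D (u : ℕ) : ℕ := Nat.land (Nat.shiftRight c0atl0Dd (Nat.mul u (nat_lit 6))) (nat_lit 63)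
noncomputable def c0atl0Pd : ℕ := nat_lit 0xd264364460a01
noncomputable def c0atl0P (u : ℕ) : ℕ := Nat.land (Nat.shiftRight c0atl0Pd (Nat.mul u (nat_lit 5))) (nat_lit 31)
noncomputable def c0atl0Qd : ℕ := nat_lit 0x501006300970804a20b
noncomputable def c0atl0Q (u : ℕ) : ℕ := Nat.land (Nat.shiftRight c0atl0Qd (Nat.mul u (nat_lit 4))) (nat_lit 15)
noncomputable def c0atl0 : H16.Lev := ⟨12, 13, c0atl0D, c0atl0P, c0atl0Q⟩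
noncomputable def c0atl1Dd : ℕ := nat_lit 0x38d944902481c6140
noncomputable def c0atl1D (u : ℕ) : ℕ := Nat.land (Nat.shiftRight c0atl1Dd (Nat.mul u (nat_lit 6))) (nat_lit 63)
noncomputable def c0atl1Pd : ℕ := nat_lit 0x43249888192d
noncomputable def c0atl1P (u : ℕ) : ℕ := Nat.land (Nat.shiftRight c0atl1Pd (Nat.mul u (nat_lit 5))) (nat_lit 31)
noncomputable def c0atl1Qd : ℕ := nat_lit 0x603000500140207890a
noncomputable def c0atl1Q (u : ℕ) : ℕ := Nat.land (Nat.shiftRight c0atl1Qd (Nat.mul u (nat_lit 4))) (nat_lit 15)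
noncomputable def c0atl1 : H16.Lev := ⟨11, 11, c0atl1D, c0atl1P, c0atl1Q⟩
noncomputable def c0atl2Dd : ℕ := nat_lit 0x30f6aa0549880
noncomputable def c0atl2D (u : ℕ) : ℕ := Nat.land (Nat.shiftRight c0atl2Dd (Nat.mul u (nat_lit 5))) (nat_lit 31)
noncomputable def c0atl2Pd : ℕ := nat_lit 0x2441a408640c2
noncomputable def c0atl2P (u : ℕ) : ℕ := Nat.land (Nat.shiftRight c0atl2Pd (Nat.mul u (nat_lit 5))) (nat_lit 31)
noncomputable def c0atl2Qd : ℕ := nat_lit 0x9020003006401087005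
noncomputable def c0atl2Q (u : ℕ) : ℕ := Nat.land (Nat.shiftRight c0atl2Qd (Nat.mul u (nat_lit 4))) (nat_lit 15)
noncomputable def c0atl2 : H16.Lev := ⟨10, 5, c0atl2D, c0atl2P, c0atl2Q⟩
noncomputable def c0atl3Dd : ℕ := nat_lit 0xe8a90621460
noncomputable def c0atl3D (u : ℕ) : ℕ := Nat.land (Nat.shiftRight c0atl3Dd (Nat.mul u (nat_lit 5))) (nat_lit 31)
noncomputable def c0atl3Pd : ℕ := nat_lit 0x88240660c92
noncomputable def c0atl3P (u : ℕ) : ℕ := Nat.land (Nat.shiftRight c0atl3Pd (Nat.mul u (nat_lit 5))) (nat_lit 31)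
noncomputable def c0atl3Qd : ℕ := nat_lit 0x70003006804012005
noncomputable def c0atl3Q (u : ℕ) : ℕ := Nat.land (Nat.shiftRight c0atl3Qd (Nat.mul u (nat_lit 4))) (nat_lit 15)
noncomputable def c0atl3 : H16.Lev := ⟨9, 4, c0atl3D, c0atl3P, c0atl3Q⟩
noncomputable def c0atl4Dd : ℕ := nat_lit 0xa88
noncomputable def c0atl4D (u : ℕ) : ℕ := Nat.land (Nat.shiftRight c0atl4Dd (Nat.mul u (nat_lit 3))) (nat_lit 7)
noncomputable def c0atl4Pd : ℕ := nat_lit 0x3aae5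
noncomputable def c0atl4P (u : ℕ) : ℕ := Nat.land (Nat.shiftRight c0atl4Pd (Nat.mul u (nat_lit 5))) (nat_lit 31)
noncomputable def c0atl4Qd : ℕ := nat_lit 0x40000020c000
noncomputable def c0atl4Q (u : ℕ) : ℕ := Nat.land (Nat.shiftRight c0atl4Qd (Nat.mul u (nat_lit 2))) (nat_lit 3)
noncomputable def c0atl4 : H16.Lev := ⟨4, 3, c0atl4D, c0atl4P, c0atl4Q⟩
noncomputable def c0atl5Dd : ℕ := nat_lit 0
noncomputable def c0atl5D (u : ℕ) : ℕ := Nat.land (Nat.shiftRight c0atl5Dd (Nat.mul u (nat_lit 1))) (nat_lit 1)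
noncomputable def c0atl5Pd : ℕ := nat_lit 0xc4
noncomputable def c0atl5P (u : ℕ) : ℕ := Nat.land (Nat.shiftRight c0atl5Pd (Nat.mul u (nat_lit 4))) (nat_lit 15)
noncomputable def c0atl5Qd : ℕ := nat_lit 0x1000
noncomputable def c0atl5Q (u : ℕ) : ℕ := Nat.land (Nat.shiftRight c0atl5Qd (Nat.mul u (nat_lit 1))) (nat_lit 1)
noncomputable def c0atl5 : H16.Lev := ⟨2, 1, c0atl5D, c0atl5P, c0atl5Q⟩
noncomputable def c0ace_W : List (List ℕ) := [[nat_lit 5, nat_lit 3, nat_lit 5, nat_lit 0, nat_lit 6, nat_lit 1, nat_lit 1, nat_lit 5, nat_lit 7],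
  [nat_lit 7, nat_lit 4, nat_lit 1, nat_lit 7, nat_lit 4, nat_lit 1, nat_lit 1],
  [nat_lit 3, nat_lit 5, nat_lit 2],
  [nat_lit 1, nat_lit 1, nat_lit 4, nat_lit 0, nat_lit 5, nat_lit 1],
  [nat_lit 2, nat_lit 5, nat_lit 1, nat_lit 1, nat_lit 6, nat_lit 2, nat_lit 7],
  [nat_lit 2, nat_lit 5, nat_lit 6, nat_lit 3]]
noncomputable def c0ace_P : ℕ → ℕ → ℕ := wdsP H15.MM12.P c0ace_W
noncomputable def c0acc5Dd : ℕ := nat_lit 0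
noncomputable def c0acc5D (u : ℕ) : ℕ := Nat.land (Nat.shiftRight c0acc5Dd (Nat.mul u (nat_lit 1))) (nat_lit 1)
noncomputable def c0acc5Pd : ℕ := nat_lit 0xc4
noncomputable def c0acc5P (u : ℕ) : ℕ := Nat.land (Nat.shiftRight c0acc5Pd (Nat.mul u (nat_lit 4))) (nat_lit 15)
noncomputable def c0acc5Qd : ℕ := nat_lit 0x1000
noncomputable def c0acc5Q (u : ℕ) : ℕ := Nat.land (Nat.shiftRight c0acc5Qd (Nat.mul u (nat_lit 1))) (nat_lit 1)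
noncomputable def c0acc5 : H16.Lev := ⟨2, 1, c0acc5D, c0acc5P, c0acc5Q⟩
noncomputable def c0atn0Fd : ℕ := nat_lit 0
noncomputable def c0atn0F (u : ℕ) : ℕ := Nat.land (Nat.shiftRight c0atn0Fd (Nat.mul u (nat_lit 1))) (nat_lit 1)
noncomputable def c0atn0 : Nd := ⟨c0atn0F, (nat_lit 2), (nat_lit 1), [], [((nat_lit 0), [])], []⟩
noncomputable def c0acc4Dd : ℕ := nat_lit 2
noncomputable def c0acc4D (u : ℕ) : ℕ := Nat.land (Nat.shiftRight c0acc4Dd (Nat.mul u (nat_lit 1))) (nat_lit 1)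
noncomputable def c0acc4Pd : ℕ := nat_lit 0x3d
noncomputable def c0acc4P (u : ℕ) : ℕ := Nat.land (Nat.shiftRight c0acc4Pd (Nat.mul u (nat_lit 3))) (nat_lit 7)
noncomputable def c0acc4Qd : ℕ := nat_lit 0x80
noncomputable def c0acc4Q (u : ℕ) : ℕ := Nat.land (Nat.shiftRight c0acc4Qd (Nat.mul u (nat_lit 1))) (nat_lit 1)
noncomputable def c0acc4 : H16.Lev := ⟨2, 2, c0acc4D, c0acc4P, c0acc4Q⟩
noncomputable def c0atn1y23_W : List (List ℕ) := [[nat_lit 2, nat_lit 5, nat_lit 6, nat_lit 2, nat_lit 7]]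
noncomputable def c0atn1y23_P : ℕ → ℕ → ℕ := wdsP H15.MM12.P c0atn1y23_W
noncomputable def c0atr2k_W : List (List ℕ) := [[],
  [nat_lit 6, nat_lit 1, nat_lit 1, nat_lit 5, nat_lit 0, nat_lit 6, nat_lit 3, nat_lit 7, nat_lit 5]]
noncomputable def c0atr2k_P : ℕ → ℕ → ℕ := wdsP H15.MM12.P c0atr2k_W
noncomputable def c0atn2Fd : ℕ := nat_lit 0xd
noncomputable def c0atn2F (u : ℕ) : ℕ := Nat.land (Nat.shiftRight c0atn2Fd (Nat.mul u (nat_lit 2))) (nat_lit 3)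
noncomputable def c0atn2 : Nd := ⟨c0atn2F, (nat_lit 2), (nat_lit 2), [[nat_lit 0]], [((nat_lit 0), [])], []⟩
noncomputable def c0atn1Fd : ℕ := nat_lit 0x34
noncomputable def c0atn1F (u : ℕ) : ℕ := Nat.land (Nat.shiftRight c0atn1Fd (Nat.mul u (nat_lit 2))) (nat_lit 3)
noncomputable def c0atn1 : Nd := ⟨c0atn1F, (nat_lit 2), (nat_lit 2), [], [((nat_lit 0), [])], [((nat_lit 23), c0atn1y23_W)]⟩
noncomputable def c0acc2Dd : ℕ := nat_lit 0x9a7320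
noncomputable def c0acc2D (u : ℕ) : ℕ := Nat.land (Nat.shiftRight c0acc2Dd (Nat.mul u (nat_lit 4))) (nat_lit 15)
noncomputable def c0acc2Pd : ℕ := nat_lit 0x8c4c242
noncomputable def c0acc2P (u : ℕ) : ℕ := Nat.land (Nat.shiftRight c0acc2Pd (Nat.mul u (nat_lit 5))) (nat_lit 31)
noncomputable def c0acc2Qd : ℕ := nat_lit 0x42004018005000
noncomputable def c0acc2Q (u : ℕ) : ℕ := Nat.land (Nat.shiftRight c0acc2Qd (Nat.mul u (nat_lit 3))) (nat_lit 7)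
noncomputable def c0acc2 : H16.Lev := ⟨6, 4, c0acc2D, c0acc2P, c0acc2Q⟩
noncomputable def c0atn3Fd : ℕ := nat_lit 0x50960010
noncomputable def c0atn3F (u : ℕ) : ℕ := Nat.land (Nat.shiftRight c0atn3Fd (Nat.mul u (nat_lit 4))) (nat_lit 15)
noncomputable def c0atn3 : Nd := ⟨c0atn3F, (nat_lit 4), (nat_lit 4), [[nat_lit 0]], [((nat_lit 0), [])], []⟩
noncomputable def c0acc0Dd : ℕ := nat_lit 0xceaa9410a0
noncomputable def c0acc0D (u : ℕ) : ℕ := Nat.land (Nat.shiftRight c0acc0Dd (Nat.mul u (nat_lit 5))) (nat_lit 31)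
noncomputable def c0acc0Pd : ℕ := nat_lit 0x6120913641
noncomputable def c0acc0P (u : ℕ) : ℕ := Nat.land (Nat.shiftRight c0acc0Pd (Nat.mul u (nat_lit 5))) (nat_lit 31)
noncomputable def c0acc0Qd : ℕ := nat_lit 0x450170200060c0
noncomputable def c0acc0Q (u : ℕ) : ℕ := Nat.land (Nat.shiftRight c0acc0Qd (Nat.mul u (nat_lit 3))) (nat_lit 7)
noncomputable def c0acc0 : H16.Lev := ⟨8, 6, c0acc0D, c0acc0P, c0acc0Q⟩
noncomputable def c0atn4Fd : ℕ := nat_lit 0x790810000000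
noncomputable def c0atn4F (u : ℕ) : ℕ := Nat.land (Nat.shiftRight c0atn4Fd (Nat.mul u (nat_lit 4))) (nat_lit 15)
noncomputable def c0atn4 : Nd := ⟨c0atn4F, (nat_lit 6), (nat_lit 6), [[nat_lit 0]], [((nat_lit 0), [])], []⟩
noncomputable def c0w0_W : List (List ℕ) := [[nat_lit 3, nat_lit 5, nat_lit 6, nat_lit 2],
  [nat_lit 4, nat_lit 2, nat_lit 4, nat_lit 0, nat_lit 5, nat_lit 1, nat_lit 7]]
noncomputable def c0w0_P : ℕ → ℕ → ℕ := wdsP H15.MM12.P c0w0_W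
noncomputable def c0y0x_W : List (List ℕ) := [[nat_lit 4, nat_lit 2, nat_lit 4, nat_lit 0, nat_lit 5, nat_lit 1, nat_lit 7]]
noncomputable def c0y0x_P : ℕ → ℕ → ℕ := wdsP H15.MM12.P c0y0x_W
noncomputable def c0y0th_W : List (List ℕ) := [[nat_lit 7, nat_lit 4, nat_lit 1, nat_lit 2, nat_lit 7, nat_lit 4, nat_lit 2],
  [nat_lit 4, nat_lit 1, nat_lit 2, nat_lit 7, nat_lit 4, nat_lit 7, nat_lit 3],
  [nat_lit 1, nat_lit 3, nat_lit 4, nat_lit 7, nat_lit 4, nat_lit 7],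
  [nat_lit 0],
  [nat_lit 1],
  [nat_lit 2],
  [nat_lit 3],
  [nat_lit 4],
  [nat_lit 5],
  [nat_lit 6],
  [nat_lit 7]]
noncomputable def c0y0th_P : ℕ → ℕ → ℕ := wdsP H15.MM12.P c0y0th_W
noncomputable def c0y0tl0Dd : ℕ := nat_lit 0x8a1e8b79140f38a240
noncomputable def c0y0tl0D (u : ℕ) : ℕ := Nat.land (Nat.shiftRight c0y0tl0Dd (Nat.mul u (nat_lit 6))) (nat_lit 63)
noncomputable def c0y0tl0Pd : ℕ := nat_lit 0xcc94364460a01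
noncomputable def c0y0tl0P (u : ℕ) : ℕ := Nat.land (Nat.shiftRight c0y0tl0Pd (Nat.mul u (nat_lit 5))) (nat_lit 31)
noncomputable def c0y0tl0Qd : ℕ := nat_lit 0x501006300870904a20b
noncomputable def c0y0tl0Q (u : ℕ) : ℕ := Nat.land (Nat.shiftRight c0y0tl0Qd (Nat.mul u (nat_lit 4))) (nat_lit 15)
noncomputable def c0y0tl0 : H16.Lev := ⟨12, 11, c0y0tl0D, c0y0tl0P, c0y0tl0Q⟩
noncomputable def c0y0tl1Dd : ℕ := nat_lit 0x1c6e72d53ce34c200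
noncomputable def c0y0tl1D (u : ℕ) : ℕ := Nat.land (Nat.shiftRight c0y0tl1Dd (Nat.mul u (nat_lit 6))) (nat_lit 63)
noncomputable def c0y0tl1Pd : ℕ := nat_lit 0x693424d61102
noncomputable def c0y0tl1P (u : ℕ) : ℕ := Nat.land (Nat.shiftRight c0y0tl1Pd (Nat.mul u (nat_lit 5))) (nat_lit 31)
noncomputable def c0y0tl1Qd : ℕ := nat_lit 0x506004300810702900a
noncomputable def c0y0tl1Q (u : ℕ) : ℕ := Nat.land (Nat.shiftRight c0y0tl1Qd (Nat.mul u (nat_lit 4))) (nat_lit 15)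
noncomputable def c0y0tl1 : H16.Lev := ⟨11, 9, c0y0tl1D, c0y0tl1P, c0y0tl1Q⟩
noncomputable def c0y0tl2Dd : ℕ := nat_lit 0x6a76cd2c61440c0
noncomputable def c0y0tl2D (u : ℕ) : ℕ := Nat.land (Nat.shiftRight c0y0tl2Dd (Nat.mul u (nat_lit 6))) (nat_lit 63)
noncomputable def c0y0tl2Pd : ℕ := nat_lit 0x36c98932204
noncomputable def c0y0tl2P (u : ℕ) : ℕ := Nat.land (Nat.shiftRight c0y0tl2Pd (Nat.mul u (nat_lit 5))) (nat_lit 31)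
noncomputable def c0y0tl2Qd : ℕ := nat_lit 0x6010075004203008009
noncomputable def c0y0tl2Q (u : ℕ) : ℕ := Nat.land (Nat.shiftRight c0y0tl2Qd (Nat.mul u (nat_lit 4))) (nat_lit 15)
noncomputable def c0y0tl2 : H16.Lev := ⟨10, 8, c0y0tl2D, c0y0tl2P, c0y0tl2Q⟩
noncomputable def c0y0tl3Dd : ℕ := nat_lit 0xc79845320
noncomputable def c0y0tl3D (u : ℕ) : ℕ := Nat.land (Nat.shiftRight c0y0tl3Dd (Nat.mul u (nat_lit 4))) (nat_lit 15)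
noncomputable def c0y0tl3Pd : ℕ := nat_lit 0x64a20090d8d
noncomputable def c0y0tl3P (u : ℕ) : ℕ := Nat.land (Nat.shiftRight c0y0tl3Pd (Nat.mul u (nat_lit 5))) (nat_lit 31)
noncomputable def c0y0tl3Qd : ℕ := nat_lit 0x3050001007608002004
noncomputable def c0y0tl3Q (u : ℕ) : ℕ := Nat.land (Nat.shiftRight c0y0tl3Qd (Nat.mul u (nat_lit 4))) (nat_lit 15)
noncomputable def c0y0tl3 : H16.Lev := ⟨9, 3, c0y0tl3D, c0y0tl3P, c0y0tl3Q⟩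
noncomputable def c0y0tl4Dd : ℕ := nat_lit 0xfa3440
noncomputable def c0y0tl4D (u : ℕ) : ℕ := Nat.land (Nat.shiftRight c0y0tl4Dd (Nat.mul u (nat_lit 3))) (nat_lit 7)
noncomputable def c0y0tl4Pd : ℕ := nat_lit 0xd2664112
noncomputable def c0y0tl4P (u : ℕ) : ℕ := Nat.land (Nat.shiftRight c0y0tl4Pd (Nat.mul u (nat_lit 5))) (nat_lit 31)
noncomputable def c0y0tl4Qd : ℕ := nat_lit 0x2003029100c07
noncomputable def c0y0tl4Q (u : ℕ) : ℕ := Nat.land (Nat.shiftRight c0y0tl4Qd (Nat.mul u (nat_lit 3))) (nat_lit 7)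
noncomputable def c0y0tl4 : H16.Lev := ⟨8, 2, c0y0tl4D, c0y0tl4P, c0y0tl4Q⟩
noncomputable def c0y0ce_W : List (List ℕ) := [[nat_lit 3, nat_lit 5, nat_lit 6, nat_lit 2],
  [nat_lit 1, nat_lit 6, nat_lit 0, nat_lit 7, nat_lit 4, nat_lit 3, nat_lit 4]]
noncomputable def c0y0ce_P : ℕ → ℕ → ℕ := wdsP H15.MM12.P c0y0ce_W
noncomputable def c0y0cc0Dd : ℕ := nat_lit 0x3d640
noncomputable def c0y0cc0D (u : ℕ) : ℕ := Nat.land (Nat.shiftRight c0y0cc0Dd (Nat.mul u (nat_lit 3))) (nat_lit 7)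
noncomputable def c0y0cc0Pd : ℕ := nat_lit 0x184909a1
noncomputable def c0y0cc0P (u : ℕ) : ℕ := Nat.land (Nat.shiftRight c0y0cc0Pd (Nat.mul u (nat_lit 5))) (nat_lit 31)
noncomputable def c0y0cc0Qd : ℕ := nat_lit 0xc000d000004080
noncomputable def c0y0cc0Q (u : ℕ) : ℕ := Nat.land (Nat.shiftRight c0y0cc0Qd (Nat.mul u (nat_lit 3))) (nat_lit 7)
noncomputable def c0y0cc0 : H16.Lev := ⟨6, 2, c0y0cc0D, c0y0cc0P, c0y0cc0Q⟩
noncomputable def c0y0tn0Fd : ℕ := nat_lit 0x74a200008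
noncomputable def c0y0tn0F (u : ℕ) : ℕ := Nat.land (Nat.shiftRight c0y0tn0Fd (Nat.mul u (nat_lit 3))) (nat_lit 7)
noncomputable def c0y0tn0 : Nd := ⟨c0y0tn0F, (nat_lit 2), (nat_lit 2), [[nat_lit 0, nat_lit 0],
  [nat_lit 0, nat_lit 0, nat_lit 0]], [((nat_lit 0), [])], []⟩
noncomputable def c1ax_W : List (List ℕ) := [[nat_lit 7, nat_lit 5, nat_lit 3, nat_lit 6]]
noncomputable def c1ax_P : ℕ → ℕ → ℕ := wdsP H15.MM12.P c1ax_W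
noncomputable def c1ath_W : List (List ℕ) := [[nat_lit 0, nat_lit 5, nat_lit 1],
  [nat_lit 1, nat_lit 3, nat_lit 5],
  [nat_lit 1, nat_lit 2, nat_lit 5, nat_lit 2],
  [nat_lit 0],
  [nat_lit 1],
  [nat_lit 2],
  [nat_lit 3],
  [nat_lit 5],
  [nat_lit 6],
  [nat_lit 4],
  [nat_lit 7]]
noncomputable def c1ath_P : ℕ → ℕ → ℕ := wdsP H15.MM12.P c1ath_W
noncomputable def c1atl0Dd : ℕ := nat_lit 0xc0b5218385cd163250500
noncomputable def c1atl0D (u : ℕ) : ℕ := Nat.land (Nat.shiftRight c1atl0Dd (Nat.mul u (nat_lit 7))) (nat_lit 127)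
noncomputable def c1atl0Pd : ℕ := nat_lit 0x88d0611a892460
noncomputable def c1atl0P (u : ℕ) : ℕ := Nat.land (Nat.shiftRight c1atl0Pd (Nat.mul u (nat_lit 5))) (nat_lit 31)
noncomputable def c1atl0Qd : ℕ := nat_lit 0x3080057002409061ab0
noncomputable def c1atl0Q (u : ℕ) : ℕ := Nat.land (Nat.shiftRight c1atl0Qd (Nat.mul u (nat_lit 4))) (nat_lit 15)
noncomputable def c1atl0 : H16.Lev := ⟨12, 11, c1atl0D, c1atl0P, c1atl0Q⟩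
noncomputable def c1atl1Dd : ℕ := nat_lit 0x138f97184058e1434480
noncomputable def c1atl1D (u : ℕ) : ℕ := Nat.land (Nat.shiftRight c1atl1Dd (Nat.mul u (nat_lit 7))) (nat_lit 127)
noncomputable def c1atl1Pd : ℕ := nat_lit 0x4468308d44923
noncomputable def c1atl1P (u : ℕ) : ℕ := Nat.land (Nat.shiftRight c1atl1Pd (Nat.mul u (nat_lit 5))) (nat_lit 31)
noncomputable def c1atl1Qd : ℕ := nat_lit 0x20700460013080509a0
noncomputable def c1atl1Q (u : ℕ) : ℕ := Nat.land (Nat.shiftRight c1atl1Qd (Nat.mul u (nat_lit 4))) (nat_lit 15)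
noncomputable def c1atl1 : H16.Lev := ⟨11, 10, c1atl1D, c1atl1P, c1atl1Q⟩
noncomputable def c1atl2Dd : ℕ := nat_lit 0x91e2ce28d24c200
noncomputable def c1atl2D (u : ℕ) : ℕ := Nat.land (Nat.shiftRight c1atl2Dd (Nat.mul u (nat_lit 6))) (nat_lit 63)
noncomputable def c1atl2Pd : ℕ := nat_lit 0x49448c46b201
noncomputable def c1atl2P (u : ℕ) : ℕ := Nat.land (Nat.shiftRight c1atl2Pd (Nat.mul u (nat_lit 5))) (nat_lit 31)
noncomputable def c1atl2Qd : ℕ := nat_lit 0x6010032008705040900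
noncomputable def c1atl2Q (u : ℕ) : ℕ := Nat.land (Nat.shiftRight c1atl2Qd (Nat.mul u (nat_lit 4))) (nat_lit 15)
noncomputable def c1atl2 : H16.Lev := ⟨10, 9, c1atl2D, c1atl2P, c1atl2Q⟩
noncomputable def c1atl3Dd : ℕ := nat_lit 0x1b4ace629060
noncomputable def c1atl3D (u : ℕ) : ℕ := Nat.land (Nat.shiftRight c1atl3Dd (Nat.mul u (nat_lit 5))) (nat_lit 31)
noncomputable def c1atl3Pd : ℕ := nat_lit 0x12111a64c10c
noncomputable def c1atl3P (u : ℕ) : ℕ := Nat.land (Nat.shiftRight c1atl3Pd (Nat.mul u (nat_lit 5))) (nat_lit 31)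
noncomputable def c1atl3Qd : ℕ := nat_lit 0x8020050003104060700
noncomputable def c1atl3Q (u : ℕ) : ℕ := Nat.land (Nat.shiftRight c1atl3Qd (Nat.mul u (nat_lit 4))) (nat_lit 15)
noncomputable def c1atl3 : H16.Lev := ⟨9, 8, c1atl3D, c1atl3P, c1atl3Q⟩
noncomputable def c1atl4Dd : ℕ := nat_lit 0xa88
noncomputable def c1atl4D (u : ℕ) : ℕ := Nat.land (Nat.shiftRight c1atl4Dd (Nat.mul u (nat_lit 3))) (nat_lit 7)
noncomputable def c1atl4Pd : ℕ := nat_lit 0xadecf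
noncomputable def c1atl4P (u : ℕ) : ℕ := Nat.land (Nat.shiftRight c1atl4Pd (Nat.mul u (nat_lit 5))) (nat_lit 31)
noncomputable def c1atl4Qd : ℕ := nat_lit 0x9c0000000000
noncomputable def c1atl4Q (u : ℕ) : ℕ := Nat.land (Nat.shiftRight c1atl4Qd (Nat.mul u (nat_lit 2))) (nat_lit 3)
noncomputable def c1atl4 : H16.Lev := ⟨4, 3, c1atl4D, c1atl4P, c1atl4Q⟩
noncomputable def c1atl5Dd : ℕ := nat_lit 0
noncomputable def c1atl5D (u : ℕ) : ℕ := Nat.land (Nat.shiftRight c1atl5Dd (Nat.mul u (nat_lit 1))) (nat_lit 1)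
noncomputable def c1atl5Pd : ℕ := nat_lit 0x22
noncomputable def c1atl5P (u : ℕ) : ℕ := Nat.land (Nat.shiftRight c1atl5Pd (Nat.mul u (nat_lit 3))) (nat_lit 7)
noncomputable def c1atl5Qd : ℕ := nat_lit 0x10
noncomputable def c1atl5Q (u : ℕ) : ℕ := Nat.land (Nat.shiftRight c1atl5Qd (Nat.mul u (nat_lit 1))) (nat_lit 1)
noncomputable def c1atl5 : H16.Lev := ⟨2, 1, c1atl5D, c1atl5P, c1atl5Q⟩
noncomputable def c1ace_W : List (List ℕ) := [[nat_lit 0, nat_lit 5, nat_lit 1],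
  [nat_lit 3, nat_lit 5, nat_lit 1, nat_lit 3],
  [nat_lit 1, nat_lit 5, nat_lit 3, nat_lit 6],
  [nat_lit 4, nat_lit 0, nat_lit 5, nat_lit 0, nat_lit 6, nat_lit 7, nat_lit 4, nat_lit 2, nat_lit 7]]
noncomputable def c1ace_P : ℕ → ℕ → ℕ := wdsP H15.MM12.P c1ace_W
noncomputable def c1acc5Dd : ℕ := nat_lit 0
noncomputable def c1acc5D (u : ℕ) : ℕ := Nat.land (Nat.shiftRight c1acc5Dd (Nat.mul u (nat_lit 1))) (nat_lit 1)
noncomputable def c1acc5Pd : ℕ := nat_lit 0x22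
noncomputable def c1acc5P (u : ℕ) : ℕ := Nat.land (Nat.shiftRight c1acc5Pd (Nat.mul u (nat_lit 3))) (nat_lit 7)
noncomputable def c1acc5Qd : ℕ := nat_lit 0x10
noncomputable def c1acc5Q (u : ℕ) : ℕ := Nat.land (Nat.shiftRight c1acc5Qd (Nat.mul u (nat_lit 1))) (nat_lit 1)
noncomputable def c1acc5 : H16.Lev := ⟨2, 1, c1acc5D, c1acc5P, c1acc5Q⟩
noncomputable def c1atn0Fd : ℕ := nat_lit 0
noncomputable def c1atn0F (u : ℕ) : ℕ := Nat.land (Nat.shiftRight c1atn0Fd (Nat.mul u (nat_lit 1))) (nat_lit 1)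
noncomputable def c1atn0 : Nd := ⟨c1atn0F, (nat_lit 2), (nat_lit 1), [], [((nat_lit 0), [])], []⟩
noncomputable def c1acc4Dd : ℕ := nat_lit 2
noncomputable def c1acc4D (u : ℕ) : ℕ := Nat.land (Nat.shiftRight c1acc4Dd (Nat.mul u (nat_lit 1))) (nat_lit 1)
noncomputable def c1acc4Pd : ℕ := nat_lit 0x2ef
noncomputable def c1acc4P (u : ℕ) : ℕ := Nat.land (Nat.shiftRight c1acc4Pd (Nat.mul u (nat_lit 5))) (nat_lit 31)
noncomputable def c1acc4Qd : ℕ := nat_lit 0x800000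
noncomputable def c1acc4Q (u : ℕ) : ℕ := Nat.land (Nat.shiftRight c1acc4Qd (Nat.mul u (nat_lit 1))) (nat_lit 1)
noncomputable def c1acc4 : H16.Lev := ⟨2, 2, c1acc4D, c1acc4P, c1acc4Q⟩
noncomputable def c1atn1y22_W : List (List ℕ) := [[nat_lit 1, nat_lit 5, nat_lit 2, nat_lit 6, nat_lit 1, nat_lit 7]]
noncomputable def c1atn1y22_P : ℕ → ℕ → ℕ := wdsP H15.MM12.P c1atn1y22_W
noncomputable def c1atr2k_W : List (List ℕ) := [[nat_lit 0, nat_lit 5, nat_lit 1],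
  []]
noncomputable def c1atr2k_P : ℕ → ℕ → ℕ := wdsP H15.MM12.P c1atr2k_W
noncomputable def c1atn2Fd : ℕ := nat_lit 9
noncomputable def c1atn2F (u : ℕ) : ℕ := Nat.land (Nat.shiftRight c1atn2Fd (Nat.mul u (nat_lit 2))) (nat_lit 3)
noncomputable def c1atn2 : Nd := ⟨c1atn2F, (nat_lit 2), (nat_lit 2), [], [((nat_lit 0), []), ((nat_lit 1), [nat_lit 0])], []⟩
noncomputable def c1atn1Fd : ℕ := nat_lit 0xc4
noncomputable def c1atn1F (u : ℕ) : ℕ := Nat.land (Nat.shiftRight c1atn1Fd (Nat.mul u (nat_lit 2))) (nat_lit 3)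
noncomputable def c1atn1 : Nd := ⟨c1atn1F, (nat_lit 2), (nat_lit 2), [], [((nat_lit 0), [])], [((nat_lit 22), c1atn1y22_W)]⟩
noncomputable def c1acc2Dd : ℕ := nat_lit 0x78d0
noncomputable def c1acc2D (u : ℕ) : ℕ := Nat.land (Nat.shiftRight c1acc2Dd (Nat.mul u (nat_lit 3))) (nat_lit 7)
noncomputable def c1acc2Pd : ℕ := nat_lit 0x84b601
noncomputable def c1acc2P (u : ℕ) : ℕ := Nat.land (Nat.shiftRight c1acc2Pd (Nat.mul u (nat_lit 5))) (nat_lit 31)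
noncomputable def c1acc2Qd : ℕ := nat_lit 0x101001c000000
noncomputable def c1acc2Q (u : ℕ) : ℕ := Nat.land (Nat.shiftRight c1acc2Qd (Nat.mul u (nat_lit 3))) (nat_lit 7)
noncomputable def c1acc2 : H16.Lev := ⟨5, 3, c1acc2D, c1acc2P, c1acc2Q⟩
noncomputable def c1atn3y12_W : List (List ℕ) := [[nat_lit 1, nat_lit 5, nat_lit 1, nat_lit 6, nat_lit 1, nat_lit 7]]
noncomputable def c1atn3y12_P : ℕ → ℕ → ℕ := wdsP H15.MM12.P c1atn3y12_W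
noncomputable def c1atr4k_W : List (List ℕ) := [[nat_lit 0, nat_lit 5, nat_lit 1],
  [nat_lit 1, nat_lit 1, nat_lit 5, nat_lit 3]]
noncomputable def c1atr4k_P : ℕ → ℕ → ℕ := wdsP H15.MM12.P c1atr4k_W
noncomputable def c1atn4Fd : ℕ := nat_lit 0xf5
noncomputable def c1atn4F (u : ℕ) : ℕ := Nat.land (Nat.shiftRight c1atn4Fd (Nat.mul u (nat_lit 2))) (nat_lit 3)
noncomputable def c1atn4 : Nd := ⟨c1atn4F, (nat_lit 2), (nat_lit 2), [], [((nat_lit 0), []), ((nat_lit 1), [nat_lit 0])], []⟩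
noncomputable def c1atn3Fd : ℕ := nat_lit 0x5007a60100
noncomputable def c1atn3F (u : ℕ) : ℕ := Nat.land (Nat.shiftRight c1atn3Fd (Nat.mul u (nat_lit 4))) (nat_lit 15)
noncomputable def c1atn3 : Nd := ⟨c1atn3F, (nat_lit 3), (nat_lit 3), [], [((nat_lit 0), []), ((nat_lit 0), [nat_lit 0])], [((nat_lit 12), c1atn3y12_W)]⟩
noncomputable def c1acc0Dd : ℕ := nat_lit 0xdceb492ce929060
noncomputable def c1acc0D (u : ℕ) : ℕ := Nat.land (Nat.shiftRight c1acc0Dd (Nat.mul u (nat_lit 5))) (nat_lit 31)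
noncomputable def c1acc0Pd : ℕ := nat_lit 0x1a12d6060221a40
noncomputable def c1acc0P (u : ℕ) : ℕ := Nat.land (Nat.shiftRight c1acc0Pd (Nat.mul u (nat_lit 5))) (nat_lit 31)
noncomputable def c1acc0Qd : ℕ := nat_lit 0x1050087009a0203b460
noncomputable def c1acc0Q (u : ℕ) : ℕ := Nat.land (Nat.shiftRight c1acc0Qd (Nat.mul u (nat_lit 4))) (nat_lit 15)
noncomputable def c1acc0 : H16.Lev := ⟨12, 4, c1acc0D, c1acc0P, c1acc0Q⟩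
noncomputable def c1atn5Fd : ℕ := nat_lit 0
noncomputable def c1atn5F (u : ℕ) : ℕ := Nat.land (Nat.shiftRight c1atn5Fd (Nat.mul u (nat_lit 1))) (nat_lit 1)
noncomputable def c1atn5 : Nd := ⟨c1atn5F, (nat_lit 4), (nat_lit 4), [], [((nat_lit 0), [])], []⟩
noncomputable def c1w0_W : List (List ℕ) := [[nat_lit 7, nat_lit 5, nat_lit 3, nat_lit 6],
  [nat_lit 1, nat_lit 2, nat_lit 5, nat_lit 6, nat_lit 3, nat_lit 7]]
noncomputable def c1w0_P : ℕ → ℕ → ℕ := wdsP H15.MM12.P c1w0_W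
noncomputable def c1y0x_W : List (List ℕ) := [[nat_lit 1, nat_lit 2, nat_lit 5, nat_lit 6, nat_lit 3, nat_lit 7]]
noncomputable def c1y0x_P : ℕ → ℕ → ℕ := wdsP H15.MM12.P c1y0x_W
noncomputable def c1y0th_W : List (List ℕ) := [[nat_lit 1, nat_lit 4, nat_lit 3, nat_lit 7, nat_lit 4, nat_lit 0, nat_lit 6, nat_lit 7],
  [nat_lit 1, nat_lit 3, nat_lit 6, nat_lit 1, nat_lit 1, nat_lit 5, nat_lit 7, nat_lit 4, nat_lit 0],
  [nat_lit 4, nat_lit 2, nat_lit 4, nat_lit 2, nat_lit 5, nat_lit 0, nat_lit 7, nat_lit 4, nat_lit 7],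
  [nat_lit 1, nat_lit 4, nat_lit 0, nat_lit 5, nat_lit 1],
  [nat_lit 1, nat_lit 1, nat_lit 5, nat_lit 1, nat_lit 2],
  [nat_lit 0],
  [nat_lit 1],
  [nat_lit 2],
  [nat_lit 3],
  [nat_lit 4],
  [nat_lit 5],
  [nat_lit 6],
  [nat_lit 7]]
noncomputable def c1y0th_P : ℕ → ℕ → ℕ := wdsP H15.MM12.P c1y0th_W
noncomputable def c1y0tl0Dd : ℕ := nat_lit 0x9dcb9b91551348c2c0
noncomputable def c1y0tl0D (u : ℕ) : ℕ := Nat.land (Nat.shiftRight c1y0tl0Dd (Nat.mul u (nat_lit 6))) (nat_lit 63)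
noncomputable def c1y0tl0Pd : ℕ := nat_lit 0xd264364460a01
noncomputable def c1y0tl0P (u : ℕ) : ℕ := Nat.land (Nat.shiftRight c1y0tl0Pd (Nat.mul u (nat_lit 5))) (nat_lit 31)
noncomputable def c1y0tl0Qd : ℕ := nat_lit 0x501006300970804a20b
noncomputable def c1y0tl0Q (u : ℕ) : ℕ := Nat.land (Nat.shiftRight c1y0tl0Qd (Nat.mul u (nat_lit 4))) (nat_lit 15)
noncomputable def c1y0tl0 : H16.Lev := ⟨12, 13, c1y0tl0D, c1y0tl0P, c1y0tl0Q⟩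
noncomputable def c1y0tl1Dd : ℕ := nat_lit 0xd69f9924081c6140
noncomputable def c1y0tl1D (u : ℕ) : ℕ := Nat.land (Nat.shiftRight c1y0tl1Dd (Nat.mul u (nat_lit 6))) (nat_lit 63)
noncomputable def c1y0tl1Pd : ℕ := nat_lit 0x43231b0424d2
noncomputable def c1y0tl1P (u : ℕ) : ℕ := Nat.land (Nat.shiftRight c1y0tl1Pd (Nat.mul u (nat_lit 5))) (nat_lit 31)
noncomputable def c1y0tl1Qd : ℕ := nat_lit 0x4005600230107890a
noncomputable def c1y0tl1Q (u : ℕ) : ℕ := Nat.land (Nat.shiftRight c1y0tl1Qd (Nat.mul u (nat_lit 4))) (nat_lit 15)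
noncomputable def c1y0tl1 : H16.Lev := ⟨11, 11, c1y0tl1D, c1y0tl1P, c1y0tl1Q⟩
noncomputable def c1y0tl2Dd : ℕ := nat_lit 0x98c28d1c6148100
noncomputable def c1y0tl2D (u : ℕ) : ℕ := Nat.land (Nat.shiftRight c1y0tl2Dd (Nat.mul u (nat_lit 6))) (nat_lit 63)
noncomputable def c1y0tl2Pd : ℕ := nat_lit 0x8c320401a5b0
noncomputable def c1y0tl2P (u : ℕ) : ℕ := Nat.land (Nat.shiftRight c1y0tl2Pd (Nat.mul u (nat_lit 5))) (nat_lit 31)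
noncomputable def c1y0tl2Qd : ℕ := nat_lit 0x18002607093504
noncomputable def c1y0tl2Q (u : ℕ) : ℕ := Nat.land (Nat.shiftRight c1y0tl2Qd (Nat.mul u (nat_lit 4))) (nat_lit 15)
noncomputable def c1y0tl2 : H16.Lev := ⟨10, 5, c1y0tl2D, c1y0tl2P, c1y0tl2Q⟩
noncomputable def c1y0tl3Dd : ℕ := nat_lit 0xd98654730
noncomputable def c1y0tl3D (u : ℕ) : ℕ := Nat.land (Nat.shiftRight c1y0tl3Dd (Nat.mul u (nat_lit 4))) (nat_lit 15)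
noncomputable def c1y0tl3Pd : ℕ := nat_lit 0x9d0368c24
noncomputable def c1y0tl3P (u : ℕ) : ℕ := Nat.land (Nat.shiftRight c1y0tl3Pd (Nat.mul u (nat_lit 4))) (nat_lit 15)
noncomputable def c1y0tl3Qd : ℕ := nat_lit 0x72008304005106
noncomputable def c1y0tl3Q (u : ℕ) : ℕ := Nat.land (Nat.shiftRight c1y0tl3Qd (Nat.mul u (nat_lit 4))) (nat_lit 15)
noncomputable def c1y0tl3 : H16.Lev := ⟨9, 4, c1y0tl3D, c1y0tl3P, c1y0tl3Q⟩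
noncomputable def c1y0tl4Dd : ℕ := nat_lit 0xa8542100
noncomputable def c1y0tl4D (u : ℕ) : ℕ := Nat.land (Nat.shiftRight c1y0tl4Dd (Nat.mul u (nat_lit 4))) (nat_lit 15)
noncomputable def c1y0tl4Pd : ℕ := nat_lit 0xc36d928
noncomputable def c1y0tl4P (u : ℕ) : ℕ := Nat.land (Nat.shiftRight c1y0tl4Pd (Nat.mul u (nat_lit 4))) (nat_lit 15)
noncomputable def c1y0tl4Qd : ℕ := nat_lit 0x1e010100a47
noncomputable def c1y0tl4Q (u : ℕ) : ℕ := Nat.land (Nat.shiftRight c1y0tl4Qd (Nat.mul u (nat_lit 3))) (nat_lit 7)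
noncomputable def c1y0tl4 : H16.Lev := ⟨8, 3, c1y0tl4D, c1y0tl4P, c1y0tl4Q⟩
noncomputable def c1y0ce_W : List (List ℕ) := [[nat_lit 6, nat_lit 3, nat_lit 5, nat_lit 0],
  [nat_lit 0, nat_lit 5, nat_lit 1, nat_lit 1, nat_lit 7]]
noncomputable def c1y0ce_P : ℕ → ℕ → ℕ := wdsP H15.MM12.P c1y0ce_W
noncomputable def c1y0cc0Dd : ℕ := nat_lit 0xfb97532100
noncomputable def c1y0cc0D (u : ℕ) : ℕ := Nat.land (Nat.shiftRight c1y0cc0Dd (Nat.mul u (nat_lit 4))) (nat_lit 15)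
noncomputable def c1y0cc0Pd : ℕ := nat_lit 0x2466892c41201
noncomputable def c1y0cc0P (u : ℕ) : ℕ := Nat.land (Nat.shiftRight c1y0cc0Pd (Nat.mul u (nat_lit 5))) (nat_lit 31)
noncomputable def c1y0cc0Qd : ℕ := nat_lit 0x9010074005308020600
noncomputable def c1y0cc0Q (u : ℕ) : ℕ := Nat.land (Nat.shiftRight c1y0cc0Qd (Nat.mul u (nat_lit 4))) (nat_lit 15)
noncomputable def c1y0cc0 : H16.Lev := ⟨10, 2, c1y0cc0D, c1y0cc0P, c1y0cc0Q⟩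
noncomputable def c1y0tn0Fd : ℕ := nat_lit 0xd00000
noncomputable def c1y0tn0F (u : ℕ) : ℕ := Nat.land (Nat.shiftRight c1y0tn0Fd (Nat.mul u (nat_lit 2))) (nat_lit 3)
noncomputable def c1y0tn0 : Nd := ⟨c1y0tn0F, (nat_lit 2), (nat_lit 2), [[nat_lit 0, nat_lit 0]], [((nat_lit 0), [])], []⟩

theorem md_b : ltAll 24 H15.MM12.B = 0 ∧ 95040 ≠ 0 := by decide +kernel
theorem p2t_lt : H16.allL (ltAll 8) p2t_W = true := by decide +kernel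
theorem p2_r_a : allZ2 (resEnt p2t_P p2P p2E p2I (nat_lit 24) (nat_lit 12)) (nat_lit 6) (nat_lit 12) = true := by decide +kernel
theorem p2_b : neL H15.MM12.B (p2B.map p2E) = 0 ∧ ltAll 12 p2B = 0 := by decide +kernel
theorem p2_p : allZ2 (pcEnt p2P (nat_lit 2) p2B p2C) 6 6 = true := by decide +kernel
theorem p2_e : H16.allL (ltAll 6) p2e = true := by decide +kernel
theorem p2l0_e_0 : allZ (dent p2l0 (wdsP p2P p2e) (nat_lit 12)) (nat_lit 0) (nat_lit 3) = true := by decide +kernel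
theorem p2l0_h : 0 < p2l0.n ∧ 0 < p2l0.K ∧ p2l0.Pt 0 < 12 ∧ p2l0.Q (p2l0.Pt 0) = 0 := by decide +kernel
theorem p2l1_e_0 : allZ (dent p2l1 (wdsP p2P p2e) (nat_lit 12)) (nat_lit 0) (nat_lit 1) = true := by decide +kernel
theorem p2l1_h : 0 < p2l1.n ∧ 0 < p2l1.K ∧ p2l1.Pt 0 < 12 ∧ p2l1.Q (p2l1.Pt 0) = 0 := by decide +kernel
theorem p2l2_e_0 : allZ (dent p2l2 (wdsP p2P p2e) (nat_lit 12)) (nat_lit 0) (nat_lit 7) = true := by decide +kernel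
theorem p2l2_h : 0 < p2l2.n ∧ 0 < p2l2.K ∧ p2l2.Pt 0 < 12 ∧ p2l2.Q (p2l2.Pt 0) = 0 := by decide +kernel
theorem p2_f2 : (Nat.ble p2l2.K 55 && Nat.ble (topK []) p2l2.K && fixLetters (wdsP p2P p2e) (topK []) (p2l2.Pt 0)) = true := by decide +kernel
theorem p2_f1 : (Nat.ble p2l1.K 55 && Nat.ble (topK [p2l2]) p2l1.K && fixLetters (wdsP p2P p2e) (topK [p2l2]) (p2l1.Pt 0)) = true := by decide +kernel
theorem p2_f0 : (Nat.ble p2l0.K 55 && Nat.ble (topK [p2l1, p2l2]) p2l0.K && fixLetters (wdsP p2P p2e) (topK [p2l1, p2l2]) (p2l0.Pt 0)) = true := by decide +kernel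
theorem p2_c : chainCard [p2l0, p2l1, p2l2] = 2 ^ 6 ∧ ¬ 2 ^ (6 + 1) ∣ 95040 := by decide +kernel
theorem covr_lt : H16.allL (ltAll 8) covr_W = true := by decide +kernel
theorem cov_c0 : (Nat.ble 6 6 && Nat.beq (ltAll 6 []) 0 && Nat.beq (covT0.chk H15.MM12.P p2P covr_P p2E 8 6 2 2 2 p2B 6 [] 0) 0) = true := by decide +kernel
theorem c0ax_lt : H16.allL (ltAll 8) c0ax_W = true := by decide +kernel
theorem c0ath_lt : H16.allL (ltAll 8) c0ath_W = true := by decide +kernel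
theorem c0atl0_e_0 : allZ (dent c0atl0 c0ath_P (nat_lit 24)) (nat_lit 0) (nat_lit 11) = true := by decide +kernel
theorem c0atl0_h : 0 < c0atl0.n ∧ 0 < c0atl0.K ∧ c0atl0.Pt 0 < 24 ∧ c0atl0.Q (c0atl0.Pt 0) = 0 := by decide +kernel
theorem c0atl1_e_0 : allZ (dent c0atl1 c0ath_P (nat_lit 24)) (nat_lit 0) (nat_lit 10) = true := by decide +kernel
theorem c0atl1_h : 0 < c0atl1.n ∧ 0 < c0atl1.K ∧ c0atl1.Pt 0 < 24 ∧ c0atl1.Q (c0atl1.Pt 0) = 0 := by decide +kernel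
theorem c0atl2_e_0 : allZ (dent c0atl2 c0ath_P (nat_lit 24)) (nat_lit 0) (nat_lit 9) = true := by decide +kernel
theorem c0atl2_h : 0 < c0atl2.n ∧ 0 < c0atl2.K ∧ c0atl2.Pt 0 < 24 ∧ c0atl2.Q (c0atl2.Pt 0) = 0 := by decide +kernel
theorem c0atl3_e_0 : allZ (dent c0atl3 c0ath_P (nat_lit 24)) (nat_lit 0) (nat_lit 8) = true := by decide +kernel
theorem c0atl3_h : 0 < c0atl3.n ∧ 0 < c0atl3.K ∧ c0atl3.Pt 0 < 24 ∧ c0atl3.Q (c0atl3.Pt 0) = 0 := by decide +kernel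
theorem c0atl4_e_0 : allZ (dent c0atl4 c0ath_P (nat_lit 24)) (nat_lit 0) (nat_lit 3) = true := by decide +kernel
theorem c0atl4_h : 0 < c0atl4.n ∧ 0 < c0atl4.K ∧ c0atl4.Pt 0 < 24 ∧ c0atl4.Q (c0atl4.Pt 0) = 0 := by decide +kernel
theorem c0atl5_e_0 : allZ (dent c0atl5 c0ath_P (nat_lit 24)) (nat_lit 0) (nat_lit 1) = true := by decide +kernel
theorem c0atl5_h : 0 < c0atl5.n ∧ 0 < c0atl5.K ∧ c0atl5.Pt 0 < 24 ∧ c0atl5.Q (c0atl5.Pt 0) = 0 := by decide +kernel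
theorem c0at_f5 : (Nat.ble c0atl5.K 13 && Nat.ble (topK []) c0atl5.K && fixLetters c0ath_P (topK []) (c0atl5.Pt 0)) = true := by decide +kernel
theorem c0at_f4 : (Nat.ble c0atl4.K 13 && Nat.ble (topK [c0atl5]) c0atl4.K && fixLetters c0ath_P (topK [c0atl5]) (c0atl4.Pt 0)) = true := by decide +kernel
theorem c0at_f3 : (Nat.ble c0atl3.K 13 && Nat.ble (topK [c0atl4, c0atl5]) c0atl3.K && fixLetters c0ath_P (topK [c0atl4, c0atl5]) (c0atl3.Pt 0)) = true := by decide +kernel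
theorem c0at_f2 : (Nat.ble c0atl2.K 13 && Nat.ble (topK [c0atl3, c0atl4, c0atl5]) c0atl2.K && fixLetters c0ath_P (topK [c0atl3, c0atl4, c0atl5]) (c0atl2.Pt 0)) = true := by decide +kernel
theorem c0at_f1 : (Nat.ble c0atl1.K 13 && Nat.ble (topK [c0atl2, c0atl3, c0atl4, c0atl5]) c0atl1.K && fixLetters c0ath_P (topK [c0atl2, c0atl3, c0atl4, c0atl5]) (c0atl1.Pt 0)) = true := by decide +kernel
theorem c0at_f0 : (Nat.ble c0atl0.K 13 && Nat.ble (topK [c0atl1, c0atl2, c0atl3, c0atl4, c0atl5]) c0atl0.K && fixLetters c0ath_P (topK [c0atl1, c0atl2, c0atl3, c0atl4, c0atl5]) (c0atl0.Pt 0)) = true := by decide +kernel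
theorem c0at_c : chainCard [c0atl0, c0atl1, c0atl2, c0atl3, c0atl4, c0atl5] = 95040 := by decide +kernel
theorem c0ace_lt : H16.allL (ltAll 8) c0ace_W = true := by decide +kernel
theorem c0acc5_e_0 : allZ (dent c0acc5 c0ace_P (nat_lit 24)) (nat_lit 0) (nat_lit 1) = true := by decide +kernel
theorem c0acc5_h : 0 < c0acc5.n ∧ 0 < c0acc5.K ∧ c0acc5.Pt 0 < 24 ∧ c0acc5.Q (c0acc5.Pt 0) = 0 := by decide +kernel
theorem c0atn0_0 : (Nat.ble c0atl5.K 13 && Nat.beq (ltAll 24 [c0atl4.Pt 0, c0atl3.Pt 0, c0atl2.Pt 0, c0atl1.Pt 0, c0atl0.Pt 0]) 0 && kChk c0ace_P c0ax_P c0atn0.Kn 1 H15.MM12.B [c0atl4.Pt 0, c0atl3.Pt 0, c0atl2.Pt 0, c0atl1.Pt 0, c0atl0.Pt 0] && H16.allL (ltAll 1) c0atn0.pre && planOK c0ath_P c0ax_P 1 (c0atl5.Pt 0) c0atn0.plan [c0atl5]) = true := by decide +kernel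
theorem c0atn0_1_0 : allZ (c0atn0.ent H15.MM12.P c0ath_P c0ax_P c0ax_P c0ace_P (nat_lit 8) (nat_lit 1) H15.MM12.B c0atl5 [] (memO c0acc5)) (nat_lit 0) (nat_lit 2) = true := by decide +kernel
theorem c0ac_f5 : (Nat.ble c0acc5.K 6 && Nat.ble (topK []) c0acc5.K && Nat.beq (c0acc5.Pt 0) (c0atl5.Pt 0) && Nat.beq (ltAll 24 [c0atl4.Pt 0, c0atl3.Pt 0, c0atl2.Pt 0, c0atl1.Pt 0, c0atl0.Pt 0]) 0 && kChk c0ace_P c0ax_P c0acc5.K 1 H15.MM12.B [c0atl4.Pt 0, c0atl3.Pt 0, c0atl2.Pt 0, c0atl1.Pt 0, c0atl0.Pt 0]) = true := by decide +kernel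
theorem c0acc4_e_0 : allZ (dent c0acc4 c0ace_P (nat_lit 24)) (nat_lit 0) (nat_lit 1) = true := by decide +kernel
theorem c0acc4_h : 0 < c0acc4.n ∧ 0 < c0acc4.K ∧ c0acc4.Pt 0 < 24 ∧ c0acc4.Q (c0acc4.Pt 0) = 0 := by decide +kernel
theorem c0atn1y23_lt : H16.allL (ltAll 8) c0atn1y23_W = true := by decide +kernel
theorem c0atr2k_lt : H16.allL (ltAll 8) c0atr2k_W = true := by decide +kernel
theorem c0atn2_0 : (Nat.ble c0atl5.K 13 && Nat.beq (ltAll 24 [c0atl4.Pt 0, c0atl3.Pt 0, c0atl2.Pt 0, c0atl1.Pt 0, c0atl0.Pt 0]) 0 && kChk c0atr2k_P c0atn1y23_P c0atn2.Kn 1 H15.MM12.B [c0atl4.Pt 0, c0atl3.Pt 0, c0atl2.Pt 0, c0atl1.Pt 0, c0atl0.Pt 0] && H16.allL (ltAll 1) c0atn2.pre && planOK c0ath_P c0ax_P 1 (c0atl5.Pt 0) c0atn2.plan [c0atl5]) = true := by decide +kernel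
theorem c0atn2_1_0 : allZ (c0atn2.ent H15.MM12.P c0ath_P c0ax_P c0atn1y23_P c0atr2k_P (nat_lit 8) (nat_lit 1) H15.MM12.B c0atl5 [] (fun _ => nat_lit 1)) (nat_lit 0) (nat_lit 2) = true := by decide +kernel
theorem c0atn1_0 : (Nat.ble c0atl4.K 13 && Nat.beq (ltAll 24 [c0atl3.Pt 0, c0atl2.Pt 0, c0atl1.Pt 0, c0atl0.Pt 0]) 0 && kChk c0ace_P c0ax_P c0atn1.Kn 1 H15.MM12.B [c0atl3.Pt 0, c0atl2.Pt 0, c0atl1.Pt 0, c0atl0.Pt 0] && H16.allL (ltAll 1) c0atn1.pre && planOK c0ath_P c0ax_P 1 (c0atl4.Pt 0) c0atn1.plan [c0atl4, c0atl5]) = true := by decide +kernel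
theorem c0atn1_1_0 : allZ (c0atn1.ent H15.MM12.P c0ath_P c0ax_P c0ax_P c0ace_P (nat_lit 8) (nat_lit 1) H15.MM12.B c0atl4 [c0atl5] (memO c0acc4)) (nat_lit 0) (nat_lit 4) = true := by decide +kernel
theorem c0ac_f4 : (Nat.ble c0acc4.K 6 && Nat.ble (topK [c0acc5]) c0acc4.K && Nat.beq (c0acc4.Pt 0) (c0atl4.Pt 0) && Nat.beq (ltAll 24 [c0atl3.Pt 0, c0atl2.Pt 0, c0atl1.Pt 0, c0atl0.Pt 0]) 0 && kChk c0ace_P c0ax_P c0acc4.K 1 H15.MM12.B [c0atl3.Pt 0, c0atl2.Pt 0, c0atl1.Pt 0, c0atl0.Pt 0]) = true := by decide +kernel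
theorem c0ac_f3 : (Nat.ble c0atl3.K 13 && Nat.blt (nat_lit 2) 24 && fixLetters c0ath_P c0atl3.K (nat_lit 2) && Nat.beq (ltAll 1 [nat_lit 0]) 0 && Nat.beq (apW c0ax_P [nat_lit 0] (nat_lit 2)) (c0atl3.Pt 0)) = true := by decide +kernel
theorem c0acc2_e_0 : allZ (dent c0acc2 c0ace_P (nat_lit 24)) (nat_lit 0) (nat_lit 5) = true := by decide +kernel
theorem c0acc2_h : 0 < c0acc2.n ∧ 0 < c0acc2.K ∧ c0acc2.Pt 0 < 24 ∧ c0acc2.Q (c0acc2.Pt 0) = 0 := by decide +kernel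
theorem c0atn3_0 : (Nat.ble c0atl2.K 13 && Nat.beq (ltAll 24 [c0atl1.Pt 0, c0atl0.Pt 0]) 0 && kChk c0ace_P c0ax_P c0atn3.Kn 1 H15.MM12.B [c0atl1.Pt 0, c0atl0.Pt 0] && H16.allL (ltAll 1) c0atn3.pre && planOK c0ath_P c0ax_P 1 (c0atl2.Pt 0) c0atn3.plan [c0atl2, c0atl3, c0atl4, c0atl5]) = true := by decide +kernel
theorem c0atn3_1_0 : allZ (c0atn3.ent H15.MM12.P c0ath_P c0ax_P c0ax_P c0ace_P (nat_lit 8) (nat_lit 1) H15.MM12.B c0atl2 [c0atl3, c0atl4, c0atl5] (memO c0acc2)) (nat_lit 0) (nat_lit 10) = true := by decide +kernel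
theorem c0ac_f2 : (Nat.ble c0acc2.K 6 && Nat.ble (topK [c0acc4, c0acc5]) c0acc2.K && Nat.beq (c0acc2.Pt 0) (c0atl2.Pt 0) && Nat.beq (ltAll 24 [c0atl1.Pt 0, c0atl0.Pt 0]) 0 && kChk c0ace_P c0ax_P c0acc2.K 1 H15.MM12.B [c0atl1.Pt 0, c0atl0.Pt 0]) = true := by decide +kernel
theorem c0ac_f1 : (Nat.ble c0atl1.K 13 && Nat.blt (nat_lit 1) 24 && fixLetters c0ath_P c0atl1.K (nat_lit 1) && Nat.beq (ltAll 1 [nat_lit 0]) 0 && Nat.beq (apW c0ax_P [nat_lit 0] (nat_lit 1)) (c0atl1.Pt 0)) = true := by decide +kernel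
theorem c0acc0_e_0 : allZ (dent c0acc0 c0ace_P (nat_lit 24)) (nat_lit 0) (nat_lit 7) = true := by decide +kernel
theorem c0acc0_h : 0 < c0acc0.n ∧ 0 < c0acc0.K ∧ c0acc0.Pt 0 < 24 ∧ c0acc0.Q (c0acc0.Pt 0) = 0 := by decide +kernel
theorem c0atn4_0 : (Nat.ble c0atl0.K 13 && Nat.beq (ltAll 24 []) 0 && kChk c0ace_P c0ax_P c0atn4.Kn 1 H15.MM12.B [] && H16.allL (ltAll 1) c0atn4.pre && planOK c0ath_P c0ax_P 1 (c0atl0.Pt 0) c0atn4.plan [c0atl0, c0atl1, c0atl2, c0atl3, c0atl4, c0atl5]) = true := by decide +kernel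
theorem c0atn4_1_0 : allZ (c0atn4.ent H15.MM12.P c0ath_P c0ax_P c0ax_P c0ace_P (nat_lit 8) (nat_lit 1) H15.MM12.B c0atl0 [c0atl1, c0atl2, c0atl3, c0atl4, c0atl5] (memO c0acc0)) (nat_lit 0) (nat_lit 12) = true := by decide +kernel
theorem c0ac_f0 : (Nat.ble c0acc0.K 6 && Nat.ble (topK [c0acc2, c0acc4, c0acc5]) c0acc0.K && Nat.beq (c0acc0.Pt 0) (c0atl0.Pt 0) && Nat.beq (ltAll 24 []) 0 && kChk c0ace_P c0ax_P c0acc0.K 1 H15.MM12.B []) = true := by decide +kernel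
theorem c0ac_c : chainCard [c0acc0, c0acc2, c0acc4, c0acc5] = 192 ∧ topK [c0acc0, c0acc2, c0acc4, c0acc5] = 6 := by decide +kernel
theorem c0w0_lt : H16.allL (ltAll 8) c0w0_W = true := by decide +kernel
theorem c0y0x_lt : H16.allL (ltAll 8) c0y0x_W = true := by decide +kernel
theorem c0y0th_lt : H16.allL (ltAll 8) c0y0th_W = true := by decide +kernel
theorem c0y0tl0_e_0 : allZ (dent c0y0tl0 c0y0th_P (nat_lit 24)) (nat_lit 0) (nat_lit 11) = true := by decide +kernel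
theorem c0y0tl0_h : 0 < c0y0tl0.n ∧ 0 < c0y0tl0.K ∧ c0y0tl0.Pt 0 < 24 ∧ c0y0tl0.Q (c0y0tl0.Pt 0) = 0 := by decide +kernel
theorem c0y0tl1_e_0 : allZ (dent c0y0tl1 c0y0th_P (nat_lit 24)) (nat_lit 0) (nat_lit 10) = true := by decide +kernel
theorem c0y0tl1_h : 0 < c0y0tl1.n ∧ 0 < c0y0tl1.K ∧ c0y0tl1.Pt 0 < 24 ∧ c0y0tl1.Q (c0y0tl1.Pt 0) = 0 := by decide +kernel
theorem c0y0tl2_e_0 : allZ (dent c0y0tl2 c0y0th_P (nat_lit 24)) (nat_lit 0) (nat_lit 9) = true := by decide +kernel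
theorem c0y0tl2_h : 0 < c0y0tl2.n ∧ 0 < c0y0tl2.K ∧ c0y0tl2.Pt 0 < 24 ∧ c0y0tl2.Q (c0y0tl2.Pt 0) = 0 := by decide +kernel
theorem c0y0tl3_e_0 : allZ (dent c0y0tl3 c0y0th_P (nat_lit 24)) (nat_lit 0) (nat_lit 8) = true := by decide +kernel
theorem c0y0tl3_h : 0 < c0y0tl3.n ∧ 0 < c0y0tl3.K ∧ c0y0tl3.Pt 0 < 24 ∧ c0y0tl3.Q (c0y0tl3.Pt 0) = 0 := by decide +kernel
theorem c0y0tl4_e_0 : allZ (dent c0y0tl4 c0y0th_P (nat_lit 24)) (nat_lit 0) (nat_lit 7) = true := by decide +kernel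
theorem c0y0tl4_h : 0 < c0y0tl4.n ∧ 0 < c0y0tl4.K ∧ c0y0tl4.Pt 0 < 24 ∧ c0y0tl4.Q (c0y0tl4.Pt 0) = 0 := by decide +kernel
theorem c0y0t_f4 : (Nat.ble c0y0tl4.K 11 && Nat.ble (topK []) c0y0tl4.K && fixLetters c0y0th_P (topK []) (c0y0tl4.Pt 0)) = true := by decide +kernel
theorem c0y0t_f3 : (Nat.ble c0y0tl3.K 11 && Nat.ble (topK [c0y0tl4]) c0y0tl3.K && fixLetters c0y0th_P (topK [c0y0tl4]) (c0y0tl3.Pt 0)) = true := by decide +kernel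
theorem c0y0t_f2 : (Nat.ble c0y0tl2.K 11 && Nat.ble (topK [c0y0tl3, c0y0tl4]) c0y0tl2.K && fixLetters c0y0th_P (topK [c0y0tl3, c0y0tl4]) (c0y0tl2.Pt 0)) = true := by decide +kernel
theorem c0y0t_f1 : (Nat.ble c0y0tl1.K 11 && Nat.ble (topK [c0y0tl2, c0y0tl3, c0y0tl4]) c0y0tl1.K && fixLetters c0y0th_P (topK [c0y0tl2, c0y0tl3, c0y0tl4]) (c0y0tl1.Pt 0)) = true := by decide +kernel
theorem c0y0t_f0 : (Nat.ble c0y0tl0.K 11 && Nat.ble (topK [c0y0tl1, c0y0tl2, c0y0tl3, c0y0tl4]) c0y0tl0.K && fixLetters c0y0th_P (topK [c0y0tl1, c0y0tl2, c0y0tl3, c0y0tl4]) (c0y0tl0.Pt 0)) = true := by decide +kernel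
theorem c0y0t_c : chainCard [c0y0tl0, c0y0tl1, c0y0tl2, c0y0tl3, c0y0tl4] = 95040 := by decide +kernel
theorem c0y0ce_lt : H16.allL (ltAll 8) c0y0ce_W = true := by decide +kernel
theorem c0y0c_f4 : (Nat.ble c0y0tl4.K 11 && Nat.blt (nat_lit 1) 24 && fixLetters c0y0th_P c0y0tl4.K (nat_lit 1) && Nat.beq (ltAll 1 [nat_lit 0, nat_lit 0, nat_lit 0, nat_lit 0]) 0 && Nat.beq (apW c0y0x_P [nat_lit 0, nat_lit 0, nat_lit 0, nat_lit 0] (nat_lit 1)) (c0y0tl4.Pt 0)) = true := by decide +kernel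
theorem c0y0c_f3 : (Nat.ble c0y0tl3.K 11 && Nat.blt (nat_lit 1) 24 && fixLetters c0y0th_P c0y0tl3.K (nat_lit 1) && Nat.beq (ltAll 1 [nat_lit 0, nat_lit 0, nat_lit 0]) 0 && Nat.beq (apW c0y0x_P [nat_lit 0, nat_lit 0, nat_lit 0] (nat_lit 1)) (c0y0tl3.Pt 0)) = true := by decide +kernel
theorem c0y0c_f2 : (Nat.ble c0y0tl2.K 11 && Nat.blt (nat_lit 1) 24 && fixLetters c0y0th_P c0y0tl2.K (nat_lit 1) && Nat.beq (ltAll 1 [nat_lit 0, nat_lit 0]) 0 && Nat.beq (apW c0y0x_P [nat_lit 0, nat_lit 0] (nat_lit 1)) (c0y0tl2.Pt 0)) = true := by decide +kernel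
theorem c0y0c_f1 : (Nat.ble c0y0tl1.K 11 && Nat.blt (nat_lit 1) 24 && fixLetters c0y0th_P c0y0tl1.K (nat_lit 1) && Nat.beq (ltAll 1 [nat_lit 0]) 0 && Nat.beq (apW c0y0x_P [nat_lit 0] (nat_lit 1)) (c0y0tl1.Pt 0)) = true := by decide +kernel
theorem c0y0cc0_e_0 : allZ (dent c0y0cc0 c0y0ce_P (nat_lit 24)) (nat_lit 0) (nat_lit 5) = true := by decide +kernel
theorem c0y0cc0_h : 0 < c0y0cc0.n ∧ 0 < c0y0cc0.K ∧ c0y0cc0.Pt 0 < 24 ∧ c0y0cc0.Q (c0y0cc0.Pt 0) = 0 := by decide +kernel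
theorem c0y0tn0_0 : (Nat.ble c0y0tl0.K 11 && Nat.beq (ltAll 24 []) 0 && kChk c0y0ce_P c0y0x_P c0y0tn0.Kn 1 H15.MM12.B [] && H16.allL (ltAll 1) c0y0tn0.pre && planOK c0y0th_P c0y0x_P 1 (c0y0tl0.Pt 0) c0y0tn0.plan [c0y0tl0, c0y0tl1, c0y0tl2, c0y0tl3, c0y0tl4]) = true := by decide +kernel
theorem c0y0tn0_1_0 : allZ (c0y0tn0.ent H15.MM12.P c0y0th_P c0y0x_P c0y0x_P c0y0ce_P (nat_lit 8) (nat_lit 1) H15.MM12.B c0y0tl0 [c0y0tl1, c0y0tl2, c0y0tl3, c0y0tl4] (memO c0y0cc0)) (nat_lit 0) (nat_lit 12) = true := by decide +kernel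
theorem c0y0c_f0 : (Nat.ble c0y0cc0.K 2 && Nat.ble (topK []) c0y0cc0.K && Nat.beq (c0y0cc0.Pt 0) (c0y0tl0.Pt 0) && Nat.beq (ltAll 24 []) 0 && kChk c0y0ce_P c0y0x_P c0y0cc0.K 1 H15.MM12.B []) = true := by decide +kernel
theorem c0y0c_c : chainCard [c0y0cc0] = 6 ∧ topK [c0y0cc0] = 2 := by decide +kernel
theorem c0w0_k : eqL c0w0_P 2 H15.MM12.B (List.replicate 3 1) [0] = 0 := by decide +kernel
theorem c0w0p_k : fixL c0w0_P 2 H15.MM12.B (List.replicate 2 0) = 0 := by decide +kernel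
theorem c0w0n_k : 0 < 24 ∧ ltAll 2 (List.replicate 2 1) = 0 ∧ ltAll 2 [] = 0 ∧ apW c0w0_P (List.replicate 2 1) 0 ≠ apW c0w0_P [] 0 := by decide +kernel
theorem c1ax_lt : H16.allL (ltAll 8) c1ax_W = true := by decide +kernel
theorem c1ath_lt : H16.allL (ltAll 8) c1ath_W = true := by decide +kernel
theorem c1atl0_e_0 : allZ (dent c1atl0 c1ath_P (nat_lit 24)) (nat_lit 0) (nat_lit 11) = true := by decide +kernel
theorem c1atl0_h : 0 < c1atl0.n ∧ 0 < c1atl0.K ∧ c1atl0.Pt 0 < 24 ∧ c1atl0.Q (c1atl0.Pt 0) = 0 := by decide +kernel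
theorem c1atl1_e_0 : allZ (dent c1atl1 c1ath_P (nat_lit 24)) (nat_lit 0) (nat_lit 10) = true := by decide +kernel
theorem c1atl1_h : 0 < c1atl1.n ∧ 0 < c1atl1.K ∧ c1atl1.Pt 0 < 24 ∧ c1atl1.Q (c1atl1.Pt 0) = 0 := by decide +kernel
theorem c1atl2_e_0 : allZ (dent c1atl2 c1ath_P (nat_lit 24)) (nat_lit 0) (nat_lit 9) = true := by decide +kernel
theorem c1atl2_h : 0 < c1atl2.n ∧ 0 < c1atl2.K ∧ c1atl2.Pt 0 < 24 ∧ c1atl2.Q (c1atl2.Pt 0) = 0 := by decide +kernel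
theorem c1atl3_e_0 : allZ (dent c1atl3 c1ath_P (nat_lit 24)) (nat_lit 0) (nat_lit 8) = true := by decide +kernel
theorem c1atl3_h : 0 < c1atl3.n ∧ 0 < c1atl3.K ∧ c1atl3.Pt 0 < 24 ∧ c1atl3.Q (c1atl3.Pt 0) = 0 := by decide +kernel
theorem c1atl4_e_0 : allZ (dent c1atl4 c1ath_P (nat_lit 24)) (nat_lit 0) (nat_lit 3) = true := by decide +kernel
theorem c1atl4_h : 0 < c1atl4.n ∧ 0 < c1atl4.K ∧ c1atl4.Pt 0 < 24 ∧ c1atl4.Q (c1atl4.Pt 0) = 0 := by decide +kernel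
theorem c1atl5_e_0 : allZ (dent c1atl5 c1ath_P (nat_lit 24)) (nat_lit 0) (nat_lit 1) = true := by decide +kernel
theorem c1atl5_h : 0 < c1atl5.n ∧ 0 < c1atl5.K ∧ c1atl5.Pt 0 < 24 ∧ c1atl5.Q (c1atl5.Pt 0) = 0 := by decide +kernel
theorem c1at_f5 : (Nat.ble c1atl5.K 11 && Nat.ble (topK []) c1atl5.K && fixLetters c1ath_P (topK []) (c1atl5.Pt 0)) = true := by decide +kernel
theorem c1at_f4 : (Nat.ble c1atl4.K 11 && Nat.ble (topK [c1atl5]) c1atl4.K && fixLetters c1ath_P (topK [c1atl5]) (c1atl4.Pt 0)) = true := by decide +kernel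
theorem c1at_f3 : (Nat.ble c1atl3.K 11 && Nat.ble (topK [c1atl4, c1atl5]) c1atl3.K && fixLetters c1ath_P (topK [c1atl4, c1atl5]) (c1atl3.Pt 0)) = true := by decide +kernel
theorem c1at_f2 : (Nat.ble c1atl2.K 11 && Nat.ble (topK [c1atl3, c1atl4, c1atl5]) c1atl2.K && fixLetters c1ath_P (topK [c1atl3, c1atl4, c1atl5]) (c1atl2.Pt 0)) = true := by decide +kernel
theorem c1at_f1 : (Nat.ble c1atl1.K 11 && Nat.ble (topK [c1atl2, c1atl3, c1atl4, c1atl5]) c1atl1.K && fixLetters c1ath_P (topK [c1atl2, c1atl3, c1atl4, c1atl5]) (c1atl1.Pt 0)) = true := by decide +kernel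
theorem c1at_f0 : (Nat.ble c1atl0.K 11 && Nat.ble (topK [c1atl1, c1atl2, c1atl3, c1atl4, c1atl5]) c1atl0.K && fixLetters c1ath_P (topK [c1atl1, c1atl2, c1atl3, c1atl4, c1atl5]) (c1atl0.Pt 0)) = true := by decide +kernel
theorem c1at_c : chainCard [c1atl0, c1atl1, c1atl2, c1atl3, c1atl4, c1atl5] = 95040 := by decide +kernel
theorem c1ace_lt : H16.allL (ltAll 8) c1ace_W = true := by decide +kernel
theorem c1acc5_e_0 : allZ (dent c1acc5 c1ace_P (nat_lit 24)) (nat_lit 0) (nat_lit 1) = true := by decide +kernel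
theorem c1acc5_h : 0 < c1acc5.n ∧ 0 < c1acc5.K ∧ c1acc5.Pt 0 < 24 ∧ c1acc5.Q (c1acc5.Pt 0) = 0 := by decide +kernel
theorem c1atn0_0 : (Nat.ble c1atl5.K 11 && Nat.beq (ltAll 24 [c1atl4.Pt 0, c1atl3.Pt 0, c1atl2.Pt 0, c1atl1.Pt 0, c1atl0.Pt 0]) 0 && kChk c1ace_P c1ax_P c1atn0.Kn 1 H15.MM12.B [c1atl4.Pt 0, c1atl3.Pt 0, c1atl2.Pt 0, c1atl1.Pt 0, c1atl0.Pt 0] && H16.allL (ltAll 1) c1atn0.pre && planOK c1ath_P c1ax_P 1 (c1atl5.Pt 0) c1atn0.plan [c1atl5]) = true := by decide +kernel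
theorem c1atn0_1_0 : allZ (c1atn0.ent H15.MM12.P c1ath_P c1ax_P c1ax_P c1ace_P (nat_lit 8) (nat_lit 1) H15.MM12.B c1atl5 [] (memO c1acc5)) (nat_lit 0) (nat_lit 2) = true := by decide +kernel
theorem c1ac_f5 : (Nat.ble c1acc5.K 4 && Nat.ble (topK []) c1acc5.K && Nat.beq (c1acc5.Pt 0) (c1atl5.Pt 0) && Nat.beq (ltAll 24 [c1atl4.Pt 0, c1atl3.Pt 0, c1atl2.Pt 0, c1atl1.Pt 0, c1atl0.Pt 0]) 0 && kChk c1ace_P c1ax_P c1acc5.K 1 H15.MM12.B [c1atl4.Pt 0, c1atl3.Pt 0, c1atl2.Pt 0, c1atl1.Pt 0, c1atl0.Pt 0]) = true := by decide +kernel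
theorem c1acc4_e_0 : allZ (dent c1acc4 c1ace_P (nat_lit 24)) (nat_lit 0) (nat_lit 1) = true := by decide +kernel
theorem c1acc4_h : 0 < c1acc4.n ∧ 0 < c1acc4.K ∧ c1acc4.Pt 0 < 24 ∧ c1acc4.Q (c1acc4.Pt 0) = 0 := by decide +kernel
theorem c1atn1y22_lt : H16.allL (ltAll 8) c1atn1y22_W = true := by decide +kernel
theorem c1atr2k_lt : H16.allL (ltAll 8) c1atr2k_W = true := by decide +kernel
theorem c1atn2_0 : (Nat.ble c1atl5.K 11 && Nat.beq (ltAll 24 [c1atl4.Pt 0, c1atl3.Pt 0, c1atl2.Pt 0, c1atl1.Pt 0, c1atl0.Pt 0]) 0 && kChk c1atr2k_P c1atn1y22_P c1atn2.Kn 1 H15.MM12.B [c1atl4.Pt 0, c1atl3.Pt 0, c1atl2.Pt 0, c1atl1.Pt 0, c1atl0.Pt 0] && H16.allL (ltAll 1) c1atn2.pre && planOK c1ath_P c1ax_P 1 (c1atl5.Pt 0) c1atn2.plan [c1atl5]) = true := by decide +kernel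
theorem c1atn2_1_0 : allZ (c1atn2.ent H15.MM12.P c1ath_P c1ax_P c1atn1y22_P c1atr2k_P (nat_lit 8) (nat_lit 1) H15.MM12.B c1atl5 [] (fun _ => nat_lit 1)) (nat_lit 0) (nat_lit 2) = true := by decide +kernel
theorem c1atn1_0 : (Nat.ble c1atl4.K 11 && Nat.beq (ltAll 24 [c1atl3.Pt 0, c1atl2.Pt 0, c1atl1.Pt 0, c1atl0.Pt 0]) 0 && kChk c1ace_P c1ax_P c1atn1.Kn 1 H15.MM12.B [c1atl3.Pt 0, c1atl2.Pt 0, c1atl1.Pt 0, c1atl0.Pt 0] && H16.allL (ltAll 1) c1atn1.pre && planOK c1ath_P c1ax_P 1 (c1atl4.Pt 0) c1atn1.plan [c1atl4, c1atl5]) = true := by decide +kernel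
theorem c1atn1_1_0 : allZ (c1atn1.ent H15.MM12.P c1ath_P c1ax_P c1ax_P c1ace_P (nat_lit 8) (nat_lit 1) H15.MM12.B c1atl4 [c1atl5] (memO c1acc4)) (nat_lit 0) (nat_lit 4) = true := by decide +kernel
theorem c1ac_f4 : (Nat.ble c1acc4.K 4 && Nat.ble (topK [c1acc5]) c1acc4.K && Nat.beq (c1acc4.Pt 0) (c1atl4.Pt 0) && Nat.beq (ltAll 24 [c1atl3.Pt 0, c1atl2.Pt 0, c1atl1.Pt 0, c1atl0.Pt 0]) 0 && kChk c1ace_P c1ax_P c1acc4.K 1 H15.MM12.B [c1atl3.Pt 0, c1atl2.Pt 0, c1atl1.Pt 0, c1atl0.Pt 0]) = true := by decide +kernel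
theorem c1ac_f3 : (Nat.ble c1atl3.K 11 && Nat.blt (nat_lit 1) 24 && fixLetters c1ath_P c1atl3.K (nat_lit 1) && Nat.beq (ltAll 1 [nat_lit 0]) 0 && Nat.beq (apW c1ax_P [nat_lit 0] (nat_lit 1)) (c1atl3.Pt 0)) = true := by decide +kernel
theorem c1acc2_e_0 : allZ (dent c1acc2 c1ace_P (nat_lit 24)) (nat_lit 0) (nat_lit 4) = true := by decide +kernel
theorem c1acc2_h : 0 < c1acc2.n ∧ 0 < c1acc2.K ∧ c1acc2.Pt 0 < 24 ∧ c1acc2.Q (c1acc2.Pt 0) = 0 := by decide +kernel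
theorem c1atn3y12_lt : H16.allL (ltAll 8) c1atn3y12_W = true := by decide +kernel
theorem c1atr4k_lt : H16.allL (ltAll 8) c1atr4k_W = true := by decide +kernel
theorem c1atn4_0 : (Nat.ble c1atl4.K 11 && Nat.beq (ltAll 24 [c1atl3.Pt 0, c1atl2.Pt 0, c1atl1.Pt 0, c1atl0.Pt 0]) 0 && kChk c1atr4k_P c1atn3y12_P c1atn4.Kn 1 H15.MM12.B [c1atl3.Pt 0, c1atl2.Pt 0, c1atl1.Pt 0, c1atl0.Pt 0] && H16.allL (ltAll 1) c1atn4.pre && planOK c1ath_P c1ax_P 1 (c1atl4.Pt 0) c1atn4.plan [c1atl4, c1atl5]) = true := by decide +kernel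
theorem c1atn4_1_0 : allZ (c1atn4.ent H15.MM12.P c1ath_P c1ax_P c1atn3y12_P c1atr4k_P (nat_lit 8) (nat_lit 1) H15.MM12.B c1atl4 [c1atl5] (fun _ => nat_lit 1)) (nat_lit 0) (nat_lit 4) = true := by decide +kernel
theorem c1atn3_0 : (Nat.ble c1atl2.K 11 && Nat.beq (ltAll 24 [c1atl1.Pt 0, c1atl0.Pt 0]) 0 && kChk c1ace_P c1ax_P c1atn3.Kn 1 H15.MM12.B [c1atl1.Pt 0, c1atl0.Pt 0] && H16.allL (ltAll 1) c1atn3.pre && planOK c1ath_P c1ax_P 1 (c1atl2.Pt 0) c1atn3.plan [c1atl2, c1atl3, c1atl4, c1atl5]) = true := by decide +kernel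
theorem c1atn3_1_0 : allZ (c1atn3.ent H15.MM12.P c1ath_P c1ax_P c1ax_P c1ace_P (nat_lit 8) (nat_lit 1) H15.MM12.B c1atl2 [c1atl3, c1atl4, c1atl5] (memO c1acc2)) (nat_lit 0) (nat_lit 10) = true := by decide +kernel
theorem c1ac_f2 : (Nat.ble c1acc2.K 4 && Nat.ble (topK [c1acc4, c1acc5]) c1acc2.K && Nat.beq (c1acc2.Pt 0) (c1atl2.Pt 0) && Nat.beq (ltAll 24 [c1atl1.Pt 0, c1atl0.Pt 0]) 0 && kChk c1ace_P c1ax_P c1acc2.K 1 H15.MM12.B [c1atl1.Pt 0, c1atl0.Pt 0]) = true := by decide +kernel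
theorem c1ac_f1 : (Nat.ble c1atl1.K 11 && Nat.blt (nat_lit 0) 24 && fixLetters c1ath_P c1atl1.K (nat_lit 0) && Nat.beq (ltAll 1 [nat_lit 0]) 0 && Nat.beq (apW c1ax_P [nat_lit 0] (nat_lit 0)) (c1atl1.Pt 0)) = true := by decide +kernel
theorem c1acc0_e_0 : allZ (dent c1acc0 c1ace_P (nat_lit 24)) (nat_lit 0) (nat_lit 11) = true := by decide +kernel
theorem c1acc0_h : 0 < c1acc0.n ∧ 0 < c1acc0.K ∧ c1acc0.Pt 0 < 24 ∧ c1acc0.Q (c1acc0.Pt 0) = 0 := by decide +kernel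
theorem c1atn5_0 : (Nat.ble c1atl0.K 11 && Nat.beq (ltAll 24 []) 0 && kChk c1ace_P c1ax_P c1atn5.Kn 1 H15.MM12.B [] && H16.allL (ltAll 1) c1atn5.pre && planOK c1ath_P c1ax_P 1 (c1atl0.Pt 0) c1atn5.plan [c1atl0, c1atl1, c1atl2, c1atl3, c1atl4, c1atl5]) = true := by decide +kernel
theorem c1atn5_1_0 : allZ (c1atn5.ent H15.MM12.P c1ath_P c1ax_P c1ax_P c1ace_P (nat_lit 8) (nat_lit 1) H15.MM12.B c1atl0 [c1atl1, c1atl2, c1atl3, c1atl4, c1atl5] (memO c1acc0)) (nat_lit 0) (nat_lit 12) = true := by decide +kernel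
theorem c1ac_f0 : (Nat.ble c1acc0.K 4 && Nat.ble (topK [c1acc2, c1acc4, c1acc5]) c1acc0.K && Nat.beq (c1acc0.Pt 0) (c1atl0.Pt 0) && Nat.beq (ltAll 24 []) 0 && kChk c1ace_P c1ax_P c1acc0.K 1 H15.MM12.B []) = true := by decide +kernel
theorem c1ac_c : chainCard [c1acc0, c1acc2, c1acc4, c1acc5] = 240 ∧ topK [c1acc0, c1acc2, c1acc4, c1acc5] = 4 := by decide +kernel
theorem c1w0_lt : H16.allL (ltAll 8) c1w0_W = true := by decide +kernel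
theorem c1y0x_lt : H16.allL (ltAll 8) c1y0x_W = true := by decide +kernel
theorem c1y0th_lt : H16.allL (ltAll 8) c1y0th_W = true := by decide +kernel
theorem c1y0tl0_e_0 : allZ (dent c1y0tl0 c1y0th_P (nat_lit 24)) (nat_lit 0) (nat_lit 11) = true := by decide +kernel
theorem c1y0tl0_h : 0 < c1y0tl0.n ∧ 0 < c1y0tl0.K ∧ c1y0tl0.Pt 0 < 24 ∧ c1y0tl0.Q (c1y0tl0.Pt 0) = 0 := by decide +kernel
theorem c1y0tl1_e_0 : allZ (dent c1y0tl1 c1y0th_P (nat_lit 24)) (nat_lit 0) (nat_lit 10) = true := by decide +kernel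
theorem c1y0tl1_h : 0 < c1y0tl1.n ∧ 0 < c1y0tl1.K ∧ c1y0tl1.Pt 0 < 24 ∧ c1y0tl1.Q (c1y0tl1.Pt 0) = 0 := by decide +kernel
theorem c1y0tl2_e_0 : allZ (dent c1y0tl2 c1y0th_P (nat_lit 24)) (nat_lit 0) (nat_lit 9) = true := by decide +kernel
theorem c1y0tl2_h : 0 < c1y0tl2.n ∧ 0 < c1y0tl2.K ∧ c1y0tl2.Pt 0 < 24 ∧ c1y0tl2.Q (c1y0tl2.Pt 0) = 0 := by decide +kernel
theorem c1y0tl3_e_0 : allZ (dent c1y0tl3 c1y0th_P (nat_lit 24)) (nat_lit 0) (nat_lit 8) = true := by decide +kernel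
theorem c1y0tl3_h : 0 < c1y0tl3.n ∧ 0 < c1y0tl3.K ∧ c1y0tl3.Pt 0 < 24 ∧ c1y0tl3.Q (c1y0tl3.Pt 0) = 0 := by decide +kernel
theorem c1y0tl4_e_0 : allZ (dent c1y0tl4 c1y0th_P (nat_lit 24)) (nat_lit 0) (nat_lit 7) = true := by decide +kernel
theorem c1y0tl4_h : 0 < c1y0tl4.n ∧ 0 < c1y0tl4.K ∧ c1y0tl4.Pt 0 < 24 ∧ c1y0tl4.Q (c1y0tl4.Pt 0) = 0 := by decide +kernel
theorem c1y0t_f4 : (Nat.ble c1y0tl4.K 13 && Nat.ble (topK []) c1y0tl4.K && fixLetters c1y0th_P (topK []) (c1y0tl4.Pt 0)) = true := by decide +kernel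
theorem c1y0t_f3 : (Nat.ble c1y0tl3.K 13 && Nat.ble (topK [c1y0tl4]) c1y0tl3.K && fixLetters c1y0th_P (topK [c1y0tl4]) (c1y0tl3.Pt 0)) = true := by decide +kernel
theorem c1y0t_f2 : (Nat.ble c1y0tl2.K 13 && Nat.ble (topK [c1y0tl3, c1y0tl4]) c1y0tl2.K && fixLetters c1y0th_P (topK [c1y0tl3, c1y0tl4]) (c1y0tl2.Pt 0)) = true := by decide +kernel
theorem c1y0t_f1 : (Nat.ble c1y0tl1.K 13 && Nat.ble (topK [c1y0tl2, c1y0tl3, c1y0tl4]) c1y0tl1.K && fixLetters c1y0th_P (topK [c1y0tl2, c1y0tl3, c1y0tl4]) (c1y0tl1.Pt 0)) = true := by decide +kernel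
theorem c1y0t_f0 : (Nat.ble c1y0tl0.K 13 && Nat.ble (topK [c1y0tl1, c1y0tl2, c1y0tl3, c1y0tl4]) c1y0tl0.K && fixLetters c1y0th_P (topK [c1y0tl1, c1y0tl2, c1y0tl3, c1y0tl4]) (c1y0tl0.Pt 0)) = true := by decide +kernel
theorem c1y0t_c : chainCard [c1y0tl0, c1y0tl1, c1y0tl2, c1y0tl3, c1y0tl4] = 95040 := by decide +kernel
theorem c1y0ce_lt : H16.allL (ltAll 8) c1y0ce_W = true := by decide +kernel
theorem c1y0c_f4 : (Nat.ble c1y0tl4.K 13 && Nat.blt (nat_lit 1) 24 && fixLetters c1y0th_P c1y0tl4.K (nat_lit 1) && Nat.beq (ltAll 1 [nat_lit 0, nat_lit 0, nat_lit 0, nat_lit 0]) 0 && Nat.beq (apW c1y0x_P [nat_lit 0, nat_lit 0, nat_lit 0, nat_lit 0] (nat_lit 1)) (c1y0tl4.Pt 0)) = true := by decide +kernel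
theorem c1y0c_f3 : (Nat.ble c1y0tl3.K 13 && Nat.blt (nat_lit 1) 24 && fixLetters c1y0th_P c1y0tl3.K (nat_lit 1) && Nat.beq (ltAll 1 [nat_lit 0, nat_lit 0, nat_lit 0]) 0 && Nat.beq (apW c1y0x_P [nat_lit 0, nat_lit 0, nat_lit 0] (nat_lit 1)) (c1y0tl3.Pt 0)) = true := by decide +kernel
theorem c1y0c_f2 : (Nat.ble c1y0tl2.K 13 && Nat.blt (nat_lit 1) 24 && fixLetters c1y0th_P c1y0tl2.K (nat_lit 1) && Nat.beq (ltAll 1 [nat_lit 0, nat_lit 0]) 0 && Nat.beq (apW c1y0x_P [nat_lit 0, nat_lit 0] (nat_lit 1)) (c1y0tl2.Pt 0)) = true := by decide +kernel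
theorem c1y0c_f1 : (Nat.ble c1y0tl1.K 13 && Nat.blt (nat_lit 1) 24 && fixLetters c1y0th_P c1y0tl1.K (nat_lit 1) && Nat.beq (ltAll 1 [nat_lit 0]) 0 && Nat.beq (apW c1y0x_P [nat_lit 0] (nat_lit 1)) (c1y0tl1.Pt 0)) = true := by decide +kernel
theorem c1y0cc0_e_0 : allZ (dent c1y0cc0 c1y0ce_P (nat_lit 24)) (nat_lit 0) (nat_lit 9) = true := by decide +kernel
theorem c1y0cc0_h : 0 < c1y0cc0.n ∧ 0 < c1y0cc0.K ∧ c1y0cc0.Pt 0 < 24 ∧ c1y0cc0.Q (c1y0cc0.Pt 0) = 0 := by decide +kernel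
theorem c1y0tn0_0 : (Nat.ble c1y0tl0.K 13 && Nat.beq (ltAll 24 []) 0 && kChk c1y0ce_P c1y0x_P c1y0tn0.Kn 1 H15.MM12.B [] && H16.allL (ltAll 1) c1y0tn0.pre && planOK c1y0th_P c1y0x_P 1 (c1y0tl0.Pt 0) c1y0tn0.plan [c1y0tl0, c1y0tl1, c1y0tl2, c1y0tl3, c1y0tl4]) = true := by decide +kernel
theorem c1y0tn0_1_0 : allZ (c1y0tn0.ent H15.MM12.P c1y0th_P c1y0x_P c1y0x_P c1y0ce_P (nat_lit 8) (nat_lit 1) H15.MM12.B c1y0tl0 [c1y0tl1, c1y0tl2, c1y0tl3, c1y0tl4] (memO c1y0cc0)) (nat_lit 0) (nat_lit 12) = true := by decide +kernel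
theorem c1y0c_f0 : (Nat.ble c1y0cc0.K 2 && Nat.ble (topK []) c1y0cc0.K && Nat.beq (c1y0cc0.Pt 0) (c1y0tl0.Pt 0) && Nat.beq (ltAll 24 []) 0 && kChk c1y0ce_P c1y0x_P c1y0cc0.K 1 H15.MM12.B []) = true := by decide +kernel
theorem c1y0c_c : chainCard [c1y0cc0] = 10 ∧ topK [c1y0cc0] = 2 := by decide +kernel
theorem c1w0_k : eqL c1w0_P 2 H15.MM12.B (List.replicate 5 1) [0] = 0 := by decide +kernel
theorem c1w0p_k : fixL c1w0_P 2 H15.MM12.B (List.replicate 2 0) = 0 := by decide +kernel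
theorem c1w0n_k : 1 < 24 ∧ ltAll 2 (List.replicate 2 1) = 0 ∧ ltAll 2 [] = 0 ∧ apW c1w0_P (List.replicate 2 1) 1 ≠ apW c1w0_P [] 1 := by decide +kernel

theorem md {G : Type*} [Group G] (e : gen H15.MM12.g 8 ≃* G) :
    ∃ (_ : MulAction G (Cfsg.GolayPt)) (g : ℕ → G), Md g H15.pt H15.MM12.P 24 8 H15.MM12.B 95040 ∧
      ∀ k < 8, (e.symm (g k)).1 = H15.MM12.g k :=
  exists_md H15.MM12.act H15.MM12.inj H15.MM12.card H15.MM12.isBase md_b e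
theorem p2t_act {G Ω : Type*} [Group G] [MulAction G Ω] {g : ℕ → G} {pt : ℕ → Ω}
    (M : Md g pt H15.MM12.P 24 8 H15.MM12.B 95040) : Act (wds g p2t_W) pt p2t_P 24 6 :=
  M.wact p2t_lt
theorem p2_r : ∀ k < 6, ∀ i < 12, (resEnt p2t_P p2P p2E p2I (nat_lit 24) (nat_lit 12)) k i = 0 := allZ2_sound p2_r_a
theorem p2_sm {G Ω : Type*} [Group G] [MulAction G Ω] {g : ℕ → G} {pt : ℕ → Ω}
    (M : Md g pt H15.MM12.P 24 8 H15.MM12.B 95040) : Sm (wds g p2t_W) (fun i => pt (p2E i)) p2P 12 6 p2B ∧ ∀ i < 12, p2E i < 24 :=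
  M.res (p2t_act M) (by decide) p2_r p2_b
theorem p2l0_e : ∀ i < 3, (dent p2l0 (wdsP p2P p2e) (nat_lit 12)) i = 0 := allZ_sound0 p2l0_e_0
theorem p2l0_ok : DOK p2l0 (wdsP p2P p2e) 12 := ⟨p2l0_h, p2l0_e⟩
theorem p2l1_e : ∀ i < 1, (dent p2l1 (wdsP p2P p2e) (nat_lit 12)) i = 0 := allZ_sound0 p2l1_e_0
theorem p2l1_ok : DOK p2l1 (wdsP p2P p2e) 12 := ⟨p2l1_h, p2l1_e⟩
theorem p2l2_e : ∀ i < 7, (dent p2l2 (wdsP p2P p2e) (nat_lit 12)) i = 0 := allZ_sound0 p2l2_e_0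
theorem p2l2_ok : DOK p2l2 (wdsP p2P p2e) 12 := ⟨p2l2_h, p2l2_e⟩
theorem p2_low {G Ω : Type*} [Group G] [MulAction G Ω] {g : ℕ → G} {pt : ℕ → Ω}
    (M : Md g pt H15.MM12.P 24 8 H15.MM12.B 95040) : SLow (gi (wds (wds g p2t_W) p2e)) (fun i => pt (p2E i)) 12 [p2l0, p2l1, p2l2] :=
  (((SLow.nil).cons p2l2_ok ((p2_sm M).1.act.wds p2_e 55) p2_f2).cons p2l1_ok ((p2_sm M).1.act.wds p2_e 55) p2_f1).cons p2l0_ok ((p2_sm M).1.act.wds p2_e 55) p2_f0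
theorem p2_pc {G Ω : Type*} [Group G] [MulAction G Ω] {g : ℕ → G} {pt : ℕ → Ω}
    (M : Md g pt H15.MM12.P 24 8 H15.MM12.B 95040) : PC (wds g p2t_W) 6 2 :=
  have := M.fin
  ((p2_sm M).1.pc0 (by decide) p2_p).pc (p2_low M) (p2_sm M).1.inj
    (fun k => evA_mem_gen _ (nth_lt p2_e k)) M.card ⟨by decide, p2_c⟩
theorem covr_act {G Ω : Type*} [Group G] [MulAction G Ω] {g : ℕ → G} {pt : ℕ → Ω}
    (M : Md g pt H15.MM12.P 24 8 H15.MM12.B 95040) : Act (wds g covr_W) pt covr_P 24 2 :=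
  M.wact covr_lt
theorem cov_0 {G Ω : Type*} [Group G] [MulAction G Ω] {g : ℕ → G} {pt : ℕ → Ω}
    (M : Md g pt H15.MM12.P 24 8 H15.MM12.B 95040) : H0.TR.Cov (wds g p2t_W) (wds g covr_W) 2 2 6 (evA (wds g p2t_W) []) :=
  have := M.fin
  covT0.cov M (p2_sm M).1 (p2_sm M).2 (covr_act M) (p2_pc M) _ _ cov_c0
theorem cov {G Ω : Type*} [Group G] [MulAction G Ω] {g : ℕ → G} {pt : ℕ → Ω}
    (M : Md g pt H15.MM12.P 24 8 H15.MM12.B 95040) {y : G} {e : ℕ} (hy : y ^ 2 ^ e = 1) (hq : y ^ 2 = 1) : Good (wds g covr_W) 2 y :=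
  have := M.fin
  H0.TR.Cov.all (p2_pc M) (cov_0 M) hy hq
theorem c0ax_act {G Ω : Type*} [Group G] [MulAction G Ω] {g : ℕ → G} {pt : ℕ → Ω}
    (M : Md g pt H15.MM12.P 24 8 H15.MM12.B 95040) : Act (wds g c0ax_W) pt c0ax_P 24 1 :=
  M.wact c0ax_lt
theorem c0ath_act {G Ω : Type*} [Group G] [MulAction G Ω] {g : ℕ → G} {pt : ℕ → Ω}
    (M : Md g pt H15.MM12.P 24 8 H15.MM12.B 95040) : Act (wds g c0ath_W) pt c0ath_P 24 13 :=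
  M.wact c0ath_lt
theorem c0atl0_e : ∀ i < 11, (dent c0atl0 c0ath_P (nat_lit 24)) i = 0 := allZ_sound0 c0atl0_e_0
theorem c0atl0_ok : DOK c0atl0 c0ath_P 24 := ⟨c0atl0_h, c0atl0_e⟩
theorem c0atl1_e : ∀ i < 10, (dent c0atl1 c0ath_P (nat_lit 24)) i = 0 := allZ_sound0 c0atl1_e_0
theorem c0atl1_ok : DOK c0atl1 c0ath_P 24 := ⟨c0atl1_h, c0atl1_e⟩
theorem c0atl2_e : ∀ i < 9, (dent c0atl2 c0ath_P (nat_lit 24)) i = 0 := allZ_sound0 c0atl2_e_0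
theorem c0atl2_ok : DOK c0atl2 c0ath_P 24 := ⟨c0atl2_h, c0atl2_e⟩
theorem c0atl3_e : ∀ i < 8, (dent c0atl3 c0ath_P (nat_lit 24)) i = 0 := allZ_sound0 c0atl3_e_0
theorem c0atl3_ok : DOK c0atl3 c0ath_P 24 := ⟨c0atl3_h, c0atl3_e⟩
theorem c0atl4_e : ∀ i < 3, (dent c0atl4 c0ath_P (nat_lit 24)) i = 0 := allZ_sound0 c0atl4_e_0
theorem c0atl4_ok : DOK c0atl4 c0ath_P 24 := ⟨c0atl4_h, c0atl4_e⟩
theorem c0atl5_e : ∀ i < 1, (dent c0atl5 c0ath_P (nat_lit 24)) i = 0 := allZ_sound0 c0atl5_e_0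
theorem c0atl5_ok : DOK c0atl5 c0ath_P 24 := ⟨c0atl5_h, c0atl5_e⟩
theorem c0at_low {G Ω : Type*} [Group G] [MulAction G Ω] {g : ℕ → G} {pt : ℕ → Ω}
    (M : Md g pt H15.MM12.P 24 8 H15.MM12.B 95040) : SLow (gi (wds g c0ath_W)) pt 24 [c0atl0, c0atl1, c0atl2, c0atl3, c0atl4, c0atl5] :=
  ((((((SLow.nil).cons c0atl5_ok (c0ath_act M) c0at_f5).cons c0atl4_ok (c0ath_act M) c0at_f4).cons c0atl3_ok (c0ath_act M) c0at_f3).cons c0atl2_ok (c0ath_act M) c0at_f2).cons c0atl1_ok (c0ath_act M) c0at_f1).cons c0atl0_ok (c0ath_act M) c0at_f0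
theorem c0at_S0 {G Ω : Type*} [Group G] [MulAction G Ω] {g : ℕ → G} {pt : ℕ → Ω}
    (M : Md g pt H15.MM12.P 24 8 H15.MM12.B 95040) : Stage ⊤ (wds g c0ath_W) pt 24 [c0atl0, c0atl1, c0atl2, c0atl3, c0atl4, c0atl5] [] :=
  M.stage (c0at_low M) c0at_c
theorem c0at_S1 {G Ω : Type*} [Group G] [MulAction G Ω] {g : ℕ → G} {pt : ℕ → Ω}
    (M : Md g pt H15.MM12.P 24 8 H15.MM12.B 95040) : Stage ⊤ (wds g c0ath_W) pt 24 [c0atl1, c0atl2, c0atl3, c0atl4, c0atl5] [c0atl0.Pt 0] :=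
  (c0at_S0 M).next
theorem c0at_S2 {G Ω : Type*} [Group G] [MulAction G Ω] {g : ℕ → G} {pt : ℕ → Ω}
    (M : Md g pt H15.MM12.P 24 8 H15.MM12.B 95040) : Stage ⊤ (wds g c0ath_W) pt 24 [c0atl2, c0atl3, c0atl4, c0atl5] [c0atl1.Pt 0, c0atl0.Pt 0] :=
  (c0at_S1 M).next
theorem c0at_S3 {G Ω : Type*} [Group G] [MulAction G Ω] {g : ℕ → G} {pt : ℕ → Ω}
    (M : Md g pt H15.MM12.P 24 8 H15.MM12.B 95040) : Stage ⊤ (wds g c0ath_W) pt 24 [c0atl3, c0atl4, c0atl5] [c0atl2.Pt 0, c0atl1.Pt 0, c0atl0.Pt 0] :=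
  (c0at_S2 M).next
theorem c0at_S4 {G Ω : Type*} [Group G] [MulAction G Ω] {g : ℕ → G} {pt : ℕ → Ω}
    (M : Md g pt H15.MM12.P 24 8 H15.MM12.B 95040) : Stage ⊤ (wds g c0ath_W) pt 24 [c0atl4, c0atl5] [c0atl3.Pt 0, c0atl2.Pt 0, c0atl1.Pt 0, c0atl0.Pt 0] :=
  (c0at_S3 M).next
theorem c0at_S5 {G Ω : Type*} [Group G] [MulAction G Ω] {g : ℕ → G} {pt : ℕ → Ω}
    (M : Md g pt H15.MM12.P 24 8 H15.MM12.B 95040) : Stage ⊤ (wds g c0ath_W) pt 24 [c0atl5] [c0atl4.Pt 0, c0atl3.Pt 0, c0atl2.Pt 0, c0atl1.Pt 0, c0atl0.Pt 0] :=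
  (c0at_S4 M).next
theorem c0at_S6 {G Ω : Type*} [Group G] [MulAction G Ω] {g : ℕ → G} {pt : ℕ → Ω}
    (M : Md g pt H15.MM12.P 24 8 H15.MM12.B 95040) : Stage ⊤ (wds g c0ath_W) pt 24 [] [c0atl5.Pt 0, c0atl4.Pt 0, c0atl3.Pt 0, c0atl2.Pt 0, c0atl1.Pt 0, c0atl0.Pt 0] :=
  (c0at_S5 M).next
theorem c0ace_act {G Ω : Type*} [Group G] [MulAction G Ω] {g : ℕ → G} {pt : ℕ → Ω}
    (M : Md g pt H15.MM12.P 24 8 H15.MM12.B 95040) : Act (wds g c0ace_W) pt c0ace_P 24 6 :=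
  M.wact c0ace_lt
theorem c0acc5_e : ∀ i < 1, (dent c0acc5 c0ace_P (nat_lit 24)) i = 0 := allZ_sound0 c0acc5_e_0
theorem c0acc5_ok : DOK c0acc5 c0ace_P 24 := ⟨c0acc5_h, c0acc5_e⟩
theorem c0atn0_1 : ∀ i < 2, (c0atn0.ent H15.MM12.P c0ath_P c0ax_P c0ax_P c0ace_P (nat_lit 8) (nat_lit 1) H15.MM12.B c0atl5 [] (memO c0acc5)) i = 0 := allZ_sound0 c0atn0_1_0
theorem c0atn0_t {G Ω : Type*} [Group G] [MulAction G Ω] {g : ℕ → G} {pt : ℕ → Ω}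
    (M : Md g pt H15.MM12.P 24 8 H15.MM12.B 95040) : TrO (gen (wds g c0ath_W) c0atl5.K) (wds g c0ax_W) (wds g c0ax_W) 1 pt 24 (c0atl5.Pt 0) (memO c0acc5) :=
  node M (c0at_S5 M) (c0ath_act M) (c0ax_act M) (c0ax_act M) c0atn0 ((c0ace_act M).mono (by decide)) (fun _ _ => trivial) c0atn0_0 c0atn0_1 (List.forall_mem_nil _)
theorem c0acc4_e : ∀ i < 1, (dent c0acc4 c0ace_P (nat_lit 24)) i = 0 := allZ_sound0 c0acc4_e_0
theorem c0acc4_ok : DOK c0acc4 c0ace_P 24 := ⟨c0acc4_h, c0acc4_e⟩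
theorem c0atn1y23_act {G Ω : Type*} [Group G] [MulAction G Ω] {g : ℕ → G} {pt : ℕ → Ω}
    (M : Md g pt H15.MM12.P 24 8 H15.MM12.B 95040) : Act (wds g c0atn1y23_W) pt c0atn1y23_P 24 1 :=
  M.wact c0atn1y23_lt
theorem c0atr2k_act {G Ω : Type*} [Group G] [MulAction G Ω] {g : ℕ → G} {pt : ℕ → Ω}
    (M : Md g pt H15.MM12.P 24 8 H15.MM12.B 95040) : Act (wds g c0atr2k_W) pt c0atr2k_P 24 2 :=
  M.wact c0atr2k_lt
theorem c0atn2_1 : ∀ i < 2, (c0atn2.ent H15.MM12.P c0ath_P c0ax_P c0atn1y23_P c0atr2k_P (nat_lit 8) (nat_lit 1) H15.MM12.B c0atl5 [] (fun _ => nat_lit 1)) i = 0 := allZ_sound0 c0atn2_1_0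
theorem c0atn2_t {G Ω : Type*} [Group G] [MulAction G Ω] {g : ℕ → G} {pt : ℕ → Ω}
    (M : Md g pt H15.MM12.P 24 8 H15.MM12.B 95040) : TrO (gen (wds g c0ath_W) c0atl5.K) (wds g c0ax_W) (wds g c0atn1y23_W) 1 pt 24 (c0atl5.Pt 0) (fun _ => nat_lit 1) :=
  node M (c0at_S5 M) (c0ath_act M) (c0ax_act M) (c0atn1y23_act M) c0atn2 ((c0atr2k_act M).mono (by decide)) (fun _ _ => trivial) c0atn2_0 c0atn2_1 (List.forall_mem_nil _)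
theorem c0atr2 {G Ω : Type*} [Group G] [MulAction G Ω] {g : ℕ → G} {pt : ℕ → Ω}
    (M : Md g pt H15.MM12.P 24 8 H15.MM12.B 95040) : Ref (gen (wds g c0ath_W) (topK [c0atl5])) (wds g c0ax_W) (wds g c0atn1y23_W) 1 :=
  (c0atn2_t M).ref
theorem c0atn1_1 : ∀ i < 4, (c0atn1.ent H15.MM12.P c0ath_P c0ax_P c0ax_P c0ace_P (nat_lit 8) (nat_lit 1) H15.MM12.B c0atl4 [c0atl5] (memO c0acc4)) i = 0 := allZ_sound0 c0atn1_1_0
theorem c0atn1_t {G Ω : Type*} [Group G] [MulAction G Ω] {g : ℕ → G} {pt : ℕ → Ω}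
    (M : Md g pt H15.MM12.P 24 8 H15.MM12.B 95040) : TrO (gen (wds g c0ath_W) c0atl4.K) (wds g c0ax_W) (wds g c0ax_W) 1 pt 24 (c0atl4.Pt 0) (memO c0acc4) :=
  node M (c0at_S4 M) (c0ath_act M) (c0ax_act M) (c0ax_act M) c0atn1 ((c0ace_act M).mono (by decide)) (fun _ _ => trivial) c0atn1_0 c0atn1_1 (List.forall_mem_cons.2 ⟨c0atr2 M, List.forall_mem_nil _⟩)
theorem c0acc2_e : ∀ i < 5, (dent c0acc2 c0ace_P (nat_lit 24)) i = 0 := allZ_sound0 c0acc2_e_0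
theorem c0acc2_ok : DOK c0acc2 c0ace_P 24 := ⟨c0acc2_h, c0acc2_e⟩
theorem c0atn3_1 : ∀ i < 10, (c0atn3.ent H15.MM12.P c0ath_P c0ax_P c0ax_P c0ace_P (nat_lit 8) (nat_lit 1) H15.MM12.B c0atl2 [c0atl3, c0atl4, c0atl5] (memO c0acc2)) i = 0 := allZ_sound0 c0atn3_1_0
theorem c0atn3_t {G Ω : Type*} [Group G] [MulAction G Ω] {g : ℕ → G} {pt : ℕ → Ω}
    (M : Md g pt H15.MM12.P 24 8 H15.MM12.B 95040) : TrO (gen (wds g c0ath_W) c0atl2.K) (wds g c0ax_W) (wds g c0ax_W) 1 pt 24 (c0atl2.Pt 0) (memO c0acc2) :=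
  node M (c0at_S2 M) (c0ath_act M) (c0ax_act M) (c0ax_act M) c0atn3 ((c0ace_act M).mono (by decide)) (fun _ _ => trivial) c0atn3_0 c0atn3_1 (List.forall_mem_nil _)
theorem c0acc0_e : ∀ i < 7, (dent c0acc0 c0ace_P (nat_lit 24)) i = 0 := allZ_sound0 c0acc0_e_0
theorem c0acc0_ok : DOK c0acc0 c0ace_P 24 := ⟨c0acc0_h, c0acc0_e⟩
theorem c0atn4_1 : ∀ i < 12, (c0atn4.ent H15.MM12.P c0ath_P c0ax_P c0ax_P c0ace_P (nat_lit 8) (nat_lit 1) H15.MM12.B c0atl0 [c0atl1, c0atl2, c0atl3, c0atl4, c0atl5] (memO c0acc0)) i = 0 := allZ_sound0 c0atn4_1_0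
theorem c0atn4_t {G Ω : Type*} [Group G] [MulAction G Ω] {g : ℕ → G} {pt : ℕ → Ω}
    (M : Md g pt H15.MM12.P 24 8 H15.MM12.B 95040) : TrO (gen (wds g c0ath_W) c0atl0.K) (wds g c0ax_W) (wds g c0ax_W) 1 pt 24 (c0atl0.Pt 0) (memO c0acc0) :=
  node M (c0at_S0 M) (c0ath_act M) (c0ax_act M) (c0ax_act M) c0atn4 ((c0ace_act M).mono (by decide)) (fun _ _ => trivial) c0atn4_0 c0atn4_1 (List.forall_mem_nil _)
theorem c0ac {G Ω : Type*} [Group G] [MulAction G Ω] {g : ℕ → G} {pt : ℕ → Ω}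
    (M : Md g pt H15.MM12.P 24 8 H15.MM12.B 95040) : Cen ⊤ (wds g c0ax_W) 1 (wds g c0ace_W) pt 24 [c0acc0, c0acc2, c0acc4, c0acc5] :=
  (c0at_S0 M).top ▸ Cen.lev M (c0at_S0 M) (Cen.triv (c0at_S1 M) (Cen.lev M (c0at_S2 M) (Cen.triv (c0at_S3 M) (Cen.lev M (c0at_S4 M) (Cen.lev M (c0at_S5 M) (Cen.bot) (c0atn0_t M) (c0ax_act M) (c0ace_act M) (fun _ _ => trivial) c0acc5_ok c0ac_f5) (c0atn1_t M) (c0ax_act M) (c0ace_act M) (fun _ _ => trivial) c0acc4_ok c0ac_f4) (forced (c0at_S3 M) (c0ath_act M) (c0ax_act M) _ _ c0ac_f3)) (c0atn3_t M) (c0ax_act M) (c0ace_act M) (fun _ _ => trivial) c0acc2_ok c0ac_f2) (forced (c0at_S1 M) (c0ath_act M) (c0ax_act M) _ _ c0ac_f1)) (c0atn4_t M) (c0ax_act M) (c0ace_act M) (fun _ _ => trivial) c0acc0_ok c0ac_f0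
theorem c0ac_card {G Ω : Type*} [Group G] [MulAction G Ω] {g : ℕ → G} {pt : ℕ → Ω}
    (M : Md g pt H15.MM12.P 24 8 H15.MM12.B 95040) : Nat.card (Subgroup.centralizer {(wds g c0ax_W) 0}) = 192 :=
  (c0ac M).card_cent1 M.inj c0ac_c.1
theorem c0ac_eq {G Ω : Type*} [Group G] [MulAction G Ω] {g : ℕ → G} {pt : ℕ → Ω}
    (M : Md g pt H15.MM12.P 24 8 H15.MM12.B 95040) : Subgroup.centralizer (gen (wds g c0ax_W) 1) = gen (wds g c0ace_W) 6 ∧ Nat.card (gen (wds g c0ace_W) 6) = 192 :=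
  c0ac_c.1 ▸ c0ac_c.2 ▸ ⟨(c0ac M).cent, (c0ac M).card M.inj⟩
theorem c0w0_act {G Ω : Type*} [Group G] [MulAction G Ω] {g : ℕ → G} {pt : ℕ → Ω}
    (M : Md g pt H15.MM12.P 24 8 H15.MM12.B 95040) : Act (wds g c0w0_W) pt c0w0_P 24 2 :=
  M.wact c0w0_lt
theorem c0y0x_act {G Ω : Type*} [Group G] [MulAction G Ω] {g : ℕ → G} {pt : ℕ → Ω}
    (M : Md g pt H15.MM12.P 24 8 H15.MM12.B 95040) : Act (wds g c0y0x_W) pt c0y0x_P 24 1 :=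
  M.wact c0y0x_lt
theorem c0y0th_act {G Ω : Type*} [Group G] [MulAction G Ω] {g : ℕ → G} {pt : ℕ → Ω}
    (M : Md g pt H15.MM12.P 24 8 H15.MM12.B 95040) : Act (wds g c0y0th_W) pt c0y0th_P 24 11 :=
  M.wact c0y0th_lt
theorem c0y0tl0_e : ∀ i < 11, (dent c0y0tl0 c0y0th_P (nat_lit 24)) i = 0 := allZ_sound0 c0y0tl0_e_0
theorem c0y0tl0_ok : DOK c0y0tl0 c0y0th_P 24 := ⟨c0y0tl0_h, c0y0tl0_e⟩
theorem c0y0tl1_e : ∀ i < 10, (dent c0y0tl1 c0y0th_P (nat_lit 24)) i = 0 := allZ_sound0 c0y0tl1_e_0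
theorem c0y0tl1_ok : DOK c0y0tl1 c0y0th_P 24 := ⟨c0y0tl1_h, c0y0tl1_e⟩
theorem c0y0tl2_e : ∀ i < 9, (dent c0y0tl2 c0y0th_P (nat_lit 24)) i = 0 := allZ_sound0 c0y0tl2_e_0
theorem c0y0tl2_ok : DOK c0y0tl2 c0y0th_P 24 := ⟨c0y0tl2_h, c0y0tl2_e⟩
theorem c0y0tl3_e : ∀ i < 8, (dent c0y0tl3 c0y0th_P (nat_lit 24)) i = 0 := allZ_sound0 c0y0tl3_e_0
theorem c0y0tl3_ok : DOK c0y0tl3 c0y0th_P 24 := ⟨c0y0tl3_h, c0y0tl3_e⟩
theorem c0y0tl4_e : ∀ i < 7, (dent c0y0tl4 c0y0th_P (nat_lit 24)) i = 0 := allZ_sound0 c0y0tl4_e_0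
theorem c0y0tl4_ok : DOK c0y0tl4 c0y0th_P 24 := ⟨c0y0tl4_h, c0y0tl4_e⟩
theorem c0y0t_low {G Ω : Type*} [Group G] [MulAction G Ω] {g : ℕ → G} {pt : ℕ → Ω}
    (M : Md g pt H15.MM12.P 24 8 H15.MM12.B 95040) : SLow (gi (wds g c0y0th_W)) pt 24 [c0y0tl0, c0y0tl1, c0y0tl2, c0y0tl3, c0y0tl4] :=
  (((((SLow.nil).cons c0y0tl4_ok (c0y0th_act M) c0y0t_f4).cons c0y0tl3_ok (c0y0th_act M) c0y0t_f3).cons c0y0tl2_ok (c0y0th_act M) c0y0t_f2).cons c0y0tl1_ok (c0y0th_act M) c0y0t_f1).cons c0y0tl0_ok (c0y0th_act M) c0y0t_f0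
theorem c0y0t_S0 {G Ω : Type*} [Group G] [MulAction G Ω] {g : ℕ → G} {pt : ℕ → Ω}
    (M : Md g pt H15.MM12.P 24 8 H15.MM12.B 95040) : Stage ⊤ (wds g c0y0th_W) pt 24 [c0y0tl0, c0y0tl1, c0y0tl2, c0y0tl3, c0y0tl4] [] :=
  M.stage (c0y0t_low M) c0y0t_c
theorem c0y0t_S1 {G Ω : Type*} [Group G] [MulAction G Ω] {g : ℕ → G} {pt : ℕ → Ω}
    (M : Md g pt H15.MM12.P 24 8 H15.MM12.B 95040) : Stage ⊤ (wds g c0y0th_W) pt 24 [c0y0tl1, c0y0tl2, c0y0tl3, c0y0tl4] [c0y0tl0.Pt 0] :=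
  (c0y0t_S0 M).next
theorem c0y0t_S2 {G Ω : Type*} [Group G] [MulAction G Ω] {g : ℕ → G} {pt : ℕ → Ω}
    (M : Md g pt H15.MM12.P 24 8 H15.MM12.B 95040) : Stage ⊤ (wds g c0y0th_W) pt 24 [c0y0tl2, c0y0tl3, c0y0tl4] [c0y0tl1.Pt 0, c0y0tl0.Pt 0] :=
  (c0y0t_S1 M).next
theorem c0y0t_S3 {G Ω : Type*} [Group G] [MulAction G Ω] {g : ℕ → G} {pt : ℕ → Ω}
    (M : Md g pt H15.MM12.P 24 8 H15.MM12.B 95040) : Stage ⊤ (wds g c0y0th_W) pt 24 [c0y0tl3, c0y0tl4] [c0y0tl2.Pt 0, c0y0tl1.Pt 0, c0y0tl0.Pt 0] :=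
  (c0y0t_S2 M).next
theorem c0y0t_S4 {G Ω : Type*} [Group G] [MulAction G Ω] {g : ℕ → G} {pt : ℕ → Ω}
    (M : Md g pt H15.MM12.P 24 8 H15.MM12.B 95040) : Stage ⊤ (wds g c0y0th_W) pt 24 [c0y0tl4] [c0y0tl3.Pt 0, c0y0tl2.Pt 0, c0y0tl1.Pt 0, c0y0tl0.Pt 0] :=
  (c0y0t_S3 M).next
theorem c0y0t_S5 {G Ω : Type*} [Group G] [MulAction G Ω] {g : ℕ → G} {pt : ℕ → Ω}
    (M : Md g pt H15.MM12.P 24 8 H15.MM12.B 95040) : Stage ⊤ (wds g c0y0th_W) pt 24 [] [c0y0tl4.Pt 0, c0y0tl3.Pt 0, c0y0tl2.Pt 0, c0y0tl1.Pt 0, c0y0tl0.Pt 0] :=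
  (c0y0t_S4 M).next
theorem c0y0ce_act {G Ω : Type*} [Group G] [MulAction G Ω] {g : ℕ → G} {pt : ℕ → Ω}
    (M : Md g pt H15.MM12.P 24 8 H15.MM12.B 95040) : Act (wds g c0y0ce_W) pt c0y0ce_P 24 2 :=
  M.wact c0y0ce_lt
theorem c0y0cc0_e : ∀ i < 5, (dent c0y0cc0 c0y0ce_P (nat_lit 24)) i = 0 := allZ_sound0 c0y0cc0_e_0
theorem c0y0cc0_ok : DOK c0y0cc0 c0y0ce_P 24 := ⟨c0y0cc0_h, c0y0cc0_e⟩
theorem c0y0tn0_1 : ∀ i < 12, (c0y0tn0.ent H15.MM12.P c0y0th_P c0y0x_P c0y0x_P c0y0ce_P (nat_lit 8) (nat_lit 1) H15.MM12.B c0y0tl0 [c0y0tl1, c0y0tl2, c0y0tl3, c0y0tl4] (memO c0y0cc0)) i = 0 := allZ_sound0 c0y0tn0_1_0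
theorem c0y0tn0_t {G Ω : Type*} [Group G] [MulAction G Ω] {g : ℕ → G} {pt : ℕ → Ω}
    (M : Md g pt H15.MM12.P 24 8 H15.MM12.B 95040) : TrO (gen (wds g c0y0th_W) c0y0tl0.K) (wds g c0y0x_W) (wds g c0y0x_W) 1 pt 24 (c0y0tl0.Pt 0) (memO c0y0cc0) :=
  node M (c0y0t_S0 M) (c0y0th_act M) (c0y0x_act M) (c0y0x_act M) c0y0tn0 ((c0y0ce_act M).mono (by decide)) (fun _ _ => trivial) c0y0tn0_0 c0y0tn0_1 (List.forall_mem_nil _)
theorem c0y0c {G Ω : Type*} [Group G] [MulAction G Ω] {g : ℕ → G} {pt : ℕ → Ω}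
    (M : Md g pt H15.MM12.P 24 8 H15.MM12.B 95040) : Cen ⊤ (wds g c0y0x_W) 1 (wds g c0y0ce_W) pt 24 [c0y0cc0] :=
  (c0y0t_S0 M).top ▸ Cen.lev M (c0y0t_S0 M) (Cen.triv (c0y0t_S1 M) (Cen.triv (c0y0t_S2 M) (Cen.triv (c0y0t_S3 M) (Cen.triv (c0y0t_S4 M) (Cen.bot) (forced (c0y0t_S4 M) (c0y0th_act M) (c0y0x_act M) _ _ c0y0c_f4)) (forced (c0y0t_S3 M) (c0y0th_act M) (c0y0x_act M) _ _ c0y0c_f3)) (forced (c0y0t_S2 M) (c0y0th_act M) (c0y0x_act M) _ _ c0y0c_f2)) (forced (c0y0t_S1 M) (c0y0th_act M) (c0y0x_act M) _ _ c0y0c_f1)) (c0y0tn0_t M) (c0y0x_act M) (c0y0ce_act M) (fun _ _ => trivial) c0y0cc0_ok c0y0c_f0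
theorem c0y0c_card {G Ω : Type*} [Group G] [MulAction G Ω] {g : ℕ → G} {pt : ℕ → Ω}
    (M : Md g pt H15.MM12.P 24 8 H15.MM12.B 95040) : Nat.card (Subgroup.centralizer {(wds g c0y0x_W) 0}) = 6 :=
  (c0y0c M).card_cent1 M.inj c0y0c_c.1
theorem c0y0c_eq {G Ω : Type*} [Group G] [MulAction G Ω] {g : ℕ → G} {pt : ℕ → Ω}
    (M : Md g pt H15.MM12.P 24 8 H15.MM12.B 95040) : Subgroup.centralizer (gen (wds g c0y0x_W) 1) = gen (wds g c0y0ce_W) 2 ∧ Nat.card (gen (wds g c0y0ce_W) 2) = 6 :=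
  c0y0c_c.1 ▸ c0y0c_c.2 ▸ ⟨(c0y0c M).cent, (c0y0c M).card M.inj⟩
theorem c0w0p {G Ω : Type*} [Group G] [MulAction G Ω] {g : ℕ → G} {pt : ℕ → Ω}
    (M : Md g pt H15.MM12.P 24 8 H15.MM12.B 95040) : (wds g c0w0_W) 0 ^ 2 = 1 :=
  M.pw (c0w0_act M) c0w0p_k
theorem c0w0n {G Ω : Type*} [Group G] [MulAction G Ω] {g : ℕ → G} {pt : ℕ → Ω}
    (M : Md g pt H15.MM12.P 24 8 H15.MM12.B 95040) : (wds g c0w0_W) 1 ^ 2 ≠ 1 :=
  M.npw (c0w0_act M) _ c0w0n_k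
theorem c0W0 {G Ω : Type*} [Group G] [MulAction G Ω] {g : ℕ → G} {pt : ℕ → Ω}
    (M : Md g pt H15.MM12.P 24 8 H15.MM12.B 95040) : Wit (H27.IC.Ce ((wds g covr_W) 0)) 3 6 :=
  have := M.fin
  wit_w (x := (wds g c0w0_W)) (k := 1) (by norm_num) (M.eq_of (c0w0_act M) c0w0_k) (c0w0p M) (c0w0n M) (c0ac_card M) (by decide +kernel) (c0y0c_card M)
theorem c0 {G Ω : Type*} [Group G] [MulAction G Ω] {g : ℕ → G} {pt : ℕ → Ω}
    (M : Md g pt H15.MM12.P 24 8 H15.MM12.B 95040) : OK (H27.IC.Ce ((wds g covr_W) 0)) :=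
  have := M.fin
  ok_num (n := 192) (ws := []) 6 (c0ac_card M) (c0W0 M) (List.forall_mem_nil _) (by decide +kernel)
theorem c1ax_act {G Ω : Type*} [Group G] [MulAction G Ω] {g : ℕ → G} {pt : ℕ → Ω}
    (M : Md g pt H15.MM12.P 24 8 H15.MM12.B 95040) : Act (wds g c1ax_W) pt c1ax_P 24 1 :=
  M.wact c1ax_lt
theorem c1ath_act {G Ω : Type*} [Group G] [MulAction G Ω] {g : ℕ → G} {pt : ℕ → Ω}
    (M : Md g pt H15.MM12.P 24 8 H15.MM12.B 95040) : Act (wds g c1ath_W) pt c1ath_P 24 11 :=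
  M.wact c1ath_lt
theorem c1atl0_e : ∀ i < 11, (dent c1atl0 c1ath_P (nat_lit 24)) i = 0 := allZ_sound0 c1atl0_e_0
theorem c1atl0_ok : DOK c1atl0 c1ath_P 24 := ⟨c1atl0_h, c1atl0_e⟩
theorem c1atl1_e : ∀ i < 10, (dent c1atl1 c1ath_P (nat_lit 24)) i = 0 := allZ_sound0 c1atl1_e_0
theorem c1atl1_ok : DOK c1atl1 c1ath_P 24 := ⟨c1atl1_h, c1atl1_e⟩
theorem c1atl2_e : ∀ i < 9, (dent c1atl2 c1ath_P (nat_lit 24)) i = 0 := allZ_sound0 c1atl2_e_0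
theorem c1atl2_ok : DOK c1atl2 c1ath_P 24 := ⟨c1atl2_h, c1atl2_e⟩
theorem c1atl3_e : ∀ i < 8, (dent c1atl3 c1ath_P (nat_lit 24)) i = 0 := allZ_sound0 c1atl3_e_0
theorem c1atl3_ok : DOK c1atl3 c1ath_P 24 := ⟨c1atl3_h, c1atl3_e⟩
theorem c1atl4_e : ∀ i < 3, (dent c1atl4 c1ath_P (nat_lit 24)) i = 0 := allZ_sound0 c1atl4_e_0
theorem c1atl4_ok : DOK c1atl4 c1ath_P 24 := ⟨c1atl4_h, c1atl4_e⟩
theorem c1atl5_e : ∀ i < 1, (dent c1atl5 c1ath_P (nat_lit 24)) i = 0 := allZ_sound0 c1atl5_e_0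
theorem c1atl5_ok : DOK c1atl5 c1ath_P 24 := ⟨c1atl5_h, c1atl5_e⟩
theorem c1at_low {G Ω : Type*} [Group G] [MulAction G Ω] {g : ℕ → G} {pt : ℕ → Ω}
    (M : Md g pt H15.MM12.P 24 8 H15.MM12.B 95040) : SLow (gi (wds g c1ath_W)) pt 24 [c1atl0, c1atl1, c1atl2, c1atl3, c1atl4, c1atl5] :=
  ((((((SLow.nil).cons c1atl5_ok (c1ath_act M) c1at_f5).cons c1atl4_ok (c1ath_act M) c1at_f4).cons c1atl3_ok (c1ath_act M) c1at_f3).cons c1atl2_ok (c1ath_act M) c1at_f2).cons c1atl1_ok (c1ath_act M) c1at_f1).cons c1atl0_ok (c1ath_act M) c1at_f0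
theorem c1at_S0 {G Ω : Type*} [Group G] [MulAction G Ω] {g : ℕ → G} {pt : ℕ → Ω}
    (M : Md g pt H15.MM12.P 24 8 H15.MM12.B 95040) : Stage ⊤ (wds g c1ath_W) pt 24 [c1atl0, c1atl1, c1atl2, c1atl3, c1atl4, c1atl5] [] :=
  M.stage (c1at_low M) c1at_c
theorem c1at_S1 {G Ω : Type*} [Group G] [MulAction G Ω] {g : ℕ → G} {pt : ℕ → Ω}
    (M : Md g pt H15.MM12.P 24 8 H15.MM12.B 95040) : Stage ⊤ (wds g c1ath_W) pt 24 [c1atl1, c1atl2, c1atl3, c1atl4, c1atl5] [c1atl0.Pt 0] :=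
  (c1at_S0 M).next
theorem c1at_S2 {G Ω : Type*} [Group G] [MulAction G Ω] {g : ℕ → G} {pt : ℕ → Ω}
    (M : Md g pt H15.MM12.P 24 8 H15.MM12.B 95040) : Stage ⊤ (wds g c1ath_W) pt 24 [c1atl2, c1atl3, c1atl4, c1atl5] [c1atl1.Pt 0, c1atl0.Pt 0] :=
  (c1at_S1 M).next
theorem c1at_S3 {G Ω : Type*} [Group G] [MulAction G Ω] {g : ℕ → G} {pt : ℕ → Ω}
    (M : Md g pt H15.MM12.P 24 8 H15.MM12.B 95040) : Stage ⊤ (wds g c1ath_W) pt 24 [c1atl3, c1atl4, c1atl5] [c1atl2.Pt 0, c1atl1.Pt 0, c1atl0.Pt 0] :=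
  (c1at_S2 M).next
theorem c1at_S4 {G Ω : Type*} [Group G] [MulAction G Ω] {g : ℕ → G} {pt : ℕ → Ω}
    (M : Md g pt H15.MM12.P 24 8 H15.MM12.B 95040) : Stage ⊤ (wds g c1ath_W) pt 24 [c1atl4, c1atl5] [c1atl3.Pt 0, c1atl2.Pt 0, c1atl1.Pt 0, c1atl0.Pt 0] :=
  (c1at_S3 M).next
theorem c1at_S5 {G Ω : Type*} [Group G] [MulAction G Ω] {g : ℕ → G} {pt : ℕ → Ω}
    (M : Md g pt H15.MM12.P 24 8 H15.MM12.B 95040) : Stage ⊤ (wds g c1ath_W) pt 24 [c1atl5] [c1atl4.Pt 0, c1atl3.Pt 0, c1atl2.Pt 0, c1atl1.Pt 0, c1atl0.Pt 0] :=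
  (c1at_S4 M).next
theorem c1at_S6 {G Ω : Type*} [Group G] [MulAction G Ω] {g : ℕ → G} {pt : ℕ → Ω}
    (M : Md g pt H15.MM12.P 24 8 H15.MM12.B 95040) : Stage ⊤ (wds g c1ath_W) pt 24 [] [c1atl5.Pt 0, c1atl4.Pt 0, c1atl3.Pt 0, c1atl2.Pt 0, c1atl1.Pt 0, c1atl0.Pt 0] :=
  (c1at_S5 M).next
theorem c1ace_act {G Ω : Type*} [Group G] [MulAction G Ω] {g : ℕ → G} {pt : ℕ → Ω}
    (M : Md g pt H15.MM12.P 24 8 H15.MM12.B 95040) : Act (wds g c1ace_W) pt c1ace_P 24 4 :=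
  M.wact c1ace_lt
theorem c1acc5_e : ∀ i < 1, (dent c1acc5 c1ace_P (nat_lit 24)) i = 0 := allZ_sound0 c1acc5_e_0
theorem c1acc5_ok : DOK c1acc5 c1ace_P 24 := ⟨c1acc5_h, c1acc5_e⟩
theorem c1atn0_1 : ∀ i < 2, (c1atn0.ent H15.MM12.P c1ath_P c1ax_P c1ax_P c1ace_P (nat_lit 8) (nat_lit 1) H15.MM12.B c1atl5 [] (memO c1acc5)) i = 0 := allZ_sound0 c1atn0_1_0
theorem c1atn0_t {G Ω : Type*} [Group G] [MulAction G Ω] {g : ℕ → G} {pt : ℕ → Ω}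
    (M : Md g pt H15.MM12.P 24 8 H15.MM12.B 95040) : TrO (gen (wds g c1ath_W) c1atl5.K) (wds g c1ax_W) (wds g c1ax_W) 1 pt 24 (c1atl5.Pt 0) (memO c1acc5) :=
  node M (c1at_S5 M) (c1ath_act M) (c1ax_act M) (c1ax_act M) c1atn0 ((c1ace_act M).mono (by decide)) (fun _ _ => trivial) c1atn0_0 c1atn0_1 (List.forall_mem_nil _)
theorem c1acc4_e : ∀ i < 1, (dent c1acc4 c1ace_P (nat_lit 24)) i = 0 := allZ_sound0 c1acc4_e_0
theorem c1acc4_ok : DOK c1acc4 c1ace_P 24 := ⟨c1acc4_h, c1acc4_e⟩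
theorem c1atn1y22_act {G Ω : Type*} [Group G] [MulAction G Ω] {g : ℕ → G} {pt : ℕ → Ω}
    (M : Md g pt H15.MM12.P 24 8 H15.MM12.B 95040) : Act (wds g c1atn1y22_W) pt c1atn1y22_P 24 1 :=
  M.wact c1atn1y22_lt
theorem c1atr2k_act {G Ω : Type*} [Group G] [MulAction G Ω] {g : ℕ → G} {pt : ℕ → Ω}
    (M : Md g pt H15.MM12.P 24 8 H15.MM12.B 95040) : Act (wds g c1atr2k_W) pt c1atr2k_P 24 2 :=
  M.wact c1atr2k_lt
theorem c1atn2_1 : ∀ i < 2, (c1atn2.ent H15.MM12.P c1ath_P c1ax_P c1atn1y22_P c1atr2k_P (nat_lit 8) (nat_lit 1) H15.MM12.B c1atl5 [] (fun _ => nat_lit 1)) i = 0 := allZ_sound0 c1atn2_1_0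
theorem c1atn2_t {G Ω : Type*} [Group G] [MulAction G Ω] {g : ℕ → G} {pt : ℕ → Ω}
    (M : Md g pt H15.MM12.P 24 8 H15.MM12.B 95040) : TrO (gen (wds g c1ath_W) c1atl5.K) (wds g c1ax_W) (wds g c1atn1y22_W) 1 pt 24 (c1atl5.Pt 0) (fun _ => nat_lit 1) :=
  node M (c1at_S5 M) (c1ath_act M) (c1ax_act M) (c1atn1y22_act M) c1atn2 ((c1atr2k_act M).mono (by decide)) (fun _ _ => trivial) c1atn2_0 c1atn2_1 (List.forall_mem_nil _)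
theorem c1atr2 {G Ω : Type*} [Group G] [MulAction G Ω] {g : ℕ → G} {pt : ℕ → Ω}
    (M : Md g pt H15.MM12.P 24 8 H15.MM12.B 95040) : Ref (gen (wds g c1ath_W) (topK [c1atl5])) (wds g c1ax_W) (wds g c1atn1y22_W) 1 :=
  (c1atn2_t M).ref
theorem c1atn1_1 : ∀ i < 4, (c1atn1.ent H15.MM12.P c1ath_P c1ax_P c1ax_P c1ace_P (nat_lit 8) (nat_lit 1) H15.MM12.B c1atl4 [c1atl5] (memO c1acc4)) i = 0 := allZ_sound0 c1atn1_1_0
theorem c1atn1_t {G Ω : Type*} [Group G] [MulAction G Ω] {g : ℕ → G} {pt : ℕ → Ω}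
    (M : Md g pt H15.MM12.P 24 8 H15.MM12.B 95040) : TrO (gen (wds g c1ath_W) c1atl4.K) (wds g c1ax_W) (wds g c1ax_W) 1 pt 24 (c1atl4.Pt 0) (memO c1acc4) :=
  node M (c1at_S4 M) (c1ath_act M) (c1ax_act M) (c1ax_act M) c1atn1 ((c1ace_act M).mono (by decide)) (fun _ _ => trivial) c1atn1_0 c1atn1_1 (List.forall_mem_cons.2 ⟨c1atr2 M, List.forall_mem_nil _⟩)
theorem c1acc2_e : ∀ i < 4, (dent c1acc2 c1ace_P (nat_lit 24)) i = 0 := allZ_sound0 c1acc2_e_0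
theorem c1acc2_ok : DOK c1acc2 c1ace_P 24 := ⟨c1acc2_h, c1acc2_e⟩
theorem c1atn3y12_act {G Ω : Type*} [Group G] [MulAction G Ω] {g : ℕ → G} {pt : ℕ → Ω}
    (M : Md g pt H15.MM12.P 24 8 H15.MM12.B 95040) : Act (wds g c1atn3y12_W) pt c1atn3y12_P 24 1 :=
  M.wact c1atn3y12_lt
theorem c1atr4k_act {G Ω : Type*} [Group G] [MulAction G Ω] {g : ℕ → G} {pt : ℕ → Ω}
    (M : Md g pt H15.MM12.P 24 8 H15.MM12.B 95040) : Act (wds g c1atr4k_W) pt c1atr4k_P 24 2 :=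
  M.wact c1atr4k_lt
theorem c1atn4_1 : ∀ i < 4, (c1atn4.ent H15.MM12.P c1ath_P c1ax_P c1atn3y12_P c1atr4k_P (nat_lit 8) (nat_lit 1) H15.MM12.B c1atl4 [c1atl5] (fun _ => nat_lit 1)) i = 0 := allZ_sound0 c1atn4_1_0
theorem c1atn4_t {G Ω : Type*} [Group G] [MulAction G Ω] {g : ℕ → G} {pt : ℕ → Ω}
    (M : Md g pt H15.MM12.P 24 8 H15.MM12.B 95040) : TrO (gen (wds g c1ath_W) c1atl4.K) (wds g c1ax_W) (wds g c1atn3y12_W) 1 pt 24 (c1atl4.Pt 0) (fun _ => nat_lit 1) :=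
  node M (c1at_S4 M) (c1ath_act M) (c1ax_act M) (c1atn3y12_act M) c1atn4 ((c1atr4k_act M).mono (by decide)) (fun _ _ => trivial) c1atn4_0 c1atn4_1 (List.forall_mem_nil _)
theorem c1atr4 {G Ω : Type*} [Group G] [MulAction G Ω] {g : ℕ → G} {pt : ℕ → Ω}
    (M : Md g pt H15.MM12.P 24 8 H15.MM12.B 95040) : Ref (gen (wds g c1ath_W) (topK [c1atl4, c1atl5])) (wds g c1ax_W) (wds g c1atn3y12_W) 1 :=
  (c1atn4_t M).ref
theorem c1atn3_1 : ∀ i < 10, (c1atn3.ent H15.MM12.P c1ath_P c1ax_P c1ax_P c1ace_P (nat_lit 8) (nat_lit 1) H15.MM12.B c1atl2 [c1atl3, c1atl4, c1atl5] (memO c1acc2)) i = 0 := allZ_sound0 c1atn3_1_0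
theorem c1atn3_t {G Ω : Type*} [Group G] [MulAction G Ω] {g : ℕ → G} {pt : ℕ → Ω}
    (M : Md g pt H15.MM12.P 24 8 H15.MM12.B 95040) : TrO (gen (wds g c1ath_W) c1atl2.K) (wds g c1ax_W) (wds g c1ax_W) 1 pt 24 (c1atl2.Pt 0) (memO c1acc2) :=
  node M (c1at_S2 M) (c1ath_act M) (c1ax_act M) (c1ax_act M) c1atn3 ((c1ace_act M).mono (by decide)) (fun _ _ => trivial) c1atn3_0 c1atn3_1 (List.forall_mem_cons.2 ⟨c1atr4 M, List.forall_mem_nil _⟩)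
theorem c1acc0_e : ∀ i < 11, (dent c1acc0 c1ace_P (nat_lit 24)) i = 0 := allZ_sound0 c1acc0_e_0
theorem c1acc0_ok : DOK c1acc0 c1ace_P 24 := ⟨c1acc0_h, c1acc0_e⟩
theorem c1atn5_1 : ∀ i < 12, (c1atn5.ent H15.MM12.P c1ath_P c1ax_P c1ax_P c1ace_P (nat_lit 8) (nat_lit 1) H15.MM12.B c1atl0 [c1atl1, c1atl2, c1atl3, c1atl4, c1atl5] (memO c1acc0)) i = 0 := allZ_sound0 c1atn5_1_0
theorem c1atn5_t {G Ω : Type*} [Group G] [MulAction G Ω] {g : ℕ → G} {pt : ℕ → Ω}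
    (M : Md g pt H15.MM12.P 24 8 H15.MM12.B 95040) : TrO (gen (wds g c1ath_W) c1atl0.K) (wds g c1ax_W) (wds g c1ax_W) 1 pt 24 (c1atl0.Pt 0) (memO c1acc0) :=
  node M (c1at_S0 M) (c1ath_act M) (c1ax_act M) (c1ax_act M) c1atn5 ((c1ace_act M).mono (by decide)) (fun _ _ => trivial) c1atn5_0 c1atn5_1 (List.forall_mem_nil _)
theorem c1ac {G Ω : Type*} [Group G] [MulAction G Ω] {g : ℕ → G} {pt : ℕ → Ω}
    (M : Md g pt H15.MM12.P 24 8 H15.MM12.B 95040) : Cen ⊤ (wds g c1ax_W) 1 (wds g c1ace_W) pt 24 [c1acc0, c1acc2, c1acc4, c1acc5] :=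
  (c1at_S0 M).top ▸ Cen.lev M (c1at_S0 M) (Cen.triv (c1at_S1 M) (Cen.lev M (c1at_S2 M) (Cen.triv (c1at_S3 M) (Cen.lev M (c1at_S4 M) (Cen.lev M (c1at_S5 M) (Cen.bot) (c1atn0_t M) (c1ax_act M) (c1ace_act M) (fun _ _ => trivial) c1acc5_ok c1ac_f5) (c1atn1_t M) (c1ax_act M) (c1ace_act M) (fun _ _ => trivial) c1acc4_ok c1ac_f4) (forced (c1at_S3 M) (c1ath_act M) (c1ax_act M) _ _ c1ac_f3)) (c1atn3_t M) (c1ax_act M) (c1ace_act M) (fun _ _ => trivial) c1acc2_ok c1ac_f2) (forced (c1at_S1 M) (c1ath_act M) (c1ax_act M) _ _ c1ac_f1)) (c1atn5_t M) (c1ax_act M) (c1ace_act M) (fun _ _ => trivial) c1acc0_ok c1ac_f0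
theorem c1ac_card {G Ω : Type*} [Group G] [MulAction G Ω] {g : ℕ → G} {pt : ℕ → Ω}
    (M : Md g pt H15.MM12.P 24 8 H15.MM12.B 95040) : Nat.card (Subgroup.centralizer {(wds g c1ax_W) 0}) = 240 :=
  (c1ac M).card_cent1 M.inj c1ac_c.1
theorem c1ac_eq {G Ω : Type*} [Group G] [MulAction G Ω] {g : ℕ → G} {pt : ℕ → Ω}
    (M : Md g pt H15.MM12.P 24 8 H15.MM12.B 95040) : Subgroup.centralizer (gen (wds g c1ax_W) 1) = gen (wds g c1ace_W) 4 ∧ Nat.card (gen (wds g c1ace_W) 4) = 240 :=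
  c1ac_c.1 ▸ c1ac_c.2 ▸ ⟨(c1ac M).cent, (c1ac M).card M.inj⟩
theorem c1w0_act {G Ω : Type*} [Group G] [MulAction G Ω] {g : ℕ → G} {pt : ℕ → Ω}
    (M : Md g pt H15.MM12.P 24 8 H15.MM12.B 95040) : Act (wds g c1w0_W) pt c1w0_P 24 2 :=
  M.wact c1w0_lt
theorem c1y0x_act {G Ω : Type*} [Group G] [MulAction G Ω] {g : ℕ → G} {pt : ℕ → Ω}
    (M : Md g pt H15.MM12.P 24 8 H15.MM12.B 95040) : Act (wds g c1y0x_W) pt c1y0x_P 24 1 :=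
  M.wact c1y0x_lt
theorem c1y0th_act {G Ω : Type*} [Group G] [MulAction G Ω] {g : ℕ → G} {pt : ℕ → Ω}
    (M : Md g pt H15.MM12.P 24 8 H15.MM12.B 95040) : Act (wds g c1y0th_W) pt c1y0th_P 24 13 :=
  M.wact c1y0th_lt
theorem c1y0tl0_e : ∀ i < 11, (dent c1y0tl0 c1y0th_P (nat_lit 24)) i = 0 := allZ_sound0 c1y0tl0_e_0
theorem c1y0tl0_ok : DOK c1y0tl0 c1y0th_P 24 := ⟨c1y0tl0_h, c1y0tl0_e⟩
theorem c1y0tl1_e : ∀ i < 10, (dent c1y0tl1 c1y0th_P (nat_lit 24)) i = 0 := allZ_sound0 c1y0tl1_e_0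
theorem c1y0tl1_ok : DOK c1y0tl1 c1y0th_P 24 := ⟨c1y0tl1_h, c1y0tl1_e⟩
theorem c1y0tl2_e : ∀ i < 9, (dent c1y0tl2 c1y0th_P (nat_lit 24)) i = 0 := allZ_sound0 c1y0tl2_e_0
theorem c1y0tl2_ok : DOK c1y0tl2 c1y0th_P 24 := ⟨c1y0tl2_h, c1y0tl2_e⟩
theorem c1y0tl3_e : ∀ i < 8, (dent c1y0tl3 c1y0th_P (nat_lit 24)) i = 0 := allZ_sound0 c1y0tl3_e_0
theorem c1y0tl3_ok : DOK c1y0tl3 c1y0th_P 24 := ⟨c1y0tl3_h, c1y0tl3_e⟩
theorem c1y0tl4_e : ∀ i < 7, (dent c1y0tl4 c1y0th_P (nat_lit 24)) i = 0 := allZ_sound0 c1y0tl4_e_0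
theorem c1y0tl4_ok : DOK c1y0tl4 c1y0th_P 24 := ⟨c1y0tl4_h, c1y0tl4_e⟩
theorem c1y0t_low {G Ω : Type*} [Group G] [MulAction G Ω] {g : ℕ → G} {pt : ℕ → Ω}
    (M : Md g pt H15.MM12.P 24 8 H15.MM12.B 95040) : SLow (gi (wds g c1y0th_W)) pt 24 [c1y0tl0, c1y0tl1, c1y0tl2, c1y0tl3, c1y0tl4] :=
  (((((SLow.nil).cons c1y0tl4_ok (c1y0th_act M) c1y0t_f4).cons c1y0tl3_ok (c1y0th_act M) c1y0t_f3).cons c1y0tl2_ok (c1y0th_act M) c1y0t_f2).cons c1y0tl1_ok (c1y0th_act M) c1y0t_f1).cons c1y0tl0_ok (c1y0th_act M) c1y0t_f0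
theorem c1y0t_S0 {G Ω : Type*} [Group G] [MulAction G Ω] {g : ℕ → G} {pt : ℕ → Ω}
    (M : Md g pt H15.MM12.P 24 8 H15.MM12.B 95040) : Stage ⊤ (wds g c1y0th_W) pt 24 [c1y0tl0, c1y0tl1, c1y0tl2, c1y0tl3, c1y0tl4] [] :=
  M.stage (c1y0t_low M) c1y0t_c
theorem c1y0t_S1 {G Ω : Type*} [Group G] [MulAction G Ω] {g : ℕ → G} {pt : ℕ → Ω}
    (M : Md g pt H15.MM12.P 24 8 H15.MM12.B 95040) : Stage ⊤ (wds g c1y0th_W) pt 24 [c1y0tl1, c1y0tl2, c1y0tl3, c1y0tl4] [c1y0tl0.Pt 0] :=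
  (c1y0t_S0 M).next
theorem c1y0t_S2 {G Ω : Type*} [Group G] [MulAction G Ω] {g : ℕ → G} {pt : ℕ → Ω}
    (M : Md g pt H15.MM12.P 24 8 H15.MM12.B 95040) : Stage ⊤ (wds g c1y0th_W) pt 24 [c1y0tl2, c1y0tl3, c1y0tl4] [c1y0tl1.Pt 0, c1y0tl0.Pt 0] :=
  (c1y0t_S1 M).next
theorem c1y0t_S3 {G Ω : Type*} [Group G] [MulAction G Ω] {g : ℕ → G} {pt : ℕ → Ω}
    (M : Md g pt H15.MM12.P 24 8 H15.MM12.B 95040) : Stage ⊤ (wds g c1y0th_W) pt 24 [c1y0tl3, c1y0tl4] [c1y0tl2.Pt 0, c1y0tl1.Pt 0, c1y0tl0.Pt 0] :=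
  (c1y0t_S2 M).next
theorem c1y0t_S4 {G Ω : Type*} [Group G] [MulAction G Ω] {g : ℕ → G} {pt : ℕ → Ω}
    (M : Md g pt H15.MM12.P 24 8 H15.MM12.B 95040) : Stage ⊤ (wds g c1y0th_W) pt 24 [c1y0tl4] [c1y0tl3.Pt 0, c1y0tl2.Pt 0, c1y0tl1.Pt 0, c1y0tl0.Pt 0] :=
  (c1y0t_S3 M).next
theorem c1y0t_S5 {G Ω : Type*} [Group G] [MulAction G Ω] {g : ℕ → G} {pt : ℕ → Ω}
    (M : Md g pt H15.MM12.P 24 8 H15.MM12.B 95040) : Stage ⊤ (wds g c1y0th_W) pt 24 [] [c1y0tl4.Pt 0, c1y0tl3.Pt 0, c1y0tl2.Pt 0, c1y0tl1.Pt 0, c1y0tl0.Pt 0] :=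
  (c1y0t_S4 M).next
theorem c1y0ce_act {G Ω : Type*} [Group G] [MulAction G Ω] {g : ℕ → G} {pt : ℕ → Ω}
    (M : Md g pt H15.MM12.P 24 8 H15.MM12.B 95040) : Act (wds g c1y0ce_W) pt c1y0ce_P 24 2 :=
  M.wact c1y0ce_lt
theorem c1y0cc0_e : ∀ i < 9, (dent c1y0cc0 c1y0ce_P (nat_lit 24)) i = 0 := allZ_sound0 c1y0cc0_e_0
theorem c1y0cc0_ok : DOK c1y0cc0 c1y0ce_P 24 := ⟨c1y0cc0_h, c1y0cc0_e⟩
theorem c1y0tn0_1 : ∀ i < 12, (c1y0tn0.ent H15.MM12.P c1y0th_P c1y0x_P c1y0x_P c1y0ce_P (nat_lit 8) (nat_lit 1) H15.MM12.B c1y0tl0 [c1y0tl1, c1y0tl2, c1y0tl3, c1y0tl4] (memO c1y0cc0)) i = 0 := allZ_sound0 c1y0tn0_1_0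
theorem c1y0tn0_t {G Ω : Type*} [Group G] [MulAction G Ω] {g : ℕ → G} {pt : ℕ → Ω}
    (M : Md g pt H15.MM12.P 24 8 H15.MM12.B 95040) : TrO (gen (wds g c1y0th_W) c1y0tl0.K) (wds g c1y0x_W) (wds g c1y0x_W) 1 pt 24 (c1y0tl0.Pt 0) (memO c1y0cc0) :=
  node M (c1y0t_S0 M) (c1y0th_act M) (c1y0x_act M) (c1y0x_act M) c1y0tn0 ((c1y0ce_act M).mono (by decide)) (fun _ _ => trivial) c1y0tn0_0 c1y0tn0_1 (List.forall_mem_nil _)
theorem c1y0c {G Ω : Type*} [Group G] [MulAction G Ω] {g : ℕ → G} {pt : ℕ → Ω}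
    (M : Md g pt H15.MM12.P 24 8 H15.MM12.B 95040) : Cen ⊤ (wds g c1y0x_W) 1 (wds g c1y0ce_W) pt 24 [c1y0cc0] :=
  (c1y0t_S0 M).top ▸ Cen.lev M (c1y0t_S0 M) (Cen.triv (c1y0t_S1 M) (Cen.triv (c1y0t_S2 M) (Cen.triv (c1y0t_S3 M) (Cen.triv (c1y0t_S4 M) (Cen.bot) (forced (c1y0t_S4 M) (c1y0th_act M) (c1y0x_act M) _ _ c1y0c_f4)) (forced (c1y0t_S3 M) (c1y0th_act M) (c1y0x_act M) _ _ c1y0c_f3)) (forced (c1y0t_S2 M) (c1y0th_act M) (c1y0x_act M) _ _ c1y0c_f2)) (forced (c1y0t_S1 M) (c1y0th_act M) (c1y0x_act M) _ _ c1y0c_f1)) (c1y0tn0_t M) (c1y0x_act M) (c1y0ce_act M) (fun _ _ => trivial) c1y0cc0_ok c1y0c_f0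
theorem c1y0c_card {G Ω : Type*} [Group G] [MulAction G Ω] {g : ℕ → G} {pt : ℕ → Ω}
    (M : Md g pt H15.MM12.P 24 8 H15.MM12.B 95040) : Nat.card (Subgroup.centralizer {(wds g c1y0x_W) 0}) = 10 :=
  (c1y0c M).card_cent1 M.inj c1y0c_c.1
theorem c1y0c_eq {G Ω : Type*} [Group G] [MulAction G Ω] {g : ℕ → G} {pt : ℕ → Ω}
    (M : Md g pt H15.MM12.P 24 8 H15.MM12.B 95040) : Subgroup.centralizer (gen (wds g c1y0x_W) 1) = gen (wds g c1y0ce_W) 2 ∧ Nat.card (gen (wds g c1y0ce_W) 2) = 10 :=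
  c1y0c_c.1 ▸ c1y0c_c.2 ▸ ⟨(c1y0c M).cent, (c1y0c M).card M.inj⟩
theorem c1w0p {G Ω : Type*} [Group G] [MulAction G Ω] {g : ℕ → G} {pt : ℕ → Ω}
    (M : Md g pt H15.MM12.P 24 8 H15.MM12.B 95040) : (wds g c1w0_W) 0 ^ 2 = 1 :=
  M.pw (c1w0_act M) c1w0p_k
theorem c1w0n {G Ω : Type*} [Group G] [MulAction G Ω] {g : ℕ → G} {pt : ℕ → Ω}
    (M : Md g pt H15.MM12.P 24 8 H15.MM12.B 95040) : (wds g c1w0_W) 1 ^ 2 ≠ 1 :=
  M.npw (c1w0_act M) _ c1w0n_k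
theorem c1W0 {G Ω : Type*} [Group G] [MulAction G Ω] {g : ℕ → G} {pt : ℕ → Ω}
    (M : Md g pt H15.MM12.P 24 8 H15.MM12.B 95040) : Wit (H27.IC.Ce ((wds g covr_W) 1)) 5 10 :=
  have := M.fin
  wit_w (x := (wds g c1w0_W)) (k := 2) (by norm_num) (M.eq_of (c1w0_act M) c1w0_k) (c1w0p M) (c1w0n M) (c1ac_card M) (by decide +kernel) (c1y0c_card M)
theorem c1 {G Ω : Type*} [Group G] [MulAction G Ω] {g : ℕ → G} {pt : ℕ → Ω}
    (M : Md g pt H15.MM12.P 24 8 H15.MM12.B 95040) : OK (H27.IC.Ce ((wds g covr_W) 1)) :=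
  have := M.fin
  ok_num (n := 240) (ws := []) 4 (c1ac_card M) (c1W0 M) (List.forall_mem_nil _) (by decide +kernel)
theorem both {G Ω : Type*} [Group G] [MulAction G Ω] {g : ℕ → G} {pt : ℕ → Ω}
    (M : Md g pt H15.MM12.P 24 8 H15.MM12.B 95040) : Both G :=
  have := M.fin
  both_reps (wds g covr_W) 2 (fun _ hy => cov M (e := 1) hy hy) fun i hi => match i, hi with
    | 0, _ => c0 M
    | 1, _ => c1 M

theorem spor : Both Cfsg.Spor.M12 := by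
  obtain ⟨_, g, M, -⟩ := md (MulEquiv.subgroupCongr H15.MM12.gen_eq)
  exact both M

end H15.IC.M12
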