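import Cfsg.Agent.H15.IC.P
import Cfsg.Agent.H15.M.M23

/-! Generated by tools/h0/tr.py. -/

set_option maxRecDepth 100000
set_option maxHeartbeats 0

namespace H15.IC.M23
open H16 H0.TR
open scoped commutatorElement

noncomputable def p2t_W : List (List ℕ) := [[nat_lit 3, nat_lit 7, nat_lit 6, nat_lit 8, nat_lit 7, nat_lit 6, nat_lit 8, nat_lit 3],
  [nat_lit 4, nat_lit 0, nat_lit 2, nat_lit 6, nat_lit 0, nat_lit 7, nat_lit 6, nat_lit 0, nat_lit 2, nat_lit 8, nat_lit 7, nat_lit 6, nat_lit 1, nat_lit 7],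
  [nat_lit 1, nat_lit 5, nat_lit 6, nat_lit 0, nat_lit 2, nat_lit 6, nat_lit 7, nat_lit 8, nat_lit 7, nat_lit 6, nat_lit 1, nat_lit 7, nat_lit 6, nat_lit 1],
  [nat_lit 7, nat_lit 8, nat_lit 1, nat_lit 5, nat_lit 6, nat_lit 1, nat_lit 3, nat_lit 7, nat_lit 6, nat_lit 2, nat_lit 8, nat_lit 7, nat_lit 6, nat_lit 1, nat_lit 8],
  [nat_lit 1, nat_lit 2, nat_lit 4, nat_lit 6, nat_lit 1, nat_lit 7, nat_lit 6, nat_lit 0, nat_lit 3, nat_lit 8, nat_lit 7, nat_lit 6, nat_lit 0, nat_lit 8, nat_lit 7],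
  [nat_lit 6, nat_lit 7, nat_lit 1, nat_lit 7, nat_lit 6, nat_lit 2, nat_lit 8, nat_lit 7, nat_lit 6, nat_lit 1],
  [nat_lit 8, nat_lit 1, nat_lit 2, nat_lit 6, nat_lit 1, nat_lit 3, nat_lit 7, nat_lit 6, nat_lit 3, nat_lit 8, nat_lit 7, nat_lit 6, nat_lit 0, nat_lit 2, nat_lit 5]]
noncomputable def p2t_P : ℕ → ℕ → ℕ := wdsP H15.MM23.P p2t_W
noncomputable def p2Pd : List ℕ := [nat_lit 0x4a2773d052254d8058b10cc0,
  nat_lit 0x4a232b14e0b509111e681d60,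
  nat_lit 0x4a2e3c163684c47a44861540,
  nat_lit 0x4a2c18967404c42aa0d73d20,
  nat_lit 0x4a290984429e035396c435e0,
  nat_lit 0x464b43609708672314f304a0,
  nat_lit 0x4641434497c0e33154e22d80]
noncomputable def p2P (k u : ℕ) : ℕ := Nat.land (Nat.shiftRight (nth (nat_lit 0) p2Pd k) (Nat.mul u (nat_lit 5))) (nat_lit 31)
noncomputable def p2Ed : ℕ := nat_lit 0x20959ca307b9ab49cc518820
noncomputable def p2E (u : ℕ) : ℕ := Nat.land (Nat.shiftRight p2Ed (Nat.mul u (nat_lit 5))) (nat_lit 31)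
noncomputable def p2Id : ℕ := nat_lit 0x2007b9ac5a920400f23149118820
noncomputable def p2I (u : ℕ) : ℕ := Nat.land (Nat.shiftRight p2Id (Nat.mul u (nat_lit 5))) (nat_lit 31)
noncomputable def p2B : List ℕ := [nat_lit 0, nat_lit 1, nat_lit 2, nat_lit 3, nat_lit 4, nat_lit 17]
noncomputable def p2C : List (List (List ℕ)) := [[[],
  [],
  [],
  [],
  [],
  [],
  []], [[],
  [],
  [],
  [],
  [],
  [nat_lit 0],
  [nat_lit 0]], [[],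
  [],
  [],
  [nat_lit 0],
  [],
  [],
  [nat_lit 1]], [[],
  [],
  [],
  [nat_lit 0],
  [nat_lit 1],
  [nat_lit 1],
  []], [[],
  [],
  [],
  [],
  [],
  [nat_lit 0, nat_lit 2],
  [nat_lit 2]], [[],
  [],
  [],
  [],
  [],
  [nat_lit 2],
  [nat_lit 2, nat_lit 3]], [[],
  [],
  [],
  [],
  [],
  [],
  [nat_lit 3]]]
noncomputable def p2e : List (List ℕ) := [[nat_lit 2, nat_lit 3],
  [nat_lit 2, nat_lit 3],
  [],
  [nat_lit 3, nat_lit 4, nat_lit 6],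
  [nat_lit 2, nat_lit 3],
  [],
  [nat_lit 2, nat_lit 3],
  [],
  [nat_lit 2, nat_lit 3],
  [nat_lit 2, nat_lit 3],
  [],
  [],
  [],
  [],
  [nat_lit 2, nat_lit 3],
  [],
  [],
  [nat_lit 2, nat_lit 3],
  [nat_lit 3, nat_lit 4, nat_lit 6],
  [nat_lit 1, nat_lit 2, nat_lit 4, nat_lit 5],
  [nat_lit 4, nat_lit 6],
  [nat_lit 0, nat_lit 1],
  [nat_lit 0, nat_lit 2, nat_lit 5]]
noncomputable def p2l0Dd : ℕ := nat_lit 0xe4a08987585944312d422c1716151400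
noncomputable def p2l0D (u : ℕ) : ℕ := Nat.land (Nat.shiftRight p2l0Dd (Nat.mul u (nat_lit 8))) (nat_lit 255)
noncomputable def p2l0Pd : ℕ := nat_lit 0x2c0e61bdcb121aa61121
noncomputable def p2l0P (u : ℕ) : ℕ := Nat.land (Nat.shiftRight p2l0Pd (Nat.mul u (nat_lit 5))) (nat_lit 31)
noncomputable def p2l0Qd : ℕ := nat_lit 0xea9538416dcf2b700
noncomputable def p2l0Q (u : ℕ) : ℕ := Nat.land (Nat.shiftRight p2l0Qd (Nat.mul u (nat_lit 4))) (nat_lit 15)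
noncomputable def p2l0 : H16.Lev := ⟨16, 23, p2l0D, p2l0P, p2l0Q⟩
noncomputable def p2l1Dd : ℕ := nat_lit 0xffb9d74c3000
noncomputable def p2l1D (u : ℕ) : ℕ := Nat.land (Nat.shiftRight p2l1Dd (Nat.mul u (nat_lit 6))) (nat_lit 63)
noncomputable def p2l1Pd : ℕ := nat_lit 0x19dec2ba02
noncomputable def p2l1P (u : ℕ) : ℕ := Nat.land (Nat.shiftRight p2l1Pd (Nat.mul u (nat_lit 5))) (nat_lit 31)
noncomputable def p2l1Qd : ℕ := nat_lit 0x1a84000c18e00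
noncomputable def p2l1Q (u : ℕ) : ℕ := Nat.land (Nat.shiftRight p2l1Qd (Nat.mul u (nat_lit 3))) (nat_lit 7)
noncomputable def p2l1 : H16.Lev := ⟨8, 20, p2l1D, p2l1P, p2l1Q⟩
noncomputable def covr_W : List (List ℕ) := [[nat_lit 3, nat_lit 5, nat_lit 6, nat_lit 7, nat_lit 6, nat_lit 8, nat_lit 7, nat_lit 6, nat_lit 3]]
noncomputable def covr_P : ℕ → ℕ → ℕ := wdsP H15.MM23.P covr_W
noncomputable def covT0 : H0.TR.CT := (.split (.more (.split (.more (.split (.more (.split (.more (.split (.more (.split (.more (.split (.more .one (.more (.leaf (nat_lit 0) []) .one))) (.more (.fuse [nat_lit 5] [] (.leaf (nat_lit 0) [nat_lit 0, nat_lit 1, nat_lit 5, nat_lit 6, nat_lit 2, nat_lit 8, nat_lit 7, nat_lit 6, nat_lit 0, nat_lit 8, nat_lit 9, nat_lit 8, nat_lit 7, nat_lit 6])) .one))) (.more (.fuse [nat_lit 6] [] (.fuse [nat_lit 3] [] (.leaf (nat_lit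 0) [nat_lit 0, nat_lit 2, nat_lit 5, nat_lit 6, nat_lit 0, nat_lit 3, nat_lit 7, nat_lit 8, nat_lit 9, nat_lit 8, nat_lit 7, nat_lit 6]))) .one))) (.more (.split (.more (.fuse [nat_lit 4] [] (.fuse [nat_lit 2] [] (.prune (nat_lit 0) (nat_lit 1) []))) (.more (.fuse [nat_lit 4] [] (.fuse [nat_lit 2] [] (.leaf (nat_lit 0) [nat_lit 7, nat_lit 1, nat_lit 6, nat_lit 7, nat_lit 6, nat_lit 8, nat_lit 7, nat_lit 6, nat_lit 1, nat_lit 9, nat_lit 8, nat_lit 7, nat_lit 6, nat_lit 0, nat_lit 8]))) .one))) .one))) (.more (.split (.more (.fuse [nat_lit 5] [nat_lit 0] (.fuse [nat_lit 3] [] (.fuse [nat_lit 3, nat_lit 5, nat_lit 6] [] (.leaf (nat_lit 0) [nat_lit 6, nat_lit 1, nat_lit 3, nat_lit 4, nat_lit 6, nat_lit 0, nat_lit 1])))) (.more (.fuse [nat_lit 5] [nat_lit 1] (.fuse [nat_lit 3] [] (.prune (nat_lit 1) (nat_lit 1) [nat_lit 0]))) .one))) .one)))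 (.more (.split (.more (.fuse [nat_lit 6] [nat_lit 0, nat_lit 1, nat_lit 2] (.fuse [nat_lit 4] [nat_lit 0] (.prune (nat_lit 2) (nat_lit 1) []))) (.more (.fuse [nat_lit 6] [nat_lit 0] (.fuse [nat_lit 4] [nat_lit 0] (.split (.more (.fuse [nat_lit 1] [] (.prune (nat_lit 0) (nat_lit 1) [])) (.more (.fuse [nat_lit 1] [] (.leaf (nat_lit 0) [nat_lit 7, nat_lit 4, nat_lit 4, nat_lit 6, nat_lit 0, nat_lit 3, nat_lit 4, nat_lit 7, nat_lit 6, nat_lit 7])) .one))))) .one))) .one))) (.more (.split (.more (.split (.more (.fuse [nat_lit 5] [nat_lit 0, nat_lit 1, nat_lit 2] (.prune (nat_lit 3) (nat_lit 1) [])) (.more (.fuse [nat_lit 5] [] (.prune (nat_lit 3) (nat_lit 1) [nat_lit 0, nat_lit 1, nat_lit 2])) .one))) (.more (.split (.more (.fuse [nat_lit 5] [nat_lit 0, nat_lit 2] (.split (.more (.fuse [nat_lit 2] [] (.prune (nat_lit 1) (nat_lit 1) [])) (.more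 (.fuse [nat_lit 2] [] (.fuse [nat_lit 2, nat_lit 4] [] (.leaf (nat_lit 0) [nat_lit 0, nat_lit 2, nat_lit 3, nat_lit 4, nat_lit 6, nat_lit 0, nat_lit 2, nat_lit 5, nat_lit 6, nat_lit 7, nat_lit 8, nat_lit 9, nat_lit 8, nat_lit 7, nat_lit 6, nat_lit 2]))) .one)))) (.more (.fuse [nat_lit 5] [nat_lit 1] (.split (.more (.fuse [nat_lit 2] [] (.fuse [nat_lit 3] [] (.prune (nat_lit 0) (nat_lit 1) []))) (.more (.fuse [nat_lit 2] [] (.prune (nat_lit 1) (nat_lit 1) [nat_lit 0])) .one)))) .one))) .one))) .one)))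
noncomputable def c0ax_W : List (List ℕ) := [[nat_lit 3, nat_lit 5, nat_lit 6, nat_lit 7, nat_lit 6, nat_lit 8, nat_lit 7, nat_lit 6, nat_lit 3]]
noncomputable def c0ax_P : ℕ → ℕ → ℕ := wdsP H15.MM23.P c0ax_W
noncomputable def c0ath_W : List (List ℕ) := [[nat_lit 5, nat_lit 6, nat_lit 7, nat_lit 8, nat_lit 9, nat_lit 8, nat_lit 7, nat_lit 6],
  [nat_lit 2, nat_lit 6, nat_lit 7, nat_lit 8, nat_lit 9, nat_lit 8, nat_lit 7, nat_lit 6, nat_lit 2],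
  [nat_lit 1, nat_lit 6, nat_lit 7, nat_lit 8, nat_lit 9, nat_lit 8, nat_lit 7, nat_lit 6, nat_lit 1],
  [nat_lit 1, nat_lit 2, nat_lit 5, nat_lit 6, nat_lit 7, nat_lit 8, nat_lit 9, nat_lit 8, nat_lit 7, nat_lit 6, nat_lit 1, nat_lit 2],
  [nat_lit 4, nat_lit 6, nat_lit 7, nat_lit 8, nat_lit 9, nat_lit 8, nat_lit 7, nat_lit 6, nat_lit 2],
  [nat_lit 6],
  [nat_lit 2, nat_lit 8, nat_lit 0, nat_lit 3, nat_lit 6, nat_lit 1, nat_lit 2, nat_lit 9, nat_lit 8, nat_lit 7, nat_lit 6, nat_lit 0, nat_lit 3],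
  [nat_lit 0],
  [nat_lit 1],
  [nat_lit 2],
  [nat_lit 3],
  [nat_lit 4],
  [nat_lit 5],
  [nat_lit 7],
  [nat_lit 8],
  [nat_lit 9]]
noncomputable def c0ath_P : ℕ → ℕ → ℕ := wdsP H15.MM23.P c0ath_W
noncomputable def c0atl0Dd : ℕ := nat_lit 0x3398a5976e526d77756a673a5755372322211d200f0e00
noncomputable def c0atl0D (u : ℕ) : ℕ := Nat.land (Nat.shiftRight c0atl0Dd (Nat.mul u (nat_lit 8))) (nat_lit 255)
noncomputable def c0atl0Pd : ℕ := nat_lit 0x46c5ac9cf9c1283d18d5988350041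
noncomputable def c0atl0P (u : ℕ) : ℕ := Nat.land (Nat.shiftRight c0atl0Pd (Nat.mul u (nat_lit 5))) (nat_lit 31)
noncomputable def c0atl0Qd : ℕ := nat_lit 0x566a7cace8450938dac59a8520402
noncomputable def c0atl0Q (u : ℕ) : ℕ := Nat.land (Nat.shiftRight c0atl0Qd (Nat.mul u (nat_lit 5))) (nat_lit 31)
noncomputable def c0atl0 : H16.Lev := ⟨23, 16, c0atl0D, c0atl0P, c0atl0Q⟩
noncomputable def c0atl1Dd : ℕ := nat_lit 0x8b121038291c4e4d261918173d1621130b0a09080700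
noncomputable def c0atl1D (u : ℕ) : ℕ := Nat.land (Nat.shiftRight c0atl1Dd (Nat.mul u (nat_lit 8))) (nat_lit 255)
noncomputable def c0atl1Pd : ℕ := nat_lit 0x4e2810f5d0d36d4708d88a62647
noncomputable def c0atl1P (u : ℕ) : ℕ := Nat.land (Nat.shiftRight c0atl1Pd (Nat.mul u (nat_lit 5))) (nat_lit 31)
noncomputable def c0atl1Qd : ℕ := nat_lit 0x194e604e88516379051036654d412
noncomputable def c0atl1Q (u : ℕ) : ℕ := Nat.land (Nat.shiftRight c0atl1Qd (Nat.mul u (nat_lit 5))) (nat_lit 31)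
noncomputable def c0atl1 : H16.Lev := ⟨22, 14, c0atl1D, c0atl1P, c0atl1Q⟩
noncomputable def c0atl2Dd : ℕ := nat_lit 0x1bcf80c1e9644b0d244078a1c2c4880e30300
noncomputable def c0atl2D (u : ℕ) : ℕ := Nat.land (Nat.shiftRight c0atl2Dd (Nat.mul u (nat_lit 7))) (nat_lit 127)
noncomputable def c0atl2Pd : ℕ := nat_lit 0x3a5955216487b1a0719338c162
noncomputable def c0atl2P (u : ℕ) : ℕ := Nat.land (Nat.shiftRight c0atl2Pd (Nat.mul u (nat_lit 5))) (nat_lit 31)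
noncomputable def c0atl2Qd : ℕ := nat_lit 0x4a132346259d2a0c4ac019cfa0008
noncomputable def c0atl2Q (u : ℕ) : ℕ := Nat.land (Nat.shiftRight c0atl2Qd (Nat.mul u (nat_lit 5))) (nat_lit 31)
noncomputable def c0atl2 : H16.Lev := ⟨21, 7, c0atl2D, c0atl2P, c0atl2Q⟩
noncomputable def c0atl3Dd : ℕ := nat_lit 0xe2e98ae426ca8f40507293a245080e18280
noncomputable def c0atl3D (u : ℕ) : ℕ := Nat.land (Nat.shiftRight c0atl3Dd (Nat.mul u (nat_lit 7))) (nat_lit 127)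
noncomputable def c0atl3Pd : ℕ := nat_lit 0xa16b69be4b740c94448d60143
noncomputable def c0atl3P (u : ℕ) : ℕ := Nat.land (Nat.shiftRight c0atl3Pd (Nat.mul u (nat_lit 5))) (nat_lit 31)
noncomputable def c0atl3Qd : ℕ := nat_lit 0x42337b4ca72c83605070264500002
noncomputable def c0atl3Q (u : ℕ) : ℕ := Nat.land (Nat.shiftRight c0atl3Qd (Nat.mul u (nat_lit 5))) (nat_lit 31)
noncomputable def c0atl3 : H16.Lev := ⟨20, 6, c0atl3D, c0atl3P, c0atl3Q⟩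
noncomputable def c0atl4Dd : ℕ := nat_lit 0x940
noncomputable def c0atl4D (u : ℕ) : ℕ := Nat.land (Nat.shiftRight c0atl4Dd (Nat.mul u (nat_lit 4))) (nat_lit 15)
noncomputable def c0atl4Pd : ℕ := nat_lit 0x52c8
noncomputable def c0atl4P (u : ℕ) : ℕ := Nat.land (Nat.shiftRight c0atl4Pd (Nat.mul u (nat_lit 5))) (nat_lit 31)
noncomputable def c0atl4Qd : ℕ := nat_lit 0x120000000000
noncomputable def c0atl4Q (u : ℕ) : ℕ := Nat.land (Nat.shiftRight c0atl4Qd (Nat.mul u (nat_lit 2))) (nat_lit 3)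
noncomputable def c0atl4 : H16.Lev := ⟨3, 5, c0atl4D, c0atl4P, c0atl4Q⟩
noncomputable def c0atl5Dd : ℕ := nat_lit 0xbdf6d758f2c7286143081000
noncomputable def c0atl5D (u : ℕ) : ℕ := Nat.land (Nat.shiftRight c0atl5Dd (Nat.mul u (nat_lit 6))) (nat_lit 63)
noncomputable def c0atl5Pd : ℕ := nat_lit 0x28865b1ae8cd3093ea5
noncomputable def c0atl5P (u : ℕ) : ℕ := Nat.land (Nat.shiftRight c0atl5Pd (Nat.mul u (nat_lit 5))) (nat_lit 31)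
noncomputable def c0atl5Qd : ℕ := nat_lit 0x106374289abe500c0d000f
noncomputable def c0atl5Q (u : ℕ) : ℕ := Nat.land (Nat.shiftRight c0atl5Qd (Nat.mul u (nat_lit 4))) (nat_lit 15)
noncomputable def c0atl5 : H16.Lev := ⟨16, 4, c0atl5D, c0atl5P, c0atl5Q⟩
noncomputable def c0ace_W : List (List ℕ) := [[nat_lit 5, nat_lit 6, nat_lit 7, nat_lit 8, nat_lit 9, nat_lit 8, nat_lit 7, nat_lit 6],
  [nat_lit 2, nat_lit 6, nat_lit 7, nat_lit 8, nat_lit 9, nat_lit 8, nat_lit 7, nat_lit 6, nat_lit 2],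
  [nat_lit 4, nat_lit 2],
  [nat_lit 1, nat_lit 3, nat_lit 5, nat_lit 6, nat_lit 0, nat_lit 3, nat_lit 7, nat_lit 6, nat_lit 0, nat_lit 3],
  [nat_lit 6, nat_lit 0, nat_lit 2, nat_lit 6, nat_lit 7, nat_lit 6, nat_lit 0, nat_lit 8, nat_lit 7, nat_lit 6, nat_lit 0, nat_lit 8, nat_lit 9, nat_lit 8, nat_lit 7, nat_lit 6]]
noncomputable def c0ace_P : ℕ → ℕ → ℕ := wdsP H15.MM23.P c0ace_W
noncomputable def c0acc5Dd : ℕ := nat_lit 0xd0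
noncomputable def c0acc5D (u : ℕ) : ℕ := Nat.land (Nat.shiftRight c0acc5Dd (Nat.mul u (nat_lit 2))) (nat_lit 3)
noncomputable def c0acc5Pd : ℕ := nat_lit 0x4bea5
noncomputable def c0acc5P (u : ℕ) : ℕ := Nat.land (Nat.shiftRight c0acc5Pd (Nat.mul u (nat_lit 5))) (nat_lit 31)
noncomputable def c0acc5Qd : ℕ := nat_lit 0x400800c0000
noncomputable def c0acc5Q (u : ℕ) : ℕ := Nat.land (Nat.shiftRight c0acc5Qd (Nat.mul u (nat_lit 2))) (nat_lit 3)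
noncomputable def c0acc5 : H16.Lev := ⟨4, 2, c0acc5D, c0acc5P, c0acc5Q⟩
noncomputable def c0atn0Fd : ℕ := nat_lit 0xad5a5a681200
noncomputable def c0atn0F (u : ℕ) : ℕ := Nat.land (Nat.shiftRight c0atn0Fd (Nat.mul u (nat_lit 3))) (nat_lit 7)
noncomputable def c0atn0 : Nd := ⟨c0atn0F, (nat_lit 2), (nat_lit 2), [[nat_lit 0]], [((nat_lit 0), []), ((nat_lit 1), [nat_lit 0])], []⟩
noncomputable def c0acc4Dd : ℕ := nat_lit 0x150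
noncomputable def c0acc4D (u : ℕ) : ℕ := Nat.land (Nat.shiftRight c0acc4Dd (Nat.mul u (nat_lit 3))) (nat_lit 7)
noncomputable def c0acc4Pd : ℕ := nat_lit 0x52c8
noncomputable def c0acc4P (u : ℕ) : ℕ := Nat.land (Nat.shiftRight c0acc4Pd (Nat.mul u (nat_lit 5))) (nat_lit 31)
noncomputable def c0acc4Qd : ℕ := nat_lit 0x120000000000
noncomputable def c0acc4Q (u : ℕ) : ℕ := Nat.land (Nat.shiftRight c0acc4Qd (Nat.mul u (nat_lit 2))) (nat_lit 3)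
noncomputable def c0acc4 : H16.Lev := ⟨3, 3, c0acc4D, c0acc4P, c0acc4Q⟩
noncomputable def c0atn1Fd : ℕ := nat_lit 0
noncomputable def c0atn1F (u : ℕ) : ℕ := Nat.land (Nat.shiftRight c0atn1Fd (Nat.mul u (nat_lit 1))) (nat_lit 1)
noncomputable def c0atn1 : Nd := ⟨c0atn1F, (nat_lit 3), (nat_lit 3), [], [((nat_lit 0), [])], []⟩
noncomputable def c0acc2Dd : ℕ := nat_lit 0x7d188c2522071442860c0
noncomputable def c0acc2D (u : ℕ) : ℕ := Nat.land (Nat.shiftRight c0acc2Dd (Nat.mul u (nat_lit 6))) (nat_lit 63)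
noncomputable def c0acc2Pd : ℕ := nat_lit 0x656ba2b99aaf84922
noncomputable def c0acc2P (u : ℕ) : ℕ := Nat.land (Nat.shiftRight c0acc2Pd (Nat.mul u (nat_lit 5))) (nat_lit 31)
noncomputable def c0acc2Qd : ℕ := nat_lit 0x5072934ab0801006c0d000
noncomputable def c0acc2Q (u : ℕ) : ℕ := Nat.land (Nat.shiftRight c0acc2Qd (Nat.mul u (nat_lit 4))) (nat_lit 15)
noncomputable def c0acc2 : H16.Lev := ⟨14, 4, c0acc2D, c0acc2P, c0acc2Q⟩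
noncomputable def c0atn2Fd : ℕ := nat_lit 0x7ac8028012028010000000000
noncomputable def c0atn2F (u : ℕ) : ℕ := Nat.land (Nat.shiftRight c0atn2Fd (Nat.mul u (nat_lit 5))) (nat_lit 31)
noncomputable def c0atn2 : Nd := ⟨c0atn2F, (nat_lit 4), (nat_lit 4), [[nat_lit 0]], [((nat_lit 0), [])], []⟩
noncomputable def c0acc0Dd : ℕ := nat_lit 0xeeb99594f80b588185307100
noncomputable def c0acc0D (u : ℕ) : ℕ := Nat.land (Nat.shiftRight c0acc0Dd (Nat.mul u (nat_lit 6))) (nat_lit 63)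
noncomputable def c0acc0Pd : ℕ := nat_lit 0x38869341b29adf5744a1
noncomputable def c0acc0P (u : ℕ) : ℕ := Nat.land (Nat.shiftRight c0acc0Pd (Nat.mul u (nat_lit 5))) (nat_lit 31)
noncomputable def c0acc0Qd : ℕ := nat_lit 0x40782a539060c0fb10de00
noncomputable def c0acc0Q (u : ℕ) : ℕ := Nat.land (Nat.shiftRight c0acc0Qd (Nat.mul u (nat_lit 4))) (nat_lit 15)
noncomputable def c0acc0 : H16.Lev := ⟨16, 5, c0acc0D, c0acc0P, c0acc0Q⟩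
noncomputable def c0atn3Fd : ℕ := nat_lit 0x1a0000000001604980000c028400
noncomputable def c0atn3F (u : ℕ) : ℕ := Nat.land (Nat.shiftRight c0atn3Fd (Nat.mul u (nat_lit 5))) (nat_lit 31)
noncomputable def c0atn3 : Nd := ⟨c0atn3F, (nat_lit 5), (nat_lit 5), [[nat_lit 0]], [((nat_lit 0), [])], []⟩
noncomputable def c0w0_W : List (List ℕ) := [[nat_lit 3, nat_lit 5, nat_lit 6, nat_lit 7, nat_lit 6, nat_lit 8, nat_lit 7, nat_lit 6, nat_lit 3],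
  [nat_lit 0, nat_lit 1, nat_lit 6, nat_lit 7, nat_lit 6, nat_lit 0, nat_lit 8, nat_lit 7, nat_lit 6, nat_lit 0, nat_lit 1, nat_lit 3, nat_lit 9, nat_lit 8, nat_lit 7, nat_lit 6]]
noncomputable def c0w0_P : ℕ → ℕ → ℕ := wdsP H15.MM23.P c0w0_W
noncomputable def c0y0x_W : List (List ℕ) := [[nat_lit 0, nat_lit 1, nat_lit 6, nat_lit 7, nat_lit 6, nat_lit 0, nat_lit 8, nat_lit 7, nat_lit 6, nat_lit 0, nat_lit 1, nat_lit 3, nat_lit 9, nat_lit 8, nat_lit 7, nat_lit 6]]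
noncomputable def c0y0x_P : ℕ → ℕ → ℕ := wdsP H15.MM23.P c0y0x_W
noncomputable def c0y0th_W : List (List ℕ) := [[nat_lit 1, nat_lit 2, nat_lit 6, nat_lit 7, nat_lit 6, nat_lit 0, nat_lit 2, nat_lit 9, nat_lit 8, nat_lit 7, nat_lit 6, nat_lit 0, nat_lit 3, nat_lit 9],
  [nat_lit 0, nat_lit 2, nat_lit 4, nat_lit 6, nat_lit 0, nat_lit 3, nat_lit 7, nat_lit 8, nat_lit 9, nat_lit 8, nat_lit 7, nat_lit 6, nat_lit 0, nat_lit 1],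
  [nat_lit 9, nat_lit 5, nat_lit 0, nat_lit 6, nat_lit 3, nat_lit 8, nat_lit 7, nat_lit 6, nat_lit 1, nat_lit 9],
  [nat_lit 7, nat_lit 2, nat_lit 6, nat_lit 1, nat_lit 7, nat_lit 6, nat_lit 1, nat_lit 9, nat_lit 8, nat_lit 7, nat_lit 6, nat_lit 2, nat_lit 9],
  [nat_lit 0],
  [nat_lit 1],
  [nat_lit 2],
  [nat_lit 3],
  [nat_lit 4],
  [nat_lit 5],
  [nat_lit 6],
  [nat_lit 7],
  [nat_lit 8],
  [nat_lit 9]]
noncomputable def c0y0th_P : ℕ → ℕ → ℕ := wdsP H15.MM23.P c0y0th_W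
noncomputable def c0y0tl0Dd : ℕ := nat_lit 0x72c06c93774e4d5a59583e3d343c1f1d111c10190d0c00
noncomputable def c0y0tl0D (u : ℕ) : ℕ := Nat.land (Nat.shiftRight c0y0tl0Dd (Nat.mul u (nat_lit 8))) (nat_lit 255)
noncomputable def c0y0tl0Pd : ℕ := nat_lit 0x3a253b2b67c9336a8c4a416818041
noncomputable def c0y0tl0P (u : ℕ) : ℕ := Nat.land (Nat.shiftRight c0y0tl0Pd (Nat.mul u (nat_lit 5))) (nat_lit 31)
noncomputable def c0y0tl0Qd : ℕ := nat_lit 0x422763aa67d9722a9a49a68818402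
noncomputable def c0y0tl0Q (u : ℕ) : ℕ := Nat.land (Nat.shiftRight c0y0tl0Qd (Nat.mul u (nat_lit 5))) (nat_lit 31)
noncomputable def c0y0tl0 : H16.Lev := ⟨23, 14, c0y0tl0D, c0y0tl0P, c0y0tl0Q⟩
noncomputable def c0y0tl1Dd : ℕ := nat_lit 0x90338e4f391a7064423736352c162b2a29280a090800
noncomputable def c0y0tl1D (u : ℕ) : ℕ := Nat.land (Nat.shiftRight c0y0tl1Dd (Nat.mul u (nat_lit 8))) (nat_lit 255)
noncomputable def c0y0tl1Pd : ℕ := nat_lit 0x401c8e6b410c52de9ab664a3a25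
noncomputable def c0y0tl1P (u : ℕ) : ℕ := Nat.land (Nat.shiftRight c0y0tl1Pd (Nat.mul u (nat_lit 5))) (nat_lit 31)
noncomputable def c0y0tl1Qd : ℕ := nat_lit 0x3ce32c82e488cc52d0d8c0049d414
noncomputable def c0y0tl1Q (u : ℕ) : ℕ := Nat.land (Nat.shiftRight c0y0tl1Qd (Nat.mul u (nat_lit 5))) (nat_lit 31)
noncomputable def c0y0tl1 : H16.Lev := ⟨22, 12, c0y0tl1D, c0y0tl1P, c0y0tl1Q⟩
noncomputable def c0y0tl2Dd : ℕ := nat_lit 0x4b648cc128e29baf5c7cb961e386870c14200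
noncomputable def c0y0tl2D (u : ℕ) : ℕ := Nat.land (Nat.shiftRight c0y0tl2Dd (Nat.mul u (nat_lit 7))) (nat_lit 127)
noncomputable def c0y0tl2Pd : ℕ := nat_lit 0x270e207d9895d613390d2a214d
noncomputable def c0y0tl2P (u : ℕ) : ℕ := Nat.land (Nat.shiftRight c0y0tl2Pd (Nat.mul u (nat_lit 5))) (nat_lit 31)
noncomputable def c0y0tl2Qd : ℕ := nat_lit 0x3943412297cc0d585823940695010
noncomputable def c0y0tl2Q (u : ℕ) : ℕ := Nat.land (Nat.shiftRight c0y0tl2Qd (Nat.mul u (nat_lit 5))) (nat_lit 31)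
noncomputable def c0y0tl2 : H16.Lev := ⟨21, 8, c0y0tl2D, c0y0tl2P, c0y0tl2Q⟩
noncomputable def c0y0tl3Dd : ℕ := nat_lit 0xdadcae79a5113cc2c93882851060c0
noncomputable def c0y0tl3D (u : ℕ) : ℕ := Nat.land (Nat.shiftRight c0y0tl3Dd (Nat.mul u (nat_lit 6))) (nat_lit 63)
noncomputable def c0y0tl3Pd : ℕ := nat_lit 0x6192e40e5122e8713ed002ab3
noncomputable def c0y0tl3P (u : ℕ) : ℕ := Nat.land (Nat.shiftRight c0y0tl3Pd (Nat.mul u (nat_lit 5))) (nat_lit 31)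
noncomputable def c0y0tl3Qd : ℕ := nat_lit 0x1429035843401350a2f4480b71c03
noncomputable def c0y0tl3Q (u : ℕ) : ℕ := Nat.land (Nat.shiftRight c0y0tl3Qd (Nat.mul u (nat_lit 5))) (nat_lit 31)
noncomputable def c0y0tl3 : H16.Lev := ⟨20, 4, c0y0tl3D, c0y0tl3P, c0y0tl3Q⟩
noncomputable def c0y0tl4Dd : ℕ := nat_lit 0xc56179368a3208328440
noncomputable def c0y0tl4D (u : ℕ) : ℕ := Nat.land (Nat.shiftRight c0y0tl4Dd (Nat.mul u (nat_lit 5))) (nat_lit 31)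
noncomputable def c0y0tl4Pd : ℕ := nat_lit 0x94bb21f56425488ce9
noncomputable def c0y0tl4P (u : ℕ) : ℕ := Nat.land (Nat.shiftRight c0y0tl4Pd (Nat.mul u (nat_lit 5))) (nat_lit 31)
noncomputable def c0y0tl4Qd : ℕ := nat_lit 0xb8405369007cd0a10002e0f
noncomputable def c0y0tl4Q (u : ℕ) : ℕ := Nat.land (Nat.shiftRight c0y0tl4Qd (Nat.mul u (nat_lit 4))) (nat_lit 15)
noncomputable def c0y0tl4 : H16.Lev := ⟨16, 3, c0y0tl4D, c0y0tl4P, c0y0tl4Q⟩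
noncomputable def c0y0tl5Dd : ℕ := nat_lit 4
noncomputable def c0y0tl5D (u : ℕ) : ℕ := Nat.land (Nat.shiftRight c0y0tl5Dd (Nat.mul u (nat_lit 1))) (nat_lit 1)
noncomputable def c0y0tl5Pd : ℕ := nat_lit 0x50f1
noncomputable def c0y0tl5P (u : ℕ) : ℕ := Nat.land (Nat.shiftRight c0y0tl5Pd (Nat.mul u (nat_lit 5))) (nat_lit 31)
noncomputable def c0y0tl5Qd : ℕ := nat_lit 0x20000004000
noncomputable def c0y0tl5Q (u : ℕ) : ℕ := Nat.land (Nat.shiftRight c0y0tl5Qd (Nat.mul u (nat_lit 2))) (nat_lit 3)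
noncomputable def c0y0tl5 : H16.Lev := ⟨3, 1, c0y0tl5D, c0y0tl5P, c0y0tl5Q⟩
noncomputable def c0y0ce_W : List (List ℕ) := [[nat_lit 3, nat_lit 5, nat_lit 6, nat_lit 7, nat_lit 6, nat_lit 8, nat_lit 7, nat_lit 6, nat_lit 3],
  [nat_lit 4, nat_lit 6, nat_lit 2, nat_lit 7, nat_lit 6, nat_lit 1, nat_lit 3, nat_lit 6, nat_lit 8, nat_lit 7, nat_lit 9, nat_lit 8, nat_lit 7, nat_lit 6, nat_lit 0, nat_lit 1]]
noncomputable def c0y0ce_P : ℕ → ℕ → ℕ := wdsP H15.MM23.P c0y0ce_W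
noncomputable def c0y0cc0Dd : ℕ := nat_lit 0x2f59c5ed5a4e518400
noncomputable def c0y0cc0D (u : ℕ) : ℕ := Nat.land (Nat.shiftRight c0y0cc0Dd (Nat.mul u (nat_lit 5))) (nat_lit 31)
noncomputable def c0y0cc0Pd : ℕ := nat_lit 0x628aea99c9cd2bce1
noncomputable def c0y0cc0P (u : ℕ) : ℕ := Nat.land (Nat.shiftRight c0y0cc0Pd (Nat.mul u (nat_lit 5))) (nat_lit 31)
noncomputable def c0y0cc0Qd : ℕ := nat_lit 0x9076b02540a0801030dc00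
noncomputable def c0y0cc0Q (u : ℕ) : ℕ := Nat.land (Nat.shiftRight c0y0cc0Qd (Nat.mul u (nat_lit 4))) (nat_lit 15)
noncomputable def c0y0cc0 : H16.Lev := ⟨14, 2, c0y0cc0D, c0y0cc0P, c0y0cc0Q⟩
noncomputable def c0y0tn0Fd : ℕ := nat_lit 0x50b00000329710d0100
noncomputable def c0y0tn0F (u : ℕ) : ℕ := Nat.land (Nat.shiftRight c0y0tn0Fd (Nat.mul u (nat_lit 4))) (nat_lit 15)
noncomputable def c0y0tn0 : Nd := ⟨c0y0tn0F, (nat_lit 2), (nat_lit 2), [[nat_lit 0, nat_lit 0],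
  [nat_lit 0, nat_lit 0, nat_lit 0, nat_lit 0, nat_lit 0, nat_lit 0, nat_lit 0]], [((nat_lit 0), [])], []⟩

theorem md_b : ltAll 24 H15.MM23.B = 0 ∧ 10200960 ≠ 0 := by decide +kernel
theorem p2t_lt : H16.allL (ltAll 10) p2t_W = true := by decide +kernel
theorem p2_r_a : allZ2 (resEnt p2t_P p2P p2E p2I (nat_lit 24) (nat_lit 19)) (nat_lit 7) (nat_lit 19) = true := by decide +kernel
theorem p2_b : neL H15.MM23.B (p2B.map p2E) = 0 ∧ ltAll 19 p2B = 0 := by decide +kernel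
theorem p2_p : allZ2 (pcEnt p2P (nat_lit 2) p2B p2C) 7 7 = true := by decide +kernel
theorem p2_e : H16.allL (ltAll 7) p2e = true := by decide +kernel
theorem p2l0_e_0 : allZ (dent p2l0 (wdsP p2P p2e) (nat_lit 19)) (nat_lit 0) (nat_lit 15) = true := by decide +kernel
theorem p2l0_h : 0 < p2l0.n ∧ 0 < p2l0.K ∧ p2l0.Pt 0 < 19 ∧ p2l0.Q (p2l0.Pt 0) = 0 := by decide +kernel
theorem p2l1_e_0 : allZ (dent p2l1 (wdsP p2P p2e) (nat_lit 19)) (nat_lit 0) (nat_lit 7) = true := by decide +kernel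
theorem p2l1_h : 0 < p2l1.n ∧ 0 < p2l1.K ∧ p2l1.Pt 0 < 19 ∧ p2l1.Q (p2l1.Pt 0) = 0 := by decide +kernel
theorem p2_f1 : (Nat.ble p2l1.K 23 && Nat.ble (topK []) p2l1.K && fixLetters (wdsP p2P p2e) (topK []) (p2l1.Pt 0)) = true := by decide +kernel
theorem p2_f0 : (Nat.ble p2l0.K 23 && Nat.ble (topK [p2l1]) p2l0.K && fixLetters (wdsP p2P p2e) (topK [p2l1]) (p2l0.Pt 0)) = true := by decide +kernel
theorem p2_c : chainCard [p2l0, p2l1] = 2 ^ 7 ∧ ¬ 2 ^ (7 + 1) ∣ 10200960 := by decide +kernel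
theorem covr_lt : H16.allL (ltAll 10) covr_W = true := by decide +kernel
theorem cov_c0 : (Nat.ble 7 7 && Nat.beq (ltAll 7 []) 0 && Nat.beq (covT0.chk H15.MM23.P p2P covr_P p2E 10 7 2 2 1 p2B 7 [] 0) 0) = true := by decide +kernel
theorem c0ax_lt : H16.allL (ltAll 10) c0ax_W = true := by decide +kernel
theorem c0ath_lt : H16.allL (ltAll 10) c0ath_W = true := by decide +kernel
theorem c0atl0_e_0 : allZ (dent c0atl0 c0ath_P (nat_lit 24)) (nat_lit 0) (nat_lit 22) = true := by decide +kernel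
theorem c0atl0_h : 0 < c0atl0.n ∧ 0 < c0atl0.K ∧ c0atl0.Pt 0 < 24 ∧ c0atl0.Q (c0atl0.Pt 0) = 0 := by decide +kernel
theorem c0atl1_e_0 : allZ (dent c0atl1 c0ath_P (nat_lit 24)) (nat_lit 0) (nat_lit 21) = true := by decide +kernel
theorem c0atl1_h : 0 < c0atl1.n ∧ 0 < c0atl1.K ∧ c0atl1.Pt 0 < 24 ∧ c0atl1.Q (c0atl1.Pt 0) = 0 := by decide +kernel
theorem c0atl2_e_0 : allZ (dent c0atl2 c0ath_P (nat_lit 24)) (nat_lit 0) (nat_lit 20) = true := by decide +kernel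
theorem c0atl2_h : 0 < c0atl2.n ∧ 0 < c0atl2.K ∧ c0atl2.Pt 0 < 24 ∧ c0atl2.Q (c0atl2.Pt 0) = 0 := by decide +kernel
theorem c0atl3_e_0 : allZ (dent c0atl3 c0ath_P (nat_lit 24)) (nat_lit 0) (nat_lit 19) = true := by decide +kernel
theorem c0atl3_h : 0 < c0atl3.n ∧ 0 < c0atl3.K ∧ c0atl3.Pt 0 < 24 ∧ c0atl3.Q (c0atl3.Pt 0) = 0 := by decide +kernel
theorem c0atl4_e_0 : allZ (dent c0atl4 c0ath_P (nat_lit 24)) (nat_lit 0) (nat_lit 2) = true := by decide +kernel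
theorem c0atl4_h : 0 < c0atl4.n ∧ 0 < c0atl4.K ∧ c0atl4.Pt 0 < 24 ∧ c0atl4.Q (c0atl4.Pt 0) = 0 := by decide +kernel
theorem c0atl5_e_0 : allZ (dent c0atl5 c0ath_P (nat_lit 24)) (nat_lit 0) (nat_lit 15) = true := by decide +kernel
theorem c0atl5_h : 0 < c0atl5.n ∧ 0 < c0atl5.K ∧ c0atl5.Pt 0 < 24 ∧ c0atl5.Q (c0atl5.Pt 0) = 0 := by decide +kernel
theorem c0at_f5 : (Nat.ble c0atl5.K 16 && Nat.ble (topK []) c0atl5.K && fixLetters c0ath_P (topK []) (c0atl5.Pt 0)) = true := by decide +kernel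
theorem c0at_f4 : (Nat.ble c0atl4.K 16 && Nat.ble (topK [c0atl5]) c0atl4.K && fixLetters c0ath_P (topK [c0atl5]) (c0atl4.Pt 0)) = true := by decide +kernel
theorem c0at_f3 : (Nat.ble c0atl3.K 16 && Nat.ble (topK [c0atl4, c0atl5]) c0atl3.K && fixLetters c0ath_P (topK [c0atl4, c0atl5]) (c0atl3.Pt 0)) = true := by decide +kernel
theorem c0at_f2 : (Nat.ble c0atl2.K 16 && Nat.ble (topK [c0atl3, c0atl4, c0atl5]) c0atl2.K && fixLetters c0ath_P (topK [c0atl3, c0atl4, c0atl5]) (c0atl2.Pt 0)) = true := by decide +kernel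
theorem c0at_f1 : (Nat.ble c0atl1.K 16 && Nat.ble (topK [c0atl2, c0atl3, c0atl4, c0atl5]) c0atl1.K && fixLetters c0ath_P (topK [c0atl2, c0atl3, c0atl4, c0atl5]) (c0atl1.Pt 0)) = true := by decide +kernel
theorem c0at_f0 : (Nat.ble c0atl0.K 16 && Nat.ble (topK [c0atl1, c0atl2, c0atl3, c0atl4, c0atl5]) c0atl0.K && fixLetters c0ath_P (topK [c0atl1, c0atl2, c0atl3, c0atl4, c0atl5]) (c0atl0.Pt 0)) = true := by decide +kernel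
theorem c0at_c : chainCard [c0atl0, c0atl1, c0atl2, c0atl3, c0atl4, c0atl5] = 10200960 := by decide +kernel
theorem c0ace_lt : H16.allL (ltAll 10) c0ace_W = true := by decide +kernel
theorem c0acc5_e_0 : allZ (dent c0acc5 c0ace_P (nat_lit 24)) (nat_lit 0) (nat_lit 3) = true := by decide +kernel
theorem c0acc5_h : 0 < c0acc5.n ∧ 0 < c0acc5.K ∧ c0acc5.Pt 0 < 24 ∧ c0acc5.Q (c0acc5.Pt 0) = 0 := by decide +kernel
theorem c0atn0_0 : (Nat.ble c0atl5.K 16 && Nat.beq (ltAll 24 [c0atl4.Pt 0, c0atl3.Pt 0, c0atl2.Pt 0, c0atl1.Pt 0, c0atl0.Pt 0]) 0 && kChk c0ace_P c0ax_P c0atn0.Kn 1 H15.MM23.B [c0atl4.Pt 0, c0atl3.Pt 0, c0atl2.Pt 0, c0atl1.Pt 0, c0atl0.Pt 0] && H16.allL (ltAll 1) c0atn0.pre && planOK c0ath_P c0ax_P 1 (c0atl5.Pt 0) c0atn0.plan [c0atl5]) = true := by decide +kernel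
theorem c0atn0_1_0 : allZ (c0atn0.ent H15.MM23.P c0ath_P c0ax_P c0ax_P c0ace_P (nat_lit 10) (nat_lit 1) H15.MM23.B c0atl5 [] (memO c0acc5)) (nat_lit 0) (nat_lit 16) = true := by decide +kernel
theorem c0ac_f5 : (Nat.ble c0acc5.K 5 && Nat.ble (topK []) c0acc5.K && Nat.beq (c0acc5.Pt 0) (c0atl5.Pt 0) && Nat.beq (ltAll 24 [c0atl4.Pt 0, c0atl3.Pt 0, c0atl2.Pt 0, c0atl1.Pt 0, c0atl0.Pt 0]) 0 && kChk c0ace_P c0ax_P c0acc5.K 1 H15.MM23.B [c0atl4.Pt 0, c0atl3.Pt 0, c0atl2.Pt 0, c0atl1.Pt 0, c0atl0.Pt 0]) = true := by decide +kernel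
theorem c0acc4_e_0 : allZ (dent c0acc4 c0ace_P (nat_lit 24)) (nat_lit 0) (nat_lit 2) = true := by decide +kernel
theorem c0acc4_h : 0 < c0acc4.n ∧ 0 < c0acc4.K ∧ c0acc4.Pt 0 < 24 ∧ c0acc4.Q (c0acc4.Pt 0) = 0 := by decide +kernel
theorem c0atn1_0 : (Nat.ble c0atl4.K 16 && Nat.beq (ltAll 24 [c0atl3.Pt 0, c0atl2.Pt 0, c0atl1.Pt 0, c0atl0.Pt 0]) 0 && kChk c0ace_P c0ax_P c0atn1.Kn 1 H15.MM23.B [c0atl3.Pt 0, c0atl2.Pt 0, c0atl1.Pt 0, c0atl0.Pt 0] && H16.allL (ltAll 1) c0atn1.pre && planOK c0ath_P c0ax_P 1 (c0atl4.Pt 0) c0atn1.plan [c0atl4, c0atl5]) = true := by decide +kernel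
theorem c0atn1_1_0 : allZ (c0atn1.ent H15.MM23.P c0ath_P c0ax_P c0ax_P c0ace_P (nat_lit 10) (nat_lit 1) H15.MM23.B c0atl4 [c0atl5] (memO c0acc4)) (nat_lit 0) (nat_lit 3) = true := by decide +kernel
theorem c0ac_f4 : (Nat.ble c0acc4.K 5 && Nat.ble (topK [c0acc5]) c0acc4.K && Nat.beq (c0acc4.Pt 0) (c0atl4.Pt 0) && Nat.beq (ltAll 24 [c0atl3.Pt 0, c0atl2.Pt 0, c0atl1.Pt 0, c0atl0.Pt 0]) 0 && kChk c0ace_P c0ax_P c0acc4.K 1 H15.MM23.B [c0atl3.Pt 0, c0atl2.Pt 0, c0atl1.Pt 0, c0atl0.Pt 0]) = true := by decide +kernel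
theorem c0ac_f3 : (Nat.ble c0atl3.K 16 && Nat.blt (nat_lit 2) 24 && fixLetters c0ath_P c0atl3.K (nat_lit 2) && Nat.beq (ltAll 1 [nat_lit 0]) 0 && Nat.beq (apW c0ax_P [nat_lit 0] (nat_lit 2)) (c0atl3.Pt 0)) = true := by decide +kernel
theorem c0acc2_e_0 : allZ (dent c0acc2 c0ace_P (nat_lit 24)) (nat_lit 0) (nat_lit 13) = true := by decide +kernel
theorem c0acc2_h : 0 < c0acc2.n ∧ 0 < c0acc2.K ∧ c0acc2.Pt 0 < 24 ∧ c0acc2.Q (c0acc2.Pt 0) = 0 := by decide +kernel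
theorem c0atn2_0 : (Nat.ble c0atl2.K 16 && Nat.beq (ltAll 24 [c0atl1.Pt 0, c0atl0.Pt 0]) 0 && kChk c0ace_P c0ax_P c0atn2.Kn 1 H15.MM23.B [c0atl1.Pt 0, c0atl0.Pt 0] && H16.allL (ltAll 1) c0atn2.pre && planOK c0ath_P c0ax_P 1 (c0atl2.Pt 0) c0atn2.plan [c0atl2, c0atl3, c0atl4, c0atl5]) = true := by decide +kernel
theorem c0atn2_1_0 : allZ (c0atn2.ent H15.MM23.P c0ath_P c0ax_P c0ax_P c0ace_P (nat_lit 10) (nat_lit 1) H15.MM23.B c0atl2 [c0atl3, c0atl4, c0atl5] (memO c0acc2)) (nat_lit 0) (nat_lit 21) = true := by decide +kernel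
theorem c0ac_f2 : (Nat.ble c0acc2.K 5 && Nat.ble (topK [c0acc4, c0acc5]) c0acc2.K && Nat.beq (c0acc2.Pt 0) (c0atl2.Pt 0) && Nat.beq (ltAll 24 [c0atl1.Pt 0, c0atl0.Pt 0]) 0 && kChk c0ace_P c0ax_P c0acc2.K 1 H15.MM23.B [c0atl1.Pt 0, c0atl0.Pt 0]) = true := by decide +kernel
theorem c0ac_f1 : (Nat.ble c0atl1.K 16 && Nat.blt (nat_lit 1) 24 && fixLetters c0ath_P c0atl1.K (nat_lit 1) && Nat.beq (ltAll 1 [nat_lit 0]) 0 && Nat.beq (apW c0ax_P [nat_lit 0] (nat_lit 1)) (c0atl1.Pt 0)) = true := by decide +kernel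
theorem c0acc0_e_0 : allZ (dent c0acc0 c0ace_P (nat_lit 24)) (nat_lit 0) (nat_lit 15) = true := by decide +kernel
theorem c0acc0_h : 0 < c0acc0.n ∧ 0 < c0acc0.K ∧ c0acc0.Pt 0 < 24 ∧ c0acc0.Q (c0acc0.Pt 0) = 0 := by decide +kernel
theorem c0atn3_0 : (Nat.ble c0atl0.K 16 && Nat.beq (ltAll 24 []) 0 && kChk c0ace_P c0ax_P c0atn3.Kn 1 H15.MM23.B [] && H16.allL (ltAll 1) c0atn3.pre && planOK c0ath_P c0ax_P 1 (c0atl0.Pt 0) c0atn3.plan [c0atl0, c0atl1, c0atl2, c0atl3, c0atl4, c0atl5]) = true := by decide +kernel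
theorem c0atn3_1_0 : allZ (c0atn3.ent H15.MM23.P c0ath_P c0ax_P c0ax_P c0ace_P (nat_lit 10) (nat_lit 1) H15.MM23.B c0atl0 [c0atl1, c0atl2, c0atl3, c0atl4, c0atl5] (memO c0acc0)) (nat_lit 0) (nat_lit 23) = true := by decide +kernel
theorem c0ac_f0 : (Nat.ble c0acc0.K 5 && Nat.ble (topK [c0acc2, c0acc4, c0acc5]) c0acc0.K && Nat.beq (c0acc0.Pt 0) (c0atl0.Pt 0) && Nat.beq (ltAll 24 []) 0 && kChk c0ace_P c0ax_P c0acc0.K 1 H15.MM23.B []) = true := by decide +kernel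
theorem c0ac_c : chainCard [c0acc0, c0acc2, c0acc4, c0acc5] = 2688 ∧ topK [c0acc0, c0acc2, c0acc4, c0acc5] = 5 := by decide +kernel
theorem c0w0_lt : H16.allL (ltAll 10) c0w0_W = true := by decide +kernel
theorem c0y0x_lt : H16.allL (ltAll 10) c0y0x_W = true := by decide +kernel
theorem c0y0th_lt : H16.allL (ltAll 10) c0y0th_W = true := by decide +kernel
theorem c0y0tl0_e_0 : allZ (dent c0y0tl0 c0y0th_P (nat_lit 24)) (nat_lit 0) (nat_lit 22) = true := by decide +kernel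
theorem c0y0tl0_h : 0 < c0y0tl0.n ∧ 0 < c0y0tl0.K ∧ c0y0tl0.Pt 0 < 24 ∧ c0y0tl0.Q (c0y0tl0.Pt 0) = 0 := by decide +kernel
theorem c0y0tl1_e_0 : allZ (dent c0y0tl1 c0y0th_P (nat_lit 24)) (nat_lit 0) (nat_lit 21) = true := by decide +kernel
theorem c0y0tl1_h : 0 < c0y0tl1.n ∧ 0 < c0y0tl1.K ∧ c0y0tl1.Pt 0 < 24 ∧ c0y0tl1.Q (c0y0tl1.Pt 0) = 0 := by decide +kernel
theorem c0y0tl2_e_0 : allZ (dent c0y0tl2 c0y0th_P (nat_lit 24)) (nat_lit 0) (nat_lit 20) = true := by decide +kernel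
theorem c0y0tl2_h : 0 < c0y0tl2.n ∧ 0 < c0y0tl2.K ∧ c0y0tl2.Pt 0 < 24 ∧ c0y0tl2.Q (c0y0tl2.Pt 0) = 0 := by decide +kernel
theorem c0y0tl3_e_0 : allZ (dent c0y0tl3 c0y0th_P (nat_lit 24)) (nat_lit 0) (nat_lit 19) = true := by decide +kernel
theorem c0y0tl3_h : 0 < c0y0tl3.n ∧ 0 < c0y0tl3.K ∧ c0y0tl3.Pt 0 < 24 ∧ c0y0tl3.Q (c0y0tl3.Pt 0) = 0 := by decide +kernel
theorem c0y0tl4_e_0 : allZ (dent c0y0tl4 c0y0th_P (nat_lit 24)) (nat_lit 0) (nat_lit 15) = true := by decide +kernel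
theorem c0y0tl4_h : 0 < c0y0tl4.n ∧ 0 < c0y0tl4.K ∧ c0y0tl4.Pt 0 < 24 ∧ c0y0tl4.Q (c0y0tl4.Pt 0) = 0 := by decide +kernel
theorem c0y0tl5_e_0 : allZ (dent c0y0tl5 c0y0th_P (nat_lit 24)) (nat_lit 0) (nat_lit 2) = true := by decide +kernel
theorem c0y0tl5_h : 0 < c0y0tl5.n ∧ 0 < c0y0tl5.K ∧ c0y0tl5.Pt 0 < 24 ∧ c0y0tl5.Q (c0y0tl5.Pt 0) = 0 := by decide +kernel
theorem c0y0t_f5 : (Nat.ble c0y0tl5.K 14 && Nat.ble (topK []) c0y0tl5.K && fixLetters c0y0th_P (topK []) (c0y0tl5.Pt 0)) = true := by decide +kernel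
theorem c0y0t_f4 : (Nat.ble c0y0tl4.K 14 && Nat.ble (topK [c0y0tl5]) c0y0tl4.K && fixLetters c0y0th_P (topK [c0y0tl5]) (c0y0tl4.Pt 0)) = true := by decide +kernel
theorem c0y0t_f3 : (Nat.ble c0y0tl3.K 14 && Nat.ble (topK [c0y0tl4, c0y0tl5]) c0y0tl3.K && fixLetters c0y0th_P (topK [c0y0tl4, c0y0tl5]) (c0y0tl3.Pt 0)) = true := by decide +kernel
theorem c0y0t_f2 : (Nat.ble c0y0tl2.K 14 && Nat.ble (topK [c0y0tl3, c0y0tl4, c0y0tl5]) c0y0tl2.K && fixLetters c0y0th_P (topK [c0y0tl3, c0y0tl4, c0y0tl5]) (c0y0tl2.Pt 0)) = true := by decide +kernel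
theorem c0y0t_f1 : (Nat.ble c0y0tl1.K 14 && Nat.ble (topK [c0y0tl2, c0y0tl3, c0y0tl4, c0y0tl5]) c0y0tl1.K && fixLetters c0y0th_P (topK [c0y0tl2, c0y0tl3, c0y0tl4, c0y0tl5]) (c0y0tl1.Pt 0)) = true := by decide +kernel
theorem c0y0t_f0 : (Nat.ble c0y0tl0.K 14 && Nat.ble (topK [c0y0tl1, c0y0tl2, c0y0tl3, c0y0tl4, c0y0tl5]) c0y0tl0.K && fixLetters c0y0th_P (topK [c0y0tl1, c0y0tl2, c0y0tl3, c0y0tl4, c0y0tl5]) (c0y0tl0.Pt 0)) = true := by decide +kernel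
theorem c0y0t_c : chainCard [c0y0tl0, c0y0tl1, c0y0tl2, c0y0tl3, c0y0tl4, c0y0tl5] = 10200960 := by decide +kernel
theorem c0y0ce_lt : H16.allL (ltAll 10) c0y0ce_W = true := by decide +kernel
theorem c0y0c_f5 : (Nat.ble c0y0tl5.K 14 && Nat.blt (nat_lit 1) 24 && fixLetters c0y0th_P c0y0tl5.K (nat_lit 1) && Nat.beq (ltAll 1 [nat_lit 0, nat_lit 0, nat_lit 0, nat_lit 0, nat_lit 0]) 0 && Nat.beq (apW c0y0x_P [nat_lit 0, nat_lit 0, nat_lit 0, nat_lit 0, nat_lit 0] (nat_lit 1)) (c0y0tl5.Pt 0)) = true := by decide +kernel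
theorem c0y0c_f4 : (Nat.ble c0y0tl4.K 14 && Nat.blt (nat_lit 1) 24 && fixLetters c0y0th_P c0y0tl4.K (nat_lit 1) && Nat.beq (ltAll 1 [nat_lit 0, nat_lit 0, nat_lit 0, nat_lit 0]) 0 && Nat.beq (apW c0y0x_P [nat_lit 0, nat_lit 0, nat_lit 0, nat_lit 0] (nat_lit 1)) (c0y0tl4.Pt 0)) = true := by decide +kernel
theorem c0y0c_f3 : (Nat.ble c0y0tl3.K 14 && Nat.blt (nat_lit 1) 24 && fixLetters c0y0th_P c0y0tl3.K (nat_lit 1) && Nat.beq (ltAll 1 [nat_lit 0, nat_lit 0, nat_lit 0]) 0 && Nat.beq (apW c0y0x_P [nat_lit 0, nat_lit 0, nat_lit 0] (nat_lit 1)) (c0y0tl3.Pt 0)) = true := by decide +kernel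
theorem c0y0c_f2 : (Nat.ble c0y0tl2.K 14 && Nat.blt (nat_lit 1) 24 && fixLetters c0y0th_P c0y0tl2.K (nat_lit 1) && Nat.beq (ltAll 1 [nat_lit 0, nat_lit 0]) 0 && Nat.beq (apW c0y0x_P [nat_lit 0, nat_lit 0] (nat_lit 1)) (c0y0tl2.Pt 0)) = true := by decide +kernel
theorem c0y0c_f1 : (Nat.ble c0y0tl1.K 14 && Nat.blt (nat_lit 1) 24 && fixLetters c0y0th_P c0y0tl1.K (nat_lit 1) && Nat.beq (ltAll 1 [nat_lit 0]) 0 && Nat.beq (apW c0y0x_P [nat_lit 0] (nat_lit 1)) (c0y0tl1.Pt 0)) = true := by decide +kernel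
theorem c0y0cc0_e_0 : allZ (dent c0y0cc0 c0y0ce_P (nat_lit 24)) (nat_lit 0) (nat_lit 13) = true := by decide +kernel
theorem c0y0cc0_h : 0 < c0y0cc0.n ∧ 0 < c0y0cc0.K ∧ c0y0cc0.Pt 0 < 24 ∧ c0y0cc0.Q (c0y0cc0.Pt 0) = 0 := by decide +kernel
theorem c0y0tn0_0 : (Nat.ble c0y0tl0.K 14 && Nat.beq (ltAll 24 []) 0 && kChk c0y0ce_P c0y0x_P c0y0tn0.Kn 1 H15.MM23.B [] && H16.allL (ltAll 1) c0y0tn0.pre && planOK c0y0th_P c0y0x_P 1 (c0y0tl0.Pt 0) c0y0tn0.plan [c0y0tl0, c0y0tl1, c0y0tl2, c0y0tl3, c0y0tl4, c0y0tl5]) = true := by decide +kernel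
theorem c0y0tn0_1_0 : allZ (c0y0tn0.ent H15.MM23.P c0y0th_P c0y0x_P c0y0x_P c0y0ce_P (nat_lit 10) (nat_lit 1) H15.MM23.B c0y0tl0 [c0y0tl1, c0y0tl2, c0y0tl3, c0y0tl4, c0y0tl5] (memO c0y0cc0)) (nat_lit 0) (nat_lit 23) = true := by decide +kernel
theorem c0y0c_f0 : (Nat.ble c0y0cc0.K 2 && Nat.ble (topK []) c0y0cc0.K && Nat.beq (c0y0cc0.Pt 0) (c0y0tl0.Pt 0) && Nat.beq (ltAll 24 []) 0 && kChk c0y0ce_P c0y0x_P c0y0cc0.K 1 H15.MM23.B []) = true := by decide +kernel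
theorem c0y0c_c : chainCard [c0y0cc0] = 14 ∧ topK [c0y0cc0] = 2 := by decide +kernel
theorem c0w0_k : eqL c0w0_P 2 H15.MM23.B (List.replicate 7 1) [0] = 0 := by decide +kernel
theorem c0w0p_k : fixL c0w0_P 2 H15.MM23.B (List.replicate 2 0) = 0 := by decide +kernel
theorem c0w0n_k : 0 < 24 ∧ ltAll 2 (List.replicate 2 1) = 0 ∧ ltAll 2 [] = 0 ∧ apW c0w0_P (List.replicate 2 1) 0 ≠ apW c0w0_P [] 0 := by decide +kernel

theorem md {G : Type*} [Group G] (e : gen H15.MM23.g 10 ≃* G) :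
    ∃ (_ : MulAction G (Cfsg.GolayPt)) (g : ℕ → G), Md g H15.pt H15.MM23.P 24 10 H15.MM23.B 10200960 ∧
      ∀ k < 10, (e.symm (g k)).1 = H15.MM23.g k :=
  exists_md H15.MM23.act H15.MM23.inj H15.MM23.card H15.MM23.isBase md_b e
theorem p2t_act {G Ω : Type*} [Group G] [MulAction G Ω] {g : ℕ → G} {pt : ℕ → Ω}
    (M : Md g pt H15.MM23.P 24 10 H15.MM23.B 10200960) : Act (wds g p2t_W) pt p2t_P 24 7 :=
  M.wact p2t_lt
theorem p2_r : ∀ k < 7, ∀ i < 19, (resEnt p2t_P p2P p2E p2I (nat_lit 24) (nat_lit 19)) k i = 0 := allZ2_sound p2_r_a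
theorem p2_sm {G Ω : Type*} [Group G] [MulAction G Ω] {g : ℕ → G} {pt : ℕ → Ω}
    (M : Md g pt H15.MM23.P 24 10 H15.MM23.B 10200960) : Sm (wds g p2t_W) (fun i => pt (p2E i)) p2P 19 7 p2B ∧ ∀ i < 19, p2E i < 24 :=
  M.res (p2t_act M) (by decide) p2_r p2_b
theorem p2l0_e : ∀ i < 15, (dent p2l0 (wdsP p2P p2e) (nat_lit 19)) i = 0 := allZ_sound0 p2l0_e_0
theorem p2l0_ok : DOK p2l0 (wdsP p2P p2e) 19 := ⟨p2l0_h, p2l0_e⟩
theorem p2l1_e : ∀ i < 7, (dent p2l1 (wdsP p2P p2e) (nat_lit 19)) i = 0 := allZ_sound0 p2l1_e_0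
theorem p2l1_ok : DOK p2l1 (wdsP p2P p2e) 19 := ⟨p2l1_h, p2l1_e⟩
theorem p2_low {G Ω : Type*} [Group G] [MulAction G Ω] {g : ℕ → G} {pt : ℕ → Ω}
    (M : Md g pt H15.MM23.P 24 10 H15.MM23.B 10200960) : SLow (gi (wds (wds g p2t_W) p2e)) (fun i => pt (p2E i)) 19 [p2l0, p2l1] :=
  ((SLow.nil).cons p2l1_ok ((p2_sm M).1.act.wds p2_e 23) p2_f1).cons p2l0_ok ((p2_sm M).1.act.wds p2_e 23) p2_f0
theorem p2_pc {G Ω : Type*} [Group G] [MulAction G Ω] {g : ℕ → G} {pt : ℕ → Ω}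
    (M : Md g pt H15.MM23.P 24 10 H15.MM23.B 10200960) : PC (wds g p2t_W) 7 2 :=
  have := M.fin
  ((p2_sm M).1.pc0 (by decide) p2_p).pc (p2_low M) (p2_sm M).1.inj
    (fun k => evA_mem_gen _ (nth_lt p2_e k)) M.card ⟨by decide, p2_c⟩
theorem covr_act {G Ω : Type*} [Group G] [MulAction G Ω] {g : ℕ → G} {pt : ℕ → Ω}
    (M : Md g pt H15.MM23.P 24 10 H15.MM23.B 10200960) : Act (wds g covr_W) pt covr_P 24 1 :=
  M.wact covr_lt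
theorem cov_0 {G Ω : Type*} [Group G] [MulAction G Ω] {g : ℕ → G} {pt : ℕ → Ω}
    (M : Md g pt H15.MM23.P 24 10 H15.MM23.B 10200960) : H0.TR.Cov (wds g p2t_W) (wds g covr_W) 2 1 7 (evA (wds g p2t_W) []) :=
  have := M.fin
  covT0.cov M (p2_sm M).1 (p2_sm M).2 (covr_act M) (p2_pc M) _ _ cov_c0
theorem cov {G Ω : Type*} [Group G] [MulAction G Ω] {g : ℕ → G} {pt : ℕ → Ω}
    (M : Md g pt H15.MM23.P 24 10 H15.MM23.B 10200960) {y : G} {e : ℕ} (hy : y ^ 2 ^ e = 1) (hq : y ^ 2 = 1) : Good (wds g covr_W) 1 y :=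
  have := M.fin
  H0.TR.Cov.all (p2_pc M) (cov_0 M) hy hq
theorem c0ax_act {G Ω : Type*} [Group G] [MulAction G Ω] {g : ℕ → G} {pt : ℕ → Ω}
    (M : Md g pt H15.MM23.P 24 10 H15.MM23.B 10200960) : Act (wds g c0ax_W) pt c0ax_P 24 1 :=
  M.wact c0ax_lt
theorem c0ath_act {G Ω : Type*} [Group G] [MulAction G Ω] {g : ℕ → G} {pt : ℕ → Ω}
    (M : Md g pt H15.MM23.P 24 10 H15.MM23.B 10200960) : Act (wds g c0ath_W) pt c0ath_P 24 16 :=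
  M.wact c0ath_lt
theorem c0atl0_e : ∀ i < 22, (dent c0atl0 c0ath_P (nat_lit 24)) i = 0 := allZ_sound0 c0atl0_e_0
theorem c0atl0_ok : DOK c0atl0 c0ath_P 24 := ⟨c0atl0_h, c0atl0_e⟩
theorem c0atl1_e : ∀ i < 21, (dent c0atl1 c0ath_P (nat_lit 24)) i = 0 := allZ_sound0 c0atl1_e_0
theorem c0atl1_ok : DOK c0atl1 c0ath_P 24 := ⟨c0atl1_h, c0atl1_e⟩
theorem c0atl2_e : ∀ i < 20, (dent c0atl2 c0ath_P (nat_lit 24)) i = 0 := allZ_sound0 c0atl2_e_0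
theorem c0atl2_ok : DOK c0atl2 c0ath_P 24 := ⟨c0atl2_h, c0atl2_e⟩
theorem c0atl3_e : ∀ i < 19, (dent c0atl3 c0ath_P (nat_lit 24)) i = 0 := allZ_sound0 c0atl3_e_0
theorem c0atl3_ok : DOK c0atl3 c0ath_P 24 := ⟨c0atl3_h, c0atl3_e⟩
theorem c0atl4_e : ∀ i < 2, (dent c0atl4 c0ath_P (nat_lit 24)) i = 0 := allZ_sound0 c0atl4_e_0
theorem c0atl4_ok : DOK c0atl4 c0ath_P 24 := ⟨c0atl4_h, c0atl4_e⟩
theorem c0atl5_e : ∀ i < 15, (dent c0atl5 c0ath_P (nat_lit 24)) i = 0 := allZ_sound0 c0atl5_e_0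
theorem c0atl5_ok : DOK c0atl5 c0ath_P 24 := ⟨c0atl5_h, c0atl5_e⟩
theorem c0at_low {G Ω : Type*} [Group G] [MulAction G Ω] {g : ℕ → G} {pt : ℕ → Ω}
    (M : Md g pt H15.MM23.P 24 10 H15.MM23.B 10200960) : SLow (gi (wds g c0ath_W)) pt 24 [c0atl0, c0atl1, c0atl2, c0atl3, c0atl4, c0atl5] :=
  ((((((SLow.nil).cons c0atl5_ok (c0ath_act M) c0at_f5).cons c0atl4_ok (c0ath_act M) c0at_f4).cons c0atl3_ok (c0ath_act M) c0at_f3).cons c0atl2_ok (c0ath_act M) c0at_f2).cons c0atl1_ok (c0ath_act M) c0at_f1).cons c0atl0_ok (c0ath_act M) c0at_f0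
theorem c0at_S0 {G Ω : Type*} [Group G] [MulAction G Ω] {g : ℕ → G} {pt : ℕ → Ω}
    (M : Md g pt H15.MM23.P 24 10 H15.MM23.B 10200960) : Stage ⊤ (wds g c0ath_W) pt 24 [c0atl0, c0atl1, c0atl2, c0atl3, c0atl4, c0atl5] [] :=
  M.stage (c0at_low M) c0at_c
theorem c0at_S1 {G Ω : Type*} [Group G] [MulAction G Ω] {g : ℕ → G} {pt : ℕ → Ω}
    (M : Md g pt H15.MM23.P 24 10 H15.MM23.B 10200960) : Stage ⊤ (wds g c0ath_W) pt 24 [c0atl1, c0atl2, c0atl3, c0atl4, c0atl5] [c0atl0.Pt 0] :=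
  (c0at_S0 M).next
theorem c0at_S2 {G Ω : Type*} [Group G] [MulAction G Ω] {g : ℕ → G} {pt : ℕ → Ω}
    (M : Md g pt H15.MM23.P 24 10 H15.MM23.B 10200960) : Stage ⊤ (wds g c0ath_W) pt 24 [c0atl2, c0atl3, c0atl4, c0atl5] [c0atl1.Pt 0, c0atl0.Pt 0] :=
  (c0at_S1 M).next
theorem c0at_S3 {G Ω : Type*} [Group G] [MulAction G Ω] {g : ℕ → G} {pt : ℕ → Ω}
    (M : Md g pt H15.MM23.P 24 10 H15.MM23.B 10200960) : Stage ⊤ (wds g c0ath_W) pt 24 [c0atl3, c0atl4, c0atl5] [c0atl2.Pt 0, c0atl1.Pt 0, c0atl0.Pt 0] :=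
  (c0at_S2 M).next
theorem c0at_S4 {G Ω : Type*} [Group G] [MulAction G Ω] {g : ℕ → G} {pt : ℕ → Ω}
    (M : Md g pt H15.MM23.P 24 10 H15.MM23.B 10200960) : Stage ⊤ (wds g c0ath_W) pt 24 [c0atl4, c0atl5] [c0atl3.Pt 0, c0atl2.Pt 0, c0atl1.Pt 0, c0atl0.Pt 0] :=
  (c0at_S3 M).next
theorem c0at_S5 {G Ω : Type*} [Group G] [MulAction G Ω] {g : ℕ → G} {pt : ℕ → Ω}
    (M : Md g pt H15.MM23.P 24 10 H15.MM23.B 10200960) : Stage ⊤ (wds g c0ath_W) pt 24 [c0atl5] [c0atl4.Pt 0, c0atl3.Pt 0, c0atl2.Pt 0, c0atl1.Pt 0, c0atl0.Pt 0] :=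
  (c0at_S4 M).next
theorem c0at_S6 {G Ω : Type*} [Group G] [MulAction G Ω] {g : ℕ → G} {pt : ℕ → Ω}
    (M : Md g pt H15.MM23.P 24 10 H15.MM23.B 10200960) : Stage ⊤ (wds g c0ath_W) pt 24 [] [c0atl5.Pt 0, c0atl4.Pt 0, c0atl3.Pt 0, c0atl2.Pt 0, c0atl1.Pt 0, c0atl0.Pt 0] :=
  (c0at_S5 M).next
theorem c0ace_act {G Ω : Type*} [Group G] [MulAction G Ω] {g : ℕ → G} {pt : ℕ → Ω}
    (M : Md g pt H15.MM23.P 24 10 H15.MM23.B 10200960) : Act (wds g c0ace_W) pt c0ace_P 24 5 :=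
  M.wact c0ace_lt
theorem c0acc5_e : ∀ i < 3, (dent c0acc5 c0ace_P (nat_lit 24)) i = 0 := allZ_sound0 c0acc5_e_0
theorem c0acc5_ok : DOK c0acc5 c0ace_P 24 := ⟨c0acc5_h, c0acc5_e⟩
theorem c0atn0_1 : ∀ i < 16, (c0atn0.ent H15.MM23.P c0ath_P c0ax_P c0ax_P c0ace_P (nat_lit 10) (nat_lit 1) H15.MM23.B c0atl5 [] (memO c0acc5)) i = 0 := allZ_sound0 c0atn0_1_0
theorem c0atn0_t {G Ω : Type*} [Group G] [MulAction G Ω] {g : ℕ → G} {pt : ℕ → Ω}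
    (M : Md g pt H15.MM23.P 24 10 H15.MM23.B 10200960) : TrO (gen (wds g c0ath_W) c0atl5.K) (wds g c0ax_W) (wds g c0ax_W) 1 pt 24 (c0atl5.Pt 0) (memO c0acc5) :=
  node M (c0at_S5 M) (c0ath_act M) (c0ax_act M) (c0ax_act M) c0atn0 ((c0ace_act M).mono (by decide)) (fun _ _ => trivial) c0atn0_0 c0atn0_1 (List.forall_mem_nil _)
theorem c0acc4_e : ∀ i < 2, (dent c0acc4 c0ace_P (nat_lit 24)) i = 0 := allZ_sound0 c0acc4_e_0
theorem c0acc4_ok : DOK c0acc4 c0ace_P 24 := ⟨c0acc4_h, c0acc4_e⟩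
theorem c0atn1_1 : ∀ i < 3, (c0atn1.ent H15.MM23.P c0ath_P c0ax_P c0ax_P c0ace_P (nat_lit 10) (nat_lit 1) H15.MM23.B c0atl4 [c0atl5] (memO c0acc4)) i = 0 := allZ_sound0 c0atn1_1_0
theorem c0atn1_t {G Ω : Type*} [Group G] [MulAction G Ω] {g : ℕ → G} {pt : ℕ → Ω}
    (M : Md g pt H15.MM23.P 24 10 H15.MM23.B 10200960) : TrO (gen (wds g c0ath_W) c0atl4.K) (wds g c0ax_W) (wds g c0ax_W) 1 pt 24 (c0atl4.Pt 0) (memO c0acc4) :=
  node M (c0at_S4 M) (c0ath_act M) (c0ax_act M) (c0ax_act M) c0atn1 ((c0ace_act M).mono (by decide)) (fun _ _ => trivial) c0atn1_0 c0atn1_1 (List.forall_mem_nil _)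
theorem c0acc2_e : ∀ i < 13, (dent c0acc2 c0ace_P (nat_lit 24)) i = 0 := allZ_sound0 c0acc2_e_0
theorem c0acc2_ok : DOK c0acc2 c0ace_P 24 := ⟨c0acc2_h, c0acc2_e⟩
theorem c0atn2_1 : ∀ i < 21, (c0atn2.ent H15.MM23.P c0ath_P c0ax_P c0ax_P c0ace_P (nat_lit 10) (nat_lit 1) H15.MM23.B c0atl2 [c0atl3, c0atl4, c0atl5] (memO c0acc2)) i = 0 := allZ_sound0 c0atn2_1_0
theorem c0atn2_t {G Ω : Type*} [Group G] [MulAction G Ω] {g : ℕ → G} {pt : ℕ → Ω}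
    (M : Md g pt H15.MM23.P 24 10 H15.MM23.B 10200960) : TrO (gen (wds g c0ath_W) c0atl2.K) (wds g c0ax_W) (wds g c0ax_W) 1 pt 24 (c0atl2.Pt 0) (memO c0acc2) :=
  node M (c0at_S2 M) (c0ath_act M) (c0ax_act M) (c0ax_act M) c0atn2 ((c0ace_act M).mono (by decide)) (fun _ _ => trivial) c0atn2_0 c0atn2_1 (List.forall_mem_nil _)
theorem c0acc0_e : ∀ i < 15, (dent c0acc0 c0ace_P (nat_lit 24)) i = 0 := allZ_sound0 c0acc0_e_0
theorem c0acc0_ok : DOK c0acc0 c0ace_P 24 := ⟨c0acc0_h, c0acc0_e⟩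
theorem c0atn3_1 : ∀ i < 23, (c0atn3.ent H15.MM23.P c0ath_P c0ax_P c0ax_P c0ace_P (nat_lit 10) (nat_lit 1) H15.MM23.B c0atl0 [c0atl1, c0atl2, c0atl3, c0atl4, c0atl5] (memO c0acc0)) i = 0 := allZ_sound0 c0atn3_1_0
theorem c0atn3_t {G Ω : Type*} [Group G] [MulAction G Ω] {g : ℕ → G} {pt : ℕ → Ω}
    (M : Md g pt H15.MM23.P 24 10 H15.MM23.B 10200960) : TrO (gen (wds g c0ath_W) c0atl0.K) (wds g c0ax_W) (wds g c0ax_W) 1 pt 24 (c0atl0.Pt 0) (memO c0acc0) :=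
  node M (c0at_S0 M) (c0ath_act M) (c0ax_act M) (c0ax_act M) c0atn3 ((c0ace_act M).mono (by decide)) (fun _ _ => trivial) c0atn3_0 c0atn3_1 (List.forall_mem_nil _)
theorem c0ac {G Ω : Type*} [Group G] [MulAction G Ω] {g : ℕ → G} {pt : ℕ → Ω}
    (M : Md g pt H15.MM23.P 24 10 H15.MM23.B 10200960) : Cen ⊤ (wds g c0ax_W) 1 (wds g c0ace_W) pt 24 [c0acc0, c0acc2, c0acc4, c0acc5] :=
  (c0at_S0 M).top ▸ Cen.lev M (c0at_S0 M) (Cen.triv (c0at_S1 M) (Cen.lev M (c0at_S2 M) (Cen.triv (c0at_S3 M) (Cen.lev M (c0at_S4 M) (Cen.lev M (c0at_S5 M) (Cen.bot) (c0atn0_t M) (c0ax_act M) (c0ace_act M) (fun _ _ => trivial) c0acc5_ok c0ac_f5) (c0atn1_t M) (c0ax_act M) (c0ace_act M) (fun _ _ => trivial) c0acc4_ok c0ac_f4) (forced (c0at_S3 M) (c0ath_act M) (c0ax_act M) _ _ c0ac_f3)) (c0atn2_t M) (c0ax_act M) (c0ace_act M) (fun _ _ => trivial) c0acc2_ok c0ac_f2) (forced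 (c0at_S1 M) (c0ath_act M) (c0ax_act M) _ _ c0ac_f1)) (c0atn3_t M) (c0ax_act M) (c0ace_act M) (fun _ _ => trivial) c0acc0_ok c0ac_f0
theorem c0ac_card {G Ω : Type*} [Group G] [MulAction G Ω] {g : ℕ → G} {pt : ℕ → Ω}
    (M : Md g pt H15.MM23.P 24 10 H15.MM23.B 10200960) : Nat.card (Subgroup.centralizer {(wds g c0ax_W) 0}) = 2688 :=
  (c0ac M).card_cent1 M.inj c0ac_c.1
theorem c0ac_eq {G Ω : Type*} [Group G] [MulAction G Ω] {g : ℕ → G} {pt : ℕ → Ω}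
    (M : Md g pt H15.MM23.P 24 10 H15.MM23.B 10200960) : Subgroup.centralizer (gen (wds g c0ax_W) 1) = gen (wds g c0ace_W) 5 ∧ Nat.card (gen (wds g c0ace_W) 5) = 2688 :=
  c0ac_c.1 ▸ c0ac_c.2 ▸ ⟨(c0ac M).cent, (c0ac M).card M.inj⟩
theorem c0w0_act {G Ω : Type*} [Group G] [MulAction G Ω] {g : ℕ → G} {pt : ℕ → Ω}
    (M : Md g pt H15.MM23.P 24 10 H15.MM23.B 10200960) : Act (wds g c0w0_W) pt c0w0_P 24 2 :=
  M.wact c0w0_lt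
theorem c0y0x_act {G Ω : Type*} [Group G] [MulAction G Ω] {g : ℕ → G} {pt : ℕ → Ω}
    (M : Md g pt H15.MM23.P 24 10 H15.MM23.B 10200960) : Act (wds g c0y0x_W) pt c0y0x_P 24 1 :=
  M.wact c0y0x_lt
theorem c0y0th_act {G Ω : Type*} [Group G] [MulAction G Ω] {g : ℕ → G} {pt : ℕ → Ω}
    (M : Md g pt H15.MM23.P 24 10 H15.MM23.B 10200960) : Act (wds g c0y0th_W) pt c0y0th_P 24 14 :=
  M.wact c0y0th_lt
theorem c0y0tl0_e : ∀ i < 22, (dent c0y0tl0 c0y0th_P (nat_lit 24)) i = 0 := allZ_sound0 c0y0tl0_e_0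
theorem c0y0tl0_ok : DOK c0y0tl0 c0y0th_P 24 := ⟨c0y0tl0_h, c0y0tl0_e⟩
theorem c0y0tl1_e : ∀ i < 21, (dent c0y0tl1 c0y0th_P (nat_lit 24)) i = 0 := allZ_sound0 c0y0tl1_e_0
theorem c0y0tl1_ok : DOK c0y0tl1 c0y0th_P 24 := ⟨c0y0tl1_h, c0y0tl1_e⟩
theorem c0y0tl2_e : ∀ i < 20, (dent c0y0tl2 c0y0th_P (nat_lit 24)) i = 0 := allZ_sound0 c0y0tl2_e_0
theorem c0y0tl2_ok : DOK c0y0tl2 c0y0th_P 24 := ⟨c0y0tl2_h, c0y0tl2_e⟩
theorem c0y0tl3_e : ∀ i < 19, (dent c0y0tl3 c0y0th_P (nat_lit 24)) i = 0 := allZ_sound0 c0y0tl3_e_0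
theorem c0y0tl3_ok : DOK c0y0tl3 c0y0th_P 24 := ⟨c0y0tl3_h, c0y0tl3_e⟩
theorem c0y0tl4_e : ∀ i < 15, (dent c0y0tl4 c0y0th_P (nat_lit 24)) i = 0 := allZ_sound0 c0y0tl4_e_0
theorem c0y0tl4_ok : DOK c0y0tl4 c0y0th_P 24 := ⟨c0y0tl4_h, c0y0tl4_e⟩
theorem c0y0tl5_e : ∀ i < 2, (dent c0y0tl5 c0y0th_P (nat_lit 24)) i = 0 := allZ_sound0 c0y0tl5_e_0
theorem c0y0tl5_ok : DOK c0y0tl5 c0y0th_P 24 := ⟨c0y0tl5_h, c0y0tl5_e⟩
theorem c0y0t_low {G Ω : Type*} [Group G] [MulAction G Ω] {g : ℕ → G} {pt : ℕ → Ω}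
    (M : Md g pt H15.MM23.P 24 10 H15.MM23.B 10200960) : SLow (gi (wds g c0y0th_W)) pt 24 [c0y0tl0, c0y0tl1, c0y0tl2, c0y0tl3, c0y0tl4, c0y0tl5] :=
  ((((((SLow.nil).cons c0y0tl5_ok (c0y0th_act M) c0y0t_f5).cons c0y0tl4_ok (c0y0th_act M) c0y0t_f4).cons c0y0tl3_ok (c0y0th_act M) c0y0t_f3).cons c0y0tl2_ok (c0y0th_act M) c0y0t_f2).cons c0y0tl1_ok (c0y0th_act M) c0y0t_f1).cons c0y0tl0_ok (c0y0th_act M) c0y0t_f0
theorem c0y0t_S0 {G Ω : Type*} [Group G] [MulAction G Ω] {g : ℕ → G} {pt : ℕ → Ω}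
    (M : Md g pt H15.MM23.P 24 10 H15.MM23.B 10200960) : Stage ⊤ (wds g c0y0th_W) pt 24 [c0y0tl0, c0y0tl1, c0y0tl2, c0y0tl3, c0y0tl4, c0y0tl5] [] :=
  M.stage (c0y0t_low M) c0y0t_c
theorem c0y0t_S1 {G Ω : Type*} [Group G] [MulAction G Ω] {g : ℕ → G} {pt : ℕ → Ω}
    (M : Md g pt H15.MM23.P 24 10 H15.MM23.B 10200960) : Stage ⊤ (wds g c0y0th_W) pt 24 [c0y0tl1, c0y0tl2, c0y0tl3, c0y0tl4, c0y0tl5] [c0y0tl0.Pt 0] :=
  (c0y0t_S0 M).next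
theorem c0y0t_S2 {G Ω : Type*} [Group G] [MulAction G Ω] {g : ℕ → G} {pt : ℕ → Ω}
    (M : Md g pt H15.MM23.P 24 10 H15.MM23.B 10200960) : Stage ⊤ (wds g c0y0th_W) pt 24 [c0y0tl2, c0y0tl3, c0y0tl4, c0y0tl5] [c0y0tl1.Pt 0, c0y0tl0.Pt 0] :=
  (c0y0t_S1 M).next
theorem c0y0t_S3 {G Ω : Type*} [Group G] [MulAction G Ω] {g : ℕ → G} {pt : ℕ → Ω}
    (M : Md g pt H15.MM23.P 24 10 H15.MM23.B 10200960) : Stage ⊤ (wds g c0y0th_W) pt 24 [c0y0tl3, c0y0tl4, c0y0tl5] [c0y0tl2.Pt 0, c0y0tl1.Pt 0, c0y0tl0.Pt 0] :=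
  (c0y0t_S2 M).next
theorem c0y0t_S4 {G Ω : Type*} [Group G] [MulAction G Ω] {g : ℕ → G} {pt : ℕ → Ω}
    (M : Md g pt H15.MM23.P 24 10 H15.MM23.B 10200960) : Stage ⊤ (wds g c0y0th_W) pt 24 [c0y0tl4, c0y0tl5] [c0y0tl3.Pt 0, c0y0tl2.Pt 0, c0y0tl1.Pt 0, c0y0tl0.Pt 0] :=
  (c0y0t_S3 M).next
theorem c0y0t_S5 {G Ω : Type*} [Group G] [MulAction G Ω] {g : ℕ → G} {pt : ℕ → Ω}
    (M : Md g pt H15.MM23.P 24 10 H15.MM23.B 10200960) : Stage ⊤ (wds g c0y0th_W) pt 24 [c0y0tl5] [c0y0tl4.Pt 0, c0y0tl3.Pt 0, c0y0tl2.Pt 0, c0y0tl1.Pt 0, c0y0tl0.Pt 0] :=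
  (c0y0t_S4 M).next
theorem c0y0t_S6 {G Ω : Type*} [Group G] [MulAction G Ω] {g : ℕ → G} {pt : ℕ → Ω}
    (M : Md g pt H15.MM23.P 24 10 H15.MM23.B 10200960) : Stage ⊤ (wds g c0y0th_W) pt 24 [] [c0y0tl5.Pt 0, c0y0tl4.Pt 0, c0y0tl3.Pt 0, c0y0tl2.Pt 0, c0y0tl1.Pt 0, c0y0tl0.Pt 0] :=
  (c0y0t_S5 M).next
theorem c0y0ce_act {G Ω : Type*} [Group G] [MulAction G Ω] {g : ℕ → G} {pt : ℕ → Ω}
    (M : Md g pt H15.MM23.P 24 10 H15.MM23.B 10200960) : Act (wds g c0y0ce_W) pt c0y0ce_P 24 2 :=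
  M.wact c0y0ce_lt
theorem c0y0cc0_e : ∀ i < 13, (dent c0y0cc0 c0y0ce_P (nat_lit 24)) i = 0 := allZ_sound0 c0y0cc0_e_0
theorem c0y0cc0_ok : DOK c0y0cc0 c0y0ce_P 24 := ⟨c0y0cc0_h, c0y0cc0_e⟩
theorem c0y0tn0_1 : ∀ i < 23, (c0y0tn0.ent H15.MM23.P c0y0th_P c0y0x_P c0y0x_P c0y0ce_P (nat_lit 10) (nat_lit 1) H15.MM23.B c0y0tl0 [c0y0tl1, c0y0tl2, c0y0tl3, c0y0tl4, c0y0tl5] (memO c0y0cc0)) i = 0 := allZ_sound0 c0y0tn0_1_0
theorem c0y0tn0_t {G Ω : Type*} [Group G] [MulAction G Ω] {g : ℕ → G} {pt : ℕ → Ω}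
    (M : Md g pt H15.MM23.P 24 10 H15.MM23.B 10200960) : TrO (gen (wds g c0y0th_W) c0y0tl0.K) (wds g c0y0x_W) (wds g c0y0x_W) 1 pt 24 (c0y0tl0.Pt 0) (memO c0y0cc0) :=
  node M (c0y0t_S0 M) (c0y0th_act M) (c0y0x_act M) (c0y0x_act M) c0y0tn0 ((c0y0ce_act M).mono (by decide)) (fun _ _ => trivial) c0y0tn0_0 c0y0tn0_1 (List.forall_mem_nil _)
theorem c0y0c {G Ω : Type*} [Group G] [MulAction G Ω] {g : ℕ → G} {pt : ℕ → Ω}
    (M : Md g pt H15.MM23.P 24 10 H15.MM23.B 10200960) : Cen ⊤ (wds g c0y0x_W) 1 (wds g c0y0ce_W) pt 24 [c0y0cc0] :=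
  (c0y0t_S0 M).top ▸ Cen.lev M (c0y0t_S0 M) (Cen.triv (c0y0t_S1 M) (Cen.triv (c0y0t_S2 M) (Cen.triv (c0y0t_S3 M) (Cen.triv (c0y0t_S4 M) (Cen.triv (c0y0t_S5 M) (Cen.bot) (forced (c0y0t_S5 M) (c0y0th_act M) (c0y0x_act M) _ _ c0y0c_f5)) (forced (c0y0t_S4 M) (c0y0th_act M) (c0y0x_act M) _ _ c0y0c_f4)) (forced (c0y0t_S3 M) (c0y0th_act M) (c0y0x_act M) _ _ c0y0c_f3)) (forced (c0y0t_S2 M) (c0y0th_act M) (c0y0x_act M) _ _ c0y0c_f2)) (forced (c0y0t_S1 M) (c0y0th_act M) (c0y0x_act M) _ _ c0y0c_f1)) (c0y0tn0_t M) (c0y0x_act M) (c0y0ce_act M) (fun _ _ => trivial) c0y0cc0_ok c0y0c_f0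
theorem c0y0c_card {G Ω : Type*} [Group G] [MulAction G Ω] {g : ℕ → G} {pt : ℕ → Ω}
    (M : Md g pt H15.MM23.P 24 10 H15.MM23.B 10200960) : Nat.card (Subgroup.centralizer {(wds g c0y0x_W) 0}) = 14 :=
  (c0y0c M).card_cent1 M.inj c0y0c_c.1
theorem c0y0c_eq {G Ω : Type*} [Group G] [MulAction G Ω] {g : ℕ → G} {pt : ℕ → Ω}
    (M : Md g pt H15.MM23.P 24 10 H15.MM23.B 10200960) : Subgroup.centralizer (gen (wds g c0y0x_W) 1) = gen (wds g c0y0ce_W) 2 ∧ Nat.card (gen (wds g c0y0ce_W) 2) = 14 :=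
  c0y0c_c.1 ▸ c0y0c_c.2 ▸ ⟨(c0y0c M).cent, (c0y0c M).card M.inj⟩
theorem c0w0p {G Ω : Type*} [Group G] [MulAction G Ω] {g : ℕ → G} {pt : ℕ → Ω}
    (M : Md g pt H15.MM23.P 24 10 H15.MM23.B 10200960) : (wds g c0w0_W) 0 ^ 2 = 1 :=
  M.pw (c0w0_act M) c0w0p_k
theorem c0w0n {G Ω : Type*} [Group G] [MulAction G Ω] {g : ℕ → G} {pt : ℕ → Ω}
    (M : Md g pt H15.MM23.P 24 10 H15.MM23.B 10200960) : (wds g c0w0_W) 1 ^ 2 ≠ 1 :=
  M.npw (c0w0_act M) _ c0w0n_k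
theorem c0W0 {G Ω : Type*} [Group G] [MulAction G Ω] {g : ℕ → G} {pt : ℕ → Ω}
    (M : Md g pt H15.MM23.P 24 10 H15.MM23.B 10200960) : Wit (H27.IC.Ce ((wds g covr_W) 0)) 7 14 :=
  have := M.fin
  wit_w (x := (wds g c0w0_W)) (k := 3) (by norm_num) (M.eq_of (c0w0_act M) c0w0_k) (c0w0p M) (c0w0n M) (c0ac_card M) (by decide +kernel) (c0y0c_card M)
theorem c0 {G Ω : Type*} [Group G] [MulAction G Ω] {g : ℕ → G} {pt : ℕ → Ω}
    (M : Md g pt H15.MM23.P 24 10 H15.MM23.B 10200960) : OK (H27.IC.Ce ((wds g covr_W) 0)) :=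
  have := M.fin
  ok_num (n := 2688) (ws := []) 7 (c0ac_card M) (c0W0 M) (List.forall_mem_nil _) (by decide +kernel)
theorem both {G Ω : Type*} [Group G] [MulAction G Ω] {g : ℕ → G} {pt : ℕ → Ω}
    (M : Md g pt H15.MM23.P 24 10 H15.MM23.B 10200960) : Both G :=
  have := M.fin
  both_reps (wds g covr_W) 1 (fun _ hy => cov M (e := 1) hy hy) fun i hi => match i, hi with
    | 0, _ => c0 M

theorem spor : Both Cfsg.Spor.M23 := by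
  obtain ⟨_, g, M, -⟩ := md (MulEquiv.subgroupCongr H15.MM23.gen_eq)
  exact both M

end H15.IC.M23
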