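import Cfsg.Agent.H15.IC.P
import Cfsg.Agent.H15.M.M24

/-! Generated by tools/h0/tr.py. -/

set_option maxRecDepth 100000
set_option maxHeartbeats 0

namespace H15.IC.M24
open H16 H0.TR
open scoped commutatorElement

noncomputable def p2t_W : List (List ℕ) := [[nat_lit 1, nat_lit 6, nat_lit 1, nat_lit 4, nat_lit 7, nat_lit 6, nat_lit 3, nat_lit 8, nat_lit 1, nat_lit 3, nat_lit 9, nat_lit 8, nat_lit 1, nat_lit 2, nat_lit 6, nat_lit 10, nat_lit 9, nat_lit 8, nat_lit 3, nat_lit 10],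
  [nat_lit 6, nat_lit 1, nat_lit 2, nat_lit 8, nat_lit 9, nat_lit 8, nat_lit 1, nat_lit 3, nat_lit 4, nat_lit 6],
  [nat_lit 3, nat_lit 6, nat_lit 5, nat_lit 1, nat_lit 7, nat_lit 6, nat_lit 5, nat_lit 1, nat_lit 8, nat_lit 1, nat_lit 3, nat_lit 9, nat_lit 8, nat_lit 3, nat_lit 10, nat_lit 9, nat_lit 8, nat_lit 2, nat_lit 6, nat_lit 9],
  [nat_lit 3, nat_lit 4, nat_lit 6, nat_lit 5, nat_lit 8, nat_lit 9, nat_lit 8, nat_lit 3],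
  [nat_lit 8, nat_lit 4, nat_lit 6, nat_lit 1, nat_lit 4, nat_lit 7, nat_lit 6, nat_lit 8, nat_lit 2, nat_lit 4, nat_lit 9, nat_lit 8, nat_lit 1, nat_lit 4, nat_lit 10, nat_lit 9],
  [nat_lit 8, nat_lit 4, nat_lit 6, nat_lit 1, nat_lit 7, nat_lit 6, nat_lit 8, nat_lit 0, nat_lit 1, nat_lit 4, nat_lit 9, nat_lit 8, nat_lit 1, nat_lit 10, nat_lit 9, nat_lit 8, nat_lit 2, nat_lit 3],
  [nat_lit 2, nat_lit 4, nat_lit 6, nat_lit 7, nat_lit 8, nat_lit 9, nat_lit 8, nat_lit 0, nat_lit 3, nat_lit 6, nat_lit 10, nat_lit 9, nat_lit 8, nat_lit 9, nat_lit 6, nat_lit 2],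
  [nat_lit 0, nat_lit 4, nat_lit 6, nat_lit 1, nat_lit 7, nat_lit 6, nat_lit 5, nat_lit 1, nat_lit 8, nat_lit 1, nat_lit 9, nat_lit 10],
  [nat_lit 6, nat_lit 5, nat_lit 1, nat_lit 7, nat_lit 6, nat_lit 5, nat_lit 1, nat_lit 8, nat_lit 0, nat_lit 2, nat_lit 9, nat_lit 8, nat_lit 1, nat_lit 10, nat_lit 9, nat_lit 8, nat_lit 2, nat_lit 3],
  [nat_lit 5, nat_lit 0, nat_lit 6, nat_lit 1, nat_lit 7, nat_lit 6, nat_lit 2, nat_lit 6, nat_lit 8, nat_lit 1, nat_lit 9, nat_lit 8, nat_lit 1, nat_lit 3, nat_lit 10]]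
noncomputable def p2t_P : ℕ → ℕ → ℕ := wdsP H15.MM24.P p2t_W
noncomputable def p2Pd : List ℕ := [nat_lit 0xbdab49ca3051d8d2bc467216102483,
  nat_lit 0xac2f28d27679dac2a9267216400823,
  nat_lit 0xbdab49ca304a081189ee31c0d5a985,
  nat_lit 0xb5e1194e957a1ac1a92e31c0458825,
  nat_lit 0xbdab28d27008d223118b0150f3b54e,
  nat_lit 0xac2f28d27621522385a058dcf33148,
  nat_lit 0x8d277856d2495ac309e058d043a82e,
  nat_lit 0xbc2b1a4e560290660d69789a7215c1,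
  nat_lit 0x9469585ed322c497058028cef33548,
  nat_lit 0x85ed1a4e55008ee68d6f4a988094c4]
noncomputable def p2P (k u : ℕ) : ℕ := Nat.land (Nat.shiftRight (nth (nat_lit 0) p2Pd k) (Nat.mul u (nat_lit 5))) (nat_lit 31)
noncomputable def p2Ed : ℕ := nat_lit 0xace50730a4bda917b56a4a0e618820
noncomputable def p2E (u : ℕ) : ℕ := Nat.land (Nat.shiftRight p2Ed (Nat.mul u (nat_lit 5))) (nat_lit 31)
noncomputable def p2Id : ℕ := nat_lit 0x7baedb55945cd524a0e62923018820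
noncomputable def p2I (u : ℕ) : ℕ := Nat.land (Nat.shiftRight p2Id (Nat.mul u (nat_lit 5))) (nat_lit 31)
noncomputable def p2B : List ℕ := [nat_lit 15, nat_lit 0, nat_lit 1, nat_lit 2, nat_lit 3, nat_lit 17, nat_lit 16]
noncomputable def p2C : List (List (List ℕ)) := [[[],
  [],
  [],
  [],
  [],
  [],
  [],
  [],
  [],
  []], [[],
  [],
  [],
  [],
  [],
  [],
  [],
  [nat_lit 0],
  [],
  [nat_lit 0]], [[],
  [],
  [],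
  [],
  [],
  [],
  [],
  [nat_lit 0],
  [nat_lit 0],
  [nat_lit 0]], [[],
  [],
  [],
  [],
  [],
  [],
  [],
  [nat_lit 0, nat_lit 1, nat_lit 2],
  [nat_lit 1],
  [nat_lit 0, nat_lit 1, nat_lit 2]], [[],
  [],
  [],
  [],
  [nat_lit 0],
  [nat_lit 0],
  [nat_lit 1, nat_lit 2],
  [],
  [nat_lit 0, nat_lit 1],
  [nat_lit 0, nat_lit 2]], [[],
  [],
  [],
  [],
  [],
  [],
  [nat_lit 2],
  [nat_lit 0, nat_lit 2],
  [],
  []], [[],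
  [],
  [],
  [],
  [],
  [],
  [nat_lit 3],
  [nat_lit 3, nat_lit 4],
  [nat_lit 0, nat_lit 2, nat_lit 3, nat_lit 4, nat_lit 5],
  [nat_lit 0, nat_lit 1, nat_lit 2, nat_lit 4]], [[],
  [],
  [],
  [],
  [],
  [],
  [],
  [nat_lit 4],
  [nat_lit 2, nat_lit 3, nat_lit 4, nat_lit 5],
  [nat_lit 0, nat_lit 4, nat_lit 5]], [[],
  [],
  [],
  [],
  [],
  [],
  [],
  [],
  [],
  []], [[],
  [],
  [],
  [],
  [],
  [],
  [],
  [],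
  [],
  [nat_lit 5]]]
noncomputable def p2e : List (List ℕ) := [[],
  [],
  [],
  [],
  [],
  [],
  [],
  [],
  [],
  [],
  [],
  [],
  [],
  [],
  [],
  [],
  [],
  [],
  [],
  [],
  [],
  [],
  [],
  [nat_lit 3, nat_lit 4, nat_lit 8],
  [nat_lit 3, nat_lit 4, nat_lit 8],
  [nat_lit 3, nat_lit 4, nat_lit 8],
  [],
  [nat_lit 3, nat_lit 4, nat_lit 5],
  [nat_lit 5, nat_lit 8],
  [],
  [nat_lit 3, nat_lit 4, nat_lit 5],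
  [],
  [nat_lit 5, nat_lit 8],
  [nat_lit 5, nat_lit 8],
  [nat_lit 5, nat_lit 8],
  [],
  [],
  [nat_lit 3, nat_lit 4, nat_lit 8],
  [nat_lit 5, nat_lit 8],
  [nat_lit 5, nat_lit 8],
  [],
  [nat_lit 3, nat_lit 4, nat_lit 8],
  [nat_lit 5, nat_lit 8],
  [nat_lit 3, nat_lit 4, nat_lit 5],
  [],
  [nat_lit 5, nat_lit 8],
  [nat_lit 1, nat_lit 4, nat_lit 7, nat_lit 9],
  [nat_lit 0, nat_lit 2, nat_lit 3, nat_lit 7, nat_lit 8, nat_lit 9],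
  [nat_lit 5, nat_lit 8],
  [nat_lit 0, nat_lit 1],
  [nat_lit 2, nat_lit 4, nat_lit 8],
  [nat_lit 5, nat_lit 6],
  [nat_lit 1, nat_lit 3, nat_lit 5, nat_lit 6, nat_lit 9]]
noncomputable def p2l0Dd : ℕ := nat_lit 0x69e455c93d420d327907344d2274671a0510d000
noncomputable def p2l0D (u : ℕ) : ℕ := Nat.land (Nat.shiftRight p2l0Dd (Nat.mul u (nat_lit 10))) (nat_lit 1023)
noncomputable def p2l0Pd : ℕ := nat_lit 0x68b75e3af4219cd0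
noncomputable def p2l0P (u : ℕ) : ℕ := Nat.land (Nat.shiftRight p2l0Pd (Nat.mul u (nat_lit 4))) (nat_lit 15)
noncomputable def p2l0Qd : ℕ := nat_lit 0x7a12d83ecfb69540
noncomputable def p2l0Q (u : ℕ) : ℕ := Nat.land (Nat.shiftRight p2l0Qd (Nat.mul u (nat_lit 4))) (nat_lit 15)
noncomputable def p2l0 : H16.Lev := ⟨16, 53, p2l0D, p2l0P, p2l0Q⟩
noncomputable def p2l1Dd : ℕ := nat_lit 0xcf9a666732333100
noncomputable def p2l1D (u : ℕ) : ℕ := Nat.land (Nat.shiftRight p2l1Dd (Nat.mul u (nat_lit 8))) (nat_lit 255)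
noncomputable def p2l1Pd : ℕ := nat_lit 0x29dfca41
noncomputable def p2l1P (u : ℕ) : ℕ := Nat.land (Nat.shiftRight p2l1Pd (Nat.mul u (nat_lit 4))) (nat_lit 15)
noncomputable def p2l1Qd : ℕ := nat_lit 0x82b0b00011c0
noncomputable def p2l1Q (u : ℕ) : ℕ := Nat.land (Nat.shiftRight p2l1Qd (Nat.mul u (nat_lit 3))) (nat_lit 7)
noncomputable def p2l1 : H16.Lev := ⟨8, 52, p2l1D, p2l1P, p2l1Q⟩
noncomputable def p2l2Dd : ℕ := nat_lit 0xbab8e00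
noncomputable def p2l2D (u : ℕ) : ℕ := Nat.land (Nat.shiftRight p2l2Dd (Nat.mul u (nat_lit 7))) (nat_lit 127)
noncomputable def p2l2Pd : ℕ := nat_lit 0xaf92
noncomputable def p2l2P (u : ℕ) : ℕ := Nat.land (Nat.shiftRight p2l2Pd (Nat.mul u (nat_lit 4))) (nat_lit 15)
noncomputable def p2l2Qd : ℕ := nat_lit 0x80340000
noncomputable def p2l2Q (u : ℕ) : ℕ := Nat.land (Nat.shiftRight p2l2Qd (Nat.mul u (nat_lit 2))) (nat_lit 3)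
noncomputable def p2l2 : H16.Lev := ⟨4, 47, p2l2D, p2l2P, p2l2Q⟩
noncomputable def p2l3Dd : ℕ := nat_lit 0x2e0
noncomputable def p2l3D (u : ℕ) : ℕ := Nat.land (Nat.shiftRight p2l3Dd (Nat.mul u (nat_lit 5))) (nat_lit 31)
noncomputable def p2l3Pd : ℕ := nat_lit 0xb5
noncomputable def p2l3P (u : ℕ) : ℕ := Nat.land (Nat.shiftRight p2l3Pd (Nat.mul u (nat_lit 4))) (nat_lit 15)
noncomputable def p2l3Qd : ℕ := nat_lit 0x800
noncomputable def p2l3Q (u : ℕ) : ℕ := Nat.land (Nat.shiftRight p2l3Qd (Nat.mul u (nat_lit 1))) (nat_lit 1)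
noncomputable def p2l3 : H16.Lev := ⟨2, 24, p2l3D, p2l3P, p2l3Q⟩
noncomputable def covr_W : List (List ℕ) := [[nat_lit 1, nat_lit 6, nat_lit 1, nat_lit 4, nat_lit 7, nat_lit 6, nat_lit 3, nat_lit 8, nat_lit 1, nat_lit 3, nat_lit 9, nat_lit 8, nat_lit 1, nat_lit 2, nat_lit 6, nat_lit 10, nat_lit 9, nat_lit 8, nat_lit 3, nat_lit 10],
  [nat_lit 3, nat_lit 6, nat_lit 3, nat_lit 7, nat_lit 6, nat_lit 2, nat_lit 6, nat_lit 8, nat_lit 1, nat_lit 6, nat_lit 9, nat_lit 8, nat_lit 0, nat_lit 3, nat_lit 6, nat_lit 10, nat_lit 9, nat_lit 8, nat_lit 2]]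
noncomputable def covr_P : ℕ → ℕ → ℕ := wdsP H15.MM24.P covr_W
noncomputable def covT0 : H0.TR.CT := (.split (.more (.split (.more (.split (.more (.split (.more (.split (.more (.split (.more (.split (.more (.split (.more (.split (.more (.split (.more .one (.more (.leaf (nat_lit 0) []) .one))) (.more (.fuse [nat_lit 7] [] (.leaf (nat_lit 0) [nat_lit 0, nat_lit 3, nat_lit 6, nat_lit 7, nat_lit 6, nat_lit 0, nat_lit 8, nat_lit 0, nat_lit 9, nat_lit 10, nat_lit 9, nat_lit 8, nat_lit 2, nat_lit 5])) .one))) (.more (.split (.more (.fuse [nat_lit 7] [] (.leaf (nat_lit 0) [nat_lit 2, nat_lit 5, nat_lit 6, nat_lit 1, nat_lit 2, nat_lit 8, nat_lit 9, nat_lit 10, nat_lit 9, nat_lit 8, nat_lit 3])) (.more (.fuse [nat_lit 8] [] (.leaf (nat_lit 1) [])) .one))) .one))) (.more (.fuse [nat_lit 7] [nat_lit 0, nat_lit 1] (.fuse [nat_lit 8] [] (.split (.more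 (.leaf (nat_lit 0) [nat_lit 2, nat_lit 5, nat_lit 7, nat_lit 6, nat_lit 2, nat_lit 8, nat_lit 0, nat_lit 1, nat_lit 9, nat_lit 10, nat_lit 9, nat_lit 8, nat_lit 1, nat_lit 3]) (.more (.leaf (nat_lit 1) [nat_lit 6, nat_lit 0, nat_lit 1, nat_lit 6]) .one))))) .one))) (.more (.split (.more (.fuse [nat_lit 6] [nat_lit 1] (.fuse [nat_lit 8] [nat_lit 0] (.fuse [nat_lit 5] [] (.prune (nat_lit 0) (nat_lit 1) [])))) (.more (.fuse [nat_lit 6] [nat_lit 1] (.fuse [nat_lit 9] [] (.fuse [nat_lit 5] [] (.prune (nat_lit 0) (nat_lit 1) [])))) .one))) .one))) (.more (.split (.more (.split (.more (.fuse [nat_lit 6] [] (.split (.more (.fuse [nat_lit 4] [] (.leaf (nat_lit 1) [nat_lit 5, nat_lit 6, nat_lit 1, nat_lit 2, nat_lit 7, nat_lit 6, nat_lit 1, nat_lit 8, nat_lit 9, nat_lit 10, nat_lit 9, nat_lit 8, nat_lit 2, nat_lit 3, nat_lit 7, nat_lit 6])) (.more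 (.fuse [nat_lit 4] [] (.leaf (nat_lit 0) [nat_lit 2, nat_lit 5, nat_lit 6, nat_lit 4, nat_lit 7, nat_lit 6, nat_lit 3, nat_lit 4, nat_lit 10, nat_lit 9])) .one)))) (.more (.fuse [nat_lit 6] [] (.fuse [nat_lit 7] [] (.fuse [nat_lit 4] [] (.leaf (nat_lit 1) [nat_lit 10, nat_lit 4, nat_lit 6, nat_lit 1, nat_lit 7, nat_lit 6, nat_lit 8, nat_lit 0, nat_lit 9, nat_lit 8, nat_lit 3, nat_lit 10])))) .one))) (.more (.split (.more (.fuse [nat_lit 7] [nat_lit 0] (.fuse [nat_lit 6] [] (.fuse [nat_lit 4] [] (.leaf (nat_lit 0) [nat_lit 2, nat_lit 5, nat_lit 6, nat_lit 0, nat_lit 1, nat_lit 8, nat_lit 0, nat_lit 9, nat_lit 10, nat_lit 9, nat_lit 8, nat_lit 2, nat_lit 3])))) (.more (.split (.more (.fuse [nat_lit 6] [] (.fuse [nat_lit 4] [] (.leaf (nat_lit 0) [nat_lit 0, nat_lit 1, nat_lit 3, nat_lit 6, nat_lit 2, nat_lit 6, nat_lit 4, nat_lit 8, nat_lit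 2, nat_lit 9, nat_lit 8, nat_lit 2, nat_lit 5, nat_lit 10, nat_lit 9]))) (.more (.fuse [nat_lit 6] [] (.fuse [nat_lit 4] [] (.leaf (nat_lit 1) [nat_lit 0, nat_lit 3, nat_lit 4, nat_lit 6, nat_lit 7, nat_lit 6, nat_lit 0, nat_lit 3, nat_lit 8, nat_lit 9, nat_lit 10, nat_lit 9, nat_lit 8, nat_lit 0, nat_lit 1, nat_lit 5]))) .one))) .one))) .one))) .one))) (.more (.fuse [nat_lit 8] [nat_lit 0, nat_lit 1, nat_lit 2, nat_lit 3, nat_lit 4] (.fuse [nat_lit 7] [nat_lit 1, nat_lit 2, nat_lit 3] (.fuse [nat_lit 7, nat_lit 9] [nat_lit 2] (.prune (nat_lit 3) (nat_lit 1) [])))) .one))) (.more (.split (.more (.fuse [nat_lit 8] [nat_lit 1, nat_lit 2, nat_lit 3, nat_lit 4] (.fuse [nat_lit 6] [nat_lit 1, nat_lit 2, nat_lit 3] (.prune (nat_lit 4) (nat_lit 1) []))) (.more (.fuse [nat_lit 9] [nat_lit 0, nat_lit 1, nat_lit 2] (.fuse [nat_lit 6] [nat_lit 3]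 (.split (.more (.fuse [nat_lit 3] [nat_lit 0, nat_lit 1] (.prune (nat_lit 2) (nat_lit 1) [nat_lit 0, nat_lit 1])) (.more (.fuse [nat_lit 3] [nat_lit 0, nat_lit 1] (.split (.more (.fuse [nat_lit 1] [] (.leaf (nat_lit 1) [nat_lit 6, nat_lit 0, nat_lit 3, nat_lit 7, nat_lit 8, nat_lit 9, nat_lit 10, nat_lit 9, nat_lit 8, nat_lit 1, nat_lit 4, nat_lit 3])) (.more (.fuse [nat_lit 1] [] (.prune (nat_lit 0) (nat_lit 1) [])) .one)))) .one))))) .one))) .one))) (.more (.split (.more (.split (.more (.fuse [nat_lit 6] [nat_lit 0, nat_lit 2, nat_lit 3, nat_lit 4] (.split (.more (.split (.more (.split (.more (.fuse [nat_lit 3] [] (.fuse [nat_lit 2] [] (.leaf (nat_lit 1) [nat_lit 5, nat_lit 6, nat_lit 1, nat_lit 7, nat_lit 8, nat_lit 9, nat_lit 8, nat_lit 0, nat_lit 10, nat_lit 9, nat_lit 8, nat_lit 3, nat_lit 10]))) (.more (.fuse [nat_lit 3] [] (.fuse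 [nat_lit 2] [] (.prune (nat_lit 0) (nat_lit 1) []))) .one))) (.more (.fuse [nat_lit 6, nat_lit 7] [nat_lit 0] (.fuse [nat_lit 3] [] (.prune (nat_lit 1) (nat_lit 1) []))) .one))) (.more (.split (.more (.fuse [nat_lit 6, nat_lit 7] [] (.fuse [nat_lit 3] [] (.prune (nat_lit 1) (nat_lit 1) []))) (.more (.split (.more (.fuse [nat_lit 3] [] (.fuse [nat_lit 2] [] (.leaf (nat_lit 0) [nat_lit 0, nat_lit 2, nat_lit 4, nat_lit 6, nat_lit 2, nat_lit 6, nat_lit 7, nat_lit 6, nat_lit 0, nat_lit 3, nat_lit 8, nat_lit 1, nat_lit 4, nat_lit 9, nat_lit 8, nat_lit 0]))) (.more (.fuse [nat_lit 3] [] (.fuse [nat_lit 2] [] (.prune (nat_lit 0) (nat_lit 1) []))) .one))) .one))) .one)))) (.more (.fuse [nat_lit 6] [nat_lit 0, nat_lit 1, nat_lit 2, nat_lit 3, nat_lit 4] (.prune (nat_lit 5) (nat_lit 1) [nat_lit 0, nat_lit 2, nat_lit 4])) .one))) (.more (.split (.more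 (.fuse [nat_lit 6] [] (.prune (nat_lit 5) (nat_lit 1) [nat_lit 0, nat_lit 2, nat_lit 3])) (.more (.fuse [nat_lit 6] [nat_lit 2] (.split (.more (.split (.more (.fuse [nat_lit 3] [] (.prune (nat_lit 2) (nat_lit 1) [nat_lit 0])) (.more (.fuse [nat_lit 3] [] (.split (.more (.fuse [nat_lit 1] [] (.prune (nat_lit 0) (nat_lit 1) [])) (.more (.fuse [nat_lit 1] [] (.leaf (nat_lit 1) [nat_lit 3, nat_lit 7, nat_lit 6, nat_lit 1, nat_lit 4, nat_lit 1, nat_lit 8, nat_lit 0, nat_lit 3, nat_lit 9, nat_lit 8, nat_lit 2, nat_lit 10])) .one)))) .one))) (.more (.split (.more (.fuse [nat_lit 3] [] (.split (.more (.fuse [nat_lit 1] [] (.leaf (nat_lit 0) [nat_lit 0, nat_lit 1, nat_lit 2, nat_lit 5, nat_lit 6, nat_lit 7])) (.more (.fuse [nat_lit 1] [] (.prune (nat_lit 0) (nat_lit 1) [])) .one)))) (.more (.fuse [nat_lit 3] [] (.prune (nat_lit 2) (nat_lit 1)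 [])) .one))) .one)))) .one))) .one))) .one))) (.more (.split (.more (.split (.more (.split (.more (.fuse [nat_lit 7] [nat_lit 0, nat_lit 2, nat_lit 4] (.prune (nat_lit 5) (nat_lit 1) [])) (.more (.fuse [nat_lit 7] [nat_lit 3] (.prune (nat_lit 5) (nat_lit 1) [nat_lit 1, nat_lit 3, nat_lit 4])) .one))) (.more (.split (.more (.fuse [nat_lit 7] [nat_lit 4] (.split (.more (.fuse [nat_lit 6] [nat_lit 2] (.fuse [nat_lit 4] [nat_lit 0] (.prune (nat_lit 2) (nat_lit 1) []))) (.more (.fuse [nat_lit 6] [nat_lit 1] (.fuse [nat_lit 4] [nat_lit 0] (.split (.more (.fuse [nat_lit 6, nat_lit 7, nat_lit 8] [] (.leaf (nat_lit 0) [nat_lit 0, nat_lit 3, nat_lit 8, nat_lit 2, nat_lit 4, nat_lit 9, nat_lit 10, nat_lit 9, nat_lit 8, nat_lit 2])) (.more (.split (.more (.leaf (nat_lit 0) [nat_lit 4, nat_lit 6, nat_lit 0, nat_lit 8, nat_lit 0, nat_lit 3, nat_lit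 9, nat_lit 8, nat_lit 2, nat_lit 3, nat_lit 10, nat_lit 9, nat_lit 8, nat_lit 2]) (.more (.leaf (nat_lit 1) [nat_lit 2, nat_lit 5, nat_lit 6, nat_lit 2]) .one))) .one))))) .one)))) (.more (.fuse [nat_lit 7] [nat_lit 0, nat_lit 2, nat_lit 3] (.split (.more (.fuse [nat_lit 6] [nat_lit 2] (.split (.more (.fuse [nat_lit 4] [nat_lit 0] (.split (.more (.leaf (nat_lit 1) [nat_lit 7, nat_lit 4, nat_lit 2, nat_lit 7, nat_lit 6, nat_lit 2, nat_lit 6, nat_lit 8, nat_lit 0, nat_lit 9, nat_lit 8, nat_lit 0, nat_lit 10, nat_lit 8]) (.more (.leaf (nat_lit 0) [nat_lit 6, nat_lit 1, nat_lit 4, nat_lit 8, nat_lit 1, nat_lit 9, nat_lit 8, nat_lit 0, nat_lit 2, nat_lit 10, nat_lit 9, nat_lit 8, nat_lit 0, nat_lit 2]) .one)))) (.more (.fuse [nat_lit 4] [nat_lit 0] (.fuse [nat_lit 4, nat_lit 8] [] (.leaf (nat_lit 1) [nat_lit 0, nat_lit 3, nat_lit 5, nat_lit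 6, nat_lit 3, nat_lit 4, nat_lit 3]))) .one)))) (.more (.fuse [nat_lit 6] [nat_lit 1] (.split (.more (.fuse [nat_lit 4] [nat_lit 0] (.prune (nat_lit 1) (nat_lit 1) [])) (.more (.fuse [nat_lit 4] [nat_lit 0] (.prune (nat_lit 1) (nat_lit 1) [])) .one)))) .one)))) .one))) .one))) (.more (.split (.more (.split (.more (.fuse [nat_lit 6] [nat_lit 2, nat_lit 3] (.prune (nat_lit 5) (nat_lit 1) [])) (.more (.fuse [nat_lit 6] [nat_lit 3] (.fuse [nat_lit 7] [nat_lit 0, nat_lit 2] (.split (.more (.fuse [nat_lit 3] [] (.prune (nat_lit 2) (nat_lit 1) [])) (.more (.fuse [nat_lit 3] [] (.split (.more (.fuse [nat_lit 1] [] (.leaf (nat_lit 1) [nat_lit 1, nat_lit 3, nat_lit 5, nat_lit 6, nat_lit 2, nat_lit 6, nat_lit 4])) (.more (.fuse [nat_lit 1] [] (.prune (nat_lit 0) (nat_lit 1) [])) .one)))) .one))))) .one))) (.more (.split (.more (.fuse [nat_lit 6]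 [nat_lit 4] (.prune (nat_lit 5) (nat_lit 1) [nat_lit 0, nat_lit 1, nat_lit 3, nat_lit 4])) (.more (.fuse [nat_lit 6] [nat_lit 1, nat_lit 4] (.fuse [nat_lit 7] [nat_lit 0, nat_lit 1] (.split (.more (.split (.more (.fuse [nat_lit 3] [] (.prune (nat_lit 1) (nat_lit 1) [nat_lit 0])) (.more (.fuse [nat_lit 3] [] (.prune (nat_lit 1) (nat_lit 1) [])) .one))) (.more (.split (.more (.fuse [nat_lit 3] [] (.fuse [nat_lit 2] [] (.prune (nat_lit 0) (nat_lit 1) []))) (.more (.fuse [nat_lit 3] [] (.fuse [nat_lit 2] [] (.leaf (nat_lit 0) [nat_lit 0, nat_lit 4, nat_lit 6, nat_lit 0, nat_lit 1, nat_lit 2, nat_lit 8, nat_lit 1, nat_lit 9, nat_lit 10, nat_lit 9, nat_lit 8]))) .one))) .one))))) .one))) .one))) .one))) .one)))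
noncomputable def c0ax_W : List (List ℕ) := [[nat_lit 1, nat_lit 6, nat_lit 1, nat_lit 4, nat_lit 7, nat_lit 6, nat_lit 3, nat_lit 8, nat_lit 1, nat_lit 3, nat_lit 9, nat_lit 8, nat_lit 1, nat_lit 2, nat_lit 6, nat_lit 10, nat_lit 9, nat_lit 8, nat_lit 3, nat_lit 10]]
noncomputable def c0ax_P : ℕ → ℕ → ℕ := wdsP H15.MM24.P c0ax_W
noncomputable def c0ath_W : List (List ℕ) := [[nat_lit 0, nat_lit 8, nat_lit 9, nat_lit 10, nat_lit 9, nat_lit 8, nat_lit 0],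
  [nat_lit 3, nat_lit 8, nat_lit 9, nat_lit 10, nat_lit 9, nat_lit 8, nat_lit 3],
  [nat_lit 8, nat_lit 9, nat_lit 10, nat_lit 9, nat_lit 8],
  [nat_lit 4, nat_lit 10, nat_lit 3, nat_lit 5, nat_lit 8, nat_lit 9, nat_lit 8, nat_lit 0, nat_lit 10],
  [nat_lit 1, nat_lit 4, nat_lit 6, nat_lit 1, nat_lit 8, nat_lit 9, nat_lit 10, nat_lit 9, nat_lit 8, nat_lit 1, nat_lit 6],
  [nat_lit 0, nat_lit 6, nat_lit 7, nat_lit 6, nat_lit 5, nat_lit 1, nat_lit 8, nat_lit 9, nat_lit 10, nat_lit 9, nat_lit 8, nat_lit 1],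
  [nat_lit 0],
  [nat_lit 1],
  [nat_lit 2],
  [nat_lit 3],
  [nat_lit 4],
  [nat_lit 5],
  [nat_lit 8],
  [nat_lit 6],
  [nat_lit 7],
  [nat_lit 9],
  [nat_lit 10]]
noncomputable def c0ath_P : ℕ → ℕ → ℕ := wdsP H15.MM24.P c0ath_W
noncomputable def c0atl0Dd : ℕ := nat_lit 0x57c30ee70378d8dc4513974665c26098b63b1d0944622120401e00
noncomputable def c0atl0D (u : ℕ) : ℕ := Nat.land (Nat.shiftRight c0atl0Dd (Nat.mul u (nat_lit 9))) (nat_lit 511)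
noncomputable def c0atl0Pd : ℕ := nat_lit 0x10e49436aea1a30b154b7cce465c20
noncomputable def c0atl0P (u : ℕ) : ℕ := Nat.land (Nat.shiftRight c0atl0Pd (Nat.mul u (nat_lit 5))) (nat_lit 31)
noncomputable def c0atl0Qd : ℕ := nat_lit 0x12e2f355ac3c243426932b944b5c20
noncomputable def c0atl0Q (u : ℕ) : ℕ := Nat.land (Nat.shiftRight c0atl0Qd (Nat.mul u (nat_lit 5))) (nat_lit 31)
noncomputable def c0atl0 : H16.Lev := ⟨24, 17, c0atl0D, c0atl0P, c0atl0Q⟩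
noncomputable def c0atl1Dd : ℕ := nat_lit 0xed7baf668e9c61443634121b1a100f18111716150e0d00
noncomputable def c0atl1D (u : ℕ) : ℕ := Nat.land (Nat.shiftRight c0atl1Dd (Nat.mul u (nat_lit 8))) (nat_lit 255)
noncomputable def c0atl1Pd : ℕ := nat_lit 0x6e58a92764ac4719136c1eba8a83
noncomputable def c0atl1P (u : ℕ) : ℕ := Nat.land (Nat.shiftRight c0atl1Pd (Nat.mul u (nat_lit 5))) (nat_lit 31)
noncomputable def c0atl1Qd : ℕ := nat_lit 0xab46143a662acef24a2982a8c00ac0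
noncomputable def c0atl1Q (u : ℕ) : ℕ := Nat.land (Nat.shiftRight c0atl1Qd (Nat.mul u (nat_lit 5))) (nat_lit 31)
noncomputable def c0atl1 : H16.Lev := ⟨23, 15, c0atl1D, c0atl1P, c0atl1Q⟩
noncomputable def c0atl2Dd : ℕ := nat_lit 0x6d8c3d11271b30292f232221100e0d160f1514130c00
noncomputable def c0atl2D (u : ℕ) : ℕ := Nat.land (Nat.shiftRight c0atl2Dd (Nat.mul u (nat_lit 8))) (nat_lit 255)
noncomputable def c0atl2Pd : ℕ := nat_lit 0x493224e8568ab4da589eeb79181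
noncomputable def c0atl2P (u : ℕ) : ℕ := Nat.land (Nat.shiftRight c0atl2Pd (Nat.mul u (nat_lit 5))) (nat_lit 31)
noncomputable def c0atl2Qd : ℕ := nat_lit 0x2adcd544ef1c1212329234d0205400
noncomputable def c0atl2Q (u : ℕ) : ℕ := Nat.land (Nat.shiftRight c0atl2Qd (Nat.mul u (nat_lit 5))) (nat_lit 31)
noncomputable def c0atl2 : H16.Lev := ⟨22, 13, c0atl2D, c0atl2P, c0atl2Q⟩
noncomputable def c0atl3Dd : ℕ := nat_lit 0x954b2f2524194e2d26421a1514130b0a0908070600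
noncomputable def c0atl3D (u : ℕ) : ℕ := Nat.land (Nat.shiftRight c0atl3Dd (Nat.mul u (nat_lit 8))) (nat_lit 255)
noncomputable def c0atl3Pd : ℕ := nat_lit 0x2892ee7a185aceca9428b3b526
noncomputable def c0atl3P (u : ℕ) : ℕ := Nat.land (Nat.shiftRight c0atl3Pd (Nat.mul u (nat_lit 5))) (nat_lit 31)
noncomputable def c0atl3Qd : ℕ := nat_lit 0x8a56551e667c04d2202e1819205000
noncomputable def c0atl3Q (u : ℕ) : ℕ := Nat.land (Nat.shiftRight c0atl3Qd (Nat.mul u (nat_lit 5))) (nat_lit 31)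
noncomputable def c0atl3 : H16.Lev := ⟨21, 12, c0atl3D, c0atl3P, c0atl3Q⟩
noncomputable def c0atl4Dd : ℕ := nat_lit 0xd6e9fad5690d951e4c58d18284870c20280
noncomputable def c0atl4D (u : ℕ) : ℕ := Nat.land (Nat.shiftRight c0atl4Dd (Nat.mul u (nat_lit 7))) (nat_lit 127)
noncomputable def c0atl4Pd : ℕ := nat_lit 0x4d88a846ee2d16d930f343ea2
noncomputable def c0atl4P (u : ℕ) : ℕ := Nat.land (Nat.shiftRight c0atl4Pd (Nat.mul u (nat_lit 5))) (nat_lit 31)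
noncomputable def c0atl4Qd : ℕ := nat_lit 0x6c82a21dcf131064c2632817100000
noncomputable def c0atl4Q (u : ℕ) : ℕ := Nat.land (Nat.shiftRight c0atl4Qd (Nat.mul u (nat_lit 5))) (nat_lit 31)
noncomputable def c0atl4 : H16.Lev := ⟨20, 6, c0atl4D, c0atl4P, c0atl4Q⟩
noncomputable def c0atl5Dd : ℕ := nat_lit 0x940
noncomputable def c0atl5D (u : ℕ) : ℕ := Nat.land (Nat.shiftRight c0atl5Dd (Nat.mul u (nat_lit 4))) (nat_lit 15)
noncomputable def c0atl5Pd : ℕ := nat_lit 0x26cb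
noncomputable def c0atl5P (u : ℕ) : ℕ := Nat.land (Nat.shiftRight c0atl5Pd (Nat.mul u (nat_lit 5))) (nat_lit 31)
noncomputable def c0atl5Qd : ℕ := nat_lit 0x100000080000
noncomputable def c0atl5Q (u : ℕ) : ℕ := Nat.land (Nat.shiftRight c0atl5Qd (Nat.mul u (nat_lit 2))) (nat_lit 3)
noncomputable def c0atl5 : H16.Lev := ⟨3, 5, c0atl5D, c0atl5P, c0atl5Q⟩
noncomputable def c0atl6Dd : ℕ := nat_lit 0xbdf6d754f2c7245103040080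
noncomputable def c0atl6D (u : ℕ) : ℕ := Nat.land (Nat.shiftRight c0atl6Dd (Nat.mul u (nat_lit 6))) (nat_lit 63)
noncomputable def c0atl6Pd : ℕ := nat_lit 0x851b28cd0f23155bb8a7
noncomputable def c0atl6P (u : ℕ) : ℕ := Nat.land (Nat.shiftRight c0atl6Pd (Nat.mul u (nat_lit 5))) (nat_lit 31)
noncomputable def c0atl6Qd : ℕ := nat_lit 0x304eacbf82d6050900170000
noncomputable def c0atl6Q (u : ℕ) : ℕ := Nat.land (Nat.shiftRight c0atl6Qd (Nat.mul u (nat_lit 4))) (nat_lit 15)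
noncomputable def c0atl6 : H16.Lev := ⟨16, 4, c0atl6D, c0atl6P, c0atl6Q⟩
noncomputable def c0ace_W : List (List ℕ) := [[nat_lit 3, nat_lit 8, nat_lit 9, nat_lit 10, nat_lit 9, nat_lit 8, nat_lit 3],
  [nat_lit 1, nat_lit 5, nat_lit 8, nat_lit 9, nat_lit 10, nat_lit 9, nat_lit 8, nat_lit 1],
  [nat_lit 0, nat_lit 3, nat_lit 8, nat_lit 9, nat_lit 10, nat_lit 9, nat_lit 8, nat_lit 0, nat_lit 3],
  [nat_lit 6, nat_lit 7, nat_lit 6, nat_lit 3, nat_lit 4, nat_lit 8, nat_lit 9, nat_lit 10, nat_lit 9, nat_lit 8, nat_lit 2, nat_lit 4],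
  [nat_lit 3, nat_lit 7, nat_lit 6, nat_lit 5, nat_lit 8, nat_lit 1, nat_lit 10, nat_lit 9, nat_lit 8, nat_lit 1, nat_lit 10, nat_lit 7],
  [nat_lit 5, nat_lit 6, nat_lit 2, nat_lit 6, nat_lit 7, nat_lit 6, nat_lit 1, nat_lit 8, nat_lit 2, nat_lit 5, nat_lit 9, nat_lit 8, nat_lit 1, nat_lit 2, nat_lit 6],
  [nat_lit 2, nat_lit 6, nat_lit 0, nat_lit 3, nat_lit 7, nat_lit 6, nat_lit 5, nat_lit 8, nat_lit 0, nat_lit 3, nat_lit 9, nat_lit 8, nat_lit 10, nat_lit 9, nat_lit 8, nat_lit 3]]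
noncomputable def c0ace_P : ℕ → ℕ → ℕ := wdsP H15.MM24.P c0ace_W
noncomputable def c0acc6Dd : ℕ := nat_lit 0xe8542100
noncomputable def c0acc6D (u : ℕ) : ℕ := Nat.land (Nat.shiftRight c0acc6Dd (Nat.mul u (nat_lit 4))) (nat_lit 15)
noncomputable def c0acc6Pd : ℕ := nat_lit 0xa214f8b6e7
noncomputable def c0acc6P (u : ℕ) : ℕ := Nat.land (Nat.shiftRight c0acc6Pd (Nat.mul u (nat_lit 5))) (nat_lit 31)
noncomputable def c0acc6Qd : ℕ := nat_lit 0x207018810146000000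
noncomputable def c0acc6Q (u : ℕ) : ℕ := Nat.land (Nat.shiftRight c0acc6Qd (Nat.mul u (nat_lit 3))) (nat_lit 7)
noncomputable def c0acc6 : H16.Lev := ⟨8, 3, c0acc6D, c0acc6P, c0acc6Q⟩
noncomputable def c0atn0Fd : ℕ := nat_lit 0xb008040053070810
noncomputable def c0atn0F (u : ℕ) : ℕ := Nat.land (Nat.shiftRight c0atn0Fd (Nat.mul u (nat_lit 4))) (nat_lit 15)
noncomputable def c0atn0 : Nd := ⟨c0atn0F, (nat_lit 3), (nat_lit 3), [[nat_lit 0]], [((nat_lit 0), [])], []⟩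
noncomputable def c0acc4Dd : ℕ := nat_lit 0xdea6e524e629060
noncomputable def c0acc4D (u : ℕ) : ℕ := Nat.land (Nat.shiftRight c0acc4Dd (Nat.mul u (nat_lit 5))) (nat_lit 31)
noncomputable def c0acc4Pd : ℕ := nat_lit 0x49d776c6cf52282
noncomputable def c0acc4P (u : ℕ) : ℕ := Nat.land (Nat.shiftRight c0acc4Pd (Nat.mul u (nat_lit 5))) (nat_lit 31)
noncomputable def c0acc4Qd : ℕ := nat_lit 0x85010060407093b2a0000000
noncomputable def c0acc4Q (u : ℕ) : ℕ := Nat.land (Nat.shiftRight c0acc4Qd (Nat.mul u (nat_lit 4))) (nat_lit 15)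
noncomputable def c0acc4 : H16.Lev := ⟨12, 4, c0acc4D, c0acc4P, c0acc4Q⟩
noncomputable def c0atn1Fd : ℕ := nat_lit 0xb060079000a5040010
noncomputable def c0atn1F (u : ℕ) : ℕ := Nat.land (Nat.shiftRight c0atn1Fd (Nat.mul u (nat_lit 4))) (nat_lit 15)
noncomputable def c0atn1 : Nd := ⟨c0atn1F, (nat_lit 4), (nat_lit 4), [[nat_lit 0]], [((nat_lit 0), [])], []⟩
noncomputable def c0acc2Dd : ℕ := nat_lit 0x7606174d130b207185100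
noncomputable def c0acc2D (u : ℕ) : ℕ := Nat.land (Nat.shiftRight c0acc2Dd (Nat.mul u (nat_lit 6))) (nat_lit 63)
noncomputable def c0acc2Pd : ℕ := nat_lit 0x12712cd76c6cf52281
noncomputable def c0acc2P (u : ℕ) : ℕ := Nat.land (Nat.shiftRight c0acc2Pd (Nat.mul u (nat_lit 5))) (nat_lit 31)
noncomputable def c0acc2Qd : ℕ := nat_lit 0x850100604070a3d2c9000b00
noncomputable def c0acc2Q (u : ℕ) : ℕ := Nat.land (Nat.shiftRight c0acc2Qd (Nat.mul u (nat_lit 4))) (nat_lit 15)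
noncomputable def c0acc2 : H16.Lev := ⟨14, 5, c0acc2D, c0acc2P, c0acc2Q⟩
noncomputable def c0atn2Fd : ℕ := nat_lit 0x2276180002c050000003020
noncomputable def c0atn2F (u : ℕ) : ℕ := Nat.land (Nat.shiftRight c0atn2Fd (Nat.mul u (nat_lit 5))) (nat_lit 31)
noncomputable def c0atn2 : Nd := ⟨c0atn2F, (nat_lit 5), (nat_lit 5), [[nat_lit 0]], [((nat_lit 0), [])], []⟩
noncomputable def c0acc0Dd : ℕ := nat_lit 0x8468f983c50996244480f1c18280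
noncomputable def c0acc0D (u : ℕ) : ℕ := Nat.land (Nat.shiftRight c0acc0Dd (Nat.mul u (nat_lit 7))) (nat_lit 127)
noncomputable def c0acc0Pd : ℕ := nat_lit 0x106c97ace8336f48a860
noncomputable def c0acc0P (u : ℕ) : ℕ := Nat.land (Nat.shiftRight c0acc0Pd (Nat.mul u (nat_lit 5))) (nat_lit 31)
noncomputable def c0acc0Qd : ℕ := nat_lit 0x5d040030b060a2c897001fe0
noncomputable def c0acc0Q (u : ℕ) : ℕ := Nat.land (Nat.shiftRight c0acc0Qd (Nat.mul u (nat_lit 4))) (nat_lit 15)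
noncomputable def c0acc0 : H16.Lev := ⟨16, 7, c0acc0D, c0acc0P, c0acc0Q⟩
noncomputable def c0atn3Fd : ℕ := nat_lit 0x2e0001090001001c0003c1008000
noncomputable def c0atn3F (u : ℕ) : ℕ := Nat.land (Nat.shiftRight c0atn3Fd (Nat.mul u (nat_lit 5))) (nat_lit 31)
noncomputable def c0atn3 : Nd := ⟨c0atn3F, (nat_lit 7), (nat_lit 7), [[nat_lit 0]], [((nat_lit 0), [])], []⟩
noncomputable def c0w0_W : List (List ℕ) := [[nat_lit 1, nat_lit 6, nat_lit 1, nat_lit 4, nat_lit 7, nat_lit 6, nat_lit 3, nat_lit 8, nat_lit 1, nat_lit 3, nat_lit 9, nat_lit 8, nat_lit 1, nat_lit 2, nat_lit 6, nat_lit 10, nat_lit 9, nat_lit 8, nat_lit 3, nat_lit 10],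
  [nat_lit 8, nat_lit 0, nat_lit 7, nat_lit 6, nat_lit 8, nat_lit 2, nat_lit 5, nat_lit 9, nat_lit 8, nat_lit 0, nat_lit 1, nat_lit 5, nat_lit 10, nat_lit 9, nat_lit 8, nat_lit 2, nat_lit 3]]
noncomputable def c0w0_P : ℕ → ℕ → ℕ := wdsP H15.MM24.P c0w0_W
noncomputable def c0y0x_W : List (List ℕ) := [[nat_lit 8, nat_lit 0, nat_lit 7, nat_lit 6, nat_lit 8, nat_lit 2, nat_lit 5, nat_lit 9, nat_lit 8, nat_lit 0, nat_lit 1, nat_lit 5, nat_lit 10, nat_lit 9, nat_lit 8, nat_lit 2, nat_lit 3]]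
noncomputable def c0y0x_P : ℕ → ℕ → ℕ := wdsP H15.MM24.P c0y0x_W
noncomputable def c0y0th_W : List (List ℕ) := [[nat_lit 6, nat_lit 0, nat_lit 2, nat_lit 6, nat_lit 5, nat_lit 7, nat_lit 6, nat_lit 4, nat_lit 8, nat_lit 0, nat_lit 2],
  [nat_lit 3, nat_lit 6, nat_lit 0, nat_lit 3, nat_lit 8, nat_lit 0, nat_lit 3, nat_lit 6],
  [nat_lit 6, nat_lit 0, nat_lit 8, nat_lit 0, nat_lit 1],
  [nat_lit 0, nat_lit 1, nat_lit 2, nat_lit 5, nat_lit 6, nat_lit 3, nat_lit 8, nat_lit 3],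
  [nat_lit 6, nat_lit 0, nat_lit 2, nat_lit 7, nat_lit 8, nat_lit 0, nat_lit 2],
  [nat_lit 5, nat_lit 7, nat_lit 9, nat_lit 10, nat_lit 9, nat_lit 8, nat_lit 0, nat_lit 6],
  [nat_lit 6],
  [nat_lit 8],
  [nat_lit 0],
  [nat_lit 1],
  [nat_lit 2],
  [nat_lit 3],
  [nat_lit 4],
  [nat_lit 5],
  [nat_lit 7],
  [nat_lit 9],
  [nat_lit 10]]
noncomputable def c0y0th_P : ℕ → ℕ → ℕ := wdsP H15.MM24.P c0y0th_W
noncomputable def c0y0tl0Dd : ℕ := nat_lit 0x9bce158b03094ca23727938b63d1e12c6a4a0a05424130c0401e00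
noncomputable def c0y0tl0D (u : ℕ) : ℕ := Nat.land (Nat.shiftRight c0y0tl0Dd (Nat.mul u (nat_lit 9))) (nat_lit 511)
noncomputable def c0y0tl0Pd : ℕ := nat_lit 0x10e45751a64554b7a604b1e3365c20
noncomputable def c0y0tl0P (u : ℕ) : ℕ := Nat.land (Nat.shiftRight c0y0tl0Pd (Nat.mul u (nat_lit 5))) (nat_lit 31)
noncomputable def c0y0tl0Qd : ℕ := nat_lit 0x11dd2254a95ce236354f34288b5c20
noncomputable def c0y0tl0Q (u : ℕ) : ℕ := Nat.land (Nat.shiftRight c0y0tl0Qd (Nat.mul u (nat_lit 5))) (nat_lit 31)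
noncomputable def c0y0tl0 : H16.Lev := ⟨24, 17, c0y0tl0D, c0y0tl0P, c0y0tl0Q⟩
noncomputable def c0y0tl1Dd : ℕ := nat_lit 0x4c4467131970521a218648434128902c1507034180b050241000
noncomputable def c0y0tl1D (u : ℕ) : ℕ := Nat.land (Nat.shiftRight c0y0tl1Dd (Nat.mul u (nat_lit 9))) (nat_lit 511)
noncomputable def c0y0tl1Pd : ℕ := nat_lit 0x5c53545a92920170ea77a246652cb
noncomputable def c0y0tl1P (u : ℕ) : ℕ := Nat.land (Nat.shiftRight c0y0tl1Pd (Nat.mul u (nat_lit 5))) (nat_lit 31)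
noncomputable def c0y0tl1Qd : ℕ := nat_lit 0xb0522a164d3ae2304e06411ee55580
noncomputable def c0y0tl1Q (u : ℕ) : ℕ := Nat.land (Nat.shiftRight c0y0tl1Qd (Nat.mul u (nat_lit 5))) (nat_lit 31)
noncomputable def c0y0tl1 : H16.Lev := ⟨23, 15, c0y0tl1D, c0y0tl1P, c0y0tl1Q⟩
noncomputable def c0y0tl2Dd : ℕ := nat_lit 0x2033689504e7c90d272a7869328245161e1c300
noncomputable def c0y0tl2D (u : ℕ) : ℕ := Nat.land (Nat.shiftRight c0y0tl2Dd (Nat.mul u (nat_lit 7))) (nat_lit 127)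
noncomputable def c0y0tl2Pd : ℕ := nat_lit 0x563ddc3abd8991a85685138122a
noncomputable def c0y0tl2P (u : ℕ) : ℕ := Nat.land (Nat.shiftRight c0y0tl2Pd (Nat.mul u (nat_lit 5))) (nat_lit 31)
noncomputable def c0y0tl2Qd : ℕ := nat_lit 0x951e922c23744ed001859a902854c0
noncomputable def c0y0tl2Q (u : ℕ) : ℕ := Nat.land (Nat.shiftRight c0y0tl2Qd (Nat.mul u (nat_lit 5))) (nat_lit 31)
noncomputable def c0y0tl2 : H16.Lev := ⟨22, 8, c0y0tl2D, c0y0tl2P, c0y0tl2Q⟩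
noncomputable def c0y0tl3Dd : ℕ := nat_lit 0x4da51a1bd88a1297183cd101a2c48a0e20280
noncomputable def c0y0tl3D (u : ℕ) : ℕ := Nat.land (Nat.shiftRight c0y0tl3Dd (Nat.mul u (nat_lit 7))) (nat_lit 127)
noncomputable def c0y0tl3Pd : ℕ := nat_lit 0x22907269934742af432c78cc37
noncomputable def c0y0tl3P (u : ℕ) : ℕ := Nat.land (Nat.shiftRight c0y0tl3Pd (Nat.mul u (nat_lit 5))) (nat_lit 31)
noncomputable def c0y0tl3Qd : ℕ := nat_lit 0x152c1406a42de6001a723a728d020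
noncomputable def c0y0tl3Q (u : ℕ) : ℕ := Nat.land (Nat.shiftRight c0y0tl3Qd (Nat.mul u (nat_lit 5))) (nat_lit 31)
noncomputable def c0y0tl3 : H16.Lev := ⟨21, 6, c0y0tl3D, c0y0tl3P, c0y0tl3Q⟩
noncomputable def c0y0tl4Dd : ℕ := nat_lit 0x90e19af467949f54809051a384060e0c200
noncomputable def c0y0tl4D (u : ℕ) : ℕ := Nat.land (Nat.shiftRight c0y0tl4Dd (Nat.mul u (nat_lit 7))) (nat_lit 127)
noncomputable def c0y0tl4Pd : ℕ := nat_lit 0xb046713e748baa82b53261206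
noncomputable def c0y0tl4P (u : ℕ) : ℕ := Nat.land (Nat.shiftRight c0y0tl4Pd (Nat.mul u (nat_lit 5))) (nat_lit 31)
noncomputable def c0y0tl4Qd : ℕ := nat_lit 0x4d2c69161728c3000a8800e28be40
noncomputable def c0y0tl4Q (u : ℕ) : ℕ := Nat.land (Nat.shiftRight c0y0tl4Qd (Nat.mul u (nat_lit 5))) (nat_lit 31)
noncomputable def c0y0tl4 : H16.Lev := ⟨20, 5, c0y0tl4D, c0y0tl4P, c0y0tl4Q⟩
noncomputable def c0y0tl5Dd : ℕ := nat_lit 0xaf2d79c22d4b8c320440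
noncomputable def c0y0tl5D (u : ℕ) : ℕ := Nat.land (Nat.shiftRight c0y0tl5Dd (Nat.mul u (nat_lit 5))) (nat_lit 31)
noncomputable def c0y0tl5Pd : ℕ := nat_lit 0xa3c6d95aa9740ec98511
noncomputable def c0y0tl5P (u : ℕ) : ℕ := Nat.land (Nat.shiftRight c0y0tl5Pd (Nat.mul u (nat_lit 5))) (nat_lit 31)
noncomputable def c0y0tl5Qd : ℕ := nat_lit 0xa9f3b06e7c400815000d020
noncomputable def c0y0tl5Q (u : ℕ) : ℕ := Nat.land (Nat.shiftRight c0y0tl5Qd (Nat.mul u (nat_lit 4))) (nat_lit 15)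
noncomputable def c0y0tl5 : H16.Lev := ⟨16, 3, c0y0tl5D, c0y0tl5P, c0y0tl5Q⟩
noncomputable def c0y0tl6Dd : ℕ := nat_lit 4
noncomputable def c0y0tl6D (u : ℕ) : ℕ := Nat.land (Nat.shiftRight c0y0tl6Dd (Nat.mul u (nat_lit 1))) (nat_lit 1)
noncomputable def c0y0tl6Pd : ℕ := nat_lit 0x1c36
noncomputable def c0y0tl6P (u : ℕ) : ℕ := Nat.land (Nat.shiftRight c0y0tl6Pd (Nat.mul u (nat_lit 5))) (nat_lit 31)
noncomputable def c0y0tl6Qd : ℕ := nat_lit 0x8004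
noncomputable def c0y0tl6Q (u : ℕ) : ℕ := Nat.land (Nat.shiftRight c0y0tl6Qd (Nat.mul u (nat_lit 2))) (nat_lit 3)
noncomputable def c0y0tl6 : H16.Lev := ⟨3, 1, c0y0tl6D, c0y0tl6P, c0y0tl6Q⟩
noncomputable def c0y0ce_W : List (List ℕ) := [[nat_lit 1, nat_lit 5, nat_lit 6, nat_lit 0, nat_lit 1, nat_lit 7, nat_lit 6, nat_lit 1, nat_lit 8, nat_lit 1, nat_lit 2, nat_lit 6, nat_lit 7, nat_lit 9, nat_lit 10]]
noncomputable def c0y0ce_P : ℕ → ℕ → ℕ := wdsP H15.MM24.P c0y0ce_W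
noncomputable def c0y0cc0Dd : ℕ := nat_lit 0xcba98765432100
noncomputable def c0y0cc0D (u : ℕ) : ℕ := Nat.land (Nat.shiftRight c0y0cc0Dd (Nat.mul u (nat_lit 4))) (nat_lit 15)
noncomputable def c0y0cc0Pd : ℕ := nat_lit 0x228a92d1997445ae0
noncomputable def c0y0cc0P (u : ℕ) : ℕ := Nat.land (Nat.shiftRight c0y0cc0Pd (Nat.mul u (nat_lit 5))) (nat_lit 31)
noncomputable def c0y0cc0Qd : ℕ := nat_lit 0x120400b000805a9306007cd0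
noncomputable def c0y0cc0Q (u : ℕ) : ℕ := Nat.land (Nat.shiftRight c0y0cc0Qd (Nat.mul u (nat_lit 4))) (nat_lit 15)
noncomputable def c0y0cc0 : H16.Lev := ⟨14, 1, c0y0cc0D, c0y0cc0P, c0y0cc0Q⟩
noncomputable def c0y0tn0Fd : ℕ := nat_lit 0x2480000100206a010c1000
noncomputable def c0y0tn0F (u : ℕ) : ℕ := Nat.land (Nat.shiftRight c0y0tn0Fd (Nat.mul u (nat_lit 4))) (nat_lit 15)
noncomputable def c0y0tn0 : Nd := ⟨c0y0tn0F, (nat_lit 2), (nat_lit 1), [[nat_lit 0, nat_lit 0],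
  [nat_lit 0, nat_lit 0, nat_lit 0, nat_lit 0, nat_lit 0, nat_lit 0, nat_lit 0]], [((nat_lit 0), [])], []⟩
noncomputable def c1ax_W : List (List ℕ) := [[nat_lit 3, nat_lit 6, nat_lit 3, nat_lit 7, nat_lit 6, nat_lit 2, nat_lit 6, nat_lit 8, nat_lit 1, nat_lit 6, nat_lit 9, nat_lit 8, nat_lit 0, nat_lit 3, nat_lit 6, nat_lit 10, nat_lit 9, nat_lit 8, nat_lit 2]]
noncomputable def c1ax_P : ℕ → ℕ → ℕ := wdsP H15.MM24.P c1ax_W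
noncomputable def c1ath_W : List (List ℕ) := [[nat_lit 10, nat_lit 0, nat_lit 6, nat_lit 4, nat_lit 8, nat_lit 9, nat_lit 8, nat_lit 3, nat_lit 10, nat_lit 0],
  [nat_lit 1, nat_lit 2, nat_lit 3, nat_lit 6, nat_lit 2, nat_lit 6, nat_lit 5],
  [nat_lit 1, nat_lit 2, nat_lit 6, nat_lit 5, nat_lit 8, nat_lit 9, nat_lit 10, nat_lit 9, nat_lit 8, nat_lit 0, nat_lit 3],
  [nat_lit 1, nat_lit 2, nat_lit 6, nat_lit 1, nat_lit 4, nat_lit 1, nat_lit 7, nat_lit 6, nat_lit 8, nat_lit 9, nat_lit 10, nat_lit 9, nat_lit 8],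
  [nat_lit 6, nat_lit 2, nat_lit 7, nat_lit 6, nat_lit 8, nat_lit 9, nat_lit 10, nat_lit 9, nat_lit 8, nat_lit 0, nat_lit 1, nat_lit 7],
  [nat_lit 8],
  [nat_lit 0],
  [nat_lit 1],
  [nat_lit 2],
  [nat_lit 3],
  [nat_lit 4],
  [nat_lit 5],
  [nat_lit 6],
  [nat_lit 7],
  [nat_lit 9],
  [nat_lit 10]]
noncomputable def c1ath_P : ℕ → ℕ → ℕ := wdsP H15.MM24.P c1ath_W
noncomputable def c1atl0Dd : ℕ := nat_lit 0x44acc56b69a59568324865304522313938203736150f0e00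
noncomputable def c1atl0D (u : ℕ) : ℕ := Nat.land (Nat.shiftRight c1atl0Dd (Nat.mul u (nat_lit 8))) (nat_lit 255)
noncomputable def c1atl0Pd : ℕ := nat_lit 0x10cad43a3595926552075cde465c20
noncomputable def c1atl0P (u : ℕ) : ℕ := Nat.land (Nat.shiftRight c1atl0Pd (Nat.mul u (nat_lit 5))) (nat_lit 31)
noncomputable def c1atl0Qd : ℕ := nat_lit 0x13a0a33e292ca833adb3432a4b5c20
noncomputable def c1atl0Q (u : ℕ) : ℕ := Nat.land (Nat.shiftRight c1atl0Qd (Nat.mul u (nat_lit 5))) (nat_lit 31)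
noncomputable def c1atl0 : H16.Lev := ⟨24, 16, c1atl0D, c1atl0P, c1atl0Q⟩
noncomputable def c1atl1Dd : ℕ := nat_lit 0xecfec6cd55991e94bbd2a8498d182c509101c300
noncomputable def c1atl1D (u : ℕ) : ℕ := Nat.land (Nat.shiftRight c1atl1Dd (Nat.mul u (nat_lit 7))) (nat_lit 127)
noncomputable def c1atl1Pd : ℕ := nat_lit 0xae51994d91d112052b756d0a326f
noncomputable def c1atl1P (u : ℕ) : ℕ := Nat.land (Nat.shiftRight c1atl1Pd (Nat.mul u (nat_lit 5))) (nat_lit 31)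
noncomputable def c1atl1Qd : ℕ := nat_lit 0xa94c30bd8401e024452d74a8b9d940
noncomputable def c1atl1Q (u : ℕ) : ℕ := Nat.land (Nat.shiftRight c1atl1Qd (Nat.mul u (nat_lit 5))) (nat_lit 31)
noncomputable def c1atl1 : H16.Lev := ⟨23, 14, c1atl1D, c1atl1P, c1atl1Q⟩
noncomputable def c1atl2Dd : ℕ := nat_lit 0x30ba5d4db41623d290323069712288880c1c280
noncomputable def c1atl2D (u : ℕ) : ℕ := Nat.land (Nat.shiftRight c1atl2Dd (Nat.mul u (nat_lit 7))) (nat_lit 127)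
noncomputable def c1atl2Pd : ℕ := nat_lit 0x1445d53418ad36b8e5ba23234181
noncomputable def c1atl2P (u : ℕ) : ℕ := Nat.land (Nat.shiftRight c1atl2Pd (Nat.mul u (nat_lit 5))) (nat_lit 31)
noncomputable def c1atl2Qd : ℕ := nat_lit 0x3b650610a2029619d62648d147b800
noncomputable def c1atl2Q (u : ℕ) : ℕ := Nat.land (Nat.shiftRight c1atl2Qd (Nat.mul u (nat_lit 5))) (nat_lit 31)
noncomputable def c1atl2 : H16.Lev := ⟨22, 6, c1atl2D, c1atl2P, c1atl2Q⟩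
noncomputable def c1atl3Dd : ℕ := nat_lit 0x446ee129c405cc962650715182c4070a18200
noncomputable def c1atl3D (u : ℕ) : ℕ := Nat.land (Nat.shiftRight c1atl3Dd (Nat.mul u (nat_lit 7))) (nat_lit 127)
noncomputable def c1atl3Pd : ℕ := nat_lit 0x2a91093160c5d94e3ce83bb651
noncomputable def c1atl3P (u : ℕ) : ℕ := Nat.land (Nat.shiftRight c1atl3Pd (Nat.mul u (nat_lit 5))) (nat_lit 31)
noncomputable def c1atl3Qd : ℕ := nat_lit 0x1aa653040d0204c5a6113bdd225000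
noncomputable def c1atl3Q (u : ℕ) : ℕ := Nat.land (Nat.shiftRight c1atl3Qd (Nat.mul u (nat_lit 5))) (nat_lit 31)
noncomputable def c1atl3 : H16.Lev := ⟨21, 5, c1atl3D, c1atl3P, c1atl3Q⟩
noncomputable def c1atl4Dd : ℕ := nat_lit 0xef3f674d850f49128d2091c61050c0
noncomputable def c1atl4D (u : ℕ) : ℕ := Nat.land (Nat.shiftRight c1atl4Dd (Nat.mul u (nat_lit 6))) (nat_lit 63)
noncomputable def c1atl4Pd : ℕ := nat_lit 0x59155a26761b4a871ef234182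
noncomputable def c1atl4P (u : ℕ) : ℕ := Nat.land (Nat.shiftRight c1atl4Pd (Nat.mul u (nat_lit 5))) (nat_lit 31)
noncomputable def c1atl4Qd : ℕ := nat_lit 0x2b20f6900201d419c5c830d3258000
noncomputable def c1atl4Q (u : ℕ) : ℕ := Nat.land (Nat.shiftRight c1atl4Qd (Nat.mul u (nat_lit 5))) (nat_lit 31)
noncomputable def c1atl4 : H16.Lev := ⟨20, 4, c1atl4D, c1atl4P, c1atl4Q⟩
noncomputable def c1atl5Dd : ℕ := nat_lit 0x9563933102c92061c5102040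
noncomputable def c1atl5D (u : ℕ) : ℕ := Nat.land (Nat.shiftRight c1atl5Dd (Nat.mul u (nat_lit 6))) (nat_lit 63)
noncomputable def c1atl5Pd : ℕ := nat_lit 0x559d42c0774258691e6d
noncomputable def c1atl5P (u : ℕ) : ℕ := Nat.land (Nat.shiftRight c1atl5Pd (Nat.mul u (nat_lit 5))) (nat_lit 31)
noncomputable def c1atl5Qd : ℕ := nat_lit 0x8e0c130a0d050f6724b09000
noncomputable def c1atl5Q (u : ℕ) : ℕ := Nat.land (Nat.shiftRight c1atl5Qd (Nat.mul u (nat_lit 4))) (nat_lit 15)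
noncomputable def c1atl5 : H16.Lev := ⟨16, 3, c1atl5D, c1atl5P, c1atl5Q⟩
noncomputable def c1atl6Dd : ℕ := nat_lit 4
noncomputable def c1atl6D (u : ℕ) : ℕ := Nat.land (Nat.shiftRight c1atl6Dd (Nat.mul u (nat_lit 1))) (nat_lit 1)
noncomputable def c1atl6Pd : ℕ := nat_lit 0x2ac3
noncomputable def c1atl6P (u : ℕ) : ℕ := Nat.land (Nat.shiftRight c1atl6Pd (Nat.mul u (nat_lit 5))) (nat_lit 31)
noncomputable def c1atl6Qd : ℕ := nat_lit 0x100000200000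
noncomputable def c1atl6Q (u : ℕ) : ℕ := Nat.land (Nat.shiftRight c1atl6Qd (Nat.mul u (nat_lit 2))) (nat_lit 3)
noncomputable def c1atl6 : H16.Lev := ⟨3, 1, c1atl6D, c1atl6P, c1atl6Q⟩
noncomputable def c1ace_W : List (List ℕ) := [[nat_lit 2, nat_lit 4, nat_lit 6, nat_lit 7, nat_lit 6, nat_lit 8, nat_lit 9, nat_lit 10, nat_lit 9, nat_lit 8, nat_lit 2],
  [nat_lit 0, nat_lit 6, nat_lit 7, nat_lit 6, nat_lit 1, nat_lit 8, nat_lit 10, nat_lit 9, nat_lit 8, nat_lit 0, nat_lit 10],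
  [nat_lit 1, nat_lit 2, nat_lit 3, nat_lit 4, nat_lit 6, nat_lit 7, nat_lit 6, nat_lit 8, nat_lit 10, nat_lit 9, nat_lit 8, nat_lit 3, nat_lit 10],
  [nat_lit 2, nat_lit 3, nat_lit 6, nat_lit 1, nat_lit 7, nat_lit 6, nat_lit 8, nat_lit 9, nat_lit 10, nat_lit 9, nat_lit 8, nat_lit 3, nat_lit 5],
  [nat_lit 7, nat_lit 6, nat_lit 5, nat_lit 1, nat_lit 9, nat_lit 10, nat_lit 9, nat_lit 8, nat_lit 1, nat_lit 3, nat_lit 7],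
  [nat_lit 1, nat_lit 3, nat_lit 6, nat_lit 5, nat_lit 7, nat_lit 6, nat_lit 5, nat_lit 1, nat_lit 9, nat_lit 8, nat_lit 0, nat_lit 10, nat_lit 9, nat_lit 8, nat_lit 2, nat_lit 3]]
noncomputable def c1ace_P : ℕ → ℕ → ℕ := wdsP H15.MM24.P c1ace_W
noncomputable def c1atn0Fd : ℕ := nat_lit 6
noncomputable def c1atn0F (u : ℕ) : ℕ := Nat.land (Nat.shiftRight c1atn0Fd (Nat.mul u (nat_lit 1))) (nat_lit 1)
noncomputable def c1atn0 : Nd := ⟨c1atn0F, (nat_lit 2), (nat_lit 0), [], [((nat_lit 0), []), ((nat_lit 1), [nat_lit 0])], []⟩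
noncomputable def c1acc4Dd : ℕ := nat_lit 0x8e55d63cb40a1c6143081000
noncomputable def c1acc4D (u : ℕ) : ℕ := Nat.land (Nat.shiftRight c1acc4Dd (Nat.mul u (nat_lit 6))) (nat_lit 63)
noncomputable def c1acc4Pd : ℕ := nat_lit 0x4a9132d9c465e505d5a2
noncomputable def c1acc4P (u : ℕ) : ℕ := Nat.land (Nat.shiftRight c1acc4Pd (Nat.mul u (nat_lit 5))) (nat_lit 31)
noncomputable def c1acc4Qd : ℕ := nat_lit 0x6a20c50409173efd00b80000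
noncomputable def c1acc4Q (u : ℕ) : ℕ := Nat.land (Nat.shiftRight c1acc4Qd (Nat.mul u (nat_lit 4))) (nat_lit 15)
noncomputable def c1acc4 : H16.Lev := ⟨16, 4, c1acc4D, c1acc4P, c1acc4Q⟩
noncomputable def c1atn1Fd : ℕ := nat_lit 0xe00e00040200
noncomputable def c1atn1F (u : ℕ) : ℕ := Nat.land (Nat.shiftRight c1atn1Fd (Nat.mul u (nat_lit 3))) (nat_lit 7)
noncomputable def c1atn1 : Nd := ⟨c1atn1F, (nat_lit 4), (nat_lit 4), [], [((nat_lit 0), []), ((nat_lit 0), [nat_lit 0])], []⟩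
noncomputable def c1acc2Dd : ℕ := nat_lit 0x8ad932e38889111a3098e16203890c14200
noncomputable def c1acc2D (u : ℕ) : ℕ := Nat.land (Nat.shiftRight c1acc2Dd (Nat.mul u (nat_lit 7))) (nat_lit 127)
noncomputable def c1acc2Pd : ℕ := nat_lit 0x546c97111382cb4ab2e6909a1
noncomputable def c1acc2P (u : ℕ) : ℕ := Nat.land (Nat.shiftRight c1acc2Pd (Nat.mul u (nat_lit 5))) (nat_lit 31)
noncomputable def c1acc2Qd : ℕ := nat_lit 0x2c4e860e4b03c2654e0d0112e00800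
noncomputable def c1acc2Q (u : ℕ) : ℕ := Nat.land (Nat.shiftRight c1acc2Qd (Nat.mul u (nat_lit 5))) (nat_lit 31)
noncomputable def c1acc2 : H16.Lev := ⟨20, 5, c1acc2D, c1acc2P, c1acc2Q⟩
noncomputable def c1atn2y7_W : List (List ℕ) := [[nat_lit 9, nat_lit 3, nat_lit 4, nat_lit 6, nat_lit 7, nat_lit 6, nat_lit 5, nat_lit 1, nat_lit 8, nat_lit 2, nat_lit 3, nat_lit 9, nat_lit 8, nat_lit 1, nat_lit 3, nat_lit 10, nat_lit 9, nat_lit 8, nat_lit 1, nat_lit 4, nat_lit 6]]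
noncomputable def c1atn2y7_P : ℕ → ℕ → ℕ := wdsP H15.MM24.P c1atn2y7_W
noncomputable def c1atr3k_W : List (List ℕ) := [[nat_lit 10, nat_lit 1, nat_lit 7, nat_lit 6, nat_lit 0, nat_lit 1, nat_lit 8, nat_lit 9, nat_lit 8, nat_lit 10, nat_lit 2, nat_lit 5, nat_lit 6],
  [nat_lit 3, nat_lit 10, nat_lit 0, nat_lit 6, nat_lit 3, nat_lit 7, nat_lit 6, nat_lit 2, nat_lit 8, nat_lit 9, nat_lit 8, nat_lit 1, nat_lit 2, nat_lit 6, nat_lit 10],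
  [nat_lit 4, nat_lit 2, nat_lit 6, nat_lit 1, nat_lit 2, nat_lit 7, nat_lit 6, nat_lit 0, nat_lit 3, nat_lit 8, nat_lit 9, nat_lit 10, nat_lit 9, nat_lit 8, nat_lit 3]]
noncomputable def c1atr3k_P : ℕ → ℕ → ℕ := wdsP H15.MM24.P c1atr3k_W
noncomputable def c1atn3Fd : ℕ := nat_lit 0xc66ab4d53e977a789a61
noncomputable def c1atn3F (u : ℕ) : ℕ := Nat.land (Nat.shiftRight c1atn3Fd (Nat.mul u (nat_lit 4))) (nat_lit 15)
noncomputable def c1atn3 : Nd := ⟨c1atn3F, (nat_lit 3), (nat_lit 3), [], [((nat_lit 0), []), ((nat_lit 0), [nat_lit 0])], []⟩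
noncomputable def c1atn2Fd : ℕ := nat_lit 0x8000001000000000
noncomputable def c1atn2F (u : ℕ) : ℕ := Nat.land (Nat.shiftRight c1atn2Fd (Nat.mul u (nat_lit 4))) (nat_lit 15)
noncomputable def c1atn2 : Nd := ⟨c1atn2F, (nat_lit 5), (nat_lit 5), [], [((nat_lit 0), []), ((nat_lit 0), [nat_lit 0])], [((nat_lit 7), c1atn2y7_W)]⟩
noncomputable def c1acc0Dd : ℕ := nat_lit 0xed1ec469edd4a3225520e3258c0d162440a0e18280
noncomputable def c1acc0D (u : ℕ) : ℕ := Nat.land (Nat.shiftRight c1acc0Dd (Nat.mul u (nat_lit 7))) (nat_lit 127)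
noncomputable def c1acc0Pd : ℕ := nat_lit 0x9a34bb5433ae6e15a48792154b0a0
noncomputable def c1acc0P (u : ℕ) : ℕ := Nat.land (Nat.shiftRight c1acc0Pd (Nat.mul u (nat_lit 5))) (nat_lit 31)
noncomputable def c1acc0Qd : ℕ := nat_lit 0x9a8946a6a53b242744687d82682ee0
noncomputable def c1acc0Q (u : ℕ) : ℕ := Nat.land (Nat.shiftRight c1acc0Qd (Nat.mul u (nat_lit 5))) (nat_lit 31)
noncomputable def c1acc0 : H16.Lev := ⟨24, 6, c1acc0D, c1acc0P, c1acc0Q⟩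
noncomputable def c1atn4Fd : ℕ := nat_lit 0
noncomputable def c1atn4F (u : ℕ) : ℕ := Nat.land (Nat.shiftRight c1atn4Fd (Nat.mul u (nat_lit 1))) (nat_lit 1)
noncomputable def c1atn4 : Nd := ⟨c1atn4F, (nat_lit 6), (nat_lit 6), [], [((nat_lit 0), [])], []⟩
noncomputable def c1w0_W : List (List ℕ) := [[nat_lit 3, nat_lit 6, nat_lit 3, nat_lit 7, nat_lit 6, nat_lit 2, nat_lit 6, nat_lit 8, nat_lit 1, nat_lit 6, nat_lit 9, nat_lit 8, nat_lit 0, nat_lit 3, nat_lit 6, nat_lit 10, nat_lit 9, nat_lit 8, nat_lit 2],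
  [nat_lit 10, nat_lit 9, nat_lit 3, nat_lit 6, nat_lit 7, nat_lit 6, nat_lit 2, nat_lit 6, nat_lit 8, nat_lit 0, nat_lit 3, nat_lit 6, nat_lit 9, nat_lit 8, nat_lit 2, nat_lit 10, nat_lit 9]]
noncomputable def c1w0_P : ℕ → ℕ → ℕ := wdsP H15.MM24.P c1w0_W
noncomputable def c1y0x_W : List (List ℕ) := [[nat_lit 10, nat_lit 9, nat_lit 3, nat_lit 6, nat_lit 7, nat_lit 6, nat_lit 2, nat_lit 6, nat_lit 8, nat_lit 0, nat_lit 3, nat_lit 6, nat_lit 9, nat_lit 8, nat_lit 2, nat_lit 10, nat_lit 9]]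
noncomputable def c1y0x_P : ℕ → ℕ → ℕ := wdsP H15.MM24.P c1y0x_W
noncomputable def c1y0th_W : List (List ℕ) := [[nat_lit 2, nat_lit 5, nat_lit 6, nat_lit 2, nat_lit 6, nat_lit 4, nat_lit 7, nat_lit 6, nat_lit 1, nat_lit 4, nat_lit 8, nat_lit 10, nat_lit 9, nat_lit 8, nat_lit 3, nat_lit 10],
  [nat_lit 2, nat_lit 6, nat_lit 4, nat_lit 7, nat_lit 6, nat_lit 2],
  [nat_lit 0, nat_lit 1, nat_lit 2, nat_lit 5, nat_lit 6, nat_lit 5, nat_lit 7, nat_lit 6, nat_lit 1, nat_lit 4],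
  [nat_lit 6, nat_lit 7, nat_lit 6, nat_lit 1, nat_lit 2, nat_lit 8, nat_lit 9, nat_lit 10, nat_lit 9, nat_lit 8, nat_lit 0, nat_lit 6, nat_lit 0],
  [nat_lit 6],
  [nat_lit 0],
  [nat_lit 1],
  [nat_lit 2],
  [nat_lit 3],
  [nat_lit 4],
  [nat_lit 5],
  [nat_lit 7],
  [nat_lit 8],
  [nat_lit 9],
  [nat_lit 10]]
noncomputable def c1y0th_P : ℕ → ℕ → ℕ := wdsP H15.MM24.P c1y0th_W
noncomputable def c1y0tl0Dd : ℕ := nat_lit 0x7964558d3d9a2f8b5244434f401e2e35213433321b0e0d00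
noncomputable def c1y0tl0D (u : ℕ) : ℕ := Nat.land (Nat.shiftRight c1y0tl0Dd (Nat.mul u (nat_lit 8))) (nat_lit 255)
noncomputable def c1y0tl0Pd : ℕ := nat_lit 0x1a2ad8a650a2ace994c712de465c20
noncomputable def c1y0tl0P (u : ℕ) : ℕ := Nat.land (Nat.shiftRight c1y0tl0Pd (Nat.mul u (nat_lit 5))) (nat_lit 31)
noncomputable def c1y0tl0Qd : ℕ := nat_lit 0x136af5c6702b28333a5642544b9c20
noncomputable def c1y0tl0Q (u : ℕ) : ℕ := Nat.land (Nat.shiftRight c1y0tl0Qd (Nat.mul u (nat_lit 5))) (nat_lit 31)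
noncomputable def c1y0tl0 : H16.Lev := ⟨24, 15, c1y0tl0D, c1y0tl0P, c1y0tl0Q⟩
noncomputable def c1y0tl1Dd : ℕ := nat_lit 0xa88427cc6a28a66c7d25c890ab3c38a942648600
noncomputable def c1y0tl1D (u : ℕ) : ℕ := Nat.land (Nat.shiftRight c1y0tl1Dd (Nat.mul u (nat_lit 7))) (nat_lit 127)
noncomputable def c1y0tl1Pd : ℕ := nat_lit 0x5ca3455a24c650a2ace998eb79181
noncomputable def c1y0tl1P (u : ℕ) : ℕ := Nat.land (Nat.shiftRight c1y0tl1Pd (Nat.mul u (nat_lit 5))) (nat_lit 31)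
noncomputable def c1y0tl1Qd : ℕ := nat_lit 0xb264b3b5cc1a221229f329aa2a4000
noncomputable def c1y0tl1Q (u : ℕ) : ℕ := Nat.land (Nat.shiftRight c1y0tl1Qd (Nat.mul u (nat_lit 5))) (nat_lit 31)
noncomputable def c1y0tl1 : H16.Lev := ⟨23, 13, c1y0tl1D, c1y0tl1P, c1y0tl1Q⟩
noncomputable def c1y0tl2Dd : ℕ := nat_lit 0x57c4a0555819200d143413121c100b0a090807060500
noncomputable def c1y0tl2D (u : ℕ) : ℕ := Nat.land (Nat.shiftRight c1y0tl2Dd (Nat.mul u (nat_lit 8))) (nat_lit 255)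
noncomputable def c1y0tl2Pd : ℕ := nat_lit 0x2f1289ca6cd30254677a246652cb
noncomputable def c1y0tl2P (u : ℕ) : ℕ := Nat.land (Nat.shiftRight c1y0tl2Pd (Nat.mul u (nat_lit 5))) (nat_lit 31)
noncomputable def c1y0tl2Qd : ℕ := nat_lit 0xa85427168c3c5e3041a64126b4c800
noncomputable def c1y0tl2Q (u : ℕ) : ℕ := Nat.land (Nat.shiftRight c1y0tl2Qd (Nat.mul u (nat_lit 5))) (nat_lit 31)
noncomputable def c1y0tl2 : H16.Lev := ⟨22, 12, c1y0tl2D, c1y0tl2P, c1y0tl2Q⟩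
noncomputable def c1y0tl3Dd : ℕ := nat_lit 0x5e60a15aa808db1e58507922a2c98e0a20200
noncomputable def c1y0tl3D (u : ℕ) : ℕ := Nat.land (Nat.shiftRight c1y0tl3Dd (Nat.mul u (nat_lit 7))) (nat_lit 127)
noncomputable def c1y0tl3Pd : ℕ := nat_lit 0xf13a2a2229338ef6932b0698a9
noncomputable def c1y0tl3P (u : ℕ) : ℕ := Nat.land (Nat.shiftRight c1y0tl3Pd (Nat.mul u (nat_lit 5))) (nat_lit 31)
noncomputable def c1y0tl3Qd : ℕ := nat_lit 0x4a0ad61e24a48660400e5882f54c00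
noncomputable def c1y0tl3Q (u : ℕ) : ℕ := Nat.land (Nat.shiftRight c1y0tl3Qd (Nat.mul u (nat_lit 5))) (nat_lit 31)
noncomputable def c1y0tl3 : H16.Lev := ⟨21, 5, c1y0tl3D, c1y0tl3P, c1y0tl3Q⟩
noncomputable def c1y0tl4Dd : ℕ := nat_lit 0xbeb8e2a5484c48f54844a1071850c0
noncomputable def c1y0tl4D (u : ℕ) : ℕ := Nat.land (Nat.shiftRight c1y0tl4Dd (Nat.mul u (nat_lit 6))) (nat_lit 63)
noncomputable def c1y0tl4Pd : ℕ := nat_lit 0xbb4b2b40c27cd4c4468e21c75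
noncomputable def c1y0tl4P (u : ℕ) : ℕ := Nat.land (Nat.shiftRight c1y0tl4Pd (Nat.mul u (nat_lit 5))) (nat_lit 31)
noncomputable def c1y0tl4Qd : ℕ := nat_lit 0x9bc05540ce5924802407136230b000
noncomputable def c1y0tl4Q (u : ℕ) : ℕ := Nat.land (Nat.shiftRight c1y0tl4Qd (Nat.mul u (nat_lit 5))) (nat_lit 31)
noncomputable def c1y0tl4 : H16.Lev := ⟨20, 4, c1y0tl4D, c1y0tl4P, c1y0tl4Q⟩
noncomputable def c1y0tl5Dd : ℕ := nat_lit 0xaf6f6a460e4b4c328820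
noncomputable def c1y0tl5D (u : ℕ) : ℕ := Nat.land (Nat.shiftRight c1y0tl5Dd (Nat.mul u (nat_lit 5))) (nat_lit 31)
noncomputable def c1y0tl5Pd : ℕ := nat_lit 0x94e0c1da87311514384f
noncomputable def c1y0tl5P (u : ℕ) : ℕ := Nat.land (Nat.shiftRight c1y0tl5Pd (Nat.mul u (nat_lit 5))) (nat_lit 31)
noncomputable def c1y0tl5Qd : ℕ := nat_lit 0xa09ef4d020c05038706b100
noncomputable def c1y0tl5Q (u : ℕ) : ℕ := Nat.land (Nat.shiftRight c1y0tl5Qd (Nat.mul u (nat_lit 4))) (nat_lit 15)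
noncomputable def c1y0tl5 : H16.Lev := ⟨16, 3, c1y0tl5D, c1y0tl5P, c1y0tl5Q⟩
noncomputable def c1y0tl6Dd : ℕ := nat_lit 4
noncomputable def c1y0tl6D (u : ℕ) : ℕ := Nat.land (Nat.shiftRight c1y0tl6Dd (Nat.mul u (nat_lit 1))) (nat_lit 1)
noncomputable def c1y0tl6Pd : ℕ := nat_lit 0x891
noncomputable def c1y0tl6P (u : ℕ) : ℕ := Nat.land (Nat.shiftRight c1y0tl6Pd (Nat.mul u (nat_lit 5))) (nat_lit 31)
noncomputable def c1y0tl6Qd : ℕ := nat_lit 0x120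
noncomputable def c1y0tl6Q (u : ℕ) : ℕ := Nat.land (Nat.shiftRight c1y0tl6Qd (Nat.mul u (nat_lit 2))) (nat_lit 3)
noncomputable def c1y0tl6 : H16.Lev := ⟨3, 1, c1y0tl6D, c1y0tl6P, c1y0tl6Q⟩
noncomputable def c1y0ce_W : List (List ℕ) := [[nat_lit 0, nat_lit 1, nat_lit 7, nat_lit 6, nat_lit 1, nat_lit 4, nat_lit 1, nat_lit 8, nat_lit 1, nat_lit 3, nat_lit 10, nat_lit 9, nat_lit 8, nat_lit 1, nat_lit 4],
  [nat_lit 3, nat_lit 4, nat_lit 6, nat_lit 5, nat_lit 1, nat_lit 7, nat_lit 6, nat_lit 2, nat_lit 6, nat_lit 8, nat_lit 2, nat_lit 4, nat_lit 9, nat_lit 8, nat_lit 2, nat_lit 4, nat_lit 10, nat_lit 9, nat_lit 8, nat_lit 0]]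
noncomputable def c1y0ce_P : ℕ → ℕ → ℕ := wdsP H15.MM24.P c1y0ce_W
noncomputable def c1y0cc0Dd : ℕ := nat_lit 0x8df79b69759348f38b287183081000
noncomputable def c1y0cc0D (u : ℕ) : ℕ := Nat.land (Nat.shiftRight c1y0cc0Dd (Nat.mul u (nat_lit 6))) (nat_lit 63)
noncomputable def c1y0cc0Pd : ℕ := nat_lit 0x3b6e4a983650de25ce548a120
noncomputable def c1y0cc0P (u : ℕ) : ℕ := Nat.land (Nat.shiftRight c1y0cc0Pd (Nat.mul u (nat_lit 5))) (nat_lit 31)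
noncomputable def c1y0cc0Qd : ℕ := nat_lit 0x8b1e431460482403ac229b810521a0
noncomputable def c1y0cc0Q (u : ℕ) : ℕ := Nat.land (Nat.shiftRight c1y0cc0Qd (Nat.mul u (nat_lit 5))) (nat_lit 31)
noncomputable def c1y0cc0 : H16.Lev := ⟨20, 2, c1y0cc0D, c1y0cc0P, c1y0cc0Q⟩
noncomputable def c1y0tn0Fd : ℕ := nat_lit 0x2003140000200
noncomputable def c1y0tn0F (u : ℕ) : ℕ := Nat.land (Nat.shiftRight c1y0tn0Fd (Nat.mul u (nat_lit 3))) (nat_lit 7)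
noncomputable def c1y0tn0 : Nd := ⟨c1y0tn0F, (nat_lit 2), (nat_lit 2), [[nat_lit 0, nat_lit 0]], [((nat_lit 0), [])], []⟩

theorem md_b : ltAll 24 H15.MM24.B = 0 ∧ 244823040 ≠ 0 := by decide +kernel
theorem p2t_lt : H16.allL (ltAll 11) p2t_W = true := by decide +kernel
theorem p2_r_a : allZ2 (resEnt p2t_P p2P p2E p2I (nat_lit 24) (nat_lit 24)) (nat_lit 10) (nat_lit 24) = true := by decide +kernel
theorem p2_b : neL H15.MM24.B (p2B.map p2E) = 0 ∧ ltAll 24 p2B = 0 := by decide +kernel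
theorem p2_p : allZ2 (pcEnt p2P (nat_lit 2) p2B p2C) 10 10 = true := by decide +kernel
theorem p2_e : H16.allL (ltAll 10) p2e = true := by decide +kernel
theorem p2l0_e_0 : allZ (dent p2l0 (wdsP p2P p2e) (nat_lit 24)) (nat_lit 0) (nat_lit 15) = true := by decide +kernel
theorem p2l0_h : 0 < p2l0.n ∧ 0 < p2l0.K ∧ p2l0.Pt 0 < 24 ∧ p2l0.Q (p2l0.Pt 0) = 0 := by decide +kernel
theorem p2l1_e_0 : allZ (dent p2l1 (wdsP p2P p2e) (nat_lit 24)) (nat_lit 0) (nat_lit 7) = true := by decide +kernel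
theorem p2l1_h : 0 < p2l1.n ∧ 0 < p2l1.K ∧ p2l1.Pt 0 < 24 ∧ p2l1.Q (p2l1.Pt 0) = 0 := by decide +kernel
theorem p2l2_e_0 : allZ (dent p2l2 (wdsP p2P p2e) (nat_lit 24)) (nat_lit 0) (nat_lit 3) = true := by decide +kernel
theorem p2l2_h : 0 < p2l2.n ∧ 0 < p2l2.K ∧ p2l2.Pt 0 < 24 ∧ p2l2.Q (p2l2.Pt 0) = 0 := by decide +kernel
theorem p2l3_e_0 : allZ (dent p2l3 (wdsP p2P p2e) (nat_lit 24)) (nat_lit 0) (nat_lit 1) = true := by decide +kernel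
theorem p2l3_h : 0 < p2l3.n ∧ 0 < p2l3.K ∧ p2l3.Pt 0 < 24 ∧ p2l3.Q (p2l3.Pt 0) = 0 := by decide +kernel
theorem p2_f3 : (Nat.ble p2l3.K 53 && Nat.ble (topK []) p2l3.K && fixLetters (wdsP p2P p2e) (topK []) (p2l3.Pt 0)) = true := by decide +kernel
theorem p2_f2 : (Nat.ble p2l2.K 53 && Nat.ble (topK [p2l3]) p2l2.K && fixLetters (wdsP p2P p2e) (topK [p2l3]) (p2l2.Pt 0)) = true := by decide +kernel
theorem p2_f1 : (Nat.ble p2l1.K 53 && Nat.ble (topK [p2l2, p2l3]) p2l1.K && fixLetters (wdsP p2P p2e) (topK [p2l2, p2l3]) (p2l1.Pt 0)) = true := by decide +kernel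
theorem p2_f0 : (Nat.ble p2l0.K 53 && Nat.ble (topK [p2l1, p2l2, p2l3]) p2l0.K && fixLetters (wdsP p2P p2e) (topK [p2l1, p2l2, p2l3]) (p2l0.Pt 0)) = true := by decide +kernel
theorem p2_c : chainCard [p2l0, p2l1, p2l2, p2l3] = 2 ^ 10 ∧ ¬ 2 ^ (10 + 1) ∣ 244823040 := by decide +kernel
theorem covr_lt : H16.allL (ltAll 11) covr_W = true := by decide +kernel
theorem cov_c0 : (Nat.ble 10 10 && Nat.beq (ltAll 10 []) 0 && Nat.beq (covT0.chk H15.MM24.P p2P covr_P p2E 11 10 2 2 2 p2B 10 [] 0) 0) = true := by decide +kernel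
theorem c0ax_lt : H16.allL (ltAll 11) c0ax_W = true := by decide +kernel
theorem c0ath_lt : H16.allL (ltAll 11) c0ath_W = true := by decide +kernel
theorem c0atl0_e_0 : allZ (dent c0atl0 c0ath_P (nat_lit 24)) (nat_lit 0) (nat_lit 23) = true := by decide +kernel
theorem c0atl0_h : 0 < c0atl0.n ∧ 0 < c0atl0.K ∧ c0atl0.Pt 0 < 24 ∧ c0atl0.Q (c0atl0.Pt 0) = 0 := by decide +kernel
theorem c0atl1_e_0 : allZ (dent c0atl1 c0ath_P (nat_lit 24)) (nat_lit 0) (nat_lit 22) = true := by decide +kernel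
theorem c0atl1_h : 0 < c0atl1.n ∧ 0 < c0atl1.K ∧ c0atl1.Pt 0 < 24 ∧ c0atl1.Q (c0atl1.Pt 0) = 0 := by decide +kernel
theorem c0atl2_e_0 : allZ (dent c0atl2 c0ath_P (nat_lit 24)) (nat_lit 0) (nat_lit 21) = true := by decide +kernel
theorem c0atl2_h : 0 < c0atl2.n ∧ 0 < c0atl2.K ∧ c0atl2.Pt 0 < 24 ∧ c0atl2.Q (c0atl2.Pt 0) = 0 := by decide +kernel
theorem c0atl3_e_0 : allZ (dent c0atl3 c0ath_P (nat_lit 24)) (nat_lit 0) (nat_lit 20) = true := by decide +kernel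
theorem c0atl3_h : 0 < c0atl3.n ∧ 0 < c0atl3.K ∧ c0atl3.Pt 0 < 24 ∧ c0atl3.Q (c0atl3.Pt 0) = 0 := by decide +kernel
theorem c0atl4_e_0 : allZ (dent c0atl4 c0ath_P (nat_lit 24)) (nat_lit 0) (nat_lit 19) = true := by decide +kernel
theorem c0atl4_h : 0 < c0atl4.n ∧ 0 < c0atl4.K ∧ c0atl4.Pt 0 < 24 ∧ c0atl4.Q (c0atl4.Pt 0) = 0 := by decide +kernel
theorem c0atl5_e_0 : allZ (dent c0atl5 c0ath_P (nat_lit 24)) (nat_lit 0) (nat_lit 2) = true := by decide +kernel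
theorem c0atl5_h : 0 < c0atl5.n ∧ 0 < c0atl5.K ∧ c0atl5.Pt 0 < 24 ∧ c0atl5.Q (c0atl5.Pt 0) = 0 := by decide +kernel
theorem c0atl6_e_0 : allZ (dent c0atl6 c0ath_P (nat_lit 24)) (nat_lit 0) (nat_lit 15) = true := by decide +kernel
theorem c0atl6_h : 0 < c0atl6.n ∧ 0 < c0atl6.K ∧ c0atl6.Pt 0 < 24 ∧ c0atl6.Q (c0atl6.Pt 0) = 0 := by decide +kernel
theorem c0at_f6 : (Nat.ble c0atl6.K 17 && Nat.ble (topK []) c0atl6.K && fixLetters c0ath_P (topK []) (c0atl6.Pt 0)) = true := by decide +kernel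
theorem c0at_f5 : (Nat.ble c0atl5.K 17 && Nat.ble (topK [c0atl6]) c0atl5.K && fixLetters c0ath_P (topK [c0atl6]) (c0atl5.Pt 0)) = true := by decide +kernel
theorem c0at_f4 : (Nat.ble c0atl4.K 17 && Nat.ble (topK [c0atl5, c0atl6]) c0atl4.K && fixLetters c0ath_P (topK [c0atl5, c0atl6]) (c0atl4.Pt 0)) = true := by decide +kernel
theorem c0at_f3 : (Nat.ble c0atl3.K 17 && Nat.ble (topK [c0atl4, c0atl5, c0atl6]) c0atl3.K && fixLetters c0ath_P (topK [c0atl4, c0atl5, c0atl6]) (c0atl3.Pt 0)) = true := by decide +kernel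
theorem c0at_f2 : (Nat.ble c0atl2.K 17 && Nat.ble (topK [c0atl3, c0atl4, c0atl5, c0atl6]) c0atl2.K && fixLetters c0ath_P (topK [c0atl3, c0atl4, c0atl5, c0atl6]) (c0atl2.Pt 0)) = true := by decide +kernel
theorem c0at_f1 : (Nat.ble c0atl1.K 17 && Nat.ble (topK [c0atl2, c0atl3, c0atl4, c0atl5, c0atl6]) c0atl1.K && fixLetters c0ath_P (topK [c0atl2, c0atl3, c0atl4, c0atl5, c0atl6]) (c0atl1.Pt 0)) = true := by decide +kernel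
theorem c0at_f0 : (Nat.ble c0atl0.K 17 && Nat.ble (topK [c0atl1, c0atl2, c0atl3, c0atl4, c0atl5, c0atl6]) c0atl0.K && fixLetters c0ath_P (topK [c0atl1, c0atl2, c0atl3, c0atl4, c0atl5, c0atl6]) (c0atl0.Pt 0)) = true := by decide +kernel
theorem c0at_c : chainCard [c0atl0, c0atl1, c0atl2, c0atl3, c0atl4, c0atl5, c0atl6] = 244823040 := by decide +kernel
theorem c0ace_lt : H16.allL (ltAll 11) c0ace_W = true := by decide +kernel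
theorem c0acc6_e_0 : allZ (dent c0acc6 c0ace_P (nat_lit 24)) (nat_lit 0) (nat_lit 7) = true := by decide +kernel
theorem c0acc6_h : 0 < c0acc6.n ∧ 0 < c0acc6.K ∧ c0acc6.Pt 0 < 24 ∧ c0acc6.Q (c0acc6.Pt 0) = 0 := by decide +kernel
theorem c0atn0_0 : (Nat.ble c0atl6.K 17 && Nat.beq (ltAll 24 [c0atl5.Pt 0, c0atl4.Pt 0, c0atl3.Pt 0, c0atl2.Pt 0, c0atl1.Pt 0, c0atl0.Pt 0]) 0 && kChk c0ace_P c0ax_P c0atn0.Kn 1 H15.MM24.B [c0atl5.Pt 0, c0atl4.Pt 0, c0atl3.Pt 0, c0atl2.Pt 0, c0atl1.Pt 0, c0atl0.Pt 0] && H16.allL (ltAll 1) c0atn0.pre && planOK c0ath_P c0ax_P 1 (c0atl6.Pt 0) c0atn0.plan [c0atl6]) = true := by decide +kernel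
theorem c0atn0_1_0 : allZ (c0atn0.ent H15.MM24.P c0ath_P c0ax_P c0ax_P c0ace_P (nat_lit 11) (nat_lit 1) H15.MM24.B c0atl6 [] (memO c0acc6)) (nat_lit 0) (nat_lit 16) = true := by decide +kernel
theorem c0ac_f6 : (Nat.ble c0acc6.K 7 && Nat.ble (topK []) c0acc6.K && Nat.beq (c0acc6.Pt 0) (c0atl6.Pt 0) && Nat.beq (ltAll 24 [c0atl5.Pt 0, c0atl4.Pt 0, c0atl3.Pt 0, c0atl2.Pt 0, c0atl1.Pt 0, c0atl0.Pt 0]) 0 && kChk c0ace_P c0ax_P c0acc6.K 1 H15.MM24.B [c0atl5.Pt 0, c0atl4.Pt 0, c0atl3.Pt 0, c0atl2.Pt 0, c0atl1.Pt 0, c0atl0.Pt 0]) = true := by decide +kernel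
theorem c0ac_f5 : (Nat.ble c0atl5.K 17 && Nat.blt (nat_lit 2) 24 && fixLetters c0ath_P c0atl5.K (nat_lit 2) && Nat.beq (ltAll 1 [nat_lit 0]) 0 && Nat.beq (apW c0ax_P [nat_lit 0] (nat_lit 2)) (c0atl5.Pt 0)) = true := by decide +kernel
theorem c0acc4_e_0 : allZ (dent c0acc4 c0ace_P (nat_lit 24)) (nat_lit 0) (nat_lit 11) = true := by decide +kernel
theorem c0acc4_h : 0 < c0acc4.n ∧ 0 < c0acc4.K ∧ c0acc4.Pt 0 < 24 ∧ c0acc4.Q (c0acc4.Pt 0) = 0 := by decide +kernel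
theorem c0atn1_0 : (Nat.ble c0atl4.K 17 && Nat.beq (ltAll 24 [c0atl3.Pt 0, c0atl2.Pt 0, c0atl1.Pt 0, c0atl0.Pt 0]) 0 && kChk c0ace_P c0ax_P c0atn1.Kn 1 H15.MM24.B [c0atl3.Pt 0, c0atl2.Pt 0, c0atl1.Pt 0, c0atl0.Pt 0] && H16.allL (ltAll 1) c0atn1.pre && planOK c0ath_P c0ax_P 1 (c0atl4.Pt 0) c0atn1.plan [c0atl4, c0atl5, c0atl6]) = true := by decide +kernel
theorem c0atn1_1_0 : allZ (c0atn1.ent H15.MM24.P c0ath_P c0ax_P c0ax_P c0ace_P (nat_lit 11) (nat_lit 1) H15.MM24.B c0atl4 [c0atl5, c0atl6] (memO c0acc4)) (nat_lit 0) (nat_lit 20) = true := by decide +kernel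
theorem c0ac_f4 : (Nat.ble c0acc4.K 7 && Nat.ble (topK [c0acc6]) c0acc4.K && Nat.beq (c0acc4.Pt 0) (c0atl4.Pt 0) && Nat.beq (ltAll 24 [c0atl3.Pt 0, c0atl2.Pt 0, c0atl1.Pt 0, c0atl0.Pt 0]) 0 && kChk c0ace_P c0ax_P c0acc4.K 1 H15.MM24.B [c0atl3.Pt 0, c0atl2.Pt 0, c0atl1.Pt 0, c0atl0.Pt 0]) = true := by decide +kernel
theorem c0ac_f3 : (Nat.ble c0atl3.K 17 && Nat.blt (nat_lit 1) 24 && fixLetters c0ath_P c0atl3.K (nat_lit 1) && Nat.beq (ltAll 1 [nat_lit 0]) 0 && Nat.beq (apW c0ax_P [nat_lit 0] (nat_lit 1)) (c0atl3.Pt 0)) = true := by decide +kernel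
theorem c0acc2_e_0 : allZ (dent c0acc2 c0ace_P (nat_lit 24)) (nat_lit 0) (nat_lit 13) = true := by decide +kernel
theorem c0acc2_h : 0 < c0acc2.n ∧ 0 < c0acc2.K ∧ c0acc2.Pt 0 < 24 ∧ c0acc2.Q (c0acc2.Pt 0) = 0 := by decide +kernel
theorem c0atn2_0 : (Nat.ble c0atl2.K 17 && Nat.beq (ltAll 24 [c0atl1.Pt 0, c0atl0.Pt 0]) 0 && kChk c0ace_P c0ax_P c0atn2.Kn 1 H15.MM24.B [c0atl1.Pt 0, c0atl0.Pt 0] && H16.allL (ltAll 1) c0atn2.pre && planOK c0ath_P c0ax_P 1 (c0atl2.Pt 0) c0atn2.plan [c0atl2, c0atl3, c0atl4, c0atl5, c0atl6]) = true := by decide +kernel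
theorem c0atn2_1_0 : allZ (c0atn2.ent H15.MM24.P c0ath_P c0ax_P c0ax_P c0ace_P (nat_lit 11) (nat_lit 1) H15.MM24.B c0atl2 [c0atl3, c0atl4, c0atl5, c0atl6] (memO c0acc2)) (nat_lit 0) (nat_lit 22) = true := by decide +kernel
theorem c0ac_f2 : (Nat.ble c0acc2.K 7 && Nat.ble (topK [c0acc4, c0acc6]) c0acc2.K && Nat.beq (c0acc2.Pt 0) (c0atl2.Pt 0) && Nat.beq (ltAll 24 [c0atl1.Pt 0, c0atl0.Pt 0]) 0 && kChk c0ace_P c0ax_P c0acc2.K 1 H15.MM24.B [c0atl1.Pt 0, c0atl0.Pt 0]) = true := by decide +kernel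
theorem c0ac_f1 : (Nat.ble c0atl1.K 17 && Nat.blt (nat_lit 0) 24 && fixLetters c0ath_P c0atl1.K (nat_lit 0) && Nat.beq (ltAll 1 [nat_lit 0]) 0 && Nat.beq (apW c0ax_P [nat_lit 0] (nat_lit 0)) (c0atl1.Pt 0)) = true := by decide +kernel
theorem c0acc0_e_0 : allZ (dent c0acc0 c0ace_P (nat_lit 24)) (nat_lit 0) (nat_lit 15) = true := by decide +kernel
theorem c0acc0_h : 0 < c0acc0.n ∧ 0 < c0acc0.K ∧ c0acc0.Pt 0 < 24 ∧ c0acc0.Q (c0acc0.Pt 0) = 0 := by decide +kernel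
theorem c0atn3_0 : (Nat.ble c0atl0.K 17 && Nat.beq (ltAll 24 []) 0 && kChk c0ace_P c0ax_P c0atn3.Kn 1 H15.MM24.B [] && H16.allL (ltAll 1) c0atn3.pre && planOK c0ath_P c0ax_P 1 (c0atl0.Pt 0) c0atn3.plan [c0atl0, c0atl1, c0atl2, c0atl3, c0atl4, c0atl5, c0atl6]) = true := by decide +kernel
theorem c0atn3_1_0 : allZ (c0atn3.ent H15.MM24.P c0ath_P c0ax_P c0ax_P c0ace_P (nat_lit 11) (nat_lit 1) H15.MM24.B c0atl0 [c0atl1, c0atl2, c0atl3, c0atl4, c0atl5, c0atl6] (memO c0acc0)) (nat_lit 0) (nat_lit 24) = true := by decide +kernel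
theorem c0ac_f0 : (Nat.ble c0acc0.K 7 && Nat.ble (topK [c0acc2, c0acc4, c0acc6]) c0acc0.K && Nat.beq (c0acc0.Pt 0) (c0atl0.Pt 0) && Nat.beq (ltAll 24 []) 0 && kChk c0ace_P c0ax_P c0acc0.K 1 H15.MM24.B []) = true := by decide +kernel
theorem c0ac_c : chainCard [c0acc0, c0acc2, c0acc4, c0acc6] = 21504 ∧ topK [c0acc0, c0acc2, c0acc4, c0acc6] = 7 := by decide +kernel
theorem c0w0_lt : H16.allL (ltAll 11) c0w0_W = true := by decide +kernel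
theorem c0y0x_lt : H16.allL (ltAll 11) c0y0x_W = true := by decide +kernel
theorem c0y0th_lt : H16.allL (ltAll 11) c0y0th_W = true := by decide +kernel
theorem c0y0tl0_e_0 : allZ (dent c0y0tl0 c0y0th_P (nat_lit 24)) (nat_lit 0) (nat_lit 23) = true := by decide +kernel
theorem c0y0tl0_h : 0 < c0y0tl0.n ∧ 0 < c0y0tl0.K ∧ c0y0tl0.Pt 0 < 24 ∧ c0y0tl0.Q (c0y0tl0.Pt 0) = 0 := by decide +kernel
theorem c0y0tl1_e_0 : allZ (dent c0y0tl1 c0y0th_P (nat_lit 24)) (nat_lit 0) (nat_lit 22) = true := by decide +kernel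
theorem c0y0tl1_h : 0 < c0y0tl1.n ∧ 0 < c0y0tl1.K ∧ c0y0tl1.Pt 0 < 24 ∧ c0y0tl1.Q (c0y0tl1.Pt 0) = 0 := by decide +kernel
theorem c0y0tl2_e_0 : allZ (dent c0y0tl2 c0y0th_P (nat_lit 24)) (nat_lit 0) (nat_lit 21) = true := by decide +kernel
theorem c0y0tl2_h : 0 < c0y0tl2.n ∧ 0 < c0y0tl2.K ∧ c0y0tl2.Pt 0 < 24 ∧ c0y0tl2.Q (c0y0tl2.Pt 0) = 0 := by decide +kernel
theorem c0y0tl3_e_0 : allZ (dent c0y0tl3 c0y0th_P (nat_lit 24)) (nat_lit 0) (nat_lit 20) = true := by decide +kernel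
theorem c0y0tl3_h : 0 < c0y0tl3.n ∧ 0 < c0y0tl3.K ∧ c0y0tl3.Pt 0 < 24 ∧ c0y0tl3.Q (c0y0tl3.Pt 0) = 0 := by decide +kernel
theorem c0y0tl4_e_0 : allZ (dent c0y0tl4 c0y0th_P (nat_lit 24)) (nat_lit 0) (nat_lit 19) = true := by decide +kernel
theorem c0y0tl4_h : 0 < c0y0tl4.n ∧ 0 < c0y0tl4.K ∧ c0y0tl4.Pt 0 < 24 ∧ c0y0tl4.Q (c0y0tl4.Pt 0) = 0 := by decide +kernel
theorem c0y0tl5_e_0 : allZ (dent c0y0tl5 c0y0th_P (nat_lit 24)) (nat_lit 0) (nat_lit 15) = true := by decide +kernel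
theorem c0y0tl5_h : 0 < c0y0tl5.n ∧ 0 < c0y0tl5.K ∧ c0y0tl5.Pt 0 < 24 ∧ c0y0tl5.Q (c0y0tl5.Pt 0) = 0 := by decide +kernel
theorem c0y0tl6_e_0 : allZ (dent c0y0tl6 c0y0th_P (nat_lit 24)) (nat_lit 0) (nat_lit 2) = true := by decide +kernel
theorem c0y0tl6_h : 0 < c0y0tl6.n ∧ 0 < c0y0tl6.K ∧ c0y0tl6.Pt 0 < 24 ∧ c0y0tl6.Q (c0y0tl6.Pt 0) = 0 := by decide +kernel
theorem c0y0t_f6 : (Nat.ble c0y0tl6.K 17 && Nat.ble (topK []) c0y0tl6.K && fixLetters c0y0th_P (topK []) (c0y0tl6.Pt 0)) = true := by decide +kernel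
theorem c0y0t_f5 : (Nat.ble c0y0tl5.K 17 && Nat.ble (topK [c0y0tl6]) c0y0tl5.K && fixLetters c0y0th_P (topK [c0y0tl6]) (c0y0tl5.Pt 0)) = true := by decide +kernel
theorem c0y0t_f4 : (Nat.ble c0y0tl4.K 17 && Nat.ble (topK [c0y0tl5, c0y0tl6]) c0y0tl4.K && fixLetters c0y0th_P (topK [c0y0tl5, c0y0tl6]) (c0y0tl4.Pt 0)) = true := by decide +kernel
theorem c0y0t_f3 : (Nat.ble c0y0tl3.K 17 && Nat.ble (topK [c0y0tl4, c0y0tl5, c0y0tl6]) c0y0tl3.K && fixLetters c0y0th_P (topK [c0y0tl4, c0y0tl5, c0y0tl6]) (c0y0tl3.Pt 0)) = true := by decide +kernel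
theorem c0y0t_f2 : (Nat.ble c0y0tl2.K 17 && Nat.ble (topK [c0y0tl3, c0y0tl4, c0y0tl5, c0y0tl6]) c0y0tl2.K && fixLetters c0y0th_P (topK [c0y0tl3, c0y0tl4, c0y0tl5, c0y0tl6]) (c0y0tl2.Pt 0)) = true := by decide +kernel
theorem c0y0t_f1 : (Nat.ble c0y0tl1.K 17 && Nat.ble (topK [c0y0tl2, c0y0tl3, c0y0tl4, c0y0tl5, c0y0tl6]) c0y0tl1.K && fixLetters c0y0th_P (topK [c0y0tl2, c0y0tl3, c0y0tl4, c0y0tl5, c0y0tl6]) (c0y0tl1.Pt 0)) = true := by decide +kernel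
theorem c0y0t_f0 : (Nat.ble c0y0tl0.K 17 && Nat.ble (topK [c0y0tl1, c0y0tl2, c0y0tl3, c0y0tl4, c0y0tl5, c0y0tl6]) c0y0tl0.K && fixLetters c0y0th_P (topK [c0y0tl1, c0y0tl2, c0y0tl3, c0y0tl4, c0y0tl5, c0y0tl6]) (c0y0tl0.Pt 0)) = true := by decide +kernel
theorem c0y0t_c : chainCard [c0y0tl0, c0y0tl1, c0y0tl2, c0y0tl3, c0y0tl4, c0y0tl5, c0y0tl6] = 244823040 := by decide +kernel
theorem c0y0ce_lt : H16.allL (ltAll 11) c0y0ce_W = true := by decide +kernel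
theorem c0y0c_f6 : (Nat.ble c0y0tl6.K 17 && Nat.blt (nat_lit 0) 24 && fixLetters c0y0th_P c0y0tl6.K (nat_lit 0) && Nat.beq (ltAll 1 [nat_lit 0, nat_lit 0, nat_lit 0, nat_lit 0, nat_lit 0, nat_lit 0]) 0 && Nat.beq (apW c0y0x_P [nat_lit 0, nat_lit 0, nat_lit 0, nat_lit 0, nat_lit 0, nat_lit 0] (nat_lit 0)) (c0y0tl6.Pt 0)) = true := by decide +kernel
theorem c0y0c_f5 : (Nat.ble c0y0tl5.K 17 && Nat.blt (nat_lit 0) 24 && fixLetters c0y0th_P c0y0tl5.K (nat_lit 0) && Nat.beq (ltAll 1 [nat_lit 0, nat_lit 0, nat_lit 0, nat_lit 0, nat_lit 0]) 0 && Nat.beq (apW c0y0x_P [nat_lit 0, nat_lit 0, nat_lit 0, nat_lit 0, nat_lit 0] (nat_lit 0)) (c0y0tl5.Pt 0)) = true := by decide +kernel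
theorem c0y0c_f4 : (Nat.ble c0y0tl4.K 17 && Nat.blt (nat_lit 0) 24 && fixLetters c0y0th_P c0y0tl4.K (nat_lit 0) && Nat.beq (ltAll 1 [nat_lit 0, nat_lit 0, nat_lit 0, nat_lit 0]) 0 && Nat.beq (apW c0y0x_P [nat_lit 0, nat_lit 0, nat_lit 0, nat_lit 0] (nat_lit 0)) (c0y0tl4.Pt 0)) = true := by decide +kernel
theorem c0y0c_f3 : (Nat.ble c0y0tl3.K 17 && Nat.blt (nat_lit 0) 24 && fixLetters c0y0th_P c0y0tl3.K (nat_lit 0) && Nat.beq (ltAll 1 [nat_lit 0, nat_lit 0, nat_lit 0]) 0 && Nat.beq (apW c0y0x_P [nat_lit 0, nat_lit 0, nat_lit 0] (nat_lit 0)) (c0y0tl3.Pt 0)) = true := by decide +kernel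
theorem c0y0c_f2 : (Nat.ble c0y0tl2.K 17 && Nat.blt (nat_lit 0) 24 && fixLetters c0y0th_P c0y0tl2.K (nat_lit 0) && Nat.beq (ltAll 1 [nat_lit 0, nat_lit 0]) 0 && Nat.beq (apW c0y0x_P [nat_lit 0, nat_lit 0] (nat_lit 0)) (c0y0tl2.Pt 0)) = true := by decide +kernel
theorem c0y0c_f1 : (Nat.ble c0y0tl1.K 17 && Nat.blt (nat_lit 0) 24 && fixLetters c0y0th_P c0y0tl1.K (nat_lit 0) && Nat.beq (ltAll 1 [nat_lit 0]) 0 && Nat.beq (apW c0y0x_P [nat_lit 0] (nat_lit 0)) (c0y0tl1.Pt 0)) = true := by decide +kernel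
theorem c0y0cc0_e_0 : allZ (dent c0y0cc0 c0y0ce_P (nat_lit 24)) (nat_lit 0) (nat_lit 13) = true := by decide +kernel
theorem c0y0cc0_h : 0 < c0y0cc0.n ∧ 0 < c0y0cc0.K ∧ c0y0cc0.Pt 0 < 24 ∧ c0y0cc0.Q (c0y0cc0.Pt 0) = 0 := by decide +kernel
theorem c0y0tn0_0 : (Nat.ble c0y0tl0.K 17 && Nat.beq (ltAll 24 []) 0 && kChk c0y0ce_P c0y0x_P c0y0tn0.Kn 1 H15.MM24.B [] && H16.allL (ltAll 1) c0y0tn0.pre && planOK c0y0th_P c0y0x_P 1 (c0y0tl0.Pt 0) c0y0tn0.plan [c0y0tl0, c0y0tl1, c0y0tl2, c0y0tl3, c0y0tl4, c0y0tl5, c0y0tl6]) = true := by decide +kernel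
theorem c0y0tn0_1_0 : allZ (c0y0tn0.ent H15.MM24.P c0y0th_P c0y0x_P c0y0x_P c0y0ce_P (nat_lit 11) (nat_lit 1) H15.MM24.B c0y0tl0 [c0y0tl1, c0y0tl2, c0y0tl3, c0y0tl4, c0y0tl5, c0y0tl6] (memO c0y0cc0)) (nat_lit 0) (nat_lit 24) = true := by decide +kernel
theorem c0y0c_f0 : (Nat.ble c0y0cc0.K 1 && Nat.ble (topK []) c0y0cc0.K && Nat.beq (c0y0cc0.Pt 0) (c0y0tl0.Pt 0) && Nat.beq (ltAll 24 []) 0 && kChk c0y0ce_P c0y0x_P c0y0cc0.K 1 H15.MM24.B []) = true := by decide +kernel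
theorem c0y0c_c : chainCard [c0y0cc0] = 14 ∧ topK [c0y0cc0] = 1 := by decide +kernel
theorem c0w0_k : eqL c0w0_P 2 H15.MM24.B (List.replicate 7 1) [0] = 0 := by decide +kernel
theorem c0w0p_k : fixL c0w0_P 2 H15.MM24.B (List.replicate 2 0) = 0 := by decide +kernel
theorem c0w0n_k : 23 < 24 ∧ ltAll 2 (List.replicate 2 1) = 0 ∧ ltAll 2 [] = 0 ∧ apW c0w0_P (List.replicate 2 1) 23 ≠ apW c0w0_P [] 23 := by decide +kernel
theorem c1ax_lt : H16.allL (ltAll 11) c1ax_W = true := by decide +kernel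
theorem c1ath_lt : H16.allL (ltAll 11) c1ath_W = true := by decide +kernel
theorem c1atl0_e_0 : allZ (dent c1atl0 c1ath_P (nat_lit 24)) (nat_lit 0) (nat_lit 23) = true := by decide +kernel
theorem c1atl0_h : 0 < c1atl0.n ∧ 0 < c1atl0.K ∧ c1atl0.Pt 0 < 24 ∧ c1atl0.Q (c1atl0.Pt 0) = 0 := by decide +kernel
theorem c1atl1_e_0 : allZ (dent c1atl1 c1ath_P (nat_lit 24)) (nat_lit 0) (nat_lit 22) = true := by decide +kernel
theorem c1atl1_h : 0 < c1atl1.n ∧ 0 < c1atl1.K ∧ c1atl1.Pt 0 < 24 ∧ c1atl1.Q (c1atl1.Pt 0) = 0 := by decide +kernel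
theorem c1atl2_e_0 : allZ (dent c1atl2 c1ath_P (nat_lit 24)) (nat_lit 0) (nat_lit 21) = true := by decide +kernel
theorem c1atl2_h : 0 < c1atl2.n ∧ 0 < c1atl2.K ∧ c1atl2.Pt 0 < 24 ∧ c1atl2.Q (c1atl2.Pt 0) = 0 := by decide +kernel
theorem c1atl3_e_0 : allZ (dent c1atl3 c1ath_P (nat_lit 24)) (nat_lit 0) (nat_lit 20) = true := by decide +kernel
theorem c1atl3_h : 0 < c1atl3.n ∧ 0 < c1atl3.K ∧ c1atl3.Pt 0 < 24 ∧ c1atl3.Q (c1atl3.Pt 0) = 0 := by decide +kernel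
theorem c1atl4_e_0 : allZ (dent c1atl4 c1ath_P (nat_lit 24)) (nat_lit 0) (nat_lit 19) = true := by decide +kernel
theorem c1atl4_h : 0 < c1atl4.n ∧ 0 < c1atl4.K ∧ c1atl4.Pt 0 < 24 ∧ c1atl4.Q (c1atl4.Pt 0) = 0 := by decide +kernel
theorem c1atl5_e_0 : allZ (dent c1atl5 c1ath_P (nat_lit 24)) (nat_lit 0) (nat_lit 15) = true := by decide +kernel
theorem c1atl5_h : 0 < c1atl5.n ∧ 0 < c1atl5.K ∧ c1atl5.Pt 0 < 24 ∧ c1atl5.Q (c1atl5.Pt 0) = 0 := by decide +kernel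
theorem c1atl6_e_0 : allZ (dent c1atl6 c1ath_P (nat_lit 24)) (nat_lit 0) (nat_lit 2) = true := by decide +kernel
theorem c1atl6_h : 0 < c1atl6.n ∧ 0 < c1atl6.K ∧ c1atl6.Pt 0 < 24 ∧ c1atl6.Q (c1atl6.Pt 0) = 0 := by decide +kernel
theorem c1at_f6 : (Nat.ble c1atl6.K 16 && Nat.ble (topK []) c1atl6.K && fixLetters c1ath_P (topK []) (c1atl6.Pt 0)) = true := by decide +kernel
theorem c1at_f5 : (Nat.ble c1atl5.K 16 && Nat.ble (topK [c1atl6]) c1atl5.K && fixLetters c1ath_P (topK [c1atl6]) (c1atl5.Pt 0)) = true := by decide +kernel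
theorem c1at_f4 : (Nat.ble c1atl4.K 16 && Nat.ble (topK [c1atl5, c1atl6]) c1atl4.K && fixLetters c1ath_P (topK [c1atl5, c1atl6]) (c1atl4.Pt 0)) = true := by decide +kernel
theorem c1at_f3 : (Nat.ble c1atl3.K 16 && Nat.ble (topK [c1atl4, c1atl5, c1atl6]) c1atl3.K && fixLetters c1ath_P (topK [c1atl4, c1atl5, c1atl6]) (c1atl3.Pt 0)) = true := by decide +kernel
theorem c1at_f2 : (Nat.ble c1atl2.K 16 && Nat.ble (topK [c1atl3, c1atl4, c1atl5, c1atl6]) c1atl2.K && fixLetters c1ath_P (topK [c1atl3, c1atl4, c1atl5, c1atl6]) (c1atl2.Pt 0)) = true := by decide +kernel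
theorem c1at_f1 : (Nat.ble c1atl1.K 16 && Nat.ble (topK [c1atl2, c1atl3, c1atl4, c1atl5, c1atl6]) c1atl1.K && fixLetters c1ath_P (topK [c1atl2, c1atl3, c1atl4, c1atl5, c1atl6]) (c1atl1.Pt 0)) = true := by decide +kernel
theorem c1at_f0 : (Nat.ble c1atl0.K 16 && Nat.ble (topK [c1atl1, c1atl2, c1atl3, c1atl4, c1atl5, c1atl6]) c1atl0.K && fixLetters c1ath_P (topK [c1atl1, c1atl2, c1atl3, c1atl4, c1atl5, c1atl6]) (c1atl0.Pt 0)) = true := by decide +kernel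
theorem c1at_c : chainCard [c1atl0, c1atl1, c1atl2, c1atl3, c1atl4, c1atl5, c1atl6] = 244823040 := by decide +kernel
theorem c1ace_lt : H16.allL (ltAll 11) c1ace_W = true := by decide +kernel
theorem c1atn0_0 : (Nat.ble c1atl6.K 16 && Nat.beq (ltAll 24 [c1atl5.Pt 0, c1atl4.Pt 0, c1atl3.Pt 0, c1atl2.Pt 0, c1atl1.Pt 0, c1atl0.Pt 0]) 0 && kChk c1ace_P c1ax_P c1atn0.Kn 1 H15.MM24.B [c1atl5.Pt 0, c1atl4.Pt 0, c1atl3.Pt 0, c1atl2.Pt 0, c1atl1.Pt 0, c1atl0.Pt 0] && H16.allL (ltAll 1) c1atn0.pre && planOK c1ath_P c1ax_P 1 (c1atl6.Pt 0) c1atn0.plan [c1atl6]) = true := by decide +kernel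
theorem c1atn0_1_0 : allZ (c1atn0.ent H15.MM24.P c1ath_P c1ax_P c1ax_P c1ace_P (nat_lit 11) (nat_lit 1) H15.MM24.B c1atl6 [] (fun w => Nat.xor w (c1atl6.Pt (nat_lit 0)))) (nat_lit 0) (nat_lit 3) = true := by decide +kernel
theorem c1ac_f5 : (Nat.ble c1atl5.K 16 && Nat.blt (nat_lit 2) 24 && fixLetters c1ath_P c1atl5.K (nat_lit 2) && Nat.beq (ltAll 1 [nat_lit 0]) 0 && Nat.beq (apW c1ax_P [nat_lit 0] (nat_lit 2)) (c1atl5.Pt 0)) = true := by decide +kernel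
theorem c1acc4_e_0 : allZ (dent c1acc4 c1ace_P (nat_lit 24)) (nat_lit 0) (nat_lit 15) = true := by decide +kernel
theorem c1acc4_h : 0 < c1acc4.n ∧ 0 < c1acc4.K ∧ c1acc4.Pt 0 < 24 ∧ c1acc4.Q (c1acc4.Pt 0) = 0 := by decide +kernel
theorem c1atn1_0 : (Nat.ble c1atl4.K 16 && Nat.beq (ltAll 24 [c1atl3.Pt 0, c1atl2.Pt 0, c1atl1.Pt 0, c1atl0.Pt 0]) 0 && kChk c1ace_P c1ax_P c1atn1.Kn 1 H15.MM24.B [c1atl3.Pt 0, c1atl2.Pt 0, c1atl1.Pt 0, c1atl0.Pt 0] && H16.allL (ltAll 1) c1atn1.pre && planOK c1ath_P c1ax_P 1 (c1atl4.Pt 0) c1atn1.plan [c1atl4, c1atl5, c1atl6]) = true := by decide +kernel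
theorem c1atn1_1_0 : allZ (c1atn1.ent H15.MM24.P c1ath_P c1ax_P c1ax_P c1ace_P (nat_lit 11) (nat_lit 1) H15.MM24.B c1atl4 [c1atl5, c1atl6] (memO c1acc4)) (nat_lit 0) (nat_lit 20) = true := by decide +kernel
theorem c1ac_f4 : (Nat.ble c1acc4.K 6 && Nat.ble (topK []) c1acc4.K && Nat.beq (c1acc4.Pt 0) (c1atl4.Pt 0) && Nat.beq (ltAll 24 [c1atl3.Pt 0, c1atl2.Pt 0, c1atl1.Pt 0, c1atl0.Pt 0]) 0 && kChk c1ace_P c1ax_P c1acc4.K 1 H15.MM24.B [c1atl3.Pt 0, c1atl2.Pt 0, c1atl1.Pt 0, c1atl0.Pt 0]) = true := by decide +kernel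
theorem c1ac_f3 : (Nat.ble c1atl3.K 16 && Nat.blt (nat_lit 1) 24 && fixLetters c1ath_P c1atl3.K (nat_lit 1) && Nat.beq (ltAll 1 [nat_lit 0]) 0 && Nat.beq (apW c1ax_P [nat_lit 0] (nat_lit 1)) (c1atl3.Pt 0)) = true := by decide +kernel
theorem c1acc2_e_0 : allZ (dent c1acc2 c1ace_P (nat_lit 24)) (nat_lit 0) (nat_lit 19) = true := by decide +kernel
theorem c1acc2_h : 0 < c1acc2.n ∧ 0 < c1acc2.K ∧ c1acc2.Pt 0 < 24 ∧ c1acc2.Q (c1acc2.Pt 0) = 0 := by decide +kernel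
theorem c1atn2y7_lt : H16.allL (ltAll 11) c1atn2y7_W = true := by decide +kernel
theorem c1atr3k_lt : H16.allL (ltAll 11) c1atr3k_W = true := by decide +kernel
theorem c1atn3_0 : (Nat.ble c1atl4.K 16 && Nat.beq (ltAll 24 [c1atl3.Pt 0, c1atl2.Pt 0, c1atl1.Pt 0, c1atl0.Pt 0]) 0 && kChk c1atr3k_P c1atn2y7_P c1atn3.Kn 1 H15.MM24.B [c1atl3.Pt 0, c1atl2.Pt 0, c1atl1.Pt 0, c1atl0.Pt 0] && H16.allL (ltAll 1) c1atn3.pre && planOK c1ath_P c1ax_P 1 (c1atl4.Pt 0) c1atn3.plan [c1atl4, c1atl5, c1atl6]) = true := by decide +kernel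
theorem c1atn3_1_0 : allZ (c1atn3.ent H15.MM24.P c1ath_P c1ax_P c1atn2y7_P c1atr3k_P (nat_lit 11) (nat_lit 1) H15.MM24.B c1atl4 [c1atl5, c1atl6] (fun _ => nat_lit 1)) (nat_lit 0) (nat_lit 20) = true := by decide +kernel
theorem c1atn2_0 : (Nat.ble c1atl2.K 16 && Nat.beq (ltAll 24 [c1atl1.Pt 0, c1atl0.Pt 0]) 0 && kChk c1ace_P c1ax_P c1atn2.Kn 1 H15.MM24.B [c1atl1.Pt 0, c1atl0.Pt 0] && H16.allL (ltAll 1) c1atn2.pre && planOK c1ath_P c1ax_P 1 (c1atl2.Pt 0) c1atn2.plan [c1atl2, c1atl3, c1atl4, c1atl5, c1atl6]) = true := by decide +kernel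
theorem c1atn2_1_0 : allZ (c1atn2.ent H15.MM24.P c1ath_P c1ax_P c1ax_P c1ace_P (nat_lit 11) (nat_lit 1) H15.MM24.B c1atl2 [c1atl3, c1atl4, c1atl5, c1atl6] (memO c1acc2)) (nat_lit 0) (nat_lit 22) = true := by decide +kernel
theorem c1ac_f2 : (Nat.ble c1acc2.K 6 && Nat.ble (topK [c1acc4]) c1acc2.K && Nat.beq (c1acc2.Pt 0) (c1atl2.Pt 0) && Nat.beq (ltAll 24 [c1atl1.Pt 0, c1atl0.Pt 0]) 0 && kChk c1ace_P c1ax_P c1acc2.K 1 H15.MM24.B [c1atl1.Pt 0, c1atl0.Pt 0]) = true := by decide +kernel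
theorem c1ac_f1 : (Nat.ble c1atl1.K 16 && Nat.blt (nat_lit 0) 24 && fixLetters c1ath_P c1atl1.K (nat_lit 0) && Nat.beq (ltAll 1 [nat_lit 0]) 0 && Nat.beq (apW c1ax_P [nat_lit 0] (nat_lit 0)) (c1atl1.Pt 0)) = true := by decide +kernel
theorem c1acc0_e_0 : allZ (dent c1acc0 c1ace_P (nat_lit 24)) (nat_lit 0) (nat_lit 23) = true := by decide +kernel
theorem c1acc0_h : 0 < c1acc0.n ∧ 0 < c1acc0.K ∧ c1acc0.Pt 0 < 24 ∧ c1acc0.Q (c1acc0.Pt 0) = 0 := by decide +kernel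
theorem c1atn4_0 : (Nat.ble c1atl0.K 16 && Nat.beq (ltAll 24 []) 0 && kChk c1ace_P c1ax_P c1atn4.Kn 1 H15.MM24.B [] && H16.allL (ltAll 1) c1atn4.pre && planOK c1ath_P c1ax_P 1 (c1atl0.Pt 0) c1atn4.plan [c1atl0, c1atl1, c1atl2, c1atl3, c1atl4, c1atl5, c1atl6]) = true := by decide +kernel
theorem c1atn4_1_0 : allZ (c1atn4.ent H15.MM24.P c1ath_P c1ax_P c1ax_P c1ace_P (nat_lit 11) (nat_lit 1) H15.MM24.B c1atl0 [c1atl1, c1atl2, c1atl3, c1atl4, c1atl5, c1atl6] (memO c1acc0)) (nat_lit 0) (nat_lit 24) = true := by decide +kernel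
theorem c1ac_f0 : (Nat.ble c1acc0.K 6 && Nat.ble (topK [c1acc2, c1acc4]) c1acc0.K && Nat.beq (c1acc0.Pt 0) (c1atl0.Pt 0) && Nat.beq (ltAll 24 []) 0 && kChk c1ace_P c1ax_P c1acc0.K 1 H15.MM24.B []) = true := by decide +kernel
theorem c1ac_c : chainCard [c1acc0, c1acc2, c1acc4] = 7680 ∧ topK [c1acc0, c1acc2, c1acc4] = 6 := by decide +kernel
theorem c1w0_lt : H16.allL (ltAll 11) c1w0_W = true := by decide +kernel
theorem c1y0x_lt : H16.allL (ltAll 11) c1y0x_W = true := by decide +kernel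
theorem c1y0th_lt : H16.allL (ltAll 11) c1y0th_W = true := by decide +kernel
theorem c1y0tl0_e_0 : allZ (dent c1y0tl0 c1y0th_P (nat_lit 24)) (nat_lit 0) (nat_lit 23) = true := by decide +kernel
theorem c1y0tl0_h : 0 < c1y0tl0.n ∧ 0 < c1y0tl0.K ∧ c1y0tl0.Pt 0 < 24 ∧ c1y0tl0.Q (c1y0tl0.Pt 0) = 0 := by decide +kernel
theorem c1y0tl1_e_0 : allZ (dent c1y0tl1 c1y0th_P (nat_lit 24)) (nat_lit 0) (nat_lit 22) = true := by decide +kernel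
theorem c1y0tl1_h : 0 < c1y0tl1.n ∧ 0 < c1y0tl1.K ∧ c1y0tl1.Pt 0 < 24 ∧ c1y0tl1.Q (c1y0tl1.Pt 0) = 0 := by decide +kernel
theorem c1y0tl2_e_0 : allZ (dent c1y0tl2 c1y0th_P (nat_lit 24)) (nat_lit 0) (nat_lit 21) = true := by decide +kernel
theorem c1y0tl2_h : 0 < c1y0tl2.n ∧ 0 < c1y0tl2.K ∧ c1y0tl2.Pt 0 < 24 ∧ c1y0tl2.Q (c1y0tl2.Pt 0) = 0 := by decide +kernel
theorem c1y0tl3_e_0 : allZ (dent c1y0tl3 c1y0th_P (nat_lit 24)) (nat_lit 0) (nat_lit 20) = true := by decide +kernel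
theorem c1y0tl3_h : 0 < c1y0tl3.n ∧ 0 < c1y0tl3.K ∧ c1y0tl3.Pt 0 < 24 ∧ c1y0tl3.Q (c1y0tl3.Pt 0) = 0 := by decide +kernel
theorem c1y0tl4_e_0 : allZ (dent c1y0tl4 c1y0th_P (nat_lit 24)) (nat_lit 0) (nat_lit 19) = true := by decide +kernel
theorem c1y0tl4_h : 0 < c1y0tl4.n ∧ 0 < c1y0tl4.K ∧ c1y0tl4.Pt 0 < 24 ∧ c1y0tl4.Q (c1y0tl4.Pt 0) = 0 := by decide +kernel
theorem c1y0tl5_e_0 : allZ (dent c1y0tl5 c1y0th_P (nat_lit 24)) (nat_lit 0) (nat_lit 15) = true := by decide +kernel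
theorem c1y0tl5_h : 0 < c1y0tl5.n ∧ 0 < c1y0tl5.K ∧ c1y0tl5.Pt 0 < 24 ∧ c1y0tl5.Q (c1y0tl5.Pt 0) = 0 := by decide +kernel
theorem c1y0tl6_e_0 : allZ (dent c1y0tl6 c1y0th_P (nat_lit 24)) (nat_lit 0) (nat_lit 2) = true := by decide +kernel
theorem c1y0tl6_h : 0 < c1y0tl6.n ∧ 0 < c1y0tl6.K ∧ c1y0tl6.Pt 0 < 24 ∧ c1y0tl6.Q (c1y0tl6.Pt 0) = 0 := by decide +kernel
theorem c1y0t_f6 : (Nat.ble c1y0tl6.K 15 && Nat.ble (topK []) c1y0tl6.K && fixLetters c1y0th_P (topK []) (c1y0tl6.Pt 0)) = true := by decide +kernel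
theorem c1y0t_f5 : (Nat.ble c1y0tl5.K 15 && Nat.ble (topK [c1y0tl6]) c1y0tl5.K && fixLetters c1y0th_P (topK [c1y0tl6]) (c1y0tl5.Pt 0)) = true := by decide +kernel
theorem c1y0t_f4 : (Nat.ble c1y0tl4.K 15 && Nat.ble (topK [c1y0tl5, c1y0tl6]) c1y0tl4.K && fixLetters c1y0th_P (topK [c1y0tl5, c1y0tl6]) (c1y0tl4.Pt 0)) = true := by decide +kernel
theorem c1y0t_f3 : (Nat.ble c1y0tl3.K 15 && Nat.ble (topK [c1y0tl4, c1y0tl5, c1y0tl6]) c1y0tl3.K && fixLetters c1y0th_P (topK [c1y0tl4, c1y0tl5, c1y0tl6]) (c1y0tl3.Pt 0)) = true := by decide +kernel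
theorem c1y0t_f2 : (Nat.ble c1y0tl2.K 15 && Nat.ble (topK [c1y0tl3, c1y0tl4, c1y0tl5, c1y0tl6]) c1y0tl2.K && fixLetters c1y0th_P (topK [c1y0tl3, c1y0tl4, c1y0tl5, c1y0tl6]) (c1y0tl2.Pt 0)) = true := by decide +kernel
theorem c1y0t_f1 : (Nat.ble c1y0tl1.K 15 && Nat.ble (topK [c1y0tl2, c1y0tl3, c1y0tl4, c1y0tl5, c1y0tl6]) c1y0tl1.K && fixLetters c1y0th_P (topK [c1y0tl2, c1y0tl3, c1y0tl4, c1y0tl5, c1y0tl6]) (c1y0tl1.Pt 0)) = true := by decide +kernel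
theorem c1y0t_f0 : (Nat.ble c1y0tl0.K 15 && Nat.ble (topK [c1y0tl1, c1y0tl2, c1y0tl3, c1y0tl4, c1y0tl5, c1y0tl6]) c1y0tl0.K && fixLetters c1y0th_P (topK [c1y0tl1, c1y0tl2, c1y0tl3, c1y0tl4, c1y0tl5, c1y0tl6]) (c1y0tl0.Pt 0)) = true := by decide +kernel
theorem c1y0t_c : chainCard [c1y0tl0, c1y0tl1, c1y0tl2, c1y0tl3, c1y0tl4, c1y0tl5, c1y0tl6] = 244823040 := by decide +kernel
theorem c1y0ce_lt : H16.allL (ltAll 11) c1y0ce_W = true := by decide +kernel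
theorem c1y0c_f6 : (Nat.ble c1y0tl6.K 15 && Nat.blt (nat_lit 0) 24 && fixLetters c1y0th_P c1y0tl6.K (nat_lit 0) && Nat.beq (ltAll 1 [nat_lit 0, nat_lit 0, nat_lit 0, nat_lit 0, nat_lit 0, nat_lit 0]) 0 && Nat.beq (apW c1y0x_P [nat_lit 0, nat_lit 0, nat_lit 0, nat_lit 0, nat_lit 0, nat_lit 0] (nat_lit 0)) (c1y0tl6.Pt 0)) = true := by decide +kernel
theorem c1y0c_f5 : (Nat.ble c1y0tl5.K 15 && Nat.blt (nat_lit 0) 24 && fixLetters c1y0th_P c1y0tl5.K (nat_lit 0) && Nat.beq (ltAll 1 [nat_lit 0, nat_lit 0, nat_lit 0, nat_lit 0, nat_lit 0]) 0 && Nat.beq (apW c1y0x_P [nat_lit 0, nat_lit 0, nat_lit 0, nat_lit 0, nat_lit 0] (nat_lit 0)) (c1y0tl5.Pt 0)) = true := by decide +kernel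
theorem c1y0c_f4 : (Nat.ble c1y0tl4.K 15 && Nat.blt (nat_lit 0) 24 && fixLetters c1y0th_P c1y0tl4.K (nat_lit 0) && Nat.beq (ltAll 1 [nat_lit 0, nat_lit 0, nat_lit 0, nat_lit 0]) 0 && Nat.beq (apW c1y0x_P [nat_lit 0, nat_lit 0, nat_lit 0, nat_lit 0] (nat_lit 0)) (c1y0tl4.Pt 0)) = true := by decide +kernel
theorem c1y0c_f3 : (Nat.ble c1y0tl3.K 15 && Nat.blt (nat_lit 0) 24 && fixLetters c1y0th_P c1y0tl3.K (nat_lit 0) && Nat.beq (ltAll 1 [nat_lit 0, nat_lit 0, nat_lit 0]) 0 && Nat.beq (apW c1y0x_P [nat_lit 0, nat_lit 0, nat_lit 0] (nat_lit 0)) (c1y0tl3.Pt 0)) = true := by decide +kernel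
theorem c1y0c_f2 : (Nat.ble c1y0tl2.K 15 && Nat.blt (nat_lit 0) 24 && fixLetters c1y0th_P c1y0tl2.K (nat_lit 0) && Nat.beq (ltAll 1 [nat_lit 0, nat_lit 0]) 0 && Nat.beq (apW c1y0x_P [nat_lit 0, nat_lit 0] (nat_lit 0)) (c1y0tl2.Pt 0)) = true := by decide +kernel
theorem c1y0c_f1 : (Nat.ble c1y0tl1.K 15 && Nat.blt (nat_lit 0) 24 && fixLetters c1y0th_P c1y0tl1.K (nat_lit 0) && Nat.beq (ltAll 1 [nat_lit 0]) 0 && Nat.beq (apW c1y0x_P [nat_lit 0] (nat_lit 0)) (c1y0tl1.Pt 0)) = true := by decide +kernel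
theorem c1y0cc0_e_0 : allZ (dent c1y0cc0 c1y0ce_P (nat_lit 24)) (nat_lit 0) (nat_lit 19) = true := by decide +kernel
theorem c1y0cc0_h : 0 < c1y0cc0.n ∧ 0 < c1y0cc0.K ∧ c1y0cc0.Pt 0 < 24 ∧ c1y0cc0.Q (c1y0cc0.Pt 0) = 0 := by decide +kernel
theorem c1y0tn0_0 : (Nat.ble c1y0tl0.K 15 && Nat.beq (ltAll 24 []) 0 && kChk c1y0ce_P c1y0x_P c1y0tn0.Kn 1 H15.MM24.B [] && H16.allL (ltAll 1) c1y0tn0.pre && planOK c1y0th_P c1y0x_P 1 (c1y0tl0.Pt 0) c1y0tn0.plan [c1y0tl0, c1y0tl1, c1y0tl2, c1y0tl3, c1y0tl4, c1y0tl5, c1y0tl6]) = true := by decide +kernel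
theorem c1y0tn0_1_0 : allZ (c1y0tn0.ent H15.MM24.P c1y0th_P c1y0x_P c1y0x_P c1y0ce_P (nat_lit 11) (nat_lit 1) H15.MM24.B c1y0tl0 [c1y0tl1, c1y0tl2, c1y0tl3, c1y0tl4, c1y0tl5, c1y0tl6] (memO c1y0cc0)) (nat_lit 0) (nat_lit 24) = true := by decide +kernel
theorem c1y0c_f0 : (Nat.ble c1y0cc0.K 2 && Nat.ble (topK []) c1y0cc0.K && Nat.beq (c1y0cc0.Pt 0) (c1y0tl0.Pt 0) && Nat.beq (ltAll 24 []) 0 && kChk c1y0ce_P c1y0x_P c1y0cc0.K 1 H15.MM24.B []) = true := by decide +kernel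
theorem c1y0c_c : chainCard [c1y0cc0] = 20 ∧ topK [c1y0cc0] = 2 := by decide +kernel
theorem c1w0_k : eqL c1w0_P 2 H15.MM24.B (List.replicate 5 1) [0] = 0 := by decide +kernel
theorem c1w0p_k : fixL c1w0_P 2 H15.MM24.B (List.replicate 2 0) = 0 := by decide +kernel
theorem c1w0n_k : 23 < 24 ∧ ltAll 2 (List.replicate 2 1) = 0 ∧ ltAll 2 [] = 0 ∧ apW c1w0_P (List.replicate 2 1) 23 ≠ apW c1w0_P [] 23 := by decide +kernel

theorem md {G : Type*} [Group G] (e : gen H15.MM24.g 11 ≃* G) :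
    ∃ (_ : MulAction G (Cfsg.GolayPt)) (g : ℕ → G), Md g H15.pt H15.MM24.P 24 11 H15.MM24.B 244823040 ∧
      ∀ k < 11, (e.symm (g k)).1 = H15.MM24.g k :=
  exists_md H15.MM24.act H15.MM24.inj H15.MM24.card H15.MM24.isBase md_b e
theorem p2t_act {G Ω : Type*} [Group G] [MulAction G Ω] {g : ℕ → G} {pt : ℕ → Ω}
    (M : Md g pt H15.MM24.P 24 11 H15.MM24.B 244823040) : Act (wds g p2t_W) pt p2t_P 24 10 :=
  M.wact p2t_lt
theorem p2_r : ∀ k < 10, ∀ i < 24, (resEnt p2t_P p2P p2E p2I (nat_lit 24) (nat_lit 24)) k i = 0 := allZ2_sound p2_r_a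
theorem p2_sm {G Ω : Type*} [Group G] [MulAction G Ω] {g : ℕ → G} {pt : ℕ → Ω}
    (M : Md g pt H15.MM24.P 24 11 H15.MM24.B 244823040) : Sm (wds g p2t_W) (fun i => pt (p2E i)) p2P 24 10 p2B ∧ ∀ i < 24, p2E i < 24 :=
  M.res (p2t_act M) (by decide) p2_r p2_b
theorem p2l0_e : ∀ i < 15, (dent p2l0 (wdsP p2P p2e) (nat_lit 24)) i = 0 := allZ_sound0 p2l0_e_0
theorem p2l0_ok : DOK p2l0 (wdsP p2P p2e) 24 := ⟨p2l0_h, p2l0_e⟩
theorem p2l1_e : ∀ i < 7, (dent p2l1 (wdsP p2P p2e) (nat_lit 24)) i = 0 := allZ_sound0 p2l1_e_0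
theorem p2l1_ok : DOK p2l1 (wdsP p2P p2e) 24 := ⟨p2l1_h, p2l1_e⟩
theorem p2l2_e : ∀ i < 3, (dent p2l2 (wdsP p2P p2e) (nat_lit 24)) i = 0 := allZ_sound0 p2l2_e_0
theorem p2l2_ok : DOK p2l2 (wdsP p2P p2e) 24 := ⟨p2l2_h, p2l2_e⟩
theorem p2l3_e : ∀ i < 1, (dent p2l3 (wdsP p2P p2e) (nat_lit 24)) i = 0 := allZ_sound0 p2l3_e_0
theorem p2l3_ok : DOK p2l3 (wdsP p2P p2e) 24 := ⟨p2l3_h, p2l3_e⟩
theorem p2_low {G Ω : Type*} [Group G] [MulAction G Ω] {g : ℕ → G} {pt : ℕ → Ω}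
    (M : Md g pt H15.MM24.P 24 11 H15.MM24.B 244823040) : SLow (gi (wds (wds g p2t_W) p2e)) (fun i => pt (p2E i)) 24 [p2l0, p2l1, p2l2, p2l3] :=
  ((((SLow.nil).cons p2l3_ok ((p2_sm M).1.act.wds p2_e 53) p2_f3).cons p2l2_ok ((p2_sm M).1.act.wds p2_e 53) p2_f2).cons p2l1_ok ((p2_sm M).1.act.wds p2_e 53) p2_f1).cons p2l0_ok ((p2_sm M).1.act.wds p2_e 53) p2_f0
theorem p2_pc {G Ω : Type*} [Group G] [MulAction G Ω] {g : ℕ → G} {pt : ℕ → Ω}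
    (M : Md g pt H15.MM24.P 24 11 H15.MM24.B 244823040) : PC (wds g p2t_W) 10 2 :=
  have := M.fin
  ((p2_sm M).1.pc0 (by decide) p2_p).pc (p2_low M) (p2_sm M).1.inj
    (fun k => evA_mem_gen _ (nth_lt p2_e k)) M.card ⟨by decide, p2_c⟩
theorem covr_act {G Ω : Type*} [Group G] [MulAction G Ω] {g : ℕ → G} {pt : ℕ → Ω}
    (M : Md g pt H15.MM24.P 24 11 H15.MM24.B 244823040) : Act (wds g covr_W) pt covr_P 24 2 :=
  M.wact covr_lt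
theorem cov_0 {G Ω : Type*} [Group G] [MulAction G Ω] {g : ℕ → G} {pt : ℕ → Ω}
    (M : Md g pt H15.MM24.P 24 11 H15.MM24.B 244823040) : H0.TR.Cov (wds g p2t_W) (wds g covr_W) 2 2 10 (evA (wds g p2t_W) []) :=
  have := M.fin
  covT0.cov M (p2_sm M).1 (p2_sm M).2 (covr_act M) (p2_pc M) _ _ cov_c0
theorem cov {G Ω : Type*} [Group G] [MulAction G Ω] {g : ℕ → G} {pt : ℕ → Ω}
    (M : Md g pt H15.MM24.P 24 11 H15.MM24.B 244823040) {y : G} {e : ℕ} (hy : y ^ 2 ^ e = 1) (hq : y ^ 2 = 1) : Good (wds g covr_W) 2 y :=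
  have := M.fin
  H0.TR.Cov.all (p2_pc M) (cov_0 M) hy hq
theorem c0ax_act {G Ω : Type*} [Group G] [MulAction G Ω] {g : ℕ → G} {pt : ℕ → Ω}
    (M : Md g pt H15.MM24.P 24 11 H15.MM24.B 244823040) : Act (wds g c0ax_W) pt c0ax_P 24 1 :=
  M.wact c0ax_lt
theorem c0ath_act {G Ω : Type*} [Group G] [MulAction G Ω] {g : ℕ → G} {pt : ℕ → Ω}
    (M : Md g pt H15.MM24.P 24 11 H15.MM24.B 244823040) : Act (wds g c0ath_W) pt c0ath_P 24 17 :=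
  M.wact c0ath_lt
theorem c0atl0_e : ∀ i < 23, (dent c0atl0 c0ath_P (nat_lit 24)) i = 0 := allZ_sound0 c0atl0_e_0
theorem c0atl0_ok : DOK c0atl0 c0ath_P 24 := ⟨c0atl0_h, c0atl0_e⟩
theorem c0atl1_e : ∀ i < 22, (dent c0atl1 c0ath_P (nat_lit 24)) i = 0 := allZ_sound0 c0atl1_e_0
theorem c0atl1_ok : DOK c0atl1 c0ath_P 24 := ⟨c0atl1_h, c0atl1_e⟩
theorem c0atl2_e : ∀ i < 21, (dent c0atl2 c0ath_P (nat_lit 24)) i = 0 := allZ_sound0 c0atl2_e_0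
theorem c0atl2_ok : DOK c0atl2 c0ath_P 24 := ⟨c0atl2_h, c0atl2_e⟩
theorem c0atl3_e : ∀ i < 20, (dent c0atl3 c0ath_P (nat_lit 24)) i = 0 := allZ_sound0 c0atl3_e_0
theorem c0atl3_ok : DOK c0atl3 c0ath_P 24 := ⟨c0atl3_h, c0atl3_e⟩
theorem c0atl4_e : ∀ i < 19, (dent c0atl4 c0ath_P (nat_lit 24)) i = 0 := allZ_sound0 c0atl4_e_0
theorem c0atl4_ok : DOK c0atl4 c0ath_P 24 := ⟨c0atl4_h, c0atl4_e⟩
theorem c0atl5_e : ∀ i < 2, (dent c0atl5 c0ath_P (nat_lit 24)) i = 0 := allZ_sound0 c0atl5_e_0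
theorem c0atl5_ok : DOK c0atl5 c0ath_P 24 := ⟨c0atl5_h, c0atl5_e⟩
theorem c0atl6_e : ∀ i < 15, (dent c0atl6 c0ath_P (nat_lit 24)) i = 0 := allZ_sound0 c0atl6_e_0
theorem c0atl6_ok : DOK c0atl6 c0ath_P 24 := ⟨c0atl6_h, c0atl6_e⟩
theorem c0at_low {G Ω : Type*} [Group G] [MulAction G Ω] {g : ℕ → G} {pt : ℕ → Ω}
    (M : Md g pt H15.MM24.P 24 11 H15.MM24.B 244823040) : SLow (gi (wds g c0ath_W)) pt 24 [c0atl0, c0atl1, c0atl2, c0atl3, c0atl4, c0atl5, c0atl6] :=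
  (((((((SLow.nil).cons c0atl6_ok (c0ath_act M) c0at_f6).cons c0atl5_ok (c0ath_act M) c0at_f5).cons c0atl4_ok (c0ath_act M) c0at_f4).cons c0atl3_ok (c0ath_act M) c0at_f3).cons c0atl2_ok (c0ath_act M) c0at_f2).cons c0atl1_ok (c0ath_act M) c0at_f1).cons c0atl0_ok (c0ath_act M) c0at_f0
theorem c0at_S0 {G Ω : Type*} [Group G] [MulAction G Ω] {g : ℕ → G} {pt : ℕ → Ω}
    (M : Md g pt H15.MM24.P 24 11 H15.MM24.B 244823040) : Stage ⊤ (wds g c0ath_W) pt 24 [c0atl0, c0atl1, c0atl2, c0atl3, c0atl4, c0atl5, c0atl6] [] :=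
  M.stage (c0at_low M) c0at_c
theorem c0at_S1 {G Ω : Type*} [Group G] [MulAction G Ω] {g : ℕ → G} {pt : ℕ → Ω}
    (M : Md g pt H15.MM24.P 24 11 H15.MM24.B 244823040) : Stage ⊤ (wds g c0ath_W) pt 24 [c0atl1, c0atl2, c0atl3, c0atl4, c0atl5, c0atl6] [c0atl0.Pt 0] :=
  (c0at_S0 M).next
theorem c0at_S2 {G Ω : Type*} [Group G] [MulAction G Ω] {g : ℕ → G} {pt : ℕ → Ω}
    (M : Md g pt H15.MM24.P 24 11 H15.MM24.B 244823040) : Stage ⊤ (wds g c0ath_W) pt 24 [c0atl2, c0atl3, c0atl4, c0atl5, c0atl6] [c0atl1.Pt 0, c0atl0.Pt 0] :=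
  (c0at_S1 M).next
theorem c0at_S3 {G Ω : Type*} [Group G] [MulAction G Ω] {g : ℕ → G} {pt : ℕ → Ω}
    (M : Md g pt H15.MM24.P 24 11 H15.MM24.B 244823040) : Stage ⊤ (wds g c0ath_W) pt 24 [c0atl3, c0atl4, c0atl5, c0atl6] [c0atl2.Pt 0, c0atl1.Pt 0, c0atl0.Pt 0] :=
  (c0at_S2 M).next
theorem c0at_S4 {G Ω : Type*} [Group G] [MulAction G Ω] {g : ℕ → G} {pt : ℕ → Ω}
    (M : Md g pt H15.MM24.P 24 11 H15.MM24.B 244823040) : Stage ⊤ (wds g c0ath_W) pt 24 [c0atl4, c0atl5, c0atl6] [c0atl3.Pt 0, c0atl2.Pt 0, c0atl1.Pt 0, c0atl0.Pt 0] :=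
  (c0at_S3 M).next
theorem c0at_S5 {G Ω : Type*} [Group G] [MulAction G Ω] {g : ℕ → G} {pt : ℕ → Ω}
    (M : Md g pt H15.MM24.P 24 11 H15.MM24.B 244823040) : Stage ⊤ (wds g c0ath_W) pt 24 [c0atl5, c0atl6] [c0atl4.Pt 0, c0atl3.Pt 0, c0atl2.Pt 0, c0atl1.Pt 0, c0atl0.Pt 0] :=
  (c0at_S4 M).next
theorem c0at_S6 {G Ω : Type*} [Group G] [MulAction G Ω] {g : ℕ → G} {pt : ℕ → Ω}
    (M : Md g pt H15.MM24.P 24 11 H15.MM24.B 244823040) : Stage ⊤ (wds g c0ath_W) pt 24 [c0atl6] [c0atl5.Pt 0, c0atl4.Pt 0, c0atl3.Pt 0, c0atl2.Pt 0, c0atl1.Pt 0, c0atl0.Pt 0] :=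
  (c0at_S5 M).next
theorem c0at_S7 {G Ω : Type*} [Group G] [MulAction G Ω] {g : ℕ → G} {pt : ℕ → Ω}
    (M : Md g pt H15.MM24.P 24 11 H15.MM24.B 244823040) : Stage ⊤ (wds g c0ath_W) pt 24 [] [c0atl6.Pt 0, c0atl5.Pt 0, c0atl4.Pt 0, c0atl3.Pt 0, c0atl2.Pt 0, c0atl1.Pt 0, c0atl0.Pt 0] :=
  (c0at_S6 M).next
theorem c0ace_act {G Ω : Type*} [Group G] [MulAction G Ω] {g : ℕ → G} {pt : ℕ → Ω}
    (M : Md g pt H15.MM24.P 24 11 H15.MM24.B 244823040) : Act (wds g c0ace_W) pt c0ace_P 24 7 :=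
  M.wact c0ace_lt
theorem c0acc6_e : ∀ i < 7, (dent c0acc6 c0ace_P (nat_lit 24)) i = 0 := allZ_sound0 c0acc6_e_0
theorem c0acc6_ok : DOK c0acc6 c0ace_P 24 := ⟨c0acc6_h, c0acc6_e⟩
theorem c0atn0_1 : ∀ i < 16, (c0atn0.ent H15.MM24.P c0ath_P c0ax_P c0ax_P c0ace_P (nat_lit 11) (nat_lit 1) H15.MM24.B c0atl6 [] (memO c0acc6)) i = 0 := allZ_sound0 c0atn0_1_0
theorem c0atn0_t {G Ω : Type*} [Group G] [MulAction G Ω] {g : ℕ → G} {pt : ℕ → Ω}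
    (M : Md g pt H15.MM24.P 24 11 H15.MM24.B 244823040) : TrO (gen (wds g c0ath_W) c0atl6.K) (wds g c0ax_W) (wds g c0ax_W) 1 pt 24 (c0atl6.Pt 0) (memO c0acc6) :=
  node M (c0at_S6 M) (c0ath_act M) (c0ax_act M) (c0ax_act M) c0atn0 ((c0ace_act M).mono (by decide)) (fun _ _ => trivial) c0atn0_0 c0atn0_1 (List.forall_mem_nil _)
theorem c0acc4_e : ∀ i < 11, (dent c0acc4 c0ace_P (nat_lit 24)) i = 0 := allZ_sound0 c0acc4_e_0
theorem c0acc4_ok : DOK c0acc4 c0ace_P 24 := ⟨c0acc4_h, c0acc4_e⟩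
theorem c0atn1_1 : ∀ i < 20, (c0atn1.ent H15.MM24.P c0ath_P c0ax_P c0ax_P c0ace_P (nat_lit 11) (nat_lit 1) H15.MM24.B c0atl4 [c0atl5, c0atl6] (memO c0acc4)) i = 0 := allZ_sound0 c0atn1_1_0
theorem c0atn1_t {G Ω : Type*} [Group G] [MulAction G Ω] {g : ℕ → G} {pt : ℕ → Ω}
    (M : Md g pt H15.MM24.P 24 11 H15.MM24.B 244823040) : TrO (gen (wds g c0ath_W) c0atl4.K) (wds g c0ax_W) (wds g c0ax_W) 1 pt 24 (c0atl4.Pt 0) (memO c0acc4) :=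
  node M (c0at_S4 M) (c0ath_act M) (c0ax_act M) (c0ax_act M) c0atn1 ((c0ace_act M).mono (by decide)) (fun _ _ => trivial) c0atn1_0 c0atn1_1 (List.forall_mem_nil _)
theorem c0acc2_e : ∀ i < 13, (dent c0acc2 c0ace_P (nat_lit 24)) i = 0 := allZ_sound0 c0acc2_e_0
theorem c0acc2_ok : DOK c0acc2 c0ace_P 24 := ⟨c0acc2_h, c0acc2_e⟩
theorem c0atn2_1 : ∀ i < 22, (c0atn2.ent H15.MM24.P c0ath_P c0ax_P c0ax_P c0ace_P (nat_lit 11) (nat_lit 1) H15.MM24.B c0atl2 [c0atl3, c0atl4, c0atl5, c0atl6] (memO c0acc2)) i = 0 := allZ_sound0 c0atn2_1_0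
theorem c0atn2_t {G Ω : Type*} [Group G] [MulAction G Ω] {g : ℕ → G} {pt : ℕ → Ω}
    (M : Md g pt H15.MM24.P 24 11 H15.MM24.B 244823040) : TrO (gen (wds g c0ath_W) c0atl2.K) (wds g c0ax_W) (wds g c0ax_W) 1 pt 24 (c0atl2.Pt 0) (memO c0acc2) :=
  node M (c0at_S2 M) (c0ath_act M) (c0ax_act M) (c0ax_act M) c0atn2 ((c0ace_act M).mono (by decide)) (fun _ _ => trivial) c0atn2_0 c0atn2_1 (List.forall_mem_nil _)
theorem c0acc0_e : ∀ i < 15, (dent c0acc0 c0ace_P (nat_lit 24)) i = 0 := allZ_sound0 c0acc0_e_0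
theorem c0acc0_ok : DOK c0acc0 c0ace_P 24 := ⟨c0acc0_h, c0acc0_e⟩
theorem c0atn3_1 : ∀ i < 24, (c0atn3.ent H15.MM24.P c0ath_P c0ax_P c0ax_P c0ace_P (nat_lit 11) (nat_lit 1) H15.MM24.B c0atl0 [c0atl1, c0atl2, c0atl3, c0atl4, c0atl5, c0atl6] (memO c0acc0)) i = 0 := allZ_sound0 c0atn3_1_0
theorem c0atn3_t {G Ω : Type*} [Group G] [MulAction G Ω] {g : ℕ → G} {pt : ℕ → Ω}
    (M : Md g pt H15.MM24.P 24 11 H15.MM24.B 244823040) : TrO (gen (wds g c0ath_W) c0atl0.K) (wds g c0ax_W) (wds g c0ax_W) 1 pt 24 (c0atl0.Pt 0) (memO c0acc0) :=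
  node M (c0at_S0 M) (c0ath_act M) (c0ax_act M) (c0ax_act M) c0atn3 ((c0ace_act M).mono (by decide)) (fun _ _ => trivial) c0atn3_0 c0atn3_1 (List.forall_mem_nil _)
theorem c0ac {G Ω : Type*} [Group G] [MulAction G Ω] {g : ℕ → G} {pt : ℕ → Ω}
    (M : Md g pt H15.MM24.P 24 11 H15.MM24.B 244823040) : Cen ⊤ (wds g c0ax_W) 1 (wds g c0ace_W) pt 24 [c0acc0, c0acc2, c0acc4, c0acc6] :=
  (c0at_S0 M).top ▸ Cen.lev M (c0at_S0 M) (Cen.triv (c0at_S1 M) (Cen.lev M (c0at_S2 M) (Cen.triv (c0at_S3 M) (Cen.lev M (c0at_S4 M) (Cen.triv (c0at_S5 M) (Cen.lev M (c0at_S6 M) (Cen.bot) (c0atn0_t M) (c0ax_act M) (c0ace_act M) (fun _ _ => trivial) c0acc6_ok c0ac_f6) (forced (c0at_S5 M) (c0ath_act M) (c0ax_act M) _ _ c0ac_f5)) (c0atn1_t M) (c0ax_act M) (c0ace_act M) (fun _ _ => trivial) c0acc4_ok c0ac_f4) (forced (c0at_S3 M) (c0ath_act M) (c0ax_act M) _ _ c0ac_f3))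 (c0atn2_t M) (c0ax_act M) (c0ace_act M) (fun _ _ => trivial) c0acc2_ok c0ac_f2) (forced (c0at_S1 M) (c0ath_act M) (c0ax_act M) _ _ c0ac_f1)) (c0atn3_t M) (c0ax_act M) (c0ace_act M) (fun _ _ => trivial) c0acc0_ok c0ac_f0
theorem c0ac_card {G Ω : Type*} [Group G] [MulAction G Ω] {g : ℕ → G} {pt : ℕ → Ω}
    (M : Md g pt H15.MM24.P 24 11 H15.MM24.B 244823040) : Nat.card (Subgroup.centralizer {(wds g c0ax_W) 0}) = 21504 :=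
  (c0ac M).card_cent1 M.inj c0ac_c.1
theorem c0ac_eq {G Ω : Type*} [Group G] [MulAction G Ω] {g : ℕ → G} {pt : ℕ → Ω}
    (M : Md g pt H15.MM24.P 24 11 H15.MM24.B 244823040) : Subgroup.centralizer (gen (wds g c0ax_W) 1) = gen (wds g c0ace_W) 7 ∧ Nat.card (gen (wds g c0ace_W) 7) = 21504 :=
  c0ac_c.1 ▸ c0ac_c.2 ▸ ⟨(c0ac M).cent, (c0ac M).card M.inj⟩
theorem c0w0_act {G Ω : Type*} [Group G] [MulAction G Ω] {g : ℕ → G} {pt : ℕ → Ω}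
    (M : Md g pt H15.MM24.P 24 11 H15.MM24.B 244823040) : Act (wds g c0w0_W) pt c0w0_P 24 2 :=
  M.wact c0w0_lt
theorem c0y0x_act {G Ω : Type*} [Group G] [MulAction G Ω] {g : ℕ → G} {pt : ℕ → Ω}
    (M : Md g pt H15.MM24.P 24 11 H15.MM24.B 244823040) : Act (wds g c0y0x_W) pt c0y0x_P 24 1 :=
  M.wact c0y0x_lt
theorem c0y0th_act {G Ω : Type*} [Group G] [MulAction G Ω] {g : ℕ → G} {pt : ℕ → Ω}
    (M : Md g pt H15.MM24.P 24 11 H15.MM24.B 244823040) : Act (wds g c0y0th_W) pt c0y0th_P 24 17 :=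
  M.wact c0y0th_lt
theorem c0y0tl0_e : ∀ i < 23, (dent c0y0tl0 c0y0th_P (nat_lit 24)) i = 0 := allZ_sound0 c0y0tl0_e_0
theorem c0y0tl0_ok : DOK c0y0tl0 c0y0th_P 24 := ⟨c0y0tl0_h, c0y0tl0_e⟩
theorem c0y0tl1_e : ∀ i < 22, (dent c0y0tl1 c0y0th_P (nat_lit 24)) i = 0 := allZ_sound0 c0y0tl1_e_0
theorem c0y0tl1_ok : DOK c0y0tl1 c0y0th_P 24 := ⟨c0y0tl1_h, c0y0tl1_e⟩
theorem c0y0tl2_e : ∀ i < 21, (dent c0y0tl2 c0y0th_P (nat_lit 24)) i = 0 := allZ_sound0 c0y0tl2_e_0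
theorem c0y0tl2_ok : DOK c0y0tl2 c0y0th_P 24 := ⟨c0y0tl2_h, c0y0tl2_e⟩
theorem c0y0tl3_e : ∀ i < 20, (dent c0y0tl3 c0y0th_P (nat_lit 24)) i = 0 := allZ_sound0 c0y0tl3_e_0
theorem c0y0tl3_ok : DOK c0y0tl3 c0y0th_P 24 := ⟨c0y0tl3_h, c0y0tl3_e⟩
theorem c0y0tl4_e : ∀ i < 19, (dent c0y0tl4 c0y0th_P (nat_lit 24)) i = 0 := allZ_sound0 c0y0tl4_e_0
theorem c0y0tl4_ok : DOK c0y0tl4 c0y0th_P 24 := ⟨c0y0tl4_h, c0y0tl4_e⟩
theorem c0y0tl5_e : ∀ i < 15, (dent c0y0tl5 c0y0th_P (nat_lit 24)) i = 0 := allZ_sound0 c0y0tl5_e_0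
theorem c0y0tl5_ok : DOK c0y0tl5 c0y0th_P 24 := ⟨c0y0tl5_h, c0y0tl5_e⟩
theorem c0y0tl6_e : ∀ i < 2, (dent c0y0tl6 c0y0th_P (nat_lit 24)) i = 0 := allZ_sound0 c0y0tl6_e_0
theorem c0y0tl6_ok : DOK c0y0tl6 c0y0th_P 24 := ⟨c0y0tl6_h, c0y0tl6_e⟩
theorem c0y0t_low {G Ω : Type*} [Group G] [MulAction G Ω] {g : ℕ → G} {pt : ℕ → Ω}
    (M : Md g pt H15.MM24.P 24 11 H15.MM24.B 244823040) : SLow (gi (wds g c0y0th_W)) pt 24 [c0y0tl0, c0y0tl1, c0y0tl2, c0y0tl3, c0y0tl4, c0y0tl5, c0y0tl6] :=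
  (((((((SLow.nil).cons c0y0tl6_ok (c0y0th_act M) c0y0t_f6).cons c0y0tl5_ok (c0y0th_act M) c0y0t_f5).cons c0y0tl4_ok (c0y0th_act M) c0y0t_f4).cons c0y0tl3_ok (c0y0th_act M) c0y0t_f3).cons c0y0tl2_ok (c0y0th_act M) c0y0t_f2).cons c0y0tl1_ok (c0y0th_act M) c0y0t_f1).cons c0y0tl0_ok (c0y0th_act M) c0y0t_f0
theorem c0y0t_S0 {G Ω : Type*} [Group G] [MulAction G Ω] {g : ℕ → G} {pt : ℕ → Ω}
    (M : Md g pt H15.MM24.P 24 11 H15.MM24.B 244823040) : Stage ⊤ (wds g c0y0th_W) pt 24 [c0y0tl0, c0y0tl1, c0y0tl2, c0y0tl3, c0y0tl4, c0y0tl5, c0y0tl6] [] :=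
  M.stage (c0y0t_low M) c0y0t_c
theorem c0y0t_S1 {G Ω : Type*} [Group G] [MulAction G Ω] {g : ℕ → G} {pt : ℕ → Ω}
    (M : Md g pt H15.MM24.P 24 11 H15.MM24.B 244823040) : Stage ⊤ (wds g c0y0th_W) pt 24 [c0y0tl1, c0y0tl2, c0y0tl3, c0y0tl4, c0y0tl5, c0y0tl6] [c0y0tl0.Pt 0] :=
  (c0y0t_S0 M).next
theorem c0y0t_S2 {G Ω : Type*} [Group G] [MulAction G Ω] {g : ℕ → G} {pt : ℕ → Ω}
    (M : Md g pt H15.MM24.P 24 11 H15.MM24.B 244823040) : Stage ⊤ (wds g c0y0th_W) pt 24 [c0y0tl2, c0y0tl3, c0y0tl4, c0y0tl5, c0y0tl6] [c0y0tl1.Pt 0, c0y0tl0.Pt 0] :=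
  (c0y0t_S1 M).next
theorem c0y0t_S3 {G Ω : Type*} [Group G] [MulAction G Ω] {g : ℕ → G} {pt : ℕ → Ω}
    (M : Md g pt H15.MM24.P 24 11 H15.MM24.B 244823040) : Stage ⊤ (wds g c0y0th_W) pt 24 [c0y0tl3, c0y0tl4, c0y0tl5, c0y0tl6] [c0y0tl2.Pt 0, c0y0tl1.Pt 0, c0y0tl0.Pt 0] :=
  (c0y0t_S2 M).next
theorem c0y0t_S4 {G Ω : Type*} [Group G] [MulAction G Ω] {g : ℕ → G} {pt : ℕ → Ω}
    (M : Md g pt H15.MM24.P 24 11 H15.MM24.B 244823040) : Stage ⊤ (wds g c0y0th_W) pt 24 [c0y0tl4, c0y0tl5, c0y0tl6] [c0y0tl3.Pt 0, c0y0tl2.Pt 0, c0y0tl1.Pt 0, c0y0tl0.Pt 0] :=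
  (c0y0t_S3 M).next
theorem c0y0t_S5 {G Ω : Type*} [Group G] [MulAction G Ω] {g : ℕ → G} {pt : ℕ → Ω}
    (M : Md g pt H15.MM24.P 24 11 H15.MM24.B 244823040) : Stage ⊤ (wds g c0y0th_W) pt 24 [c0y0tl5, c0y0tl6] [c0y0tl4.Pt 0, c0y0tl3.Pt 0, c0y0tl2.Pt 0, c0y0tl1.Pt 0, c0y0tl0.Pt 0] :=
  (c0y0t_S4 M).next
theorem c0y0t_S6 {G Ω : Type*} [Group G] [MulAction G Ω] {g : ℕ → G} {pt : ℕ → Ω}
    (M : Md g pt H15.MM24.P 24 11 H15.MM24.B 244823040) : Stage ⊤ (wds g c0y0th_W) pt 24 [c0y0tl6] [c0y0tl5.Pt 0, c0y0tl4.Pt 0, c0y0tl3.Pt 0, c0y0tl2.Pt 0, c0y0tl1.Pt 0, c0y0tl0.Pt 0] :=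
  (c0y0t_S5 M).next
theorem c0y0t_S7 {G Ω : Type*} [Group G] [MulAction G Ω] {g : ℕ → G} {pt : ℕ → Ω}
    (M : Md g pt H15.MM24.P 24 11 H15.MM24.B 244823040) : Stage ⊤ (wds g c0y0th_W) pt 24 [] [c0y0tl6.Pt 0, c0y0tl5.Pt 0, c0y0tl4.Pt 0, c0y0tl3.Pt 0, c0y0tl2.Pt 0, c0y0tl1.Pt 0, c0y0tl0.Pt 0] :=
  (c0y0t_S6 M).next
theorem c0y0ce_act {G Ω : Type*} [Group G] [MulAction G Ω] {g : ℕ → G} {pt : ℕ → Ω}
    (M : Md g pt H15.MM24.P 24 11 H15.MM24.B 244823040) : Act (wds g c0y0ce_W) pt c0y0ce_P 24 1 :=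
  M.wact c0y0ce_lt
theorem c0y0cc0_e : ∀ i < 13, (dent c0y0cc0 c0y0ce_P (nat_lit 24)) i = 0 := allZ_sound0 c0y0cc0_e_0
theorem c0y0cc0_ok : DOK c0y0cc0 c0y0ce_P 24 := ⟨c0y0cc0_h, c0y0cc0_e⟩
theorem c0y0tn0_1 : ∀ i < 24, (c0y0tn0.ent H15.MM24.P c0y0th_P c0y0x_P c0y0x_P c0y0ce_P (nat_lit 11) (nat_lit 1) H15.MM24.B c0y0tl0 [c0y0tl1, c0y0tl2, c0y0tl3, c0y0tl4, c0y0tl5, c0y0tl6] (memO c0y0cc0)) i = 0 := allZ_sound0 c0y0tn0_1_0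
theorem c0y0tn0_t {G Ω : Type*} [Group G] [MulAction G Ω] {g : ℕ → G} {pt : ℕ → Ω}
    (M : Md g pt H15.MM24.P 24 11 H15.MM24.B 244823040) : TrO (gen (wds g c0y0th_W) c0y0tl0.K) (wds g c0y0x_W) (wds g c0y0x_W) 1 pt 24 (c0y0tl0.Pt 0) (memO c0y0cc0) :=
  node M (c0y0t_S0 M) (c0y0th_act M) (c0y0x_act M) (c0y0x_act M) c0y0tn0 ((c0y0ce_act M).mono (by decide)) (fun _ _ => trivial) c0y0tn0_0 c0y0tn0_1 (List.forall_mem_nil _)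
theorem c0y0c {G Ω : Type*} [Group G] [MulAction G Ω] {g : ℕ → G} {pt : ℕ → Ω}
    (M : Md g pt H15.MM24.P 24 11 H15.MM24.B 244823040) : Cen ⊤ (wds g c0y0x_W) 1 (wds g c0y0ce_W) pt 24 [c0y0cc0] :=
  (c0y0t_S0 M).top ▸ Cen.lev M (c0y0t_S0 M) (Cen.triv (c0y0t_S1 M) (Cen.triv (c0y0t_S2 M) (Cen.triv (c0y0t_S3 M) (Cen.triv (c0y0t_S4 M) (Cen.triv (c0y0t_S5 M) (Cen.triv (c0y0t_S6 M) (Cen.bot) (forced (c0y0t_S6 M) (c0y0th_act M) (c0y0x_act M) _ _ c0y0c_f6)) (forced (c0y0t_S5 M) (c0y0th_act M) (c0y0x_act M) _ _ c0y0c_f5)) (forced (c0y0t_S4 M) (c0y0th_act M) (c0y0x_act M) _ _ c0y0c_f4)) (forced (c0y0t_S3 M) (c0y0th_act M) (c0y0x_act M) _ _ c0y0c_f3)) (forced (c0y0t_S2 M) (c0y0th_act M) (c0y0x_act M) _ _ c0y0c_f2)) (forced (c0y0t_S1 M) (c0y0th_act M) (c0y0x_act M) _ _ c0y0c_f1)) (c0y0tn0_t M) (c0y0x_act M) (c0y0ce_act M) (fun _ _ => trivial) c0y0cc0_ok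 c0y0c_f0
theorem c0y0c_card {G Ω : Type*} [Group G] [MulAction G Ω] {g : ℕ → G} {pt : ℕ → Ω}
    (M : Md g pt H15.MM24.P 24 11 H15.MM24.B 244823040) : Nat.card (Subgroup.centralizer {(wds g c0y0x_W) 0}) = 14 :=
  (c0y0c M).card_cent1 M.inj c0y0c_c.1
theorem c0y0c_eq {G Ω : Type*} [Group G] [MulAction G Ω] {g : ℕ → G} {pt : ℕ → Ω}
    (M : Md g pt H15.MM24.P 24 11 H15.MM24.B 244823040) : Subgroup.centralizer (gen (wds g c0y0x_W) 1) = gen (wds g c0y0ce_W) 1 ∧ Nat.card (gen (wds g c0y0ce_W) 1) = 14 :=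
  c0y0c_c.1 ▸ c0y0c_c.2 ▸ ⟨(c0y0c M).cent, (c0y0c M).card M.inj⟩
theorem c0w0p {G Ω : Type*} [Group G] [MulAction G Ω] {g : ℕ → G} {pt : ℕ → Ω}
    (M : Md g pt H15.MM24.P 24 11 H15.MM24.B 244823040) : (wds g c0w0_W) 0 ^ 2 = 1 :=
  M.pw (c0w0_act M) c0w0p_k
theorem c0w0n {G Ω : Type*} [Group G] [MulAction G Ω] {g : ℕ → G} {pt : ℕ → Ω}
    (M : Md g pt H15.MM24.P 24 11 H15.MM24.B 244823040) : (wds g c0w0_W) 1 ^ 2 ≠ 1 :=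
  M.npw (c0w0_act M) _ c0w0n_k
theorem c0W0 {G Ω : Type*} [Group G] [MulAction G Ω] {g : ℕ → G} {pt : ℕ → Ω}
    (M : Md g pt H15.MM24.P 24 11 H15.MM24.B 244823040) : Wit (H27.IC.Ce ((wds g covr_W) 0)) 7 14 :=
  have := M.fin
  wit_w (x := (wds g c0w0_W)) (k := 3) (by norm_num) (M.eq_of (c0w0_act M) c0w0_k) (c0w0p M) (c0w0n M) (c0ac_card M) (by decide +kernel) (c0y0c_card M)
theorem c0 {G Ω : Type*} [Group G] [MulAction G Ω] {g : ℕ → G} {pt : ℕ → Ω}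
    (M : Md g pt H15.MM24.P 24 11 H15.MM24.B 244823040) : OK (H27.IC.Ce ((wds g covr_W) 0)) :=
  have := M.fin
  ok_num (n := 21504) (ws := []) 10 (c0ac_card M) (c0W0 M) (List.forall_mem_nil _) (by decide +kernel)
theorem c1ax_act {G Ω : Type*} [Group G] [MulAction G Ω] {g : ℕ → G} {pt : ℕ → Ω}
    (M : Md g pt H15.MM24.P 24 11 H15.MM24.B 244823040) : Act (wds g c1ax_W) pt c1ax_P 24 1 :=
  M.wact c1ax_lt
theorem c1ath_act {G Ω : Type*} [Group G] [MulAction G Ω] {g : ℕ → G} {pt : ℕ → Ω}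
    (M : Md g pt H15.MM24.P 24 11 H15.MM24.B 244823040) : Act (wds g c1ath_W) pt c1ath_P 24 16 :=
  M.wact c1ath_lt
theorem c1atl0_e : ∀ i < 23, (dent c1atl0 c1ath_P (nat_lit 24)) i = 0 := allZ_sound0 c1atl0_e_0
theorem c1atl0_ok : DOK c1atl0 c1ath_P 24 := ⟨c1atl0_h, c1atl0_e⟩
theorem c1atl1_e : ∀ i < 22, (dent c1atl1 c1ath_P (nat_lit 24)) i = 0 := allZ_sound0 c1atl1_e_0
theorem c1atl1_ok : DOK c1atl1 c1ath_P 24 := ⟨c1atl1_h, c1atl1_e⟩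
theorem c1atl2_e : ∀ i < 21, (dent c1atl2 c1ath_P (nat_lit 24)) i = 0 := allZ_sound0 c1atl2_e_0
theorem c1atl2_ok : DOK c1atl2 c1ath_P 24 := ⟨c1atl2_h, c1atl2_e⟩
theorem c1atl3_e : ∀ i < 20, (dent c1atl3 c1ath_P (nat_lit 24)) i = 0 := allZ_sound0 c1atl3_e_0
theorem c1atl3_ok : DOK c1atl3 c1ath_P 24 := ⟨c1atl3_h, c1atl3_e⟩
theorem c1atl4_e : ∀ i < 19, (dent c1atl4 c1ath_P (nat_lit 24)) i = 0 := allZ_sound0 c1atl4_e_0
theorem c1atl4_ok : DOK c1atl4 c1ath_P 24 := ⟨c1atl4_h, c1atl4_e⟩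
theorem c1atl5_e : ∀ i < 15, (dent c1atl5 c1ath_P (nat_lit 24)) i = 0 := allZ_sound0 c1atl5_e_0
theorem c1atl5_ok : DOK c1atl5 c1ath_P 24 := ⟨c1atl5_h, c1atl5_e⟩
theorem c1atl6_e : ∀ i < 2, (dent c1atl6 c1ath_P (nat_lit 24)) i = 0 := allZ_sound0 c1atl6_e_0
theorem c1atl6_ok : DOK c1atl6 c1ath_P 24 := ⟨c1atl6_h, c1atl6_e⟩
theorem c1at_low {G Ω : Type*} [Group G] [MulAction G Ω] {g : ℕ → G} {pt : ℕ → Ω}
    (M : Md g pt H15.MM24.P 24 11 H15.MM24.B 244823040) : SLow (gi (wds g c1ath_W)) pt 24 [c1atl0, c1atl1, c1atl2, c1atl3, c1atl4, c1atl5, c1atl6] :=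
  (((((((SLow.nil).cons c1atl6_ok (c1ath_act M) c1at_f6).cons c1atl5_ok (c1ath_act M) c1at_f5).cons c1atl4_ok (c1ath_act M) c1at_f4).cons c1atl3_ok (c1ath_act M) c1at_f3).cons c1atl2_ok (c1ath_act M) c1at_f2).cons c1atl1_ok (c1ath_act M) c1at_f1).cons c1atl0_ok (c1ath_act M) c1at_f0
theorem c1at_S0 {G Ω : Type*} [Group G] [MulAction G Ω] {g : ℕ → G} {pt : ℕ → Ω}
    (M : Md g pt H15.MM24.P 24 11 H15.MM24.B 244823040) : Stage ⊤ (wds g c1ath_W) pt 24 [c1atl0, c1atl1, c1atl2, c1atl3, c1atl4, c1atl5, c1atl6] [] :=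
  M.stage (c1at_low M) c1at_c
theorem c1at_S1 {G Ω : Type*} [Group G] [MulAction G Ω] {g : ℕ → G} {pt : ℕ → Ω}
    (M : Md g pt H15.MM24.P 24 11 H15.MM24.B 244823040) : Stage ⊤ (wds g c1ath_W) pt 24 [c1atl1, c1atl2, c1atl3, c1atl4, c1atl5, c1atl6] [c1atl0.Pt 0] :=
  (c1at_S0 M).next
theorem c1at_S2 {G Ω : Type*} [Group G] [MulAction G Ω] {g : ℕ → G} {pt : ℕ → Ω}
    (M : Md g pt H15.MM24.P 24 11 H15.MM24.B 244823040) : Stage ⊤ (wds g c1ath_W) pt 24 [c1atl2, c1atl3, c1atl4, c1atl5, c1atl6] [c1atl1.Pt 0, c1atl0.Pt 0] :=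
  (c1at_S1 M).next
theorem c1at_S3 {G Ω : Type*} [Group G] [MulAction G Ω] {g : ℕ → G} {pt : ℕ → Ω}
    (M : Md g pt H15.MM24.P 24 11 H15.MM24.B 244823040) : Stage ⊤ (wds g c1ath_W) pt 24 [c1atl3, c1atl4, c1atl5, c1atl6] [c1atl2.Pt 0, c1atl1.Pt 0, c1atl0.Pt 0] :=
  (c1at_S2 M).next
theorem c1at_S4 {G Ω : Type*} [Group G] [MulAction G Ω] {g : ℕ → G} {pt : ℕ → Ω}
    (M : Md g pt H15.MM24.P 24 11 H15.MM24.B 244823040) : Stage ⊤ (wds g c1ath_W) pt 24 [c1atl4, c1atl5, c1atl6] [c1atl3.Pt 0, c1atl2.Pt 0, c1atl1.Pt 0, c1atl0.Pt 0] :=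
  (c1at_S3 M).next
theorem c1at_S5 {G Ω : Type*} [Group G] [MulAction G Ω] {g : ℕ → G} {pt : ℕ → Ω}
    (M : Md g pt H15.MM24.P 24 11 H15.MM24.B 244823040) : Stage ⊤ (wds g c1ath_W) pt 24 [c1atl5, c1atl6] [c1atl4.Pt 0, c1atl3.Pt 0, c1atl2.Pt 0, c1atl1.Pt 0, c1atl0.Pt 0] :=
  (c1at_S4 M).next
theorem c1at_S6 {G Ω : Type*} [Group G] [MulAction G Ω] {g : ℕ → G} {pt : ℕ → Ω}
    (M : Md g pt H15.MM24.P 24 11 H15.MM24.B 244823040) : Stage ⊤ (wds g c1ath_W) pt 24 [c1atl6] [c1atl5.Pt 0, c1atl4.Pt 0, c1atl3.Pt 0, c1atl2.Pt 0, c1atl1.Pt 0, c1atl0.Pt 0] :=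
  (c1at_S5 M).next
theorem c1at_S7 {G Ω : Type*} [Group G] [MulAction G Ω] {g : ℕ → G} {pt : ℕ → Ω}
    (M : Md g pt H15.MM24.P 24 11 H15.MM24.B 244823040) : Stage ⊤ (wds g c1ath_W) pt 24 [] [c1atl6.Pt 0, c1atl5.Pt 0, c1atl4.Pt 0, c1atl3.Pt 0, c1atl2.Pt 0, c1atl1.Pt 0, c1atl0.Pt 0] :=
  (c1at_S6 M).next
theorem c1ace_act {G Ω : Type*} [Group G] [MulAction G Ω] {g : ℕ → G} {pt : ℕ → Ω}
    (M : Md g pt H15.MM24.P 24 11 H15.MM24.B 244823040) : Act (wds g c1ace_W) pt c1ace_P 24 6 :=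
  M.wact c1ace_lt
theorem c1atn0_1 : ∀ i < 3, (c1atn0.ent H15.MM24.P c1ath_P c1ax_P c1ax_P c1ace_P (nat_lit 11) (nat_lit 1) H15.MM24.B c1atl6 [] (fun w => Nat.xor w (c1atl6.Pt (nat_lit 0)))) i = 0 := allZ_sound0 c1atn0_1_0
theorem c1atn0_t {G Ω : Type*} [Group G] [MulAction G Ω] {g : ℕ → G} {pt : ℕ → Ω}
    (M : Md g pt H15.MM24.P 24 11 H15.MM24.B 244823040) : TrO (gen (wds g c1ath_W) c1atl6.K) (wds g c1ax_W) (wds g c1ax_W) 1 pt 24 (c1atl6.Pt 0) (fun w => Nat.xor w (c1atl6.Pt (nat_lit 0))) :=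
  node M (c1at_S6 M) (c1ath_act M) (c1ax_act M) (c1ax_act M) c1atn0 ((c1ace_act M).mono (by decide)) (fun _ _ => trivial) c1atn0_0 c1atn0_1 (List.forall_mem_nil _)
theorem c1acc4_e : ∀ i < 15, (dent c1acc4 c1ace_P (nat_lit 24)) i = 0 := allZ_sound0 c1acc4_e_0
theorem c1acc4_ok : DOK c1acc4 c1ace_P 24 := ⟨c1acc4_h, c1acc4_e⟩
theorem c1atn1_1 : ∀ i < 20, (c1atn1.ent H15.MM24.P c1ath_P c1ax_P c1ax_P c1ace_P (nat_lit 11) (nat_lit 1) H15.MM24.B c1atl4 [c1atl5, c1atl6] (memO c1acc4)) i = 0 := allZ_sound0 c1atn1_1_0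
theorem c1atn1_t {G Ω : Type*} [Group G] [MulAction G Ω] {g : ℕ → G} {pt : ℕ → Ω}
    (M : Md g pt H15.MM24.P 24 11 H15.MM24.B 244823040) : TrO (gen (wds g c1ath_W) c1atl4.K) (wds g c1ax_W) (wds g c1ax_W) 1 pt 24 (c1atl4.Pt 0) (memO c1acc4) :=
  node M (c1at_S4 M) (c1ath_act M) (c1ax_act M) (c1ax_act M) c1atn1 ((c1ace_act M).mono (by decide)) (fun _ _ => trivial) c1atn1_0 c1atn1_1 (List.forall_mem_nil _)
theorem c1acc2_e : ∀ i < 19, (dent c1acc2 c1ace_P (nat_lit 24)) i = 0 := allZ_sound0 c1acc2_e_0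
theorem c1acc2_ok : DOK c1acc2 c1ace_P 24 := ⟨c1acc2_h, c1acc2_e⟩
theorem c1atn2y7_act {G Ω : Type*} [Group G] [MulAction G Ω] {g : ℕ → G} {pt : ℕ → Ω}
    (M : Md g pt H15.MM24.P 24 11 H15.MM24.B 244823040) : Act (wds g c1atn2y7_W) pt c1atn2y7_P 24 1 :=
  M.wact c1atn2y7_lt
theorem c1atr3k_act {G Ω : Type*} [Group G] [MulAction G Ω] {g : ℕ → G} {pt : ℕ → Ω}
    (M : Md g pt H15.MM24.P 24 11 H15.MM24.B 244823040) : Act (wds g c1atr3k_W) pt c1atr3k_P 24 3 :=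
  M.wact c1atr3k_lt
theorem c1atn3_1 : ∀ i < 20, (c1atn3.ent H15.MM24.P c1ath_P c1ax_P c1atn2y7_P c1atr3k_P (nat_lit 11) (nat_lit 1) H15.MM24.B c1atl4 [c1atl5, c1atl6] (fun _ => nat_lit 1)) i = 0 := allZ_sound0 c1atn3_1_0
theorem c1atn3_t {G Ω : Type*} [Group G] [MulAction G Ω] {g : ℕ → G} {pt : ℕ → Ω}
    (M : Md g pt H15.MM24.P 24 11 H15.MM24.B 244823040) : TrO (gen (wds g c1ath_W) c1atl4.K) (wds g c1ax_W) (wds g c1atn2y7_W) 1 pt 24 (c1atl4.Pt 0) (fun _ => nat_lit 1) :=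
  node M (c1at_S4 M) (c1ath_act M) (c1ax_act M) (c1atn2y7_act M) c1atn3 ((c1atr3k_act M).mono (by decide)) (fun _ _ => trivial) c1atn3_0 c1atn3_1 (List.forall_mem_nil _)
theorem c1atr3 {G Ω : Type*} [Group G] [MulAction G Ω] {g : ℕ → G} {pt : ℕ → Ω}
    (M : Md g pt H15.MM24.P 24 11 H15.MM24.B 244823040) : Ref (gen (wds g c1ath_W) (topK [c1atl4, c1atl5, c1atl6])) (wds g c1ax_W) (wds g c1atn2y7_W) 1 :=
  (c1atn3_t M).ref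
theorem c1atn2_1 : ∀ i < 22, (c1atn2.ent H15.MM24.P c1ath_P c1ax_P c1ax_P c1ace_P (nat_lit 11) (nat_lit 1) H15.MM24.B c1atl2 [c1atl3, c1atl4, c1atl5, c1atl6] (memO c1acc2)) i = 0 := allZ_sound0 c1atn2_1_0
theorem c1atn2_t {G Ω : Type*} [Group G] [MulAction G Ω] {g : ℕ → G} {pt : ℕ → Ω}
    (M : Md g pt H15.MM24.P 24 11 H15.MM24.B 244823040) : TrO (gen (wds g c1ath_W) c1atl2.K) (wds g c1ax_W) (wds g c1ax_W) 1 pt 24 (c1atl2.Pt 0) (memO c1acc2) :=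
  node M (c1at_S2 M) (c1ath_act M) (c1ax_act M) (c1ax_act M) c1atn2 ((c1ace_act M).mono (by decide)) (fun _ _ => trivial) c1atn2_0 c1atn2_1 (List.forall_mem_cons.2 ⟨c1atr3 M, List.forall_mem_nil _⟩)
theorem c1acc0_e : ∀ i < 23, (dent c1acc0 c1ace_P (nat_lit 24)) i = 0 := allZ_sound0 c1acc0_e_0
theorem c1acc0_ok : DOK c1acc0 c1ace_P 24 := ⟨c1acc0_h, c1acc0_e⟩
theorem c1atn4_1 : ∀ i < 24, (c1atn4.ent H15.MM24.P c1ath_P c1ax_P c1ax_P c1ace_P (nat_lit 11) (nat_lit 1) H15.MM24.B c1atl0 [c1atl1, c1atl2, c1atl3, c1atl4, c1atl5, c1atl6] (memO c1acc0)) i = 0 := allZ_sound0 c1atn4_1_0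
theorem c1atn4_t {G Ω : Type*} [Group G] [MulAction G Ω] {g : ℕ → G} {pt : ℕ → Ω}
    (M : Md g pt H15.MM24.P 24 11 H15.MM24.B 244823040) : TrO (gen (wds g c1ath_W) c1atl0.K) (wds g c1ax_W) (wds g c1ax_W) 1 pt 24 (c1atl0.Pt 0) (memO c1acc0) :=
  node M (c1at_S0 M) (c1ath_act M) (c1ax_act M) (c1ax_act M) c1atn4 ((c1ace_act M).mono (by decide)) (fun _ _ => trivial) c1atn4_0 c1atn4_1 (List.forall_mem_nil _)
theorem c1ac {G Ω : Type*} [Group G] [MulAction G Ω] {g : ℕ → G} {pt : ℕ → Ω}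
    (M : Md g pt H15.MM24.P 24 11 H15.MM24.B 244823040) : Cen ⊤ (wds g c1ax_W) 1 (wds g c1ace_W) pt 24 [c1acc0, c1acc2, c1acc4] :=
  (c1at_S0 M).top ▸ Cen.lev M (c1at_S0 M) (Cen.triv (c1at_S1 M) (Cen.lev M (c1at_S2 M) (Cen.triv (c1at_S3 M) (Cen.lev M (c1at_S4 M) (Cen.triv (c1at_S5 M) (Cen.triv (c1at_S6 M) (Cen.bot) (c1atn0_t M)) (forced (c1at_S5 M) (c1ath_act M) (c1ax_act M) _ _ c1ac_f5)) (c1atn1_t M) (c1ax_act M) (c1ace_act M) (fun _ _ => trivial) c1acc4_ok c1ac_f4) (forced (c1at_S3 M) (c1ath_act M) (c1ax_act M) _ _ c1ac_f3)) (c1atn2_t M) (c1ax_act M) (c1ace_act M) (fun _ _ => trivial) c1acc2_ok c1ac_f2) (forced (c1at_S1 M) (c1ath_act M) (c1ax_act M) _ _ c1ac_f1)) (c1atn4_t M) (c1ax_act M) (c1ace_act M) (fun _ _ => trivial) c1acc0_ok c1ac_f0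
theorem c1ac_card {G Ω : Type*} [Group G] [MulAction G Ω] {g : ℕ → G} {pt : ℕ → Ω}
    (M : Md g pt H15.MM24.P 24 11 H15.MM24.B 244823040) : Nat.card (Subgroup.centralizer {(wds g c1ax_W) 0}) = 7680 :=
  (c1ac M).card_cent1 M.inj c1ac_c.1
theorem c1ac_eq {G Ω : Type*} [Group G] [MulAction G Ω] {g : ℕ → G} {pt : ℕ → Ω}
    (M : Md g pt H15.MM24.P 24 11 H15.MM24.B 244823040) : Subgroup.centralizer (gen (wds g c1ax_W) 1) = gen (wds g c1ace_W) 6 ∧ Nat.card (gen (wds g c1ace_W) 6) = 7680 :=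
  c1ac_c.1 ▸ c1ac_c.2 ▸ ⟨(c1ac M).cent, (c1ac M).card M.inj⟩
theorem c1w0_act {G Ω : Type*} [Group G] [MulAction G Ω] {g : ℕ → G} {pt : ℕ → Ω}
    (M : Md g pt H15.MM24.P 24 11 H15.MM24.B 244823040) : Act (wds g c1w0_W) pt c1w0_P 24 2 :=
  M.wact c1w0_lt
theorem c1y0x_act {G Ω : Type*} [Group G] [MulAction G Ω] {g : ℕ → G} {pt : ℕ → Ω}
    (M : Md g pt H15.MM24.P 24 11 H15.MM24.B 244823040) : Act (wds g c1y0x_W) pt c1y0x_P 24 1 :=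
  M.wact c1y0x_lt
theorem c1y0th_act {G Ω : Type*} [Group G] [MulAction G Ω] {g : ℕ → G} {pt : ℕ → Ω}
    (M : Md g pt H15.MM24.P 24 11 H15.MM24.B 244823040) : Act (wds g c1y0th_W) pt c1y0th_P 24 15 :=
  M.wact c1y0th_lt
theorem c1y0tl0_e : ∀ i < 23, (dent c1y0tl0 c1y0th_P (nat_lit 24)) i = 0 := allZ_sound0 c1y0tl0_e_0
theorem c1y0tl0_ok : DOK c1y0tl0 c1y0th_P 24 := ⟨c1y0tl0_h, c1y0tl0_e⟩
theorem c1y0tl1_e : ∀ i < 22, (dent c1y0tl1 c1y0th_P (nat_lit 24)) i = 0 := allZ_sound0 c1y0tl1_e_0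
theorem c1y0tl1_ok : DOK c1y0tl1 c1y0th_P 24 := ⟨c1y0tl1_h, c1y0tl1_e⟩
theorem c1y0tl2_e : ∀ i < 21, (dent c1y0tl2 c1y0th_P (nat_lit 24)) i = 0 := allZ_sound0 c1y0tl2_e_0
theorem c1y0tl2_ok : DOK c1y0tl2 c1y0th_P 24 := ⟨c1y0tl2_h, c1y0tl2_e⟩
theorem c1y0tl3_e : ∀ i < 20, (dent c1y0tl3 c1y0th_P (nat_lit 24)) i = 0 := allZ_sound0 c1y0tl3_e_0
theorem c1y0tl3_ok : DOK c1y0tl3 c1y0th_P 24 := ⟨c1y0tl3_h, c1y0tl3_e⟩
theorem c1y0tl4_e : ∀ i < 19, (dent c1y0tl4 c1y0th_P (nat_lit 24)) i = 0 := allZ_sound0 c1y0tl4_e_0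
theorem c1y0tl4_ok : DOK c1y0tl4 c1y0th_P 24 := ⟨c1y0tl4_h, c1y0tl4_e⟩
theorem c1y0tl5_e : ∀ i < 15, (dent c1y0tl5 c1y0th_P (nat_lit 24)) i = 0 := allZ_sound0 c1y0tl5_e_0
theorem c1y0tl5_ok : DOK c1y0tl5 c1y0th_P 24 := ⟨c1y0tl5_h, c1y0tl5_e⟩
theorem c1y0tl6_e : ∀ i < 2, (dent c1y0tl6 c1y0th_P (nat_lit 24)) i = 0 := allZ_sound0 c1y0tl6_e_0
theorem c1y0tl6_ok : DOK c1y0tl6 c1y0th_P 24 := ⟨c1y0tl6_h, c1y0tl6_e⟩
theorem c1y0t_low {G Ω : Type*} [Group G] [MulAction G Ω] {g : ℕ → G} {pt : ℕ → Ω}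
    (M : Md g pt H15.MM24.P 24 11 H15.MM24.B 244823040) : SLow (gi (wds g c1y0th_W)) pt 24 [c1y0tl0, c1y0tl1, c1y0tl2, c1y0tl3, c1y0tl4, c1y0tl5, c1y0tl6] :=
  (((((((SLow.nil).cons c1y0tl6_ok (c1y0th_act M) c1y0t_f6).cons c1y0tl5_ok (c1y0th_act M) c1y0t_f5).cons c1y0tl4_ok (c1y0th_act M) c1y0t_f4).cons c1y0tl3_ok (c1y0th_act M) c1y0t_f3).cons c1y0tl2_ok (c1y0th_act M) c1y0t_f2).cons c1y0tl1_ok (c1y0th_act M) c1y0t_f1).cons c1y0tl0_ok (c1y0th_act M) c1y0t_f0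
theorem c1y0t_S0 {G Ω : Type*} [Group G] [MulAction G Ω] {g : ℕ → G} {pt : ℕ → Ω}
    (M : Md g pt H15.MM24.P 24 11 H15.MM24.B 244823040) : Stage ⊤ (wds g c1y0th_W) pt 24 [c1y0tl0, c1y0tl1, c1y0tl2, c1y0tl3, c1y0tl4, c1y0tl5, c1y0tl6] [] :=
  M.stage (c1y0t_low M) c1y0t_c
theorem c1y0t_S1 {G Ω : Type*} [Group G] [MulAction G Ω] {g : ℕ → G} {pt : ℕ → Ω}
    (M : Md g pt H15.MM24.P 24 11 H15.MM24.B 244823040) : Stage ⊤ (wds g c1y0th_W) pt 24 [c1y0tl1, c1y0tl2, c1y0tl3, c1y0tl4, c1y0tl5, c1y0tl6] [c1y0tl0.Pt 0] :=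
  (c1y0t_S0 M).next
theorem c1y0t_S2 {G Ω : Type*} [Group G] [MulAction G Ω] {g : ℕ → G} {pt : ℕ → Ω}
    (M : Md g pt H15.MM24.P 24 11 H15.MM24.B 244823040) : Stage ⊤ (wds g c1y0th_W) pt 24 [c1y0tl2, c1y0tl3, c1y0tl4, c1y0tl5, c1y0tl6] [c1y0tl1.Pt 0, c1y0tl0.Pt 0] :=
  (c1y0t_S1 M).next
theorem c1y0t_S3 {G Ω : Type*} [Group G] [MulAction G Ω] {g : ℕ → G} {pt : ℕ → Ω}
    (M : Md g pt H15.MM24.P 24 11 H15.MM24.B 244823040) : Stage ⊤ (wds g c1y0th_W) pt 24 [c1y0tl3, c1y0tl4, c1y0tl5, c1y0tl6] [c1y0tl2.Pt 0, c1y0tl1.Pt 0, c1y0tl0.Pt 0] :=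
  (c1y0t_S2 M).next
theorem c1y0t_S4 {G Ω : Type*} [Group G] [MulAction G Ω] {g : ℕ → G} {pt : ℕ → Ω}
    (M : Md g pt H15.MM24.P 24 11 H15.MM24.B 244823040) : Stage ⊤ (wds g c1y0th_W) pt 24 [c1y0tl4, c1y0tl5, c1y0tl6] [c1y0tl3.Pt 0, c1y0tl2.Pt 0, c1y0tl1.Pt 0, c1y0tl0.Pt 0] :=
  (c1y0t_S3 M).next
theorem c1y0t_S5 {G Ω : Type*} [Group G] [MulAction G Ω] {g : ℕ → G} {pt : ℕ → Ω}
    (M : Md g pt H15.MM24.P 24 11 H15.MM24.B 244823040) : Stage ⊤ (wds g c1y0th_W) pt 24 [c1y0tl5, c1y0tl6] [c1y0tl4.Pt 0, c1y0tl3.Pt 0, c1y0tl2.Pt 0, c1y0tl1.Pt 0, c1y0tl0.Pt 0] :=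
  (c1y0t_S4 M).next
theorem c1y0t_S6 {G Ω : Type*} [Group G] [MulAction G Ω] {g : ℕ → G} {pt : ℕ → Ω}
    (M : Md g pt H15.MM24.P 24 11 H15.MM24.B 244823040) : Stage ⊤ (wds g c1y0th_W) pt 24 [c1y0tl6] [c1y0tl5.Pt 0, c1y0tl4.Pt 0, c1y0tl3.Pt 0, c1y0tl2.Pt 0, c1y0tl1.Pt 0, c1y0tl0.Pt 0] :=
  (c1y0t_S5 M).next
theorem c1y0t_S7 {G Ω : Type*} [Group G] [MulAction G Ω] {g : ℕ → G} {pt : ℕ → Ω}
    (M : Md g pt H15.MM24.P 24 11 H15.MM24.B 244823040) : Stage ⊤ (wds g c1y0th_W) pt 24 [] [c1y0tl6.Pt 0, c1y0tl5.Pt 0, c1y0tl4.Pt 0, c1y0tl3.Pt 0, c1y0tl2.Pt 0, c1y0tl1.Pt 0, c1y0tl0.Pt 0] :=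
  (c1y0t_S6 M).next
theorem c1y0ce_act {G Ω : Type*} [Group G] [MulAction G Ω] {g : ℕ → G} {pt : ℕ → Ω}
    (M : Md g pt H15.MM24.P 24 11 H15.MM24.B 244823040) : Act (wds g c1y0ce_W) pt c1y0ce_P 24 2 :=
  M.wact c1y0ce_lt
theorem c1y0cc0_e : ∀ i < 19, (dent c1y0cc0 c1y0ce_P (nat_lit 24)) i = 0 := allZ_sound0 c1y0cc0_e_0
theorem c1y0cc0_ok : DOK c1y0cc0 c1y0ce_P 24 := ⟨c1y0cc0_h, c1y0cc0_e⟩
theorem c1y0tn0_1 : ∀ i < 24, (c1y0tn0.ent H15.MM24.P c1y0th_P c1y0x_P c1y0x_P c1y0ce_P (nat_lit 11) (nat_lit 1) H15.MM24.B c1y0tl0 [c1y0tl1, c1y0tl2, c1y0tl3, c1y0tl4, c1y0tl5, c1y0tl6] (memO c1y0cc0)) i = 0 := allZ_sound0 c1y0tn0_1_0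
theorem c1y0tn0_t {G Ω : Type*} [Group G] [MulAction G Ω] {g : ℕ → G} {pt : ℕ → Ω}
    (M : Md g pt H15.MM24.P 24 11 H15.MM24.B 244823040) : TrO (gen (wds g c1y0th_W) c1y0tl0.K) (wds g c1y0x_W) (wds g c1y0x_W) 1 pt 24 (c1y0tl0.Pt 0) (memO c1y0cc0) :=
  node M (c1y0t_S0 M) (c1y0th_act M) (c1y0x_act M) (c1y0x_act M) c1y0tn0 ((c1y0ce_act M).mono (by decide)) (fun _ _ => trivial) c1y0tn0_0 c1y0tn0_1 (List.forall_mem_nil _)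
theorem c1y0c {G Ω : Type*} [Group G] [MulAction G Ω] {g : ℕ → G} {pt : ℕ → Ω}
    (M : Md g pt H15.MM24.P 24 11 H15.MM24.B 244823040) : Cen ⊤ (wds g c1y0x_W) 1 (wds g c1y0ce_W) pt 24 [c1y0cc0] :=
  (c1y0t_S0 M).top ▸ Cen.lev M (c1y0t_S0 M) (Cen.triv (c1y0t_S1 M) (Cen.triv (c1y0t_S2 M) (Cen.triv (c1y0t_S3 M) (Cen.triv (c1y0t_S4 M) (Cen.triv (c1y0t_S5 M) (Cen.triv (c1y0t_S6 M) (Cen.bot) (forced (c1y0t_S6 M) (c1y0th_act M) (c1y0x_act M) _ _ c1y0c_f6)) (forced (c1y0t_S5 M) (c1y0th_act M) (c1y0x_act M) _ _ c1y0c_f5)) (forced (c1y0t_S4 M) (c1y0th_act M) (c1y0x_act M) _ _ c1y0c_f4)) (forced (c1y0t_S3 M) (c1y0th_act M) (c1y0x_act M) _ _ c1y0c_f3)) (forced (c1y0t_S2 M) (c1y0th_act M) (c1y0x_act M) _ _ c1y0c_f2)) (forced (c1y0t_S1 M) (c1y0th_act M) (c1y0x_act M) _ _ c1y0c_f1)) (c1y0tn0_t M) (c1y0x_act M) (c1y0ce_act M) (fun _ _ => trivial) c1y0cc0_ok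 c1y0c_f0
theorem c1y0c_card {G Ω : Type*} [Group G] [MulAction G Ω] {g : ℕ → G} {pt : ℕ → Ω}
    (M : Md g pt H15.MM24.P 24 11 H15.MM24.B 244823040) : Nat.card (Subgroup.centralizer {(wds g c1y0x_W) 0}) = 20 :=
  (c1y0c M).card_cent1 M.inj c1y0c_c.1
theorem c1y0c_eq {G Ω : Type*} [Group G] [MulAction G Ω] {g : ℕ → G} {pt : ℕ → Ω}
    (M : Md g pt H15.MM24.P 24 11 H15.MM24.B 244823040) : Subgroup.centralizer (gen (wds g c1y0x_W) 1) = gen (wds g c1y0ce_W) 2 ∧ Nat.card (gen (wds g c1y0ce_W) 2) = 20 :=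
  c1y0c_c.1 ▸ c1y0c_c.2 ▸ ⟨(c1y0c M).cent, (c1y0c M).card M.inj⟩
theorem c1w0p {G Ω : Type*} [Group G] [MulAction G Ω] {g : ℕ → G} {pt : ℕ → Ω}
    (M : Md g pt H15.MM24.P 24 11 H15.MM24.B 244823040) : (wds g c1w0_W) 0 ^ 2 = 1 :=
  M.pw (c1w0_act M) c1w0p_k
theorem c1w0n {G Ω : Type*} [Group G] [MulAction G Ω] {g : ℕ → G} {pt : ℕ → Ω}
    (M : Md g pt H15.MM24.P 24 11 H15.MM24.B 244823040) : (wds g c1w0_W) 1 ^ 2 ≠ 1 :=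
  M.npw (c1w0_act M) _ c1w0n_k
theorem c1W0 {G Ω : Type*} [Group G] [MulAction G Ω] {g : ℕ → G} {pt : ℕ → Ω}
    (M : Md g pt H15.MM24.P 24 11 H15.MM24.B 244823040) : Wit (H27.IC.Ce ((wds g covr_W) 1)) 5 20 :=
  have := M.fin
  wit_w (x := (wds g c1w0_W)) (k := 2) (by norm_num) (M.eq_of (c1w0_act M) c1w0_k) (c1w0p M) (c1w0n M) (c1ac_card M) (by decide +kernel) (c1y0c_card M)
theorem c1 {G Ω : Type*} [Group G] [MulAction G Ω] {g : ℕ → G} {pt : ℕ → Ω}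
    (M : Md g pt H15.MM24.P 24 11 H15.MM24.B 244823040) : OK (H27.IC.Ce ((wds g covr_W) 1)) :=
  have := M.fin
  ok_num (n := 7680) (ws := []) 9 (c1ac_card M) (c1W0 M) (List.forall_mem_nil _) (by decide +kernel)
theorem both {G Ω : Type*} [Group G] [MulAction G Ω] {g : ℕ → G} {pt : ℕ → Ω}
    (M : Md g pt H15.MM24.P 24 11 H15.MM24.B 244823040) : Both G :=
  have := M.fin
  both_reps (wds g covr_W) 2 (fun _ hy => cov M (e := 1) hy hy) fun i hi => match i, hi with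
    | 0, _ => c0 M
    | 1, _ => c1 M

theorem spor : Both Cfsg.M24 := by
  obtain ⟨_, g, M, -⟩ := md (MulEquiv.subgroupCongr H15.MM24.gen_eq)
  exact both M

end H15.IC.M24
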