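/-
Involution centralizers of `HN` (the first two proofs follow `H29/HN7.lean`).
-/
import Cfsg.Agent.H15.IC.Q
import Cfsg.Agent.H18.PC5

set_option autoImplicit false
set_option linter.unusedSectionVars false
set_option maxRecDepth 100000

namespace H15.IC
open Cfsg Subgroup H0.TR H1.Am H29 H29.HN H29.HY H29.HZ H27.IC
open H16 hiding app

variable {X G : Type*} [Group X] [Group G] {a : ℕ → X} [Finite X] [Finite G] {ι : X →* G} {M : Subgroup G} {Λ : ℕ → G}

theorem hn_ch (m : XM a) (l : LM ι a M Λ) (c : CM ι (evA a [5])) (nb : ¬ IsConj (ι (evA a [7])) (ι (evA a [5]))) :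
    Ch (Ce (ι (evA a [7]))) := by
  have w := m.wd
  have mu : ∀ {U V W}, eqK κ (app V U) W = true → ι (evA a U) * ι (evA a V) = ι (evA a W) := fun e => by
    rw [← map_mul, Wd.mul w e]
  have ne : ∀ {U V}, eqK κ U V = false → ι (evA a U) ≠ ι (evA a V) := fun e k => Wd.ne w e (c.inj k)
  have eB := l.lk (W := Bw) (W' := [7]) (by decide +kernel)
  have eT := l.lk (W := Tw) (W' := [5]) (by decide +kernel)
  have bb := (mu (U := [7]) (V := [7]) (W := []) (by decide +kernel)).trans (map_one ι)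
  have b1 : ι (evA a [7]) ≠ 1 := (ne (V := []) (by decide +kernel)).trans_eq (map_one ι)
  have tt := (mu (U := [5]) (V := [5]) (W := []) (by decide +kernel)).trans (map_one ι)
  have tb := mu (U := [5]) (V := [7]) (W := [6]) (by decide +kernel)
  have wt := (l.cl m (W := Th) (T := Tw) (T' := Ww) (S := [5]) (S' := [6]) (by decide +kernel)).symm.ic
  set b := ι (evA a [7])
  set τ := ι (evA a [5])
  let Λ' : ℕ → centralizer ({b} : Set G) := fun k => ⟨Λ k, mem_centralizer_singleton_iff.2 (by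
    rcases lt_or_ge k 9 with hk | hk
    · simpa [evA_app, eB] using l.pr _ ((by decide +kernel : ∀ k < 9, (app Bw [k], app [k] Bw) ∈ Lp) k hk)
    · simp [l.one k hk])⟩
  have ev : ∀ W, (evA Λ' W).1 = evA Λ W := fun W => map_evA Λ' (centralizer {b}).subtype W
  let b' : centralizer ({b} : Set G) := ⟨b, mem_centralizer_singleton_iff.2 rfl⟩
  have cb : ∀ y : centralizer ({b} : Set G), (y : G) * b = b * y := fun y =>
    mem_centralizer_singleton_iff.1 y.2
  have zp : ∀ {y}, y ∈ zpowers b' ↔ y = 1 ∨ y = b' := H17.GS.mem_zp (Subtype.ext bb)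
  have : (zpowers b').Normal := ⟨fun y hy g => by
    rcases zp.1 hy with rfl | rfl
    · simp
    · exact zp.2 (.inr (Subtype.ext (cj_of_comm (cb g))))⟩
  let π := QuotientGroup.mk' (zpowers b')
  have hπ : Function.Surjective π := QuotientGroup.mk'_surjective _
  have pe : ∀ {x y}, π x = π y ↔ (x : G) = y ∨ (x : G) = y * b := fun {x y} => by
    rw [eq_comm, QuotientGroup.mk'_apply, QuotientGroup.mk'_apply, QuotientGroup.eq, zp, inv_mul_eq_one,
      inv_mul_eq_iff_eq_mul, Subtype.ext_iff, Subtype.ext_iff, eq_comm]; rfl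
  obtain ⟨aH, μ, ym, hμ⟩ := exists_ym (F := fun k => π (Λ' k)) (fun r hr => by
      rw [← map_evA, ← map_one π, pe, ev]
      refine ((by decide +kernel : ∀ r ∈ HB.Rl, (r, []) ∈ Lp ∨ (r, Bw) ∈ Lp) r hr).imp (l.pr _) fun k => ?_
      rw [l.pr _ k, eB]; exact (one_mul _).symm)
    fun k hk => by rw [← map_one π]; exact congrArg π (Subtype.ext (l.one k hk))
  simp only [← map_evA] at hμ
  let Pr := fun (p : G → Prop) y => ∀ x, π x = y → p x
  have pi : ∀ {p : G → Prop}, (∀ x y, IsConj x y → p x → p y) → ∀ x y, IsConj x y → Pr p x → Pr p y :=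
    fun h x y k hx z e => by
      obtain ⟨g, rfl⟩ := isConj_iff.1 k
      obtain ⟨g, rfl⟩ := hπ g
      exact h _ _ (isConj_iff.2 ⟨g, by simp [mul_assoc]⟩) (hx (g⁻¹ * z * g) (by simp [e, mul_assoc]))
  have po : ∀ {p : G → Prop} {W}, p (evA Λ W) → p (evA Λ W * b) → Pr p (μ (evA aH W)) :=
    fun h1 h2 x e => by rcases pe.1 (e.trans (hμ _)) with k | k <;> rwa [k, ev]
  have pn : ∀ {p : G → Prop} {W}, ¬ p (evA Λ W) → ¬ Pr p (μ (evA aH W)) := fun h k =>
    h (ev _ ▸ k _ (hμ _).symm)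
  have sq : ∀ {W}, (app W W, Bw) ∈ Lp → evA Λ W * evA Λ W = b := fun h => by rw [← evA_app, l.pr _ h, eB]
  have sJ := sq (W := Jw) (by decide +kernel)
  have sX := sq (W := X1) (by decide +kernel)
  have eR := l.lk (W := Rw) (W' := Rx) (by decide +kernel)
  have e2 := l.lk (W := X2) (W' := X2x) (by decide +kernel)
  have e3 := l.lk (W := X3) (W' := X3x) (by decide +kernel)
  have ic : ∀ {W U V}, cjK κ W U V = true → IsConj (ι (evA a U)) (ι (evA a V)) := fun e =>
    ι.map_isConj (Wd.isConj w e)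
  have n4 : ∀ {y}, y * y = b → ¬ IsConj y τ := fun e k => by
    obtain ⟨g, rfl⟩ := isConj_iff.1 k.symm; exact b1 (e.symm.trans (cj_sq tt g))
  have hT := pi (p := fun y => IsConj y τ) fun x y h k => h.symm.trans k
  have hS := pi (p := fun y => y * y ≠ 1) fun x y h k e => by
    obtain ⟨g, rfl⟩ := isConj_iff.1 h.symm; exact k (cj_sq e g)
  have T1 : Pr (fun y => IsConj y τ) (μ (evA aH Tw)) :=
    po (p := fun y => IsConj y τ) (by rw [eT]) (by rwa [eT, tb])
  have nT : ¬ Pr (fun y => IsConj y τ) 1 ∧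
      ∀ W ∈ [Rw, Jw, X1, X2, X3], ¬ Pr (fun y => IsConj y τ) (μ (evA aH W)) := by
    refine ⟨fun k => ne (U := [5]) (V := []) (by decide +kernel) ((isConj_one_right.1 (k 1 rfl)).trans
      (map_one ι).symm), ?_⟩
    simp only [List.forall_mem_cons, List.not_mem_nil, false_imp_iff, implies_true, and_true]
    refine ⟨?_, ?_, ?_, ?_, ?_⟩ <;> refine pn (p := fun y => IsConj y τ) ?_ <;> try simp only [eR, e2, e3]
    exacts [fun k => nb ((ic (W := Rc) (by decide +kernel)).symm.trans k), n4 sJ, n4 sX,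
      fun k => nb (((ic (W := X2c) (by decide +kernel)).trans (l.ub m).ic).symm.trans k),
      fun k => nb ((ic (W := X3c) (by decide +kernel)).symm.trans k)]
  have S1 : ∀ W ∈ [Jw, X1], Pr (fun y => y * y ≠ 1) (μ (evA aH W)) := by
    have : ∀ {W}, evA Λ W * evA Λ W = b → Pr (fun y => y * y ≠ 1) (μ (evA aH W)) := fun {W} h =>
      po (p := fun y => y * y ≠ 1) (h ▸ b1) (by
        rwa [mul_assoc, ← mul_assoc b, ← ev, ← cb, ev, mul_assoc, bb, mul_one, h])
    simp only [List.forall_mem_cons, List.not_mem_nil, false_imp_iff, implies_true, and_true]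
    exact ⟨this sJ, this sX⟩
  have nS : ¬ Pr (fun y => y * y ≠ 1) 1 ∧
      ∀ W ∈ [Tw, Rw, X2, X3], ¬ Pr (fun y => y * y ≠ 1) (μ (evA aH W)) := by
    refine ⟨fun k => k 1 rfl (one_mul _), ?_⟩
    simp only [List.forall_mem_cons, List.not_mem_nil, false_imp_iff, implies_true, and_true]
    refine ⟨?_, ?_, ?_, ?_⟩ <;> refine pn (p := fun y => y * y ≠ 1) ?_ <;> simp only [eT, eR, e2, e3, not_not]
    · exact tt
    all_goals exact (mu (W := []) (by decide +kernel)).trans (map_one ι)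
  have n1 : ∀ W ∈ [Rw, X2, X3], μ (evA aH W) ≠ 1 := by
    have : ∀ {W W'}, evA Λ W = ι (evA a W') → eqK κ W' [] = false ∧ eqK κ W' [7] = false →
        μ (evA aH W) ≠ 1 := fun e h k => by
      rw [hμ, ← map_one π, pe, ev, e] at k
      exact k.elim (fun k => ne h.1 (k.trans (map_one ι).symm)) fun k => ne h.2 (k.trans (one_mul _))
    simp only [List.forall_mem_cons, List.not_mem_nil, false_imp_iff, implies_true, and_true]
    exact ⟨this eR (by decide +kernel), this e2 (by decide +kernel), this e3 (by decide +kernel)⟩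
  have k1 : ∀ y : centralizer ({b} : Set G), (y : G) * τ * (y : G)⁻¹ = τ → π y ∈ μ.range := fun y h => by
    obtain ⟨x, hx⟩ := c.ex h
    obtain ⟨y', h1, h2⟩ := (gen_le (A := ((μ.range.comap π).map (centralizer {b}).subtype).comap ι)).2
      (fun k hk => ⟨evA Λ' (nth [] Vk k), ⟨_, hμ _⟩, (ev _).trans (l.lk
        ((by decide +kernel : ∀ k < 7, eqL (nth [] Vk k) (nth [] cwe_W k) = true) k hk))⟩)
      (m.cwe x (c.inj (by rw [map_mul, map_mul, hx, ← tb, ← mul_assoc, mul_inv_eq_iff_eq_mul.1 h,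
        mul_assoc, cb, mul_assoc])))
    rwa [← show y' = y from Subtype.ext (h2.trans hx)]
  have inj := ym.inj T1 nT S1 nS n1
  have top := ym.hy hT hS T1 nT S1 nS n1 fun g hg => by
    obtain ⟨g, rfl⟩ := hπ g
    rw [hμ, ← mul_inv_eq_iff_eq_mul, ← map_inv, ← map_mul, ← map_mul, pe] at hg
    simp only [coe_mul, coe_inv, ev, eT, tb] at hg
    rcases hg with k | k
    · exact k1 g k
    have := k1 ((evA Λ' Th)⁻¹ * g) (by
      have := l.cp m (W := Th) (T := Tw) (T' := Ww) (S := [5]) (S' := [6]) (by decide +kernel)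
      rw [← k, ← ev] at this
      simp only [coe_mul, coe_inv]
      calc _ = (evA Λ' Th).1⁻¹ * (g * τ * (g : G)⁻¹) * (evA Λ' Th).1 := by group
        _ = ι (evA a [5]) := by rw [← this]; group)
    rw [map_mul, map_inv, ← hμ] at this
    exact (mul_mem_cancel_left (inv_mem (MonoidHom.mem_range.2 ⟨_, rfl⟩))).1 this
  let e := MulEquiv.ofBijective μ ⟨inj, MonoidHom.range_eq_top.1 top⟩
  have := ym.nm
  refine ch_ext ((e.symm : _ →* _).comp π) (e.symm.surjective.comp hπ) ?_ (Q := QQ aH)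
    (fun y => ⟨1, Subtype.ext (by simpa [pow_two] using ym.sq y.2)⟩) (centralizer_le (gen_le.2 fun k hk => ym.mem.2 ?_))
  · rw [← MonoidHom.comap_ker, (MonoidHom.ker_eq_bot_iff _).2 e.symm.injective, MonoidHom.comap_bot,
      QuotientGroup.ker_mk']
    exact fun y => ⟨1, Subtype.ext (by rcases zp.1 y.2 with k | k <;> simp [k, pow_two, Subtype.ext_iff, b', bb])⟩
  · exact (by decide +kernel : ∀ k < 8, allB (fun Z => cjK κb (nth [] cqx_W k) Z Z) cqx_W = true) k hk

theorem hn_cls [IsSimpleGroup G] {t : G} (ht : orderOf t = 2) (M : Subgroup (centralizer ({t} : Set G)))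
    (hM : M.index = 2) (hout : centralizer (M : Set (centralizer ({t} : Set G))) ≤ M)
    (hcov : IsNonsplitDoubleCover M Spor.HS) :
    ∃ b : G, Ch (Ce b) ∧ ∀ y : G, y * y = 1 → y = 1 ∨ IsConj y t ∨ IsConj y b := by
  obtain ⟨_, g, M0, -⟩ := HX.md
  have := M0.fin
  have m := XM.of_md (HY.md M0)
  generalize (fun k => if k < 27 then wds g HY.W k else 1) = a at m
  obtain ⟨σ, h1, h2, -⟩ := HNn.cover
  have := HNn.hsS
  have h1' := H23.isStem_comp_equiv h1 (subgroupOfEquivOfLe HNn.le5)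
  have b := m.b1 HNn.idx
  have : Group.IsPerfect _ := ⟨(stem_center h1 HNn.hsN).2⟩
  obtain ⟨φ, s, h, rfl⟩ := twist HNn.hsN (Group.IsPerfect.ofSurjective h1.1) ScHS.ker_le OHS.out HNn.idx h1'
    ((Nat.card_congr (H23.kerCompEquiv _ _).toEquiv).trans h2) (z := evA a [4])
    (mt (m.par HNn.idx _).1 (by decide +kernel)) (Wd.mul m.wd (W := []) (by decide +kernel))
    (m.hc HNn.idx) b.hτ (Wd.ne m.wd (V := []) (by decide +kernel)) m.cτ (fun e => by simp [e] at ht) M hM hout
    ⟨hcov.1, hcov.2.1.map (·.trans H15.hsGen.symm), hcov.2.2⟩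
  have wt := m.fus HNn.idx h
  obtain ⟨e, th⟩ := h.sw b wt
  have c : CM (h.hom e) (evA a [5]) := ⟨h.inj, le_antisymm (by
    rintro _ ⟨x, rfl⟩; exact mem_centralizer_singleton_iff.2 ((h.cm HNn.idx).2 (m.cτ x)))
    fun y hy => h.rng y (mem_centralizer_singleton_iff.1 hy)⟩
  have nb := h.nb b
  rw [Wd.mul m.wd (W := [7]) (by decide +kernel)] at nb
  obtain ⟨t, hR⟩ := (m.gm c nb wt th).main
  obtain ⟨M, Λ, ⟨e'⟩, l⟩ := exists_lm m c.inj hR
  obtain ⟨top, cls⟩ := l.top m c nb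
  exact ⟨_, hn_ch m l c nb, cls⟩

open H19 H18.PA in
theorem hn : Both Spor.HN := by
  have := H16.DHN.simple
  have ht : orderOf (wds HNd.γ HNs.h_W 3) = 2 := by
    rw [← OHN.tau, orderOf_pow_of_dvd (by decide) (by rw [OHN.ou]; decide), OHN.ou]
  let k := MulEquiv.subgroupCongr (le_antisymm OHN.hB OHN.hτ)
  obtain ⟨f, -⟩ := HNn.bound.exists_equiv HNn.rels HNn.mod.card (g := HNd.γ)
    (fun r h => HNd.rels r ((by decide +kernel : ∀ r ∈ HNn.Rl, r ∈ HNc.RA) r h)) HNd.cardS.ge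
  obtain ⟨K, h1, ⟨e'⟩⟩ := DC.sub_of_iso HNn.le5 ⟨k.trans f.symm⟩
  obtain ⟨σ, h2, h3, -⟩ := HNn.cover
  have := HNn.hsS
  rw [HNn.idx] at h1
  have c := DC.nonsplit_of_stem h2 HNn.hsN h3 e' H15.hsGen
  obtain ⟨_, M⟩ := HNs.md
  obtain ⟨b, h4, h5⟩ := hn_cls ht K h1 (cent_le_two h1 c.1 (a := k.symm (wds (DC.sg HNd.γ 5) HNs.ax_W 0)) (by
    rw [← Nat.card_congr (centE k.symm _).toEquiv, HNs.ac_card M]
    decide)) c
  refine both_of fun t ht => ((h5 t (H0.mul_self_of_order ht)).resolve_left (H0.ne_one_of_order ht)).elim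
    (fun e => OK.conj ?_ e.symm) fun e => (ok_ch h4).conj e.symm
  exact ok_ndc' h1 H15.hsGen.symm.isSimpleGroup (by rw [← Nat.card_congr H15.hsGen.toEquiv, H15.HS.card]; norm_num) c

end H15.IC
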